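import Cfsg.Agent.Lib.Char.Basic

/-!
Orthogonality relations, completeness of the irreducible characters, irreducibility criteria,
permutation characters and the regular character.
-/

set_option autoImplicit false

namespace Cfsg

open Representation Module Agent.Char
open scoped ComplexConjugate

variable {G : Type*} [Group G] {H : Type*} [Group H]

namespace Agent.Char

theorem classInner_rep [Fintype G] {V W : Type*} [AddCommGroup V] [Module ℂ V]
    [FiniteDimensional ℂ V] [AddCommGroup W] [Module ℂ W] [FiniteDimensional ℂ W]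
    (ρ : Representation ℂ G V) (σ : Representation ℂ G W) :
    classInner σ.character ρ.character = finrank ℂ (IntertwiningMap ρ σ) := by
  rw [← card_inv_mul_sum_char_mul_char_eq_finrank, classInner]
  simp only [(isCharacter_rep ρ).apply_inv]

theorem classInner_rep_one [Fintype G] {V : Type*} [AddCommGroup V] [Module ℂ V]
    [FiniteDimensional ℂ V] (ρ : Representation ℂ G V) :
    classInner ρ.character (fun _ => 1) = finrank ℂ ρ.invariants := by
  rw [classInner_one_right, card_inv_mul_sum_char_eq_finrank]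

end Agent.Char

theorem IsCharacter.classInner_eq_nat [Fintype G] {χ ψ : G → ℂ} (h : IsCharacter G χ)
    (h' : IsCharacter G ψ) : ∃ n : ℕ, classInner χ ψ = n := by
  obtain ⟨n, ρ, rfl⟩ := h
  obtain ⟨m, σ, rfl⟩ := h'
  exact ⟨_, classInner_rep σ ρ⟩

theorem IsGeneralizedCharacter.classInner_eq_int [Fintype G] {χ ψ : G → ℂ}
    (h : IsGeneralizedCharacter G χ) (h' : IsGeneralizedCharacter G ψ) :
    ∃ n : ℤ, classInner χ ψ = n := by
  obtain ⟨a, b, ha, hb, rfl⟩ := h
  obtain ⟨c, d, hc, hd, rfl⟩ := h'
  obtain ⟨n1, h1⟩ := ha.classInner_eq_nat hc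
  obtain ⟨n2, h2⟩ := ha.classInner_eq_nat hd
  obtain ⟨n3, h3⟩ := hb.classInner_eq_nat hc
  obtain ⟨n4, h4⟩ := hb.classInner_eq_nat hd
  refine ⟨n1 - n2 - n3 + n4, ?_⟩
  simp only [classInner_sub_left, classInner_sub_right, h1, h2, h3, h4]
  push_cast; ring

theorem IsGeneralizedCharacter.classInner_comm [Fintype G] {χ ψ : G → ℂ}
    (h : IsGeneralizedCharacter G χ) (h' : IsGeneralizedCharacter G ψ) :
    classInner χ ψ = classInner ψ χ := by
  obtain ⟨n, hn⟩ := h.classInner_eq_int h'
  rw [← conj_classInner χ ψ, hn]; simp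

theorem IsCharacter.classInner_comm [Fintype G] {χ ψ : G → ℂ}
    (h : IsCharacter G χ) (h' : IsCharacter G ψ) : classInner χ ψ = classInner ψ χ :=
  h.isGen.classInner_comm h'.isGen

theorem IsIrrCharacter.classInner_self [Fintype G] {χ : G → ℂ} (h : IsIrrCharacter G χ) :
    classInner χ χ = 1 := by
  obtain ⟨n, ρ, hρ, rfl⟩ := h
  rw [classInner_rep]; simp

theorem IsIrrCharacter.classInner_of_ne [Fintype G] {χ ψ : G → ℂ} (h : IsIrrCharacter G χ)
    (h' : IsIrrCharacter G ψ) (hne : χ ≠ ψ) : classInner χ ψ = 0 := by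
  obtain ⟨n, ρ, hρ, rfl⟩ := h
  obtain ⟨m, σ, hσ, rfl⟩ := h'
  rw [classInner_rep]
  have : IsEmpty (σ.Equiv ρ) := ⟨fun e => hne (char_iso e).symm⟩
  simp [finrank_eq_zero_of_subsingleton]

open Classical in
theorem IsIrrCharacter.classInner_eq_ite [Fintype G] {χ ψ : G → ℂ} (h : IsIrrCharacter G χ)
    (h' : IsIrrCharacter G ψ) : classInner χ ψ = if χ = ψ then 1 else 0 := by
  split_ifs with h1
  · subst h1; exact h.classInner_self
  · exact h.classInner_of_ne h' h1

theorem IsIrrCharacter.eq_of_classInner_ne_zero [Fintype G] {χ ψ : G → ℂ} (h : IsIrrCharacter G χ)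
    (h' : IsIrrCharacter G ψ) (hne : classInner χ ψ ≠ 0) : χ = ψ := by
  by_contra h1
  exact hne (h.classInner_of_ne h' h1)

namespace Agent.Char

open Classical in
theorem classInner_irr [Fintype G] (χ ψ : IrrCharacter G) :
    classInner (χ : G → ℂ) ψ = if χ = ψ then 1 else 0 := by
  rw [χ.2.classInner_eq_ite ψ.2]; simp [Subtype.ext_iff]

theorem linearIndependent_irr [Finite G] :
    LinearIndependent ℂ (fun χ : IrrCharacter G => (χ : G → ℂ)) := by
  classical
  have := Fintype.ofFinite G
  rw [linearIndependent_iff']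
  intro s c hc χ hχ
  have := congrArg (fun φ => classInner φ (χ : G → ℂ)) hc
  simp only [classInner_sum_left, classInner_smul_left, classInner_irr, classInner_zero_left,
    mul_ite, mul_one, mul_zero] at this
  simpa [hχ] using this

instance instFiniteIrrCharacter [Finite G] : Finite (IrrCharacter G) :=
  linearIndependent_irr.finite_of_isNoetherian

noncomputable instance instFintypeIrrCharacter [Finite G] : Fintype (IrrCharacter G) :=
  Fintype.ofFinite _

instance instNonemptyIrrCharacter : Nonempty (IrrCharacter G) := ⟨⟨_, isIrrCharacter_one⟩⟩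

/-- The principal character, as an irreducible character. -/
def irrOne (G : Type*) [Group G] : IrrCharacter G := ⟨fun _ => 1, isIrrCharacter_one⟩

@[simp] theorem irrOne_apply (g : G) : (irrOne G : G → ℂ) g = 1 := rfl

theorem coe_irrOne : (irrOne G : G → ℂ) = fun _ => 1 := rfl

/-- A class-function weighted sum acts on an irreducible representation as a scalar. -/
theorem sum_smul_rep_eq [Fintype G] {V : Type*} [AddCommGroup V] [Module ℂ V]
    [FiniteDimensional ℂ V] (ρ : Representation ℂ G V) [ρ.IsIrreducible] {φ : G → ℂ}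
    (hφ : IsClassFunction G φ) :
    ∑ g, φ g • ρ g = ((∑ g, φ g * ρ.character g) / finrank ℂ V) • LinearMap.id := by
  obtain ⟨c, hc⟩ := schur_scalar ρ (∑ g, φ g • ρ g) (fun x => by
    rw [← Module.End.mul_eq_comp, ← Module.End.mul_eq_comp, Finset.sum_mul, Finset.mul_sum]
    refine Fintype.sum_equiv (MulAut.conj x⁻¹).toEquiv _ _ fun g => ?_
    have := hφ.apply_conj' g x
    simp only [mul_assoc] at this
    simp [this, ← map_mul, mul_assoc])
  have h1 := congrArg (LinearMap.trace ℂ V) hc
  simp only [map_sum, map_smul, smul_eq_mul, LinearMap.trace_id] at h1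
  have h2 : (finrank ℂ V : ℂ) ≠ 0 := by exact_mod_cast (finrank_pos_of_isIrreducible ρ).ne'
  rw [hc]
  congr 1
  rw [eq_div_iff h2, ← h1]; rfl

end Agent.Char

theorem IsIrrCharacter.sum_mul_apply_mul [Fintype G] {χ φ : G → ℂ} (h : IsIrrCharacter G χ)
    (hφ : IsClassFunction G φ) (x : G) :
    ∑ g, φ g * χ (g * x) = (∑ g, φ g * χ g) * χ x / χ 1 := by
  obtain ⟨n, ρ, hρ, rfl⟩ := h
  have h1 := congrArg (fun f => LinearMap.trace ℂ _ (f * ρ x)) (sum_smul_rep_eq ρ hφ)
  simp only [Finset.sum_mul, map_sum, smul_mul_assoc, map_smul, smul_eq_mul, ← map_mul] at h1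
  rw [char_one]
  refine h1.trans ?_
  rw [← Module.End.one_eq_id, one_mul, div_mul_eq_mul_div]; rfl

/-- Averaging over conjugates. -/
theorem IsIrrCharacter.sum_conj_mul [Fintype G] {χ : G → ℂ} (h : IsIrrCharacter G χ) (a b : G) :
    ∑ x, χ (x * a * x⁻¹ * b) = Nat.card G * χ a * χ b / χ 1 := by
  obtain ⟨n, ρ, hρ, rfl⟩ := h
  obtain ⟨c, hc⟩ := schur_scalar ρ (∑ x, ρ (x * a * x⁻¹)) (fun y => by
    rw [← Module.End.mul_eq_comp, ← Module.End.mul_eq_comp, Finset.sum_mul, Finset.mul_sum]
    refine Fintype.sum_equiv (Equiv.mulLeft y⁻¹) _ _ fun g => ?_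
    simp only [← map_mul, Equiv.coe_mulLeft]
    congr 1; group)
  have h1 := congrArg (LinearMap.trace ℂ _) hc
  have h2 := congrArg (fun f => LinearMap.trace ℂ _ (f * ρ b)) hc
  simp only [Finset.sum_mul, map_sum, smul_mul_assoc, map_smul, smul_eq_mul, ← map_mul,
    LinearMap.trace_id] at h1 h2
  have h3 : (finrank ℂ (Fin n → ℂ) : ℂ) ≠ 0 := by
    exact_mod_cast (finrank_pos_of_isIrreducible ρ).ne'
  have h4 : ∑ x, ρ.character (x * a * x⁻¹) = Nat.card G * ρ.character a := by
    simp [char_conj]
  rw [char_one]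
  refine h2.trans ?_
  rw [← Module.End.one_eq_id, one_mul, eq_div_iff h3, ← h4]
  have h5 : ∑ x, ρ.character (x * a * x⁻¹) = c * finrank ℂ (Fin n → ℂ) := h1
  rw [h5]
  simp only [Representation.character]; ring

open Classical in
/-- Generalized orthogonality relation. -/
theorem IsIrrCharacter.sum_conj_mul_apply_mul [Fintype G] {χ ψ : G → ℂ} (h : IsIrrCharacter G χ)
    (h' : IsIrrCharacter G ψ) (x : G) :
    ∑ g, conj (ψ g) * χ (g * x) = if χ = ψ then Nat.card G * χ x / χ 1 else 0 := by
  rw [h.sum_mul_apply_mul (h'.isClassFunction.map conj)]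
  have h1 := h.classInner_eq_ite h'
  rw [classInner, inv_mul_eq_iff_eq_mul₀ (card_ne_zero' G)] at h1
  simp only [mul_comm (conj (ψ _)), h1]
  split_ifs <;> simp

namespace Agent.Char

/-- The character of a permutation representation counts fixed points. -/
theorem character_ofMulAction (X : Type*) [MulAction G X] [Finite X] (g : G) :
    (Representation.ofMulAction ℂ G X).character g = Nat.card (MulAction.fixedBy X g) := by
  classical
  have := Fintype.ofFinite X
  rw [Representation.character, LinearMap.trace_eq_matrix_trace ℂ (MonoidAlgebra.basis X ℂ),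
    Matrix.trace]
  simp only [Matrix.diag, LinearMap.toMatrix_apply, MonoidAlgebra.basis_apply,
    Representation.ofMulAction_single]
  rw [Nat.card_eq_fintype_card, Fintype.card_subtype, Finset.card_filter]
  push_cast
  refine Finset.sum_congr rfl fun x _ => ?_
  simp [MonoidAlgebra.basis, Finsupp.single_apply]

theorem isCharacter_perm (X : Type*) [MulAction G X] [Finite X] :
    IsCharacter G (fun g => (Nat.card (MulAction.fixedBy X g) : ℂ)) := by
  have : (fun g => (Nat.card (MulAction.fixedBy X g) : ℂ)) =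
    (Representation.ofMulAction ℂ G X).character := by ext g; rw [character_ofMulAction]
  rw [this]
  exact isCharacter_rep _

open Classical in
/-- The regular character. -/
noncomputable def regChar (G : Type*) [Group G] : G → ℂ :=
  fun g => if g = 1 then (Nat.card G : ℂ) else 0

theorem regChar_one : regChar G 1 = Nat.card G := by simp [regChar]

theorem regChar_of_ne {g : G} (h : g ≠ 1) : regChar G g = 0 := by simp [regChar, h]

theorem character_leftRegular [Finite G] :
    (Representation.leftRegular ℂ G).character = regChar G := by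
  ext g
  rw [character_ofMulAction]
  by_cases h : g = 1
  · subst h; simp [regChar]
  · have : MulAction.fixedBy G g = ∅ := by
      ext x; simp [h]
    simp [regChar, h, this]

theorem isCharacter_regChar [Finite G] : IsCharacter G (regChar G) := by
  rw [← character_leftRegular]; exact isCharacter_rep _

theorem classInner_regChar_left [Fintype G] (φ : G → ℂ) :
    classInner (regChar G) φ = conj (φ 1) := by
  classical
  rw [classInner, Finset.sum_eq_single 1 (fun b _ hb => by simp [regChar_of_ne hb]) (by simp),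
    regChar_one, ← mul_assoc, inv_mul_cancel₀ (card_ne_zero' G), one_mul]

theorem classInner_regChar_right [Fintype G] (φ : G → ℂ) :
    classInner φ (regChar G) = φ 1 := by
  rw [← conj_classInner, classInner_regChar_left]; simp

end Agent.Char

theorem IsClassFunction.eq_zero_of_orthogonal [Fintype G] {φ : G → ℂ} (hφ : IsClassFunction G φ)
    (h : ∀ χ, IsIrrCharacter G χ → classInner φ χ = 0) : φ = 0 := by
  classical
  have key : ∀ χ, IsCharacter G χ → ∀ x, ∑ g, conj (φ g) * χ (g * x) = 0 := by
    intro χ hχ x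
    obtain ⟨s, hs, rfl⟩ := hχ.exists_multiset
    clear hχ
    induction s using Multiset.induction_on with
    | empty => simp
    | cons a s ih =>
      have h1 := ih (fun ψ hψ => hs ψ (Multiset.mem_cons_of_mem hψ))
      have ha := hs a (Multiset.mem_cons_self _ _)
      have h2 := ha.sum_mul_apply_mul (hφ.map conj) x
      have h3 := h a ha
      rw [classInner_eq_zero_comm, classInner, mul_eq_zero] at h3
      have h4 := h3.resolve_left (inv_ne_zero (card_ne_zero' G))
      simp only [Multiset.sum_cons, Pi.add_apply, mul_add, Finset.sum_add_distrib, h1, h2]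
      simp only [mul_comm (conj (φ _)), h4]; simp
  ext x
  have := key _ isCharacter_regChar x⁻¹
  rw [Finset.sum_eq_single x (fun b _ hb => by
    rw [regChar_of_ne (by rwa [Ne, mul_inv_eq_one]), mul_zero]) (by simp)] at this
  simpa [regChar_one, card_ne_zero' G] using this

/-- Completeness: the expansion of a class function in the irreducible characters. -/
theorem IsClassFunction.eq_sum [Fintype G] {φ : G → ℂ} (hφ : IsClassFunction G φ) :
    φ = ∑ χ : IrrCharacter G, classInner φ χ • (χ : G → ℂ) := by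
  classical
  rw [← sub_eq_zero]
  apply (hφ.sub (IsClassFunction.sum fun χ _ => χ.2.isClassFunction.smul _)).eq_zero_of_orthogonal
  intro ψ hψ
  have := classInner_irr (G := G) (ψ := ⟨ψ, hψ⟩)
  simp only at this
  simp [classInner_sub_left, classInner_sum_left, classInner_smul_left, this]

theorem IsClassFunction.apply_eq_sum [Fintype G] {φ : G → ℂ} (hφ : IsClassFunction G φ) (g : G) :
    φ g = ∑ χ : IrrCharacter G, classInner φ χ * (χ : G → ℂ) g := by
  conv_lhs => rw [hφ.eq_sum]
  simp

theorem IsClassFunction.ext_classInner [Fintype G] {φ ψ : G → ℂ} (hφ : IsClassFunction G φ)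
    (hψ : IsClassFunction G ψ) (h : ∀ χ, IsIrrCharacter G χ → classInner φ χ = classInner ψ χ) :
    φ = ψ := by
  rw [← sub_eq_zero]
  exact (hφ.sub hψ).eq_zero_of_orthogonal fun χ hχ => by rw [classInner_sub_left, h χ hχ, sub_self]

theorem IsClassFunction.exists_irr_classInner_ne_zero [Fintype G] {φ : G → ℂ}
    (hφ : IsClassFunction G φ) (h : φ ≠ 0) : ∃ χ, IsIrrCharacter G χ ∧ classInner φ χ ≠ 0 := by
  by_contra h1
  push Not at h1
  exact h (hφ.eq_zero_of_orthogonal h1)

/-- Parseval's identity. -/
theorem IsClassFunction.classInner_eq_sum [Fintype G] {φ : G → ℂ} (hφ : IsClassFunction G φ)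
    (ψ : G → ℂ) :
    classInner φ ψ = ∑ χ : IrrCharacter G, classInner φ χ * conj (classInner ψ χ) := by
  conv_lhs => rw [hφ.eq_sum]
  simp [classInner_sum_left, classInner_smul_left, conj_classInner]

theorem IsClassFunction.classInner_self_re_eq_sum [Fintype G] {φ : G → ℂ}
    (hφ : IsClassFunction G φ) :
    (classInner φ φ).re = ∑ χ : IrrCharacter G, ‖classInner φ χ‖ ^ 2 := by
  rw [hφ.classInner_eq_sum]
  simp [Complex.mul_conj, Complex.normSq_eq_norm_sq, -Complex.ofReal_pow]

theorem IsClassFunction.isCharacter_of_nat [Fintype G] {φ : G → ℂ} (hφ : IsClassFunction G φ)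
    (h : ∀ χ, IsIrrCharacter G χ → ∃ n : ℕ, classInner φ χ = n) : IsCharacter G φ := by
  rw [hφ.eq_sum]
  refine IsCharacter.sum fun χ _ => ?_
  obtain ⟨n, hn⟩ := h χ χ.2
  rw [hn]
  exact χ.2.isCharacter.natCast_smul n

theorem IsClassFunction.isGen_of_int [Fintype G] {φ : G → ℂ} (hφ : IsClassFunction G φ)
    (h : ∀ χ, IsIrrCharacter G χ → ∃ n : ℤ, classInner φ χ = n) : IsGeneralizedCharacter G φ := by
  rw [hφ.eq_sum]
  refine IsGeneralizedCharacter.sum fun χ _ => ?_
  obtain ⟨n, hn⟩ := h χ χ.2
  rw [hn]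
  exact χ.2.isGen.intCast_smul n

/-- The multiplicities of a generalized character. -/
theorem IsGeneralizedCharacter.exists_coeff [Fintype G] {φ : G → ℂ}
    (hφ : IsGeneralizedCharacter G φ) :
    ∃ c : IrrCharacter G → ℤ, (∀ χ : IrrCharacter G, classInner φ χ = c χ) ∧
      φ = ∑ χ : IrrCharacter G, (c χ : ℂ) • (χ : G → ℂ) := by
  choose c hc using fun χ : IrrCharacter G => hφ.classInner_eq_int χ.2.isGen
  refine ⟨c, hc, ?_⟩
  simpa only [hc] using hφ.isClassFunction.eq_sum

/-- The multiplicities of a character. -/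
theorem IsCharacter.exists_coeff [Fintype G] {φ : G → ℂ} (hφ : IsCharacter G φ) :
    ∃ c : IrrCharacter G → ℕ, (∀ χ : IrrCharacter G, classInner φ χ = c χ) ∧
      φ = ∑ χ : IrrCharacter G, (c χ : ℂ) • (χ : G → ℂ) := by
  choose c hc using fun χ : IrrCharacter G => hφ.classInner_eq_nat χ.2.isCharacter
  refine ⟨c, hc, ?_⟩
  simpa only [hc] using hφ.isClassFunction.eq_sum

theorem IsGeneralizedCharacter.isCharacter_of_nonneg [Fintype G] {φ : G → ℂ}
    (hφ : IsGeneralizedCharacter G φ)
    (h : ∀ χ, IsIrrCharacter G χ → 0 ≤ (classInner φ χ).re) : IsCharacter G φ := by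
  refine hφ.isClassFunction.isCharacter_of_nat fun χ hχ => ?_
  obtain ⟨n, hn⟩ := hφ.classInner_eq_int hχ.isGen
  have := h χ hχ
  rw [hn] at this
  simp only [Complex.intCast_re, Int.cast_nonneg_iff] at this
  lift n to ℕ using this
  exact ⟨n, by simpa using hn⟩

namespace Agent.Char

theorem exists_eq_of_sum_sq_eq_one {ι : Type*} [Fintype ι] (c : ι → ℤ) (h : ∑ i, c i ^ 2 = 1) :
    ∃ i, (c i = 1 ∨ c i = -1) ∧ ∀ j, j ≠ i → c j = 0 := by
  classical
  obtain ⟨i, hi⟩ : ∃ i, c i ≠ 0 := by
    by_contra h1
    push Not at h1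
    simp [h1] at h
  have h1 := Finset.add_sum_erase Finset.univ (fun i => c i ^ 2) (Finset.mem_univ i)
  have h2 : 0 ≤ ∑ j ∈ Finset.univ.erase i, c j ^ 2 := Finset.sum_nonneg fun _ _ => sq_nonneg _
  have h3 : 0 < c i ^ 2 := by positivity
  have h4 : c i ^ 2 = 1 := by omega
  have h5 : ∑ j ∈ Finset.univ.erase i, c j ^ 2 = 0 := by omega
  rw [Finset.sum_eq_zero_iff_of_nonneg fun _ _ => sq_nonneg _] at h5
  refine ⟨i, sq_eq_one_iff.1 h4, fun j hj => ?_⟩
  simpa using h5 j (by simp [hj])

end Agent.Char

theorem IsGeneralizedCharacter.classInner_self_eq_sum [Fintype G] {φ : G → ℂ}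
    (hφ : IsGeneralizedCharacter G φ) {c : IrrCharacter G → ℤ}
    (hc : ∀ χ : IrrCharacter G, classInner φ χ = c χ) :
    classInner φ φ = ((∑ χ, c χ ^ 2 : ℤ) : ℂ) := by
  rw [hφ.isClassFunction.classInner_eq_sum]
  simp [hc, sq]

/-- A generalized character of norm one is an irreducible character up to sign. -/
theorem IsGeneralizedCharacter.irr_or_neg [Fintype G] {φ : G → ℂ} (hφ : IsGeneralizedCharacter G φ)
    (h : classInner φ φ = 1) : IsIrrCharacter G φ ∨ IsIrrCharacter G (-φ) := by
  obtain ⟨c, hc, hφc⟩ := hφ.exists_coeff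
  rw [hφ.classInner_self_eq_sum hc] at h
  obtain ⟨i, hi, hi'⟩ := exists_eq_of_sum_sq_eq_one c (by exact_mod_cast h)
  rw [Finset.sum_eq_single i (fun j _ hj => by simp [hi' j hj]) (by simp)] at hφc
  rcases hi with hi | hi
  · left; rw [hφc, hi]; simpa using i.2
  · right; rw [hφc, hi]; simpa using i.2

theorem IsGeneralizedCharacter.isIrr_of_re_nonneg [Fintype G] {φ : G → ℂ}
    (hφ : IsGeneralizedCharacter G φ) (h : classInner φ φ = 1) (h1 : 0 ≤ (φ 1).re) :
    IsIrrCharacter G φ := by
  refine (hφ.irr_or_neg h).resolve_right fun h2 => ?_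
  obtain ⟨n, hn, hn'⟩ := h2.exists_degree
  have : φ 1 = -n := by rw [← hn']; simp
  rw [this] at h1
  simp at h1
  omega

theorem IsCharacter.isIrr_of_classInner_self [Fintype G] {φ : G → ℂ} (hφ : IsCharacter G φ)
    (h : classInner φ φ = 1) : IsIrrCharacter G φ := by
  obtain ⟨n, hn⟩ := hφ.exists_degree
  exact hφ.isGen.isIrr_of_re_nonneg h (by simp [hn])

theorem IsCharacter.isIrr_iff [Fintype G] {φ : G → ℂ} (hφ : IsCharacter G φ) :
    IsIrrCharacter G φ ↔ classInner φ φ = 1 :=
  ⟨fun h => h.classInner_self, hφ.isIrr_of_classInner_self⟩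

theorem IsIrrCharacter.conj [Finite G] {χ : G → ℂ} (h : IsIrrCharacter G χ) :
    IsIrrCharacter G (fun g => conj (χ g)) := by
  have := Fintype.ofFinite G
  exact h.isCharacter.conj.isIrr_of_classInner_self (by rw [classInner_conj_conj, h.classInner_self])

/-- The product of an irreducible character with a linear character is irreducible. -/
theorem IsIrrCharacter.mul_units [Finite G] {χ : G → ℂ} (h : IsIrrCharacter G χ)
    (lam : G →* ℂˣ) : IsIrrCharacter G (fun g => (lam g : ℂ) * χ g) := by
  have := Fintype.ofFinite G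
  refine ((isIrrCharacter_units lam).isCharacter.mul h.isCharacter).isIrr_of_classInner_self ?_
  rw [← h.classInner_self]
  simp only [classInner, Pi.mul_apply, map_mul, conj_units_hom]
  congr 1
  refine Finset.sum_congr rfl fun g _ => ?_
  have : (lam g : ℂ) * ((lam g)⁻¹ : ℂˣ) = 1 := by simp
  linear_combination (χ g * conj (χ g)) * this

theorem IsIrrCharacter.mul_linear [Finite G] {χ lam : G → ℂ} (h : IsIrrCharacter G χ)
    (hlam : IsCharacter G lam) (h1 : lam 1 = 1) : IsIrrCharacter G (lam * χ) := by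
  obtain ⟨l, rfl⟩ := hlam.exists_units_of_apply_one h1
  exact h.mul_units l

/-- An irreducible constituent can be subtracted. -/
theorem IsCharacter.sub_irr [Fintype G] {φ χ : G → ℂ} (hφ : IsCharacter G φ)
    (hχ : IsIrrCharacter G χ) (h : classInner φ χ ≠ 0) : IsCharacter G (φ - χ) := by
  classical
  refine (hφ.isClassFunction.sub hχ.isClassFunction).isCharacter_of_nat fun ψ hψ => ?_
  obtain ⟨n, hn⟩ := hφ.classInner_eq_nat hψ.isCharacter
  rw [classInner_sub_left, hχ.classInner_eq_ite hψ, hn]
  split_ifs with h1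
  · subst h1
    rw [hn] at h
    obtain ⟨m, rfl⟩ := Nat.exists_eq_succ_of_ne_zero (n := n) (by rintro rfl; simp at h)
    exact ⟨m, by simp⟩
  · exact ⟨n, by simp⟩

/-- All copies of an irreducible constituent can be subtracted. -/
theorem IsCharacter.sub_smul_irr [Fintype G] {φ χ : G → ℂ} (hφ : IsCharacter G φ)
    (hχ : IsIrrCharacter G χ) : IsCharacter G (φ - classInner φ χ • χ) := by
  classical
  refine (hφ.isClassFunction.sub (hχ.isClassFunction.smul _)).isCharacter_of_nat fun ψ hψ => ?_
  rw [classInner_sub_left, classInner_smul_left, hχ.classInner_eq_ite hψ]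
  split_ifs with h1
  · subst h1
    exact ⟨0, by simp⟩
  · simpa using hφ.classInner_eq_nat hψ.isCharacter

theorem IsCharacter.exists_irr_constituent [Fintype G] {φ : G → ℂ} (hφ : IsCharacter G φ)
    (h : φ ≠ 0) : ∃ χ, IsIrrCharacter G χ ∧ classInner φ χ ≠ 0 :=
  hφ.isClassFunction.exists_irr_classInner_ne_zero h

theorem IsCharacter.degree_re_nonneg {φ : G → ℂ} (hφ : IsCharacter G φ) : 0 ≤ (φ 1).re := by
  obtain ⟨n, hn⟩ := hφ.exists_degree
  simp [hn]

/-- A constituent of the same degree is the whole character. -/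
theorem IsCharacter.eq_of_constituent_of_apply_one [Fintype G] {φ χ : G → ℂ} (hφ : IsCharacter G φ)
    (hχ : IsIrrCharacter G χ) (h : classInner φ χ ≠ 0) (h1 : φ 1 = χ 1) : φ = χ := by
  have := (hφ.sub_irr hχ h).eq_zero_of_apply_one (by simp [h1])
  rwa [sub_eq_zero] at this

/-- The degree of a constituent, times its multiplicity, is at most the degree. -/
theorem IsCharacter.mul_degree_le [Fintype G] {φ χ : G → ℂ} (hφ : IsCharacter G φ)
    (hχ : IsIrrCharacter G χ) {m d n : ℕ} (hm : classInner φ χ = m) (hd : χ 1 = d) (hn : φ 1 = n) :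
    m * d ≤ n := by
  have := (hφ.sub_smul_irr hχ).degree_re_nonneg
  simp only [Pi.sub_apply, Pi.smul_apply, hm, hd, hn, smul_eq_mul] at this
  simp only [Complex.sub_re, Complex.mul_re, Complex.natCast_re, Complex.natCast_im, mul_zero,
    sub_zero, sub_nonneg] at this
  exact_mod_cast this

theorem IsCharacter.classInner_re_nonneg [Fintype G] {φ χ : G → ℂ} (hφ : IsCharacter G φ)
    (hχ : IsCharacter G χ) : 0 ≤ (classInner φ χ).re := by
  obtain ⟨n, hn⟩ := hφ.classInner_eq_nat hχ
  simp [hn]

/-- If a sum of two characters is irreducible then one of them vanishes. -/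
theorem IsIrrCharacter.eq_zero_or_eq_zero_of_add [Finite G] {φ ψ : G → ℂ}
    (h : IsIrrCharacter G (φ + ψ)) (hφ : IsCharacter G φ) (hψ : IsCharacter G ψ) :
    φ = 0 ∨ ψ = 0 := by
  have := Fintype.ofFinite G
  have h1 := h.classInner_self
  obtain ⟨a, ha⟩ := hφ.classInner_eq_nat hφ
  obtain ⟨b, hb⟩ := hφ.classInner_eq_nat hψ
  obtain ⟨c, hc⟩ := hψ.classInner_eq_nat hφ
  obtain ⟨d, hd⟩ := hψ.classInner_eq_nat hψ
  simp only [classInner_add_left, classInner_add_right, ha, hb, hc, hd] at h1
  norm_cast at h1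
  rw [← classInner_self_eq_zero, ← classInner_self_eq_zero, ha, hd]
  norm_cast
  omega

namespace Agent.Char

theorem regChar_eq_sum [Finite G] :
    regChar G = ∑ χ : IrrCharacter G, (χ : G → ℂ) 1 • (χ : G → ℂ) := by
  have := Fintype.ofFinite G
  rw [isCharacter_regChar.isClassFunction.eq_sum]
  refine Finset.sum_congr rfl fun χ _ => ?_
  rw [classInner_regChar_left, χ.2.isCharacter.conj_apply_one]

theorem sum_degree_mul [Finite G] (g : G) :
    ∑ χ : IrrCharacter G, (χ : G → ℂ) 1 * (χ : G → ℂ) g = regChar G g := by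
  rw [regChar_eq_sum]; simp

theorem sum_degree_sq [Finite G] :
    ∑ χ : IrrCharacter G, (χ : G → ℂ) 1 ^ 2 = Nat.card G := by
  simp only [sq, sum_degree_mul, regChar_one]

theorem card_isConj_eq_index [Finite G] (g : G) :
    Nat.card {x : G // IsConj g x} = (Subgroup.centralizer ({g} : Set G)).index := by
  have h : (Subgroup.centralizer ({g} : Set G)).index =
      (MulAction.stabilizer (ConjAct G) g).index := by
    rw [Subgroup.centralizer_eq_comap_stabilizer]
    exact Subgroup.index_comap_of_surjective _ ConjAct.toConjAct.surjective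
  rw [h, MulAction.index_stabilizer, ConjAct.orbit_eq_carrier_conjClasses]
  apply Nat.card_congr
  refine Equiv.subtypeEquivRight fun x => ?_
  rw [ConjClasses.mem_carrier_iff_mk_eq, ConjClasses.mk_eq_mk_iff_isConj, isConj_comm]

theorem card_isConj_mul_card_centralizer [Finite G] (g : G) :
    Nat.card {x : G // IsConj g x} * Nat.card (Subgroup.centralizer ({g} : Set G)) = Nat.card G := by
  rw [card_isConj_eq_index, Subgroup.index_mul_card]

open Classical in
/-- The indicator function of the conjugacy class of `g`. -/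
noncomputable def classInd (g : G) : G → ℂ := fun x => if IsConj g x then 1 else 0

theorem isClassFunction_classInd (g : G) : IsClassFunction G (classInd g) := by
  intro x y
  have : IsConj g (y * x * y⁻¹) ↔ IsConj g x :=
    ⟨fun h => h.trans (isConj_iff.2 ⟨y, rfl⟩).symm, fun h => h.trans (isConj_iff.2 ⟨y, rfl⟩)⟩
  unfold classInd
  rw [this]

theorem sum_classInd_mul [Fintype G] (g : G) {φ : G → ℂ} (hφ : IsClassFunction G φ) :
    ∑ x, classInd g x * φ x = (Subgroup.centralizer ({g} : Set G)).index * φ g := by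
  classical
  rw [← card_isConj_eq_index, Nat.card_eq_fintype_card, Fintype.card_subtype, Finset.card_filter]
  push_cast
  rw [Finset.sum_mul]
  refine Finset.sum_congr rfl fun x _ => ?_
  unfold classInd
  split_ifs with h
  · rw [hφ.eq_of_isConj h]
  · simp

theorem classInner_classInd [Fintype G] (g : G) {φ : G → ℂ} (hφ : IsClassFunction G φ) :
    classInner (classInd g) φ = conj (φ g) / Nat.card (Subgroup.centralizer ({g} : Set G)) := by
  rw [classInner, sum_classInd_mul g (hφ.map conj),
    ← (Subgroup.centralizer ({g} : Set G)).index_mul_card]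
  have h1 : ((Subgroup.centralizer ({g} : Set G)).index : ℂ) ≠ 0 := by
    exact_mod_cast Subgroup.FiniteIndex.index_ne_zero
  have h2 := card_ne_zero' (Subgroup.centralizer ({g} : Set G))
  push_cast
  field_simp

open Classical in
/-- The second orthogonality relation. -/
theorem column_orthogonality [Finite G] (g h : G) :
    ∑ χ : IrrCharacter G, (χ : G → ℂ) g * conj ((χ : G → ℂ) h) =
      if IsConj g h then (Nat.card (Subgroup.centralizer ({g} : Set G)) : ℂ) else 0 := by
  have := Fintype.ofFinite G
  have h1 := (isClassFunction_classInd g).apply_eq_sum h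
  have h2 := card_ne_zero' (Subgroup.centralizer ({g} : Set G))
  simp only [classInner_classInd g (IsIrrCharacter.isClassFunction (Subtype.prop _))] at h1
  have h3 := congrArg (fun z => conj z * (Nat.card (Subgroup.centralizer ({g} : Set G)) : ℂ)) h1
  simp only [map_sum, Finset.sum_mul, map_mul, map_div₀, Complex.conj_conj, map_natCast] at h3
  have h4 : ∑ χ : IrrCharacter G, (χ : G → ℂ) g * conj ((χ : G → ℂ) h) =
      conj (classInd g h) * (Nat.card (Subgroup.centralizer ({g} : Set G)) : ℂ) := by
    rw [h3]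
    refine Finset.sum_congr rfl fun χ _ => ?_
    field_simp
  rw [h4, classInd]
  split_ifs <;> simp

theorem sum_norm_sq_column [Finite G] (g : G) :
    ∑ χ : IrrCharacter G, ‖(χ : G → ℂ) g‖ ^ 2 =
      Nat.card (Subgroup.centralizer ({g} : Set G)) := by
  have := column_orthogonality g g
  rw [if_pos (IsConj.refl g)] at this
  simp only [Complex.mul_conj, Complex.normSq_eq_norm_sq] at this
  exact_mod_cast this

theorem isConj_iff_forall_irr [Finite G] (g h : G) :
    IsConj g h ↔ ∀ χ : IrrCharacter G, (χ : G → ℂ) g = (χ : G → ℂ) h := by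
  refine ⟨fun hc χ => χ.2.isClassFunction.eq_of_isConj hc, fun hc => ?_⟩
  by_contra h1
  have h2 := column_orthogonality g h
  have h3 := column_orthogonality g g
  rw [if_neg h1] at h2
  rw [if_pos (IsConj.refl g)] at h3
  simp only [← hc] at h2
  exact card_ne_zero' _ (h3.symm.trans h2)

theorem card_irr_eq_card_conjClasses [Finite G] :
    Nat.card (IrrCharacter G) = Nat.card (ConjClasses G) := by
  classical
  have := Fintype.ofFinite G
  have h1 : ∑ g : G, ∑ χ : IrrCharacter G, (χ : G → ℂ) g * conj ((χ : G → ℂ) g) =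
      Nat.card (IrrCharacter G) * Nat.card G := by
    rw [Finset.sum_comm]
    have : ∀ χ : IrrCharacter G, ∑ g : G, (χ : G → ℂ) g * conj ((χ : G → ℂ) g) = Nat.card G := by
      intro χ
      have := χ.2.classInner_self
      rwa [classInner, inv_mul_eq_iff_eq_mul₀ (card_ne_zero' G), mul_one] at this
    simp [this]
  simp only [column_orthogonality, IsConj.refl, if_true] at h1
  have h2 := card_comm_eq_card_conjClasses_mul_card G
  have h3 : Nat.card { p : G × G // Commute p.1 p.2 } =
      ∑ g : G, Nat.card (Subgroup.centralizer ({g} : Set G)) := by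
    rw [Nat.card_congr (Equiv.subtypeProdEquivSigmaSubtype (fun a b : G => Commute a b)),
      Nat.card_sigma]
    refine Finset.sum_congr rfl fun g _ => Nat.card_congr (Equiv.subtypeEquivRight fun x => ?_)
    simp [Subgroup.mem_centralizer_iff, Commute, SemiconjBy]
  rw [h3] at h2
  have h4 : Nat.card (IrrCharacter G) * Nat.card G = Nat.card (ConjClasses G) * Nat.card G := by
    rw [← h2]; exact_mod_cast h1.symm
  exact Nat.eq_of_mul_eq_mul_right Nat.card_pos h4

end Agent.Char

end Cfsg
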