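import Cfsg.Agent.Lib.Char.Clifford
import Cfsg.Agent.Lib.Solv.Basic
import Cfsg.Prelude.Def_Solvable

/-!
The theorems of Frobenius and Wielandt on the existence of normal complements.
-/

set_option autoImplicit false

namespace Cfsg.Agent.Char

open scoped ComplexConjugate Pointwise

variable {G : Type*} [Group G]

/-- Extension of an irreducible character in the Frobenius--Wielandt situation. -/
theorem wielandt_ext [Fintype G] {H N : Subgroup G}
    (hTI : ∀ g : G, g ∉ H → ∀ x ∈ H, g * x * g⁻¹ ∈ H → x ∈ N) {φ : H → ℂ}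
    (hφ : IsIrrCharacter H φ) (hN : ∀ x : H, (x : G) ∈ N → φ x = φ 1) :
    ∃ χ : G → ℂ, IsIrrCharacter G χ ∧ (∀ h : H, χ h = φ h) ∧
      ∀ x : G, (∀ g : G, g * x * g⁻¹ ∈ H → g * x * g⁻¹ ∈ N) → χ x = χ 1 := by
  by_cases h1 : φ = fun _ => 1
  · exact ⟨fun _ => 1, isIrrCharacter_one, by simp [h1], fun _ _ => rfl⟩
  have := Fintype.ofFinite H
  obtain ⟨d, -, hd⟩ := hφ.exists_degree
  set θ : H → ℂ := φ - (d : ℂ) • fun _ => 1 with hθ
  have hθg : IsGeneralizedCharacter H θ := hφ.isGen.sub (isCharacter_one.natCast_smul d).isGen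
  have hθN : ∀ x : H, (x : G) ∈ N → θ x = 0 := fun x hx => by simp [hθ, hN x hx, hd]
  have h2 : ∀ a : H, ∀ x : G, x ∉ H → ∀ hx : x * a * x⁻¹ ∈ H, θ ⟨_, hx⟩ = 0 := fun a x hx hx' =>
    hθN _ (hTI x⁻¹ (by simpa using hx) _ hx' (by simp [mul_assoc]))
  have h3 : ∀ a : H, indFun H θ a = θ a := fun a =>
    indFun_apply_of_TI H hθg.isClassFunction a (h2 a)
  have h4 : classInner (indFun H θ) (indFun H θ) = classInner θ θ :=
    classInner_indFun_of_TI H θ hθg.isClassFunction fun a _ => h2 a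
  have h5 : classInner φ (fun _ => 1) = 0 := hφ.classInner_of_ne isIrrCharacter_one h1
  have h6 : classInner (fun _ => 1) φ = 0 := isIrrCharacter_one.classInner_of_ne hφ (Ne.symm h1)
  have h7 : classInner (indFun H θ) (fun _ => 1) = -d := by
    rw [frobenius_left _ _ (IsClassFunction.const 1), hθ, classInner_sub_left,
      classInner_smul_left, h5, isIrrCharacter_one.classInner_self]; simp
  have h8 : classInner (fun _ => 1) (indFun H θ) = -d := by
    rw [← conj_classInner, h7]; simp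
  have h9 : ∀ h : H, (indFun H θ + (d : ℂ) • fun _ => 1 : G → ℂ) h = φ h := fun h => by
    rw [Pi.add_apply, h3]; simp [hθ]
  refine ⟨indFun H θ + (d : ℂ) • fun _ => 1, (hθg.ind.add
    (isCharacter_one.natCast_smul d).isGen).isIrr_of_re_nonneg ?_ ?_, h9, fun x hx => ?_⟩
  · simp only [classInner_add_left, classInner_add_right, classInner_smul_left,
      classInner_smul_right, h4, h7, h8, isIrrCharacter_one.classInner_self]
    simp only [hθ, classInner_smul_left, classInner_smul_right, isIrrCharacter_one.classInner_self,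
      classInner_sub_left, classInner_sub_right, h5, h6, hφ.classInner_self]
    simp
  · rw [show (indFun H θ + (d : ℂ) • fun _ => 1 : G → ℂ) 1 = φ 1 from h9 1, hd]; simp
  · simp only [Pi.add_apply, Pi.smul_apply]
    rw [indFun_eq_zero H θ x (fun g hg => hθN _ (hx g hg)), show indFun H θ 1 = θ 1 from h3 1,
      hθN 1 N.one_mem]

/-- Wielandt's generalization of Frobenius' theorem. -/
theorem wielandt_normal_complement [Finite G] {H N : Subgroup G} (hNH : N ≤ H)
    (hn : H ≤ Subgroup.normalizer (N : Set G))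
    (hTI : ∀ g : G, g ∉ H → ∀ x ∈ H, g * x * g⁻¹ ∈ H → x ∈ N) :
    ∃ M : Subgroup G, M.Normal ∧ (∀ x, x ∈ M ↔ ∀ g : G, g * x * g⁻¹ ∈ H → g * x * g⁻¹ ∈ N) ∧
      M ⊓ H = N ∧ M ⊔ H = ⊤ := by
  classical
  have := Fintype.ofFinite G
  have := Fintype.ofFinite H
  have := (Subgroup.normal_subgroupOf_iff_le_normalizer hNH).2 hn
  let M : Subgroup G :=
    { carrier := {x | ∀ g : G, g * x * g⁻¹ ∈ H → g * x * g⁻¹ ∈ N}
      one_mem' := fun g _ => by simp
      inv_mem' := fun {x} hx g hg => by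
        have := hx g (by simpa [mul_assoc] using H.inv_mem hg)
        simpa [mul_assoc] using N.inv_mem this
      mul_mem' := fun {x y} hx hy g hg => by
        by_contra h
        obtain ⟨ψ, hψ, h1⟩ := exists_irr_apply_ne (G := H ⧸ N.subgroupOf H)
          (g := ((⟨_, hg⟩ : H) : H ⧸ N.subgroupOf H)) (by rwa [Ne, QuotientGroup.eq_one_iff])
        obtain ⟨χ, hχ, h2, h3⟩ := wielandt_ext hTI hψ.inflate fun a ha => by
          rw [(QuotientGroup.eq_one_iff a).2 ha]; rfl
        have h4 := hχ.isCharacter.mem_charKer.1 (Subgroup.mul_mem _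
          (hχ.isCharacter.mem_charKer.2 (h3 x hx)) (hχ.isCharacter.mem_charKer.2 (h3 y hy)))
        rw [← hχ.isClassFunction (x * y) g] at h4
        exact h1 ((h2 ⟨_, hg⟩).symm.trans (h4.trans (h2 1))) }
  have hM : ∀ x, x ∈ M ↔ ∀ g : G, g * x * g⁻¹ ∈ H → g * x * g⁻¹ ∈ N := fun _ => Iff.rfl
  have hMn : M.Normal := ⟨fun x hx g k => by simpa [mul_assoc] using hx (k * g)⟩
  have hMH : M ⊓ H = N := by
    refine le_antisymm (fun x hx => by simpa using hx.1 1 (by simpa using hx.2))
      fun x hx => ⟨fun g hg => ?_, hNH hx⟩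
    by_cases h : g ∈ H
    · exact Solv.conj_mem_of_mem_normalizer (hn h) hx
    · exact hTI g⁻¹ (by simpa using h) _ hg (by simpa [mul_assoc] using hNH hx)
  refine ⟨M, hMn, hM, hMH, ?_⟩
  let f : H → ℂ := fun h => if (h : G) ∈ N then 0 else 1
  have hf : IsClassFunction H f := fun a b => by
    have : ((b * a * b⁻¹ : H) : G) ∈ N ↔ (a : G) ∈ N :=
      (Subgroup.mem_normalizer_iff.1 (hn b.2) a).symm
    simp only [f, this]
  have h1 : ∀ x, indFun H f x = if x ∈ M then 0 else 1 := fun x => by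
    split_ifs with h
    · exact indFun_eq_zero H f x fun g hg => if_pos (h g hg)
    · rw [hM] at h
      push Not at h
      obtain ⟨g, h1, h2⟩ := h
      rw [← isClassFunction_indFun H f x g]
      refine (indFun_apply_of_TI H hf ⟨_, h1⟩ fun y hy hy' => ?_).trans (if_neg h2)
      exact absurd (hTI y hy _ h1 hy') h2
  have h2 := sum_indFun_mul H f (IsClassFunction.const 1)
  have h3 : ∀ {X : Type _} [Group X] [Fintype X] (K : Subgroup X) [DecidablePred (· ∈ K)],
      ∑ x, (if x ∈ K then 0 else 1 : ℂ) = Nat.card X - Nat.card K := by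
    intro X _ _ K _
    have : ∀ x, (if x ∈ K then 0 else 1 : ℂ) = 1 - if x ∈ K then 1 else 0 := fun x => by
      split_ifs <;> simp
    simp [this, Fintype.card_subtype]
  simp only [h1, mul_one] at h2
  have h4 : ∑ h, f h = Nat.card H - Nat.card N := by
    rw [← Solv.card_subgroupOf_of_le hNH]
    exact h3 (N.subgroupOf H)
  rw [h3, h4, mul_sub, ← Nat.cast_mul, H.index_mul_card, sub_right_inj, ← Nat.cast_mul,
    Nat.cast_inj] at h2
  have h5 := Solv.card_sup_mul_card_inf (H := H) (N := M) Subgroup.le_normalizer_of_normal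
  rw [inf_comm, hMH, h2, ← mul_assoc, H.card_mul_index] at h5
  rw [sup_comm]
  exact Subgroup.eq_top_of_card_eq _ (Nat.eq_of_mul_eq_mul_right Nat.card_pos h5)

/-- Frobenius' theorem. -/
theorem frobenius_normal_complement [Finite G] {H : Subgroup G}
    (hTI : ∀ g : G, g ∉ H → ∀ x ∈ H, g * x * g⁻¹ ∈ H → x = 1) :
    ∃ M : Subgroup G, M.Normal ∧ (∀ x, x ∈ M ↔ x = 1 ∨ ∀ g : G, g * x * g⁻¹ ∉ H) ∧
      M.IsComplement' H := by
  obtain ⟨M, h1, h2, h3, h4⟩ := wielandt_normal_complement (H := H) (N := ⊥) bot_le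
    Subgroup.le_normalizer_of_normal hTI
  refine ⟨M, h1, fun x => ?_, Solv.isComplement'_of_inf_eq_bot_of_sup_eq_top h3 h4⟩
  rw [h2]
  by_cases h : x = 1
  · simp [h]
  · simp [h]

theorem frobenius_kernel [Finite G] (H : Subgroup G) (hH : IsFrobeniusComplement H) :
    ∃ N : Subgroup G, (N : Set G) = frobeniusKernel H ∧ N.Normal ∧ N.IsComplement' H := by
  obtain ⟨M, h1, h2, h3⟩ := frobenius_normal_complement (H := H) fun g hg x hx hx' => by
    have : g * x * g⁻¹ ∈ H ⊓ MulAut.conj g • H := ⟨hx', Solv.conj_mem_conj_smul g hx⟩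
    rw [hH.2.2 g hg] at this
    simpa using this
  refine ⟨M, ?_, h1, h3⟩
  ext x
  simp only [SetLike.mem_coe, h2, frobeniusKernel, Set.mem_ofPred_eq, Solv.mem_conj_smul]
  exact or_congr Iff.rfl ⟨fun h g => by simpa using h g⁻¹, fun h g => by simpa using h g⁻¹⟩

end Cfsg.Agent.Char
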