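import Mathlib
import Cfsg.Prelude.Def_Characters

/-!
Representation-level basics: transport, decomposition into irreducibles, and the link with
`IsCharacter` and `IsIrrCharacter`.
-/

set_option autoImplicit false

namespace Cfsg.Agent.Char

open Representation Module

section General

variable {k : Type*} [Field k] {G : Type*} [Group G]
variable {V : Type*} [AddCommGroup V] [Module k V] {W : Type*} [AddCommGroup W] [Module k W]

/-- Transport of a representation along a linear equivalence. -/
noncomputable def transport (ρ : Representation k G V) (e : V ≃ₗ[k] W) : Representation k G W where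
  toFun g := e.toLinearMap ∘ₗ ρ g ∘ₗ e.symm.toLinearMap
  map_one' := by ext; simp
  map_mul' x y := by ext; simp

theorem transport_apply (ρ : Representation k G V) (e : V ≃ₗ[k] W) (g : G) (w : W) :
    transport ρ e g w = e (ρ g (e.symm w)) := rfl

/-- The transported representation is equivalent to the original one. -/
noncomputable def transportEquiv (ρ : Representation k G V) (e : V ≃ₗ[k] W) :
    ρ.Equiv (transport ρ e) :=
  Representation.Equiv.mk e (fun g => by ext v; simp [transport_apply])

theorem isIrreducible_iff (ρ : Representation k G V) :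
    ρ.IsIrreducible ↔ Nontrivial V ∧
      ∀ U : Submodule k V, (∀ g, ∀ v ∈ U, ρ g v ∈ U) → U = ⊥ ∨ U = ⊤ := by
  constructor
  · intro h
    refine ⟨?_, fun U hU => ?_⟩
    · have : (⊥ : Subrepresentation ρ) ≠ ⊤ := bot_ne_top
      by_contra hV
      rw [not_nontrivial_iff_subsingleton] at hV
      exact this (Subrepresentation.ext (Subsingleton.elim _ _))
    · rcases eq_bot_or_eq_top (⟨U, fun g v hv => hU g v hv⟩ : Subrepresentation ρ) with h1 | h1
      · exact Or.inl (congrArg Subrepresentation.toSubmodule h1)
      · exact Or.inr (congrArg Subrepresentation.toSubmodule h1)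
  · rintro ⟨hV, h⟩
    have : Nontrivial (Subrepresentation ρ) := ⟨⊥, ⊤, fun h1 =>
      (bot_ne_top : (⊥ : Submodule k V) ≠ ⊤) (congrArg Subrepresentation.toSubmodule h1)⟩
    refine ⟨fun U => ?_⟩
    rcases h U.toSubmodule (fun g v hv => U.apply_mem_toSubmodule g hv) with h1 | h1
    · exact Or.inl (Subrepresentation.ext h1)
    · exact Or.inr (Subrepresentation.ext h1)

theorem nontrivial_of_isIrreducible (ρ : Representation k G V) [h : ρ.IsIrreducible] :
    Nontrivial V := ((isIrreducible_iff ρ).1 h).1

theorem finrank_pos_of_isIrreducible [FiniteDimensional k V] (ρ : Representation k G V)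
    [h : ρ.IsIrreducible] : 0 < finrank k V :=
  haveI := nontrivial_of_isIrreducible ρ
  Module.finrank_pos

theorem isIrreducible_of_equiv {ρ : Representation k G V} {σ : Representation k G W}
    (φ : ρ.Equiv σ) [h : ρ.IsIrreducible] : σ.IsIrreducible := by
  rw [isIrreducible_iff] at h ⊢
  obtain ⟨hV, h⟩ := h
  refine ⟨φ.toLinearEquiv.symm.toEquiv.nontrivial, fun U hU => ?_⟩
  have := h (U.comap φ.toLinearEquiv.toLinearMap) (fun g v hv => by
    have h1 := φ.toIntertwiningMap.isIntertwining _ _ g v
    simp only [Submodule.mem_comap] at hv ⊢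
    have h2 := hU g _ hv
    exact h1 ▸ h2)
  rcases this with h1 | h1
  · left
    rw [eq_bot_iff]
    intro w hw
    have : φ.toLinearEquiv.symm w ∈ U.comap φ.toLinearEquiv.toLinearMap := by
      rw [Submodule.mem_comap, LinearEquiv.coe_coe, LinearEquiv.apply_symm_apply]; exact hw
    rw [h1, Submodule.mem_bot] at this
    exact (Submodule.mem_bot k).2 ((LinearEquiv.map_eq_zero_iff _).1 this)
  · right
    rw [eq_top_iff]
    intro w _
    have : φ.toLinearEquiv.symm w ∈ U.comap φ.toLinearEquiv.toLinearMap := by
      rw [h1]; trivial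
    rwa [Submodule.mem_comap, LinearEquiv.coe_coe, LinearEquiv.apply_symm_apply] at this

theorem isIrreducible_of_finrank_eq_one (ρ : Representation k G V) (h : finrank k V = 1) :
    ρ.IsIrreducible := by
  rw [isIrreducible_iff]
  have := (isSimpleModule_iff k V).1 (isSimpleModule_iff_finrank_eq_one.2 h)
  exact ⟨Module.nontrivial_of_finrank_pos (R := k) (by omega), fun U _ => eq_bot_or_eq_top U⟩

theorem character_prod [FiniteDimensional k V] [FiniteDimensional k W]
    (ρ : Representation k G V) (σ : Representation k G W) :
    (ρ.prod σ).character = ρ.character + σ.character := by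
  ext g
  exact LinearMap.trace_prodMap' (ρ g) (σ g)

/-- A representation is the product of two complementary subrepresentations. -/
noncomputable def prodEquivOfIsCompl {ρ : Representation k G V} (U U' : Subrepresentation ρ)
    (h : IsCompl U.toSubmodule U'.toSubmodule) :
    (U.toRepresentation.prod U'.toRepresentation).Equiv ρ :=
  Representation.Equiv.mk (Submodule.prodEquivOfIsCompl _ _ h) (fun g => by
    ext v <;> simp [Subrepresentation.toRepresentation, Representation.prod])

theorem isCompl_toSubmodule {ρ : Representation k G V} {U U' : Subrepresentation ρ}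
    (h : IsCompl U U') : IsCompl U.toSubmodule U'.toSubmodule := by
  constructor
  · rw [disjoint_iff, ← Subrepresentation.toSubmodule_inf, h.inf_eq_bot]; rfl
  · rw [codisjoint_iff, ← Subrepresentation.toSubmodule_sup, h.sup_eq_top]; rfl

theorem character_eq_add_of_isCompl [FiniteDimensional k V] {ρ : Representation k G V}
    (U U' : Subrepresentation ρ) (h : IsCompl U.toSubmodule U'.toSubmodule) :
    ρ.character = U.toRepresentation.character + U'.toRepresentation.character := by
  rw [← char_iso (prodEquivOfIsCompl U U' h), character_prod]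

/-- Product of two equivalences. -/
noncomputable def prodCongrEquiv {V' W' : Type*} [AddCommGroup V'] [Module k V'] [AddCommGroup W']
    [Module k W'] {ρ : Representation k G V} {σ : Representation k G W}
    {ρ' : Representation k G V'} {σ' : Representation k G W'} (φ : ρ.Equiv ρ') (ψ : σ.Equiv σ') :
    (ρ.prod σ).Equiv (ρ'.prod σ') :=
  Representation.Equiv.mk (φ.toLinearEquiv.prodCongr ψ.toLinearEquiv) (fun g => by
    refine LinearMap.ext fun v => ?_
    have h1 := φ.toIntertwiningMap.isIntertwining _ _ g v.1
    have h2 := ψ.toIntertwiningMap.isIntertwining _ _ g v.2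
    exact Prod.ext h1 h2)

/-- The character of a subrepresentation, computed with any projection onto it. -/
theorem character_sub_eq_trace_comp [FiniteDimensional k V] {ρ : Representation k G V}
    (U : Subrepresentation ρ) (P : V →ₗ[k] V) (hP : LinearMap.IsProj U.toSubmodule P) (g : G) :
    U.toRepresentation.character g = LinearMap.trace k V (ρ g ∘ₗ P) := by
  have h1 : ρ g ∘ₗ P = U.toSubmodule.subtype ∘ₗ (U.toRepresentation g ∘ₗ hP.codRestrict) := by
    ext v; simp [Subrepresentation.toRepresentation]
  rw [h1, LinearMap.trace_comp_comm', Representation.character]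
  congr 1
  ext v
  simp [Subrepresentation.toRepresentation]

/-- A nonzero finite-dimensional representation has an irreducible subrepresentation. -/
theorem exists_irreducible_sub [FiniteDimensional k V] [Nontrivial V] (ρ : Representation k G V) :
    ∃ U : Subrepresentation ρ, U.toRepresentation.IsIrreducible := by
  classical
  have hex : ∃ n, ∃ U : Subrepresentation ρ, U.toSubmodule ≠ ⊥ ∧ finrank k U.toSubmodule = n :=
    ⟨_, ⊤, top_ne_bot (α := Submodule k V), rfl⟩
  obtain ⟨U, hU, hn⟩ := Nat.find_spec hex
  refine ⟨U, (isIrreducible_iff _).2 ⟨Submodule.nontrivial_iff_ne_bot.2 hU, fun X hX => ?_⟩⟩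
  by_cases hX0 : X = ⊥
  · exact Or.inl hX0
  right
  let Y : Subrepresentation ρ := ⟨X.map U.toSubmodule.subtype, by
    rintro g _ ⟨v, hv, rfl⟩
    exact ⟨_, hX g v hv, rfl⟩⟩
  have hY : Y.toSubmodule ≠ ⊥ := by
    intro h
    apply hX0
    rw [eq_bot_iff]
    intro x hx
    have : (x : V) ∈ Y.toSubmodule := ⟨x, hx, rfl⟩
    rw [h, Submodule.mem_bot] at this
    exact (Submodule.mem_bot k).2 (Subtype.ext this)
  have h1 := Nat.find_min' hex ⟨Y, hY, rfl⟩
  have h2 : finrank k Y.toSubmodule = finrank k X :=
    Submodule.finrank_map_subtype_eq U.toSubmodule X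
  apply Submodule.eq_top_of_finrank_eq
  have h3 := Submodule.finrank_le X
  omega

/-- Schur's lemma: an endomorphism commuting with an irreducible representation is a scalar. -/
theorem schur_scalar [IsAlgClosed k] [FiniteDimensional k V] (ρ : Representation k G V)
    [ρ.IsIrreducible] (f : V →ₗ[k] V) (hf : ∀ g, f ∘ₗ ρ g = ρ g ∘ₗ f) :
    ∃ c : k, f = c • LinearMap.id := by
  obtain ⟨c, hc⟩ := (IsIrreducible.algebraMap_intertwiningMap_bijective_of_isAlgClosed
    (ρ := ρ)).2 ⟨f, hf⟩
  refine ⟨c, ?_⟩
  have := congrArg IntertwiningMap.toLinearMap hc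
  exact this.symm

end General

section Complex

variable {G : Type*} [Group G]
variable {V : Type*} [AddCommGroup V] [Module ℂ V] {W : Type*} [AddCommGroup W] [Module ℂ W]

theorem isCharacter_rep [FiniteDimensional ℂ V] (ρ : Representation ℂ G V) :
    IsCharacter G ρ.character :=
  ⟨finrank ℂ V, transport ρ (Module.finBasis ℂ V).equivFun,
    (char_iso (transportEquiv ρ _)).symm⟩

theorem isIrrCharacter_rep [FiniteDimensional ℂ V] (ρ : Representation ℂ G V) [ρ.IsIrreducible] :
    IsIrrCharacter G ρ.character :=
  ⟨finrank ℂ V, transport ρ (Module.finBasis ℂ V).equivFun,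
    isIrreducible_of_equiv (transportEquiv ρ _), (char_iso (transportEquiv ρ _)).symm⟩

instance instNeZeroCardComplex [Finite G] : NeZero (Nat.card G : ℂ) :=
  ⟨Nat.cast_ne_zero.2 Nat.card_pos.ne'⟩

noncomputable instance instInvertibleCardComplex [Finite G] : Invertible (Nat.card G : ℂ) :=
  invertibleOfNonzero (NeZero.ne _)

theorem exists_compl [Finite G] {ρ : Representation ℂ G V} (U : Subrepresentation ρ) :
    ∃ U' : Subrepresentation ρ, IsCompl U.toSubmodule U'.toSubmodule := by
  obtain ⟨U', h⟩ := exists_isCompl U
  exact ⟨U', isCompl_toSubmodule h⟩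

/-- Every character is a sum of irreducible characters. -/
theorem rep_exists_multiset [Finite G] [FiniteDimensional ℂ V] (ρ : Representation ℂ G V) :
    ∃ s : Multiset (G → ℂ), (∀ ψ ∈ s, IsIrrCharacter G ψ) ∧ ρ.character = s.sum := by
  induction' hn : finrank ℂ V using Nat.strong_induction_on with n ih generalizing V
  rcases subsingleton_or_nontrivial V with hV | hV
  · refine ⟨0, by simp, ?_⟩
    ext g
    simp [Representation.character, Subsingleton.elim (ρ g) 0]
  obtain ⟨U, hU⟩ := exists_irreducible_sub ρ
  obtain ⟨U', hc⟩ := exists_compl U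
  have h1 := Submodule.finrank_add_eq_of_isCompl hc
  have h2 := finrank_pos_of_isIrreducible U.toRepresentation
  obtain ⟨s, hs, hs'⟩ := ih (finrank ℂ U'.toSubmodule) (by omega) U'.toRepresentation rfl
  refine ⟨U.toRepresentation.character ::ₘ s, ?_, ?_⟩
  · intro ψ hψ
    rcases Multiset.mem_cons.1 hψ with rfl | h
    · exact isIrrCharacter_rep _
    · exact hs ψ h
  · rw [Multiset.sum_cons, ← hs', character_eq_add_of_isCompl U U' hc]

/-- Representations with the same character are equivalent. -/
theorem nonempty_equiv_of_character_eq [Finite G] [FiniteDimensional ℂ V] [FiniteDimensional ℂ W]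
    (ρ : Representation ℂ G V) (σ : Representation ℂ G W) (h : ρ.character = σ.character) :
    Nonempty (ρ.Equiv σ) := by
  induction' hn : finrank ℂ V using Nat.strong_induction_on with n ih generalizing V W
  have hdim : finrank ℂ V = finrank ℂ W := by
    have := congrFun h 1
    simpa using this
  rcases subsingleton_or_nontrivial V with hV | hV
  · have hW : Subsingleton W := by
      rw [← Module.finrank_zero_iff (R := ℂ), ← hdim]; exact finrank_zero_of_subsingleton
    exact ⟨Representation.Equiv.mk (LinearEquiv.ofSubsingleton V W) (fun g => Subsingleton.elim _ _)⟩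
  obtain ⟨U, hU⟩ := exists_irreducible_sub ρ
  obtain ⟨U', hc⟩ := exists_compl U
  have h1 := Submodule.finrank_add_eq_of_isCompl hc
  have h2 := finrank_pos_of_isIrreducible U.toRepresentation
  have := Fintype.ofFinite G
  have h3 := card_inv_mul_sum_char_mul_char_eq_finrank U.toRepresentation ρ
  have h4 := card_inv_mul_sum_char_mul_char_eq_finrank U.toRepresentation σ
  rw [← h, h3] at h4
  have h5 : finrank ℂ (IntertwiningMap U.toRepresentation ρ) =
      finrank ℂ (IntertwiningMap U.toRepresentation σ) := by exact_mod_cast h4
  let ι : IntertwiningMap U.toRepresentation ρ := ⟨U.toSubmodule.subtype, fun g => by ext; rfl⟩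
  have hι : ι ≠ 0 := by
    intro h0
    have h6 : U.toSubmodule.subtype = 0 := congrArg IntertwiningMap.toLinearMap h0
    have := nontrivial_of_isIrreducible U.toRepresentation
    obtain ⟨v, hv⟩ := exists_ne (0 : U.toSubmodule)
    apply hv
    have := LinearMap.congr_fun h6 v
    simpa using this
  have h7 : 0 < finrank ℂ (IntertwiningMap U.toRepresentation ρ) :=
    Module.finrank_pos_iff_exists_ne_zero.2 ⟨ι, hι⟩
  rw [h5] at h7
  obtain ⟨f, hf⟩ := Module.finrank_pos_iff_exists_ne_zero.1 h7
  have hfi : Function.Injective f := (IsIrreducible.injective_or_eq_zero f).resolve_right hf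
  let e : U.toRepresentation.Equiv f.range.toRepresentation :=
    Representation.Equiv.mk (LinearEquiv.ofInjective f.toLinearMap hfi) (fun g => by
      refine LinearMap.ext fun v => Subtype.ext ?_
      exact f.isIntertwining _ _ g v)
  obtain ⟨X', hX⟩ := exists_compl f.range
  have h8 := character_eq_add_of_isCompl U U' hc
  have h9 := character_eq_add_of_isCompl f.range X' hX
  rw [← h, h8, char_iso e] at h9
  obtain ⟨e'⟩ := ih (finrank ℂ U'.toSubmodule) (by omega) U'.toRepresentation X'.toRepresentation
    (add_left_cancel h9) rfl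
  exact ⟨((prodEquivOfIsCompl U U' hc).symm.trans (prodCongrEquiv e e')).trans
    (prodEquivOfIsCompl _ _ hX)⟩

end Complex

end Cfsg.Agent.Char
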