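import Cfsg.Agent.Lib.Char.Gallagher
import Cfsg.Prelude.Def_CharExt
import Mathlib.GroupTheory.Transfer

/-!
Determinantal characters and the extension of invariant linear characters.
-/

set_option autoImplicit false

namespace Cfsg.Agent.Char

open Module
open scoped ComplexConjugate

variable {G : Type*} [Group G]

section Rep

variable {V : Type*} [AddCommGroup V] [Module ℂ V] [FiniteDimensional ℂ V]
variable {W : Type*} [AddCommGroup W] [Module ℂ W] [FiniteDimensional ℂ W]

theorem det_eq_of_equiv {ρ : Representation ℂ G V} {σ : Representation ℂ G W} (φ : ρ.Equiv σ)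
    (g : G) : LinearMap.det (ρ g) = LinearMap.det (σ g) := by
  rw [← LinearMap.det_conj (ρ g) φ.toLinearEquiv]
  congr 1
  ext w
  have := φ.toIntertwiningMap.isIntertwining _ _ g (φ.toLinearEquiv.symm w)
  simp only [LinearMap.coe_comp, LinearEquiv.coe_coe, Function.comp_apply]
  refine this.trans ?_
  congr 1
  exact φ.toLinearEquiv.apply_symm_apply w

theorem detChar_rep [Finite G] (ρ : Representation ℂ G V) (g : G) :
    detChar ρ.character g = LinearMap.det (ρ g) := by
  have h := isCharacter_rep ρ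
  rw [detChar, dif_pos h]
  obtain ⟨φ⟩ := nonempty_equiv_of_character_eq _ ρ
    (Classical.choose_spec (Classical.choose_spec h))
  exact det_eq_of_equiv φ g

/-- Twist of a representation by a linear character. -/
noncomputable def twistRep (ρ : Representation ℂ G V) (lam : G →* ℂˣ) : Representation ℂ G V where
  toFun g := (lam g : ℂ) • ρ g
  map_one' := by simp
  map_mul' x y := by simp [smul_smul, mul_comm]

theorem character_twistRep (ρ : Representation ℂ G V) (lam : G →* ℂˣ) :
    (twistRep ρ lam).character = fun g => (lam g : ℂ) * ρ.character g := by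
  ext g; simp [twistRep, Representation.character]

end Rep

theorem _root_.Cfsg.IsCharacter.exists_detChar [Finite G] {χ : G → ℂ} (h : IsCharacter G χ) :
    ∃ δ : G →* ℂˣ, detChar χ = fun g => (δ g : ℂ) := by
  obtain ⟨n, ρ, rfl⟩ := h
  refine ⟨(LinearMap.det.comp ρ).toHomUnits, ?_⟩
  ext g
  rw [detChar_rep]; simp

theorem _root_.Cfsg.IsCharacter.detChar_comp [Finite G] {H : Type*} [Group H] [Finite H]
    {χ : G → ℂ} (h : IsCharacter G χ) (f : H →* G) (x : H) :
    detChar (fun x => χ (f x)) x = detChar χ (f x) := by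
  obtain ⟨n, ρ, rfl⟩ := h
  rw [detChar_rep]
  exact detChar_rep (ρ.comp f) x

theorem _root_.Cfsg.IsCharacter.detChar_res [Finite G] {χ : G → ℂ} (h : IsCharacter G χ)
    (H : Subgroup G) (x : H) : detChar (fun x : H => χ x) x = detChar χ x :=
  h.detChar_comp H.subtype x

theorem _root_.Cfsg.IsCharacter.detChar_units_mul [Finite G] {χ : G → ℂ} (h : IsCharacter G χ)
    (lam : G →* ℂˣ) {d : ℕ} (hd : χ 1 = d) (g : G) :
    detChar (fun g => (lam g : ℂ) * χ g) g = (lam g : ℂ) ^ d * detChar χ g := by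
  obtain ⟨n, ρ, rfl⟩ := h
  rw [← character_twistRep, detChar_rep, detChar_rep]
  have : d = finrank ℂ (Fin n → ℂ) := by
    rw [Representation.char_one] at hd; exact_mod_cast hd.symm
  rw [this]
  exact LinearMap.det_smul _ _

theorem detChar_units [Finite G] (lam : G →* ℂˣ) :
    detChar (fun g => (lam g : ℂ)) = fun g => (lam g : ℂ) := by
  ext g
  have h1 := isCharacter_one.detChar_units_mul lam (d := 1) (by simp) g
  have h2 : (scalarRep ℂ (1 : G →* ℂ)).character = fun _ => 1 := by
    ext; simp [character_scalarRep]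
  have h3 : detChar (fun _ : G => (1 : ℂ)) g = 1 := by
    rw [← h2, detChar_rep]; simp [scalarRep]
  simpa [h3] using h1

theorem _root_.Cfsg.IsCharacter.detChar_add [Finite G] {χ ψ : G → ℂ} (h : IsCharacter G χ)
    (h' : IsCharacter G ψ) (g : G) : detChar (χ + ψ) g = detChar χ g * detChar ψ g := by
  obtain ⟨n, ρ, rfl⟩ := h
  obtain ⟨m, σ, rfl⟩ := h'
  rw [← character_prod, detChar_rep, detChar_rep, detChar_rep]
  exact LinearMap.det_prodMap _ _

theorem detChar_zero [Finite G] (g : G) : detChar (0 : G → ℂ) g = 1 := by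
  have h := IsCharacter.zero.detChar_add IsCharacter.zero g
  obtain ⟨δ, hδ⟩ := (IsCharacter.zero (G := G)).exists_detChar
  rw [add_zero, hδ] at h
  rw [hδ]
  exact (mul_eq_left₀ (δ g).ne_zero).1 h.symm

theorem _root_.Cfsg.IsCharacter.detChar_nsmul [Finite G] {χ : G → ℂ} (h : IsCharacter G χ)
    (n : ℕ) (g : G) : detChar ((n : ℂ) • χ) g = detChar χ g ^ n := by
  induction n with
  | zero => simp [detChar_zero]
  | succ n ih =>
    rw [Nat.cast_succ, add_smul, one_smul, (h.natCast_smul n).detChar_add h, ih, pow_succ]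

theorem _root_.Cfsg.IsCharacter.isCharacter_detChar [Finite G] {χ : G → ℂ} (h : IsCharacter G χ) :
    IsCharacter G (detChar χ) ∧ detChar χ 1 = 1 := by
  obtain ⟨δ, hδ⟩ := h.exists_detChar
  rw [hδ]
  exact ⟨(isIrrCharacter_units δ).isCharacter, by simp⟩

theorem orderOf_units_fun {X : Type*} [Group X] (lam : X →* ℂˣ) :
    orderOf (fun g => (lam g : ℂ)) = orderOf lam := by
  refine (orderOf_eq_orderOf_iff.2 fun n => ?_)
  rw [funext_iff, MonoidHom.ext_iff]
  refine forall_congr' fun x => ?_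
  simp only [Pi.pow_apply, Pi.one_apply, MonoidHom.pow_apply, MonoidHom.one_apply]
  rw [← Units.val_pow_eq_pow_val, Units.val_eq_one]

theorem units_fun_injective {X : Type*} [Group X] {lam mu : X →* ℂˣ}
    (h : (fun g => (lam g : ℂ)) = fun g => (mu g : ℂ)) : lam = mu :=
  MonoidHom.ext fun g => Units.ext (congrFun h g)

section Linear

variable {A : Type*} [CommGroup A] {N : Subgroup G} [hN : N.Normal]

theorem pow_index_eq_one_of_trivial (μ : G →* A) (h : ∀ n : N, μ n = 1) (g : G) :
    μ g ^ N.index = 1 := by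
  rw [← map_pow]
  exact h ⟨_, N.pow_index_mem g⟩

/-- `lam ^ k` is the restriction of a homomorphism on `G`. -/
def PowExtends (N : Subgroup G) (lam : N →* A) (k : ℕ) : Prop :=
  ∃ μ : G →* A, ∀ n : N, μ n = lam n ^ k

omit hN in
theorem PowExtends.gcd {lam : N →* A} {a b : ℕ} (ha : PowExtends N lam a)
    (hb : PowExtends N lam b) : PowExtends N lam (Nat.gcd a b) := by
  obtain ⟨μ, hμ⟩ := ha
  obtain ⟨ν, hν⟩ := hb
  refine ⟨μ ^ Nat.gcdA a b * ν ^ Nat.gcdB a b, fun n => ?_⟩
  rw [MonoidHom.mul_apply, MonoidHom.zpow_apply, MonoidHom.zpow_apply, hμ, hν, ← zpow_natCast,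
    ← zpow_natCast, ← zpow_natCast, ← zpow_mul, ← zpow_mul, ← zpow_add, Nat.gcd_eq_gcd_ab]

omit hN in
theorem PowExtends.exists_ext {lam : N →* A} (h : PowExtends N lam 1) :
    ∃ μ : G →* A, ∀ n : N, μ n = lam n := by
  simpa [PowExtends] using h

omit hN in
theorem powExtends_orderOf (lam : N →* A) : PowExtends N lam (orderOf lam) :=
  ⟨1, fun n => by rw [← MonoidHom.pow_apply, pow_orderOf_eq_one]; rfl⟩

omit hN in
theorem PowExtends.one_of_forall_prime {lam : N →* A} {k : ℕ} (hk : k ≠ 0)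
    (h : PowExtends N lam k)
    (hp : ∀ p : ℕ, p.Prime → p ∣ k → ∃ j, ¬ p ∣ j ∧ PowExtends N lam j) : PowExtends N lam 1 := by
  induction k using Nat.strong_induction_on with
  | _ k ih =>
    by_cases h1 : k = 1
    · exact h1 ▸ h
    obtain ⟨p, h2, h3⟩ := Nat.exists_prime_and_dvd h1
    obtain ⟨j, h4, h5⟩ := hp p h2 h3
    refine ih (Nat.gcd k j) (lt_of_le_of_ne (Nat.gcd_le_left _ (Nat.pos_of_ne_zero hk)) fun h6 =>
      h4 (h3.trans (h6 ▸ Nat.gcd_dvd_right k j))) (by simp [hk]) (h.gcd h5)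
      fun q hq h6 => hp q hq (h6.trans (Nat.gcd_dvd_left _ _))

/-- Transfer: if an invariant `lam` extends to `H` then `lam ^ |G : H|` extends to `G`. -/
theorem powExtends_index [Finite G] {lam : N →* A}
    (hinv : ∀ (g : G) (n : N), lam ⟨g * n * g⁻¹, hN.conj_mem n n.2 g⟩ = lam n)
    {H : Subgroup G} (hNH : N ≤ H) (ν : H →* A) (hν : ∀ n : N, ν ⟨n, hNH n.2⟩ = lam n) :
    PowExtends N lam H.index := by
  refine ⟨MonoidHom.transfer ν, fun n => ?_⟩
  have : Fintype (Quotient (MulAction.orbitRel (Subgroup.zpowers (n : G)) (G ⧸ H))) :=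
    Fintype.ofFinite _
  rw [Subgroup.index_eq_sum_minimalPeriod H (n : G), ← Finset.prod_pow_eq_pow_sum,
    MonoidHom.transfer_eq_prod_quotient_orbitRel_zpowers_quot]
  refine Finset.prod_congr rfl fun q _ => ?_
  rw [← map_pow, ← hinv q.out.out⁻¹, ← hν]
  simp

theorem powExtends_index_self [Finite G] {lam : N →* A}
    (hinv : ∀ (g : G) (n : N), lam ⟨g * n * g⁻¹, hN.conj_mem n n.2 g⟩ = lam n) :
    PowExtends N lam N.index :=
  powExtends_index hinv le_rfl lam fun _ => rfl

theorem exists_ext_of_powExtends [Finite G] {lam : N →* A}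
    (hinv : ∀ (g : G) (n : N), lam ⟨g * n * g⁻¹, hN.conj_mem n n.2 g⟩ = lam n) {d : ℕ}
    (hd : N.index.Coprime d) (h : PowExtends N lam d) : ∃ μ : G →* A, ∀ n : N, μ n = lam n := by
  have := (powExtends_index_self hinv).gcd h
  rw [hd] at this
  exact this.exists_ext

/-- An invariant linear character extends as soon as it extends to subgroups of index prime to
each prime. -/
theorem exists_ext_of_forall_prime [Finite G] {lam : N →* A}
    (hinv : ∀ (g : G) (n : N), lam ⟨g * n * g⁻¹, hN.conj_mem n n.2 g⟩ = lam n)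
    (h : ∀ p : ℕ, p.Prime → p ∣ N.index → p ∣ orderOf lam → ∃ (H : Subgroup G) (hNH : N ≤ H)
      (ν : H →* A), ¬ p ∣ H.index ∧ ∀ n : N, ν ⟨n, hNH n.2⟩ = lam n) :
    ∃ μ : G →* A, ∀ n : N, μ n = lam n := by
  refine (((powExtends_index_self hinv).gcd (powExtends_orderOf lam)).one_of_forall_prime
    (by simp [Subgroup.FiniteIndex.index_ne_zero]) fun p hp h1 => ?_).exists_ext
  obtain ⟨H, hNH, ν, h2, h3⟩ := h p hp (h1.trans (Nat.gcd_dvd_left _ _))
    (h1.trans (Nat.gcd_dvd_right _ _))
  exact ⟨_, h2, powExtends_index hinv hNH ν h3⟩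

/-- Two homomorphisms agreeing on `N` with orders prime to the index are equal. -/
theorem eq_of_eq_on_of_coprime {μ μ' : G →* A} (h : ∀ n : N, μ n = μ' n)
    (hμ : N.index.Coprime (orderOf μ)) (hμ' : N.index.Coprime (orderOf μ')) : μ = μ' := by
  have h1 : (μ / μ') ^ N.index = 1 := by
    ext g
    exact pow_index_eq_one_of_trivial (μ / μ') (fun n => by simp [h]) g
  have h2 : (μ / μ') ^ (orderOf μ * orderOf μ') = 1 := by
    rw [div_pow, pow_mul, pow_orderOf_eq_one, mul_comm, pow_mul, pow_orderOf_eq_one]; simp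
  have h3 := pow_gcd_eq_one.2 ⟨h1, h2⟩
  rw [Nat.Coprime.mul_right hμ hμ', pow_one, div_eq_one] at h3
  exact h3

/-- The canonical extension of an invariant linear character of order prime to the index. -/
theorem exists_ext_orderOf_eq [Finite G] {lam : N →* A}
    (hinv : ∀ (g : G) (n : N), lam ⟨g * n * g⁻¹, hN.conj_mem n n.2 g⟩ = lam n)
    (hcop : N.index.Coprime (orderOf lam)) :
    ∃ μ : G →* A, (∀ n : N, μ n = lam n) ∧ orderOf μ = orderOf lam := by
  obtain ⟨μ, hμ⟩ := exists_ext_of_powExtends hinv hcop (powExtends_orderOf lam)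
  have h0 : ∀ ν : G →* A, (∀ n : N, ν n = lam n) → orderOf lam ∣ orderOf ν := fun ν hν =>
    orderOf_dvd_of_pow_eq_one (MonoidHom.ext fun n => by
      rw [MonoidHom.pow_apply, ← hν, ← MonoidHom.pow_apply, pow_orderOf_eq_one]; rfl)
  have h1 : (μ ^ orderOf lam) ^ N.index = 1 := by
    ext g
    refine pow_index_eq_one_of_trivial (μ ^ orderOf lam) (fun n => ?_) g
    rw [MonoidHom.pow_apply, hμ, ← MonoidHom.pow_apply, pow_orderOf_eq_one]; rfl
  have h2 : ∀ n : N, (μ ^ ((N.index : ℤ) * Nat.gcdA N.index (orderOf lam))) n = lam n := fun n => by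
    have h3 := Nat.gcd_eq_gcd_ab N.index (orderOf lam)
    rw [hcop] at h3
    have h4 : lam n ^ (orderOf lam : ℤ) = 1 := by
      rw [zpow_natCast, ← MonoidHom.pow_apply, pow_orderOf_eq_one]; rfl
    rw [MonoidHom.zpow_apply, hμ, eq_sub_of_add_eq h3.symm, zpow_sub, zpow_mul, h4]
    simp
  refine ⟨_, h2, Nat.dvd_antisymm (orderOf_dvd_of_pow_eq_one ?_) (h0 _ h2)⟩
  rw [← zpow_natCast, ← zpow_mul, mul_comm, ← mul_assoc, zpow_mul, zpow_mul, zpow_natCast,
    zpow_natCast, h1, one_zpow]

end Linear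

end Cfsg.Agent.Char
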