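import Cfsg.Agent.Lib.Char.TIdeg
import Cfsg.Agent.Lib.Char.Det
import Cfsg.Agent.Lib.Transfer.Stab
import Cfsg.Agent.Lib.FT.Cor

/-!
Ito's theorem for `p`-solvable groups.
-/

set_option autoImplicit false

namespace Cfsg.Agent.Char

open scoped ComplexConjugate Pointwise
open Subgroup Cfsg.Agent.Solv

universe u

variable {G : Type u} [Group G] [Finite G] {p : ℕ} [hp : Fact p.Prime]

theorem charDegree_inflate {N : Subgroup G} [N.Normal] (ψ : G ⧸ N → ℂ) :
    charDegree (fun g : G => ψ g) = charDegree ψ := rfl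

theorem index_inertia_dvd_degree {N : Subgroup G} [N.Normal] [Fintype N] {χ : G → ℂ}
    (hχ : IsIrrCharacter G χ) {θ : N → ℂ} (hθ : IsIrrCharacter N θ)
    (h : classInner (fun n : N => χ n) θ ≠ 0) :
    (inertia N θ).index * charDegree θ ∣ charDegree χ := by
  have := Fintype.ofFinite G
  have h1 := hχ.clifford_degree hθ h
  obtain ⟨e, he⟩ := (hχ.isCharacter.res N).classInner_eq_nat hθ.isCharacter
  rw [he, ← hχ.isCharacter.cast_charDegree, ← hθ.isCharacter.cast_charDegree] at h1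
  exact ⟨e, by rw [show charDegree χ = _ by exact_mod_cast h1]; ring⟩

theorem psol_pCore_ne_bot [Nontrivial G] (h : Comp.PSol p (⊤ : Subgroup G))
    (h0 : pPrimeCore p G = ⊥) : pCore p G ≠ ⊥ := fun h1 => by
  have := Transfer.psol_charP h h0
  rw [h1, coe_bot, centralizer_eq_top_iff_subset.2 (by simp)] at this
  exact top_ne_bot (eq_bot_iff.2 this)

theorem psol_centralizer_le (h : Comp.PSol p (⊤ : Subgroup G)) (h0 : pCore p G = ⊥) :
    centralizer (pPrimeCore p G : Set G) ≤ pPrimeCore p G := by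
  have := Transfer.psol_cc_le h (by rw [MS.O_top, ← pCore_eq_piCore, h0])
  rwa [MS.O_top, ← pPrimeCore_eq_piCore, top_inf_eq] at this

theorem ito_index (h : Comp.PSol p (⊤ : Subgroup G))
    (hd : ∀ χ, IsIrrCharacter G χ → ¬ p ∣ charDegree χ) : ¬ p ∣ (pCore p G).index := by
  suffices ∀ (X : Type u) [Group X] [Finite X], Comp.PSol p (⊤ : Subgroup X) → pCore p X = ⊥ →
      (∀ χ, IsIrrCharacter X χ → ¬ p ∣ charDegree χ) → ¬ p ∣ Nat.card X from
    this _ (Transfer.psol_surj (QuotientGroup.mk'_surjective _) h) pCore_quotient_pCore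
      fun ψ hψ => hd _ hψ.inflate
  intro X _ _ h h0 hd h1
  have := Fintype.ofFinite X
  let K := pPrimeCore p X
  have := Fintype.ofFinite K
  have : Nontrivial (X ⧸ K) := QuotientGroup.nontrivial_iff.2 fun h2 =>
    not_dvd_card_pPrimeCore (p := p) (G := X) (by rwa [show pPrimeCore p X = ⊤ from h2, card_top])
  have h2 := psol_pCore_ne_bot (Transfer.psol_surj (QuotientGroup.mk'_surjective K) h)
    pPrimeCore_quotient_pPrimeCore
  obtain ⟨Q, hQ⟩ := exists_isSylowIn p ((pCore p (X ⧸ K)).comap (QuotientGroup.mk' K))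
  have h3 : Q ≤ K := (le_centralizer_of_fix_irr (coprime_card_of_isPGroup hQ.isPGroup
    not_dvd_card_pPrimeCore) (.inl (have := hQ.isPGroup.isNilpotent; inferInstance)) fun θ hθ => by
      obtain ⟨χ, h3, h4⟩ := hθ.exists_irr_over
      refine hQ.le.trans ((comap_mono (normal_le_of_coprime_index (H := (inertia K θ).map
        (QuotientGroup.mk' K)) (coprime_card_of_isPGroup (isPGroup_pCore p _) fun h5 => hd χ h3
          (h5.trans ((index_map_dvd _ (QuotientGroup.mk'_surjective K)).trans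
            (dvd_of_mul_right_dvd (index_inertia_dvd_degree h3 hθ h4))))))).trans ?_)
      rw [comap_map_eq, QuotientGroup.ker_mk', sup_eq_left.2 (le_inertia hθ.isClassFunction)]).trans
    (psol_centralizer_le h h0)
  refine hQ.ne_bot ?_ (eq_bot_of_isPGroup_of_not_dvd hQ.isPGroup fun h4 =>
    not_dvd_card_pPrimeCore (h4.trans (card_dvd_of_le h3)))
  rw [card_comap_mk]
  exact (dvd_card_of_isPGroup (isPGroup_pCore p _) h2).mul_right _

theorem comm_of_normal_pgroup {P : Subgroup G} [P.Normal] (hP : IsPGroup p P)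
    (hd : ∀ χ, IsIrrCharacter G χ → ¬ p ∣ charDegree χ) (a b : P) : a * b = b * a := by
  have := Fintype.ofFinite G
  have := Fintype.ofFinite P
  refine comm_of_forall_linear (fun θ hθ => ?_) a b
  obtain ⟨χ, h3, h4⟩ := hθ.exists_irr_over
  rw [← hθ.isCharacter.cast_charDegree, Nat.eq_one_of_dvd_coprimes (coprime_card_of_isPGroup hP
    (hd χ h3)) (hθ.degree_dvd_card hθ.isCharacter.cast_charDegree.symm)
    (dvd_of_mul_left_dvd (index_inertia_dvd_degree h3 hθ h4)), Nat.cast_one]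

theorem sylow_eq_pCore (h : ¬ p ∣ (pCore p G).index) (P : Sylow p G) : P = pCore p G :=
  (IsSylowIn.eq_of_le ⟨le_top, isPGroup_pCore p G, by rwa [relIndex_top_right]⟩ P.isPGroup' le_top
    (pCore_le_sylow P))

theorem ito_sylow (h : Comp.PSol p (⊤ : Subgroup G))
    (hd : ∀ χ, IsIrrCharacter G χ → ¬ p ∣ charDegree χ) (P : Sylow p G) :
    (P : Subgroup G).Normal ∧ IsMulCommutative P := by
  have : (P : Subgroup G).Normal := sylow_eq_pCore (ito_index h hd) P ▸ inferInstance
  exact ⟨this, ⟨⟨comm_of_normal_pgroup P.isPGroup' hd⟩⟩⟩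

theorem exists_irr_ge_degree {H : Subgroup G} {θ : H → ℂ} (hθ : IsIrrCharacter H θ) :
    ∃ χ, IsIrrCharacter G χ ∧ charDegree θ ≤ charDegree χ := by
  have := Fintype.ofFinite G
  have := Fintype.ofFinite H
  obtain ⟨χ, h1, h2⟩ := hθ.exists_irr_over
  obtain ⟨m, hm⟩ := (h1.isCharacter.res H).classInner_eq_nat hθ.isCharacter
  have := (h1.isCharacter.res H).mul_degree_le hθ hm hθ.isCharacter.cast_charDegree.symm
    h1.isCharacter.cast_charDegree.symm
  exact ⟨χ, h1, (Nat.le_mul_of_pos_left _ (Nat.pos_of_ne_zero fun h => h2 (by simp [hm, h]))).trans this⟩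

theorem comm_of_degree_lt {P : Subgroup G} (hP : IsPGroup p P)
    (hd : ∀ χ, IsIrrCharacter G χ → charDegree χ < p) (a b : P) : a * b = b * a := by
  refine comm_of_forall_linear (fun θ hθ => ?_) a b
  obtain ⟨χ, h3, h4⟩ := exists_irr_ge_degree hθ
  rw [← hθ.isCharacter.cast_charDegree, Nat.eq_one_of_dvd_coprimes (coprime_card_of_isPGroup hP
    (Nat.not_dvd_of_pos_of_lt hθ.charDegree_pos (h4.trans_lt (hd χ h3))))
    (hθ.degree_dvd_card hθ.isCharacter.cast_charDegree.symm) dvd_rfl, Nat.cast_one]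

theorem index_pCore_of_degree_lt (n : ℕ) : ∀ (G : Type u) [Group G] [Finite G], Nat.card G = n →
    (∀ χ, IsIrrCharacter G χ → charDegree χ < p) → ¬ p ∣ (pCore p G).index := by
  induction n using Nat.strong_induction_on with
  | _ n ih =>
  rintro G _ _ rfl hd
  by_cases h0 : pCore p G = ⊥
  swap
  · have := ih _ (card_quotient_lt h0) _ rfl fun ψ hψ => hd _ hψ.inflate
    rwa [pCore_quotient_pCore, index_bot] at this
  obtain ⟨P⟩ : Nonempty (Sylow p G) := inferInstance
  have := Fintype.ofFinite G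
  suffices (P : Subgroup G) = ⊥ from h0 ▸ this ▸ P.not_dvd_index
  have h1 := comm_of_degree_lt P.isPGroup' hd
  have hTI : ∀ g : G, g ∉ normalizer ((P : Subgroup G) : Set G) →
      (P : Subgroup G) ⊓ (MulAut.conj g • (P : Subgroup G)) = ⊥ := fun g hg => by
    by_contra h2
    let C := centralizer (((P : Subgroup G) ⊓ (MulAut.conj g • (P : Subgroup G)) : Subgroup G) : Set G)
    have h3 : ∀ Q : Sylow p G, (P : Subgroup G) ⊓ (MulAut.conj g • (P : Subgroup G)) ≤ Q →
        (Q : Subgroup G) ≤ C := fun Q hQ x hx y hy =>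
      congrArg Subtype.val (comm_of_degree_lt Q.isPGroup' hd ⟨y, hQ hy⟩ ⟨x, hx⟩)
    have h4 : C ≠ ⊤ := fun h => by
      have := normal_of_le_center (centralizer_eq_top_iff_subset.1 h)
      exact h2 (eq_bot_iff.2 (h0 ▸ le_pCore (P.isPGroup'.to_le inf_le_left)))
    have h5 := ih _ (card_lt_of_ne_top h4) C rfl fun θ hθ => by
      obtain ⟨χ, h3, h4⟩ := exists_irr_ge_degree hθ
      exact h4.trans_lt (hd χ h3)
    have h6 := (sylow_eq_pCore h5 (P.subtype (h3 P inf_le_left))).trans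
      (sylow_eq_pCore h5 ((g • P).subtype (h3 (g • P) inf_le_right))).symm
    rw [Sylow.coe_subtype, Sylow.coe_subtype, subgroupOf_inj, inf_eq_left.2 (h3 P inf_le_left),
      inf_eq_left.2 (h3 (g • P) inf_le_right)] at h6
    exact hg (Sylow.smul_eq_iff_mem_normalizer.1 (Sylow.ext h6.symm))
  let N := normalizer ((P : Subgroup G) : Set G)
  have := Fintype.ofFinite N
  by_cases h2 : N = ⊤
  · have := normalizer_eq_top_iff.1 h2
    exact eq_bot_iff.2 (h0 ▸ le_pCore P.isPGroup')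
  have h3 := (isCharacter_one (G := N)).ind
  have h4 : classInner (indFun N fun _ => 1) (fun _ => 1) = 1 := by
    rw [frobenius_left _ _ isIrrCharacter_one.isClassFunction, isIrrCharacter_one.classInner_self]
  obtain ⟨φ, h5, h6⟩ := (h3.sub_irr isIrrCharacter_one (by rw [h4]; exact one_ne_zero)).exists_irr_constituent
    fun h => h2 (index_eq_one.1 (by simpa [indFun_one, sub_eq_zero] using congrFun h 1))
  have h7 : φ ≠ fun _ => 1 := fun h => h6 (by
    rw [h, classInner_sub_left, h4, isIrrCharacter_one.classInner_self, sub_self])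
  rw [classInner_sub_left, isIrrCharacter_one.classInner_of_ne h5 h7.symm, sub_zero,
    frobenius_left _ _ h5.isClassFunction, Ne, classInner_eq_zero_comm] at h6
  exact eq_bot_of_isPGroup_of_not_dvd P.isPGroup' (Nat.not_dvd_of_pos_of_lt Nat.card_pos
    ((card_le_degree_of_ti P hTI le_rfl h5 h7 h6).trans_lt (hd φ h5)))

theorem exists_ext_of_degree {N : Subgroup G} [N.Normal] (hN : IsPGroup p N) {lam : N →* ℂˣ}
    {ψ : G → ℂ} (hψ : IsCharacter G ψ) (hd : ¬ p ∣ charDegree ψ) {e : ℂ}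
    (h : (fun n : N => ψ n) = e • lc lam) : ∃ μ : G →* ℂˣ, ∀ n : N, μ n = lam n := by
  obtain ⟨δ, hδ⟩ := hψ.exists_detChar
  have h1 : e = charDegree ψ := by simpa [hψ.cast_charDegree] using (congrFun h 1).symm
  have h2 : PowExtends N lam (charDegree ψ) := ⟨δ, fun n => Units.ext (by
    rw [← congrFun hδ, ← hψ.detChar_res, h, h1, (isIrr_lc lam).isCharacter.detChar_nsmul,
      detChar_units, Units.val_pow_eq_pow_val])⟩
  have h3 := (powExtends_orderOf lam).gcd h2
  rw [(coprime_card_of_isPGroup hN hd).coprime_dvd_left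
    (orderOf_dvd_of_pow_eq_one (lc_pow_card lam))] at h3
  exact h3.exists_ext

theorem derivedSeries_sylow (n : ℕ) : ∀ (G : Type u) [Group G] [Finite G], Nat.card G = n →
    Comp.PSol p (⊤ : Subgroup G) → ∀ P : Sylow p G, derivedSeries P
      (Nat.card {χ : IrrCharacter G // p ∣ charDegree χ.1} + 1) = ⊥ := by
  induction n using Nat.strong_induction_on with
  | _ n ih =>
  rintro G _ _ rfl hs P
  rcases subsingleton_or_nontrivial G with h | h
  · exact Subsingleton.elim _ _
  have key : ∀ (N : Subgroup G) [N.Normal], N ≠ ⊥ → (derivedSeries P (Nat.card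
      {χ : IrrCharacter (G ⧸ N) // p ∣ charDegree χ.1} + 1)).map (P : Subgroup G).subtype ≤ N := by
    intro N _ hN
    have h1 := ih _ (card_quotient_lt hN) _ rfl (Transfer.psol_surj (QuotientGroup.mk'_surjective N) hs)
      (P.mapSurjective (QuotientGroup.mk'_surjective N))
    rintro _ ⟨x, hx, rfl⟩
    have := map_derivedSeries_le_derivedSeries ((QuotientGroup.mk' N).subgroupMap P) _ ⟨x, hx, rfl⟩
    erw [h1] at this
    exact (QuotientGroup.eq_one_iff _).1 (congrArg Subtype.val this)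
  let f : ∀ (N : Subgroup G) [N.Normal], {χ : IrrCharacter (G ⧸ N) // p ∣ charDegree χ.1} →
    {χ : IrrCharacter G // p ∣ charDegree χ.1} := fun N _ χ => ⟨⟨_, χ.1.2.inflate⟩, χ.2⟩
  have hf : ∀ (N : Subgroup G) [N.Normal], Function.Injective (f N) := fun N _ χ ψ h => by
    ext y
    obtain ⟨y, rfl⟩ := QuotientGroup.mk_surjective y
    exact congrFun (congrArg (·.1.1) h) y
  by_cases h0 : pPrimeCore p G = ⊥
  swap
  · refine eq_bot_iff.2 ((derivedSeries_antitone _ (Nat.succ_le_succ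
      (Nat.card_le_card_of_injective _ (hf (pPrimeCore p G))))).trans fun x hx => Subtype.ext ?_)
    exact (eq_bot_of_isPGroup_of_not_dvd (P.isPGroup'.to_le inf_le_left) fun h =>
      not_dvd_card_pPrimeCore (h.trans (card_dvd_of_le inf_le_right))).le ⟨x.2, key _ h0 ⟨x, hx, rfl⟩⟩
  let N := (center (pCore p G)).map (pCore p G).subtype
  have hN : IsPGroup p N := (isPGroup_pCore p G).to_le (map_subtype_le _)
  have hN0 : N ≠ ⊥ := fun h => by
    have := (nontrivial_iff_ne_bot _).2 (psol_pCore_ne_bot hs h0)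
    exact (nontrivial_iff_ne_bot _).1 (isPGroup_pCore p G).center_nontrivial
      ((map_eq_bot_iff_of_injective _ (pCore p G).subtype_injective).1 h)
  have hc : ∀ a ∈ N, ∀ b ∈ N, a * b = b * a := by
    rintro _ ⟨a, -, rfl⟩ _ ⟨b, hb, rfl⟩
    exact congrArg Subtype.val (mem_center_iff.1 hb a)
  have step : ∀ k, (derivedSeries P k).map (P : Subgroup G).subtype ≤ N →
      derivedSeries P (k + 1) = ⊥ := fun k hk => eq_bot_iff.2 (commutator_le.2 fun a ha b hb =>
    commutatorElement_eq_one_iff_mul_comm.2 (Subtype.ext (hc _ (hk ⟨a, ha, rfl⟩) _ (hk ⟨b, hb, rfl⟩))))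
  rcases (Nat.card_le_card_of_injective _ (hf N)).lt_or_eq with h1 | h1
  · exact eq_bot_iff.2 ((derivedSeries_antitone _ (Nat.succ_le_succ h1)).trans (step _ (key N hN0)).le)
  have h2 := ((Nat.bijective_iff_injective_and_card _).2 ⟨hf N, h1⟩).2
  rcases (Nat.card {χ : IrrCharacter G // p ∣ charDegree χ.1}).eq_zero_or_pos with h3 | h3
  · rw [h3]
    have := (ito_sylow hs (fun χ hχ h => (Nat.card_pos_iff.2 ⟨⟨⟨⟨χ, hχ⟩, h⟩⟩, inferInstance⟩).ne' h3) P).2
    exact (commutator_eq_bot_iff _).2 this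
  refine eq_bot_iff.2 ((derivedSeries_antitone _ (Nat.succ_le_succ h3)).trans (step 1 ?_).le)
  have := Fintype.ofFinite G
  have := Fintype.ofFinite N
  have : Nontrivial (N →* ℂˣ) := by
    rw [← Finite.one_lt_card_iff_nontrivial, card_lc fun a b => Subtype.ext (hc _ a.2 _ b.2)]
    exact (one_lt_card_iff_ne_bot N).2 hN0
  obtain ⟨lam, h4⟩ := exists_ne (1 : N →* ℂˣ)
  let I := inertia N (lc lam)
  have hNI : N ≤ I := le_inertia (isIrr_lc lam).isClassFunction
  have h5 : ∀ ψ, IsIrrCharacter I ψ → classInner (fun n : N => ψ ⟨n, hNI n.2⟩) (lc lam) ≠ 0 →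
      ¬ p ∣ I.index * charDegree ψ := fun ψ hψ h6 h7 => by
    obtain ⟨h8, h9⟩ := (isIrr_lc lam).clifford_ind rfl hNI hψ h6
    obtain ⟨χ, hχ⟩ := h2 ⟨⟨_, h8⟩, by
      rwa [show charDegree (indFun I ψ) = I.index * charDegree ψ by
        rw [← Nat.cast_inj (R := ℂ), h8.isCharacter.cast_charDegree, indFun_one, Nat.cast_mul,
          hψ.isCharacter.cast_charDegree]]⟩
    have e : indFun (inertia N (lc lam)) ψ = fun g : G => χ.1.1 g := (congrArg (·.1.1) hχ).symm
    rw [← h9, e, show (fun n : N =>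
      χ.1.1 (n : G)) = χ.1.1 1 • lc 1 from funext fun n => by
        simp [(QuotientGroup.eq_one_iff _).2 n.2], classInner_smul_left, classInner_lc,
      if_neg h4.symm, mul_zero] at h6
    exact h6 rfl
  have := Fintype.ofFinite I
  have := Fintype.ofFinite (N.subgroupOf I)
  let lam' := lam.comp (subgroupOfEquivOfLe hNI).toMonoidHom
  obtain ⟨ψ, h6, h7⟩ := (isIrr_lc lam').exists_irr_over
  have h8 : classInner (fun n : N => ψ ⟨n, hNI n.2⟩) (lc lam) ≠ 0 :=
    classInner_subgroupOf hNI (fun n : N => ψ ⟨n, hNI n.2⟩) (lc lam) ▸ h7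
  obtain ⟨μ, hμ⟩ := exists_ext_of_degree (isPGroup_subgroupOf hN I) h6.isCharacter
    (fun h => h5 ψ h6 h8 (h.mul_left _)) (h6.res_eq_smul_of_invariant (isIrr_lc lam')
      (fun g => funext fun n => congrFun g.2 ⟨n, n.2⟩) h7)
  obtain ⟨g, hg, h9⟩ : ∃ g ∈ ⊤, MulAut.conj g • (P : Subgroup G) ≤ I := by
    obtain ⟨Q, hQ⟩ := exists_isSylowIn p I
    obtain ⟨g, hg, h9⟩ := (isSylowIn_top P).exists_conj (Q := Q) ⟨le_top, hQ.isPGroup, by
      rw [relIndex_top_right, ← relIndex_mul_index hQ.le]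
      exact hp.out.not_dvd_mul hQ.not_dvd fun h => h5 ψ h6 h8 (h.mul_right _)⟩
    exact ⟨g, hg, h9 ▸ hQ.le⟩
  have h10 := comm_of_normal_pgroup (isPGroup_pCore p (I ⧸ N.subgroupOf I))
  have h11 : ∀ β, IsIrrCharacter (I ⧸ N.subgroupOf I) β → ¬ p ∣ charDegree β := fun β hβ h =>
    h5 _ (hβ.inflate.mul_units μ) (by
      rw [show (fun n : N => (μ ⟨n, hNI n.2⟩ : ℂ) * β (⟨n, hNI n.2⟩ : I)) = β 1 • lc lam from
        funext fun n => by
          rw [(QuotientGroup.eq_one_iff (⟨n, hNI n.2⟩ : I)).2 n.2, hμ ⟨⟨n, hNI n.2⟩, n.2⟩, mul_comm]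
          rfl, classInner_smul_left, classInner_lc, if_pos rfl, mul_one]
      exact hβ.apply_one_ne_zero) (Dvd.dvd.mul_left (by simpa [charDegree] using h) _)
  obtain ⟨Q, hQ⟩ := (isPGroup_subgroupOf (P.isPGroup'.map (MulAut.conj g).toMonoidHom) I).map
    (QuotientGroup.mk' (N.subgroupOf I)) |>.exists_le_sylow
  have h12 := (ito_sylow (Transfer.psol_surj (QuotientGroup.mk'_surjective _)
    (Transfer.psol_subtype (hs.of_le le_top))) h11 Q).2
  rw [derivedSeries_one, map_subtype_commutator, commutator_le]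
  intro a ha b hb
  have h13 := congrArg Subtype.val (h12.1.1 ⟨_, hQ ⟨⟨_, h9 ⟨a, ha, rfl⟩⟩, ⟨a, ha, rfl⟩, rfl⟩⟩
    ⟨_, hQ ⟨⟨_, h9 ⟨b, hb, rfl⟩⟩, ⟨b, hb, rfl⟩, rfl⟩⟩)
  have h14 := (QuotientGroup.eq_one_iff _).1 ((map_commutatorElement _ _ _).trans
    (commutatorElement_eq_one_iff_mul_comm.2 h13))
  have := Normal.conj_mem inferInstance _ (mem_subgroupOf.1 h14) g⁻¹
  simpa [commutatorElement_def, mul_assoc] using this

end Cfsg.Agent.Char
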