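import Cfsg.Agent.Lib.Transfer.Basic
import Mathlib.Algebra.Ring.Shrink
import Mathlib.Algebra.Field.Shrink
import Mathlib.FieldTheory.Finite.Basic

/-!
A commuting irreducible family of endomorphisms of a finite abelian group gives a field.
-/

set_option autoImplicit false

namespace Cfsg.Agent.Char

open Subgroup

theorem exists_field_of_irr {A : Type*} [AddCommGroup A] [Finite A] (S : Set (AddMonoid.End A))
    (hc : ∀ f ∈ S, ∀ g ∈ S, f * g = g * f)
    (hirr : ∀ U : AddSubgroup A, (∀ f ∈ S, ∀ x ∈ U, f x ∈ U) → U = ⊥ ∨ U = ⊤) {a₀ : A}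
    (h0 : a₀ ≠ 0) :
    ∃ (F : Type) (_ : Field F) (_ : Fintype F) (φ : F ≃+ A) (δ : AddMonoid.End A → F), φ 1 = a₀ ∧
      (∀ f : AddMonoid.End A, (∀ g ∈ S, f * g = g * f) → ∀ x, f (φ x) = φ (δ f * x)) ∧
      Subring.closure (δ '' S) = ⊤ := by
  classical
  let R := Subring.closure S
  have hcm : ∀ f : AddMonoid.End A, (∀ g ∈ S, f * g = g * f) → ∀ r ∈ R, f * r = r * f :=
    fun f hf r hr => (Subring.closure_le (t := Subring.centralizer {f})).2
      (fun g hg => by rintro _ rfl; exact hf g hg) hr f rfl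
  have hR : ∀ r ∈ R, ∀ r' ∈ R, r * r' = r' * r := fun r hr =>
    hcm r fun g hg => (hcm g (hc g hg) r hr).symm
  have hinj : ∀ r ∈ R, r ≠ 0 → Function.Injective r := fun r hr h => by
    refine (AddMonoidHom.ker_eq_bot_iff (r : A →+ A)).1
      ((hirr _ fun f hf x hx => ?_).resolve_right fun e => h (AddMonoidHom.ext fun x => ?_))
    · show (r * f) x = 0
      rw [hR r hr f (Subring.subset_closure hf)]
      show f (r x) = 0
      rw [show r x = 0 from hx, map_zero]
    · exact e.ge (AddSubgroup.mem_top x)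
  have : Finite (AddMonoid.End A) := Finite.of_injective (fun f : AddMonoid.End A => (f : A → A))
    DFunLike.coe_injective
  let _ : CommRing R := { (inferInstance : Ring R) with
    mul_comm := fun x y => Subtype.ext (hR x x.2 y y.2) }
  have : Nontrivial R := ⟨1, 0, fun e => h0 (congrArg (fun r : R => r.1 a₀) e)⟩
  have : NoZeroDivisors R := ⟨fun {x y} h => or_iff_not_imp_left.2 fun hx =>
    Subtype.ext (AddMonoidHom.ext fun v => hinj x x.2 (fun e => hx (Subtype.ext e))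
      ((congrArg (fun r : R => r.1 v) h).trans (map_zero x.1).symm))⟩
  have : IsDomain R := NoZeroDivisors.to_isDomain R
  let _ : Field R := (Finite.isField_of_domain R).toField
  let ψ : R →+ A :=
    { toFun := fun r => r.1 a₀
      map_zero' := rfl
      map_add' := fun _ _ => rfl }
  have hψ : Function.Bijective ψ := by
    refine ⟨(injective_iff_map_eq_zero ψ).2 fun r hr => ?_, AddMonoidHom.range_eq_top.1 ?_⟩
    · by_contra h
      exact h0 (hinj r r.2 (fun e => h (Subtype.ext e)) (hr.trans (map_zero r.1).symm))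
    · refine (hirr _ ?_).resolve_left fun e => h0 (e.le ⟨1, rfl⟩)
      rintro f hf _ ⟨r, rfl⟩
      exact ⟨⟨f, Subring.subset_closure hf⟩ * r, rfl⟩
  let φ := AddEquiv.ofBijective ψ hψ
  have key : ∀ f : AddMonoid.End A, (∀ g ∈ S, f * g = g * f) → ∀ x,
      f (φ x) = φ (φ.symm (f a₀) * x) := fun f hf x => by
    rw [mul_comm]
    show (f * x.1) a₀ = x.1 (φ (φ.symm (f a₀)))
    rw [hcm f hf x x.2, φ.apply_symm_apply]; rfl
  have : Small.{0} R := inferInstance
  let e : Shrink.{0} R ≃+* R := Shrink.ringEquiv R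
  have : Finite (Shrink.{0} R) := Finite.of_equiv _ e.symm.toEquiv
  refine ⟨Shrink.{0} R, inferInstance, Fintype.ofFinite _, e.toAddEquiv.trans φ,
    fun f => e.symm (φ.symm (f a₀)), ?_, fun f hf x => ?_, ?_⟩
  · show φ (e 1) = a₀
    rw [map_one]; rfl
  · show f (φ (e x)) = φ (e (e.symm _ * x))
    rw [key f hf, map_mul e, e.apply_symm_apply]
  · rw [eq_top_iff]
    rintro x -
    obtain ⟨⟨r, hr⟩, rfl⟩ := e.symm.surjective x
    induction hr using Subring.closure_induction with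
    | mem f hf =>
      refine Subring.subset_closure ⟨f, hf, congrArg e.symm (φ.symm_apply_eq.2 rfl)⟩
    | zero => exact (map_zero e.symm).symm ▸ zero_mem _
    | one => exact (map_one e.symm).symm ▸ one_mem _
    | add x y hx hy h1 h2 =>
      exact (map_add e.symm ⟨x, hx⟩ ⟨y, hy⟩).symm ▸ add_mem h1 h2
    | neg x hx h1 => exact (map_neg e.symm ⟨x, hx⟩).symm ▸ neg_mem h1
    | mul x y hx hy h1 h2 =>
      exact (map_mul e.symm ⟨x, hx⟩ ⟨y, hy⟩).symm ▸ mul_mem h1 h2

/-- The same for an abelian group acting by conjugation. -/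
theorem exists_field_of_irr_conj {G : Type*} [Group G] [Finite G] {T D : Subgroup G}
    (hT : ∀ x ∈ T, ∀ y ∈ T, x * y = y * x) (hD : ∀ x ∈ D, ∀ y ∈ D, x * y = y * x)
    (hn : D ≤ normalizer (T : Set G))
    (hirr : ∀ U ≤ T, (∀ d ∈ D, ∀ x ∈ U, d * x * d⁻¹ ∈ U) → U = ⊥ ∨ U = T)
    {t₀ : G} (ht₀ : t₀ ∈ T) (ht₁ : t₀ ≠ 1) :
    ∃ (F : Type) (_ : Field F) (_ : Fintype F) (φ : F → G) (δ : G → F), Function.Injective φ ∧
      (∀ t, t ∈ T ↔ ∃ a, φ a = t) ∧ (∀ a b, φ (a + b) = φ a * φ b) ∧ φ 1 = t₀ ∧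
      (∀ g ∈ normalizer (T : Set G), (∀ d ∈ D, g * d = d * g) →
        ∀ b, g * φ b * g⁻¹ = φ (δ g * b)) ∧ Subring.closure (δ '' D) = ⊤ := by
  classical
  let _ : CommGroup T := { (inferInstance : Group T) with
    mul_comm := fun x y => Subtype.ext (hT x x.2 y y.2) }
  let c : normalizer (T : Set G) → AddMonoid.End (Additive T) := fun g =>
    MonoidHom.toAdditive (T.normalizerMonoidHom g).toMonoidHom
  have hc : ∀ g h : normalizer (T : Set G), (g : G) * h = h * g → c g * c h = c h * c g :=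
    fun g h e => AddMonoidHom.ext fun x => Subtype.ext (by
      show (g : G) * (h * x.toMul * (h : G)⁻¹) * (g : G)⁻¹ = h * (g * x.toMul * (g : G)⁻¹) * (h : G)⁻¹
      calc _ = ((g : G) * h) * x.toMul * ((g : G) * h)⁻¹ := by group
        _ = _ := by rw [e]; group)
  obtain ⟨F, _, _, φ, δ, h1, h2, h3⟩ := exists_field_of_irr (c '' {g | (g : G) ∈ D}) (by
    rintro _ ⟨g, hg, rfl⟩ _ ⟨h, hh, rfl⟩
    exact hc g h (hD g hg h hh)) (fun U hU => by
      rcases hirr ((AddSubgroup.toSubgroup' U).map T.subtype) (map_subtype_le _) (by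
        rintro d hd _ ⟨x, hx, rfl⟩
        exact ⟨_, hU _ ⟨⟨d, hn hd⟩, hd, rfl⟩ _ hx, rfl⟩) with h | h
      · exact Or.inl ((AddSubgroup.eq_bot_iff_forall U).2 fun x hx =>
          Subtype.ext (h.le ⟨x.toMul, hx, rfl⟩))
      · refine Or.inr ((AddSubgroup.eq_top_iff' U).2 fun x => ?_)
        obtain ⟨y, hy, e⟩ := h.ge x.toMul.2
        exact (show Additive.ofMul y = x from Subtype.ext e) ▸ hy)
    (a₀ := Additive.ofMul ⟨t₀, ht₀⟩) (fun e => ht₁ (congrArg Subtype.val e))
  refine ⟨F, inferInstance, inferInstance, fun a => (φ a).toMul,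
    fun g => if h : g ∈ normalizer (T : Set G) then δ (c ⟨g, h⟩) else 0,
    fun a b h => φ.injective (Subtype.ext h), fun t => ⟨fun ht =>
      ⟨φ.symm (Additive.ofMul ⟨t, ht⟩), by simp⟩, ?_⟩, fun a b => by simp, by simp [h1],
    fun g hg hgD b => ?_, ?_⟩
  · rintro ⟨a, rfl⟩; exact (φ a).toMul.2
  · simp only [dif_pos hg]
    exact congrArg (fun x : Additive T => (x.toMul : G)) (h2 (c ⟨g, hg⟩) (by
      rintro _ ⟨d, hd, rfl⟩
      exact hc _ _ (hgD d hd)) b)
  · rw [eq_top_iff, ← h3]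
    refine Subring.closure_mono ?_
    rintro _ ⟨_, ⟨g, hg, rfl⟩, rfl⟩
    exact ⟨g, hg, dif_pos g.2⟩

end Cfsg.Agent.Char
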