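import Cfsg.Agent.Lib.Char.PDade
import Cfsg.Agent.Lib.Solv.Frattini
import Cfsg.Agent.Lib.Solv.Coprime

/-!
Peterfalvi's Section 6, first part: coherence criteria (6.2), (6.3), (6.5), (6.6).
-/

set_option autoImplicit false

namespace Cfsg.Agent.Char

open scoped ComplexConjugate
open QuotientGroup

variable {L : Type*} [Group L] {G : Type*} [Group G]

/-- The stabilisers in `L` of the non-trivial elements of `B / A` lie in `K`. -/
def FrobMod (K B A : Subgroup L) : Prop :=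
  ∀ k ∈ B, k ∉ A → ∀ x : L, x * k * x⁻¹ * k⁻¹ ∈ A → x ∈ K

theorem index_dvd_card_sub_one' [Finite G] {N K : Subgroup G} [hN : N.Normal]
    (hC : ∀ n ∈ N, n ≠ 1 → Subgroup.centralizer ({n} : Set G) ≤ K) :
    K.index ∣ Nat.card N - 1 := by
  classical
  have := Fintype.ofFinite G
  have := Fintype.ofFinite (ConjClasses G)
  have h1 : Nat.card N - 1 = ((Finset.univ.filter (· ∈ N)).erase 1).card := by
    rw [Finset.card_erase_of_mem (by simp), Nat.card_eq_fintype_card, Fintype.card_subtype]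
  rw [h1, Finset.card_eq_sum_card_fiberwise (t := Finset.univ) (f := ConjClasses.mk)
    (fun _ _ => Finset.mem_univ _)]
  refine Finset.dvd_sum fun C _ => ?_
  rcases (((Finset.univ.filter (· ∈ N)).erase 1).filter
    fun g => ConjClasses.mk g = C).eq_empty_or_nonempty with h | ⟨x, hx⟩
  · rw [h]; simp
  simp only [Finset.mem_filter, Finset.mem_erase, Finset.mem_univ, true_and] at hx
  obtain ⟨⟨h2, h3⟩, rfl⟩ := hx
  refine (Subgroup.index_dvd_of_le (hC x h3 h2)).trans (dvd_of_eq ?_)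
  rw [← card_isConj_eq_index, Nat.card_eq_fintype_card, Fintype.card_subtype]
  refine congrArg Finset.card ?_
  ext y
  simp only [Finset.mem_filter, Finset.mem_erase, Finset.mem_univ, true_and,
    ConjClasses.mk_eq_mk_iff_isConj]
  refine ⟨fun h => ⟨⟨?_, ?_⟩, h.symm⟩, fun h => h.2.symm⟩
  · rintro rfl; exact h2 (isConj_one_left.1 h)
  · obtain ⟨g, rfl⟩ := isConj_iff.1 h; exact hN.conj_mem x h3 g

theorem odd_index (hodd : Odd (Nat.card L)) (K : Subgroup L) : Odd K.index :=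
  hodd.of_dvd_nat K.index_dvd_card

theorem odd_card_sub (hodd : Odd (Nat.card L)) (K : Subgroup L) : Odd (Nat.card K) :=
  hodd.of_dvd_nat K.card_subgroup_dvd_card

theorem odd_relIndex (hodd : Odd (Nat.card L)) (A B : Subgroup L) : Odd (A.relIndex B) :=
  odd_index (odd_card_sub hodd B) _

theorem two_mul_add_one_le_of_dvd {e r : ℕ} (he : Odd e) (hr : Odd r) (h1 : 1 < r)
    (h : e ∣ r - 1) : 2 * e + 1 ≤ r := by
  have h2 : 2 * e ∣ r - 1 := (Nat.Coprime.mul_dvd_of_dvd_of_dvd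
    ((Nat.coprime_two_left).2 he) (even_iff_two_dvd.1 (Nat.Odd.sub_odd hr odd_one)) h)
  have := Nat.le_of_dvd (by omega) h2
  omega

theorem one_lt_relIndex_of_lt [Finite L] {A B : Subgroup L} (h : A < B) : 1 < A.relIndex B := by
  simpa using relIndex_lt_of_lt h le_rfl

theorem one_le_relIndex [Finite L] (A B : Subgroup L) : 1 ≤ A.relIndex B :=
  Nat.pos_of_ne_zero Subgroup.index_ne_zero_of_finite

namespace FrobMod

variable {K B A A' B' : Subgroup L} (h : FrobMod K B A)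
include h

theorem mono (hB : B' ≤ B) : FrobMod K B' A := fun k hk => h k (hB hk)

theorem index_dvd [Finite L] [A.Normal] [hB : B.Normal] (hAK : A ≤ K) :
    K.index ∣ A.relIndex B - 1 := by
  have := hB.map (mk' A) (mk'_surjective A)
  have h1 := index_dvd_card_sub_one' (N := B.map (mk' A)) (K := K.map (mk' A)) (by
    rintro _ ⟨k, hk, rfl⟩ h1 y hy
    obtain ⟨x, rfl⟩ := mk'_surjective A y
    refine ⟨x, h k hk (fun h2 => h1 ((eq_one_iff k).2 h2)) x ((eq_one_iff _).1 ?_), rfl⟩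
    have := Subgroup.mem_centralizer_singleton_iff.1 hy
    simp only [mk'_apply] at this
    simp [this])
  rwa [Solv.index_map_mk, sup_eq_left.2 hAK, Solv.card_map_mk_eq_relIndex] at h1

theorem two_mul_add_one_le [Finite L] [A.Normal] [B.Normal] (hodd : Odd (Nat.card L))
    (hAK : A ≤ K) (hAB : A < B) : 2 * K.index + 1 ≤ A.relIndex B :=
  two_mul_add_one_le_of_dvd (odd_index hodd K) (odd_relIndex hodd A B) (one_lt_relIndex_of_lt hAB)
    (h.index_dvd hAK)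

theorem of_le [Finite L] [hA : A.Normal] [hA' : A'.Normal] (h1 : A ≤ A') (h2 : A' ≤ B) :
    FrobMod K B A' := by
  intro k hk hk' x hx
  by_contra hxK
  have := hA'.map (mk' A) (mk'_surjective A)
  have h3 : x⁻¹ * (x * k * x⁻¹ * k⁻¹)⁻¹⁻¹ * x⁻¹⁻¹ ∈ A' := hA'.conj_mem _ (by simpa using hx) _
  obtain ⟨_, ⟨y, hy, rfl⟩, e⟩ := exists_conj_eq_mul_of_fpf (N := A'.map (mk' A))
    (h := mk' A x⁻¹) (by
      rintro _ ⟨a, ha, rfl⟩ e
      by_contra h4
      refine hxK (K.inv_mem_iff.1 (h a (h2 ha) (fun h5 => h4 ((eq_one_iff a).2 h5)) x⁻¹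
        ((eq_one_iff _).1 ?_)))
      simp only [mk'_apply, mk_inv] at e
      simp [e]) ⟨_, h3, rfl⟩
  have h5 : y⁻¹ * k ∈ A := by
    by_contra h5
    refine hxK (K.inv_mem_iff.1 (h _ (B.mul_mem (B.inv_mem (h2 hy)) hk) h5 x⁻¹
      ((eq_one_iff _).1 ?_)))
    simp only [mk'_apply, mk_inv, mk_mul, inv_inv] at e ⊢
    have e' : (y : L ⧸ A) * (x : L ⧸ A)⁻¹ * (y : L ⧸ A)⁻¹ = k * (x : L ⧸ A)⁻¹ * (k : L ⧸ A)⁻¹ := by
      rw [e]; group
    calc (x : L ⧸ A)⁻¹ * ((y : L ⧸ A)⁻¹ * k) * x * ((y : L ⧸ A)⁻¹ * k)⁻¹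
        = (x : L ⧸ A)⁻¹ * (y : L ⧸ A)⁻¹ * (k * (x : L ⧸ A)⁻¹ * (k : L ⧸ A)⁻¹)⁻¹ * y := by group
      _ = 1 := by rw [← e']; group
  exact hk' (by simpa using A'.mul_mem hy (h1 h5))

end FrobMod

theorem frobMod_bot_iff {K B : Subgroup L} :
    FrobMod K B ⊥ ↔ ∀ n ∈ B, n ≠ 1 → Subgroup.centralizer ({n} : Set L) ≤ K := by
  refine forall₂_congr fun k _ => ?_
  simp only [Subgroup.mem_bot, mul_inv_eq_iff_eq_mul, SetLike.le_def, one_mul,
    Subgroup.mem_centralizer_singleton_iff, Ne]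

theorem _root_.Cfsg.IsIrrCharacter.degree_sq_le_of_comm [Finite G] {ψ : G → ℂ}
    (hψ : IsIrrCharacter G ψ) {B C D : Subgroup G}
    (hcent : ∀ d ∈ D, ∀ c ∈ C, d * c * d⁻¹ * c⁻¹ ∈ B) (hker : ∀ b ∈ B, ψ b = ψ 1) {c : ℕ}
    (hc : ψ 1 = c) : c ^ 2 ≤ C.index ^ 2 * D.relIndex C := by
  have := Fintype.ofFinite C
  obtain ⟨θ, hθ, h1⟩ := hψ.exists_irr_under C
  obtain ⟨e, he⟩ := (hψ.isCharacter.res C).classInner_eq_nat hθ.isCharacter
  obtain ⟨d, -, hd⟩ := hθ.exists_degree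
  have h2 := hψ.degree_le_index_mul hθ.isCharacter he hc hd
  have h3 : e ≠ 0 := by rintro rfl; exact h1 (by simpa using he)
  have h4 : c ≤ C.index * d := le_trans (Nat.le_mul_of_pos_left _ (Nat.pos_of_ne_zero h3)) h2
  have h5 := hθ.degree_sq_le_index (Z := D.subgroupOf C) (fun x hx => hθ.mem_charCenter_iff.2
    fun g => (hψ.isCharacter.res C).charKer_le_of_constituent hθ h1
      ((hψ.isCharacter.res C).mem_charKer.2 (hker _ (hcent x hx g g.2)))) hd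
  exact (Nat.pow_le_pow_left h4 2).trans (by rw [mul_pow]; gcongr; exact h5)

theorem commutator_subgroupOf (K : Subgroup L) : ⁅K, K⁆.subgroupOf K = commutator K := by
  rw [← Subgroup.map_subtype_commutator, Subgroup.subgroupOf,
    Subgroup.comap_map_eq_self_of_injective (Subgroup.subtype_injective _)]

theorem relIndex_commutator_sup (K M : Subgroup L) [M.Normal] :
    (⁅K, K⁆ ⊔ M).relIndex K = (commutator (K.map (mk' M))).index := by
  rw [← Solv.comap_map_mk, Subgroup.relIndex_comap, Subgroup.map_commutator, Subgroup.relIndex,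
    commutator_subgroupOf]

theorem prime_dvd_relIndex_commutator [Finite L] {K M : Subgroup L} [M.Normal]
    (hnil : Group.IsNilpotent (K.map (mk' M))) {q : ℕ} (hq : q.Prime) (h : q ∣ M.relIndex K) :
    q ∣ (⁅K, K⁆ ⊔ M).relIndex K := by
  rw [← Solv.card_map_mk_eq_relIndex] at h
  rw [relIndex_commutator_sup]
  exact (Solv.dvd_index_frattini hq h).trans
    (Subgroup.index_dvd_of_le (Solv.commutator_le_frattini (G := K.map (mk' M))))

theorem commutator_le_of_relIndex_prime [Finite L] {K M : Subgroup L} [M.Normal]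
    (hnil : Group.IsNilpotent (K.map (mk' M))) (h : ((⁅K, K⁆ ⊔ M).relIndex K).Prime) :
    ⁅K, K⁆ ≤ M := by
  rw [relIndex_commutator_sup] at h
  rw [← Solv.map_mk_eq_bot_iff, Subgroup.map_commutator, ← Subgroup.map_subtype_commutator,
    Subgroup.map_eq_bot_iff_of_injective _ (Subgroup.subtype_injective _)]
  set N := K.map (mk' M)
  have h3 := Solv.isCoatom_of_index_prime h
  obtain ⟨x, hx⟩ := SetLike.exists_of_lt h3.lt_top
  have h4 : Subgroup.zpowers x = ⊤ := Solv.eq_top_of_sup_le_frattini Solv.commutator_le_frattini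
    (h3.2 _ (lt_of_le_of_ne le_sup_right fun e => hx.2 (e ▸ Subgroup.mem_sup_left
      (Subgroup.mem_zpowers x))))
  have : IsCyclic N := ⟨x, fun y => by change y ∈ Subgroup.zpowers x; rw [h4]; trivial⟩
  rw [commutator, Subgroup.commutator_eq_bot_iff_le_centralizer]
  exact fun a _ b _ => comm_of_isCyclic this b a

variable [Fintype L] [Fintype G] {K : Subgroup L} [hK : K.Normal]

omit hK in
theorem deg_sq_le_of_mem_indD {H B C D : Subgroup L} (hDC : D ≤ C) (hCK : C ≤ K)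
    (hcent : ∀ d ∈ D, ∀ c ∈ C, d * c * d⁻¹ * c⁻¹ ∈ B) {φ : L → ℂ} (hφ : φ ∈ indD K H B) :
    deg φ ^ 2 ≤ (C.index : ℝ) ^ 2 * D.relIndex C := by
  obtain ⟨θ, hθ, h1, -, rfl⟩ := hφ
  obtain ⟨c, -, hc⟩ := hθ.exists_degree
  have h2 := hθ.degree_sq_le_of_comm (B := B.subgroupOf K) (C := C.subgroupOf K)
    (D := D.subgroupOf K) (fun d hd c hc => hcent d hd c hc) (fun b hb => h1 b hb) hc
  rw [Subgroup.relIndex_subgroupOf hCK] at h2
  rw [deg_eq_nat (r := K.index * c) (by rw [indFun_one, hc]; simp),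
    ← Subgroup.relIndex_mul_index hCK]
  norm_cast
  calc (K.index * c) ^ 2 = K.index ^ 2 * c ^ 2 := by ring
    _ ≤ K.index ^ 2 * (C.relIndex K ^ 2 * D.relIndex C) := by gcongr; exact h2
    _ = _ := by ring

theorem indD_eq_irr {Z M : Subgroup L} [Z.Normal] [M.Normal] (hZ : Z ≤ K) (hM : M ≤ K)
    (hirr : ∀ χ ∈ indD K Z M, IsIrrCharacter L χ) :
    indD K Z M = {χ | IsIrrCharacter L χ ∧ M ≤ charKer χ ∧ ¬ Z ≤ charKer χ} := by
  ext χ
  refine ⟨fun h => ⟨hirr χ h, le_charKer_of_mem_indD hM h, not_le_charKer_of_mem_indD hZ h⟩,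
    fun ⟨h1, h2, h3⟩ => ?_⟩
  have := Fintype.ofFinite K
  obtain ⟨θ, hθ, h4⟩ := h1.exists_irr_under K
  have h5 : indFun K θ ∈ indD K Z M := ind_mem_indD hθ
    (KerOn.of_under (h1.isCharacter.res K) hθ h4 ((kerOn_res_iff h1.isCharacter hM).2 h2))
    fun h5 => h3 (((kerOn_iff_ind hθ hZ).1 h5).trans (hθ.isCharacter.ind.charKer_le_of_constituent
      h1 (by rwa [frobenius_left _ _ h1.isClassFunction, Ne, classInner_eq_zero_comm])))
  rwa [h1.eq_of_classInner_ne_zero (hirr _ h5) (by rwa [frobenius_right _ _ h1.isClassFunction])]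

omit hK in
theorem exists_deg_eq_pow {H M : Subgroup L} {p k : ℕ} (hp : p.Prime) (hk : Nat.card K = p ^ k)
    {φ : L → ℂ} (hφ : φ ∈ indD K H M) : ∃ m : ℕ, φ 1 = (K.index * p ^ m : ℕ) := by
  obtain ⟨θ, hθ, -, -, rfl⟩ := hφ
  obtain ⟨c, -, hc⟩ := hθ.exists_degree
  obtain ⟨m, -, rfl⟩ := (Nat.dvd_prime_pow hp).1 (hk ▸ hθ.degree_dvd_card hc)
  exact ⟨m, by rw [indFun_one, hc]; simp⟩

open Classical in
theorem two_mul_deg_lt {Z : Subgroup L} [Z.Normal] {p k : ℕ} (hp : p.Prime) (hp2 : p ≠ 2)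
    (hk : Nat.card K = p ^ k) (hcop : K.index.Coprime p) (hZK : Z ≤ K)
    (hZc : ∀ z ∈ Z, ∀ k ∈ K, z * k = k * z) (hirr : ∀ χ ∈ indD K Z ⊥, IsIrrCharacter L χ)
    {χ χ₁ : L → ℂ} (hχ : χ ∈ indD K Z ⊥) (h₁ : χ₁ ∈ indD K Z ⊥) (hlt : deg χ₁ < deg χ) :
    (∃ a : ℕ, χ 1 = a * χ₁ 1) ∧
      2 * deg χ * deg χ₁ < ∑ φ ∈ indF K Z ⊥ with deg φ < deg χ, deg φ ^ 2 := by
  choose! m hm using fun φ (hφ : φ ∈ indD K Z ⊥) => exists_deg_eq_pow hp hk hφ
  have he := Nat.pos_of_ne_zero (Subgroup.index_ne_zero_of_finite (H := K))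
  have h0 : ∀ φ ∈ indD K Z ⊥, deg φ < deg χ ↔ m φ < m χ := fun φ hφ => by
    rw [deg_eq_nat (hm φ hφ), deg_eq_nat (hm χ hχ), Nat.cast_lt, Nat.mul_lt_mul_left he,
      Nat.pow_lt_pow_iff_right hp.one_lt]
  have h1 := (h0 _ h₁).1 hlt
  obtain ⟨j, hj⟩ := Nat.exists_eq_add_of_lt h1
  refine ⟨⟨p ^ (j + 1), by rw [hm χ hχ, hm χ₁ h₁, hj]; push_cast; ring⟩, ?_⟩
  have h2 := sum_indF_deg_sq (K := K) (H := Z) (M := ⊥) hZK bot_le
  rw [Finset.sum_congr rfl (g := fun φ => (((K.index * p ^ m φ) ^ 2 : ℕ) : ℝ)) fun φ hφ => by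
    rw [(hirr φ (mem_indF.1 hφ)).rip_self, deg_eq_nat (hm φ (mem_indF.1 hφ))]; simp,
    ← Finset.sum_filter_add_sum_filter_not _ (fun φ => deg φ < deg χ), bot_sup_eq,
    Subgroup.relIndex_bot_left, mul_sub, eq_sub_iff_add_eq] at h2
  rw [Finset.sum_congr rfl (g := fun φ => (((K.index * p ^ m φ) ^ 2 : ℕ) : ℝ)) fun φ hφ => by
    rw [deg_eq_nat (hm φ (mem_indF.1 (Finset.mem_filter.1 hφ).1))]; simp]
  conv_lhs => rw [deg_eq_nat (hm χ hχ), deg_eq_nat (hm χ₁ h₁)]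
  norm_cast at h2 ⊢
  have h3 : (p ^ m χ) ^ 2 ∣ Z.relIndex K := by
    have h3 := deg_sq_le_of_mem_indD hZK le_rfl (fun d hd c hc => by
      rw [hZc d hd c hc]; simp) hχ
    obtain ⟨i, -, hi⟩ := (Nat.dvd_prime_pow hp).1 (hk ▸ Subgroup.relIndex_dvd_card Z K)
    rw [deg_eq_nat (hm χ hχ), hi] at h3
    norm_cast at h3
    rw [mul_pow, Nat.mul_le_mul_left_iff (by positivity), ← pow_mul,
      Nat.pow_le_pow_iff_right hp.one_lt] at h3
    rw [hi, ← pow_mul]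
    exact pow_dvd_pow p h3
  have h4 : (p ^ m χ) ^ 2 ∣ ∑ φ ∈ indF K Z ⊥ with deg φ < deg χ, (K.index * p ^ m φ) ^ 2 := by
    refine (Nat.dvd_add_left (Finset.dvd_sum (s := (indF K Z ⊥).filter fun φ => ¬ deg φ < deg χ)
      (f := fun φ => (K.index * p ^ m φ) ^ 2) fun φ hφ => ?_)).1
      ((Nat.dvd_add_left (h3.mul_left K.index)).1
        (h2 ▸ (h3.trans (Subgroup.relIndex_dvd_card Z K)).mul_left _))
    rw [Finset.mem_filter, h0 φ (mem_indF.1 hφ.1), not_lt] at hφ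
    exact pow_dvd_pow_of_dvd ((pow_dvd_pow p hφ.2).mul_left _) 2
  have h5 : K.index ^ 2 ∣ ∑ φ ∈ indF K Z ⊥ with deg φ < deg χ, (K.index * p ^ m φ) ^ 2 :=
    Finset.dvd_sum fun φ _ => pow_dvd_pow_of_dvd (dvd_mul_right _ _) 2
  have h6 := Nat.le_of_dvd (Finset.sum_pos' (fun _ _ => Nat.zero_le _) ⟨χ₁, Finset.mem_filter.2
    ⟨mem_indF.2 h₁, hlt⟩, by have := hp.pos; positivity⟩)
    (((hcop.pow_right _).pow 2 2).mul_dvd_of_dvd_of_dvd h5 h4)
  refine lt_of_lt_of_le ?_ h6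
  have h7 : 2 < p ^ (j + 1) := lt_of_lt_of_le (by have := hp.two_le; omega)
    (Nat.le_self_pow (by omega) p)
  have := hp.pos
  calc 2 * (K.index * p ^ m χ) * (K.index * p ^ m χ₁)
      = 2 * (K.index ^ 2 * p ^ m χ * p ^ m χ₁) := by ring
    _ < p ^ (j + 1) * (K.index ^ 2 * p ^ m χ * p ^ m χ₁) := by gcongr
    _ = _ := by rw [hj]; ring

namespace CohSys

variable {τ : (L → ℂ) →ₗ[ℂ] (G → ℂ)} {R : (L → ℂ) → Finset (G → ℂ)}
  (h : CohSys (indD K K ⊥) τ R)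
include h

/-- Peterfalvi 6.2. -/
theorem coh_indD_of_lt (hs : Group.IsSolvable K) {A B C D : Subgroup L} [A.Normal] (hAK : A < K)
    (hDC : D ≤ C) (hCK : C ≤ K) (hcent : ∀ d ∈ D, ∀ c ∈ C, d * c * d⁻¹ * c⁻¹ ∈ B)
    (hA : Coh (indD K K A) τ)
    (hlt : 4 * C.index ^ 2 * D.relIndex C < (A.relIndex K - 1) ^ 2) : Coh (indD K K B) τ := by
  obtain ⟨ν, hν⟩ := hA
  obtain ⟨χ₁, h1, h2⟩ := exists_mem_indD_index le_rfl hAK.le (not_le_commutator_sup hs hAK)
  refine (h.extend_set (conjSub_indD (indD_subset K K A)) hν (indD_subset K K B) h1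
    (T := indF K K A) (by simp) fun χ hχ _ => ⟨?_, ?_⟩).coh.mono Set.subset_union_right
  · obtain ⟨d, -, hd⟩ := exists_degree_of_mem_indD hχ
    exact ⟨d, by rw [hd, h2, mul_comm]⟩
  rw [sum_indF_deg_sq_self hAK.le, deg_eq_nat h2, mul_comm]
  have h3 := deg_sq_le_of_mem_indD hDC hCK hcent hχ
  have h4 := one_le_relIndex A K
  have h5 : (4 * (C.index : ℝ) ^ 2 * D.relIndex C) < ((A.relIndex K : ℝ) - 1) ^ 2 := by
    rw [← Nat.cast_one (R := ℝ), ← Nat.cast_sub h4]; exact_mod_cast hlt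
  have h6 : (0 : ℝ) < K.index := by exact_mod_cast Nat.pos_of_ne_zero Subgroup.index_ne_zero_of_finite
  have h7 : (1 : ℝ) ≤ A.relIndex K := by exact_mod_cast h4
  gcongr
  exact lt_of_pow_lt_pow_left₀ 2 (by linarith) (by nlinarith)

/-- Peterfalvi 6.3. -/
theorem coh_indD_of_nilpotent (hs : Group.IsSolvable K) {M H₁ H : Subgroup L} [M.Normal]
    [hH₁ : H₁.Normal] [H.Normal] (hMH₁ : M ≤ H₁) (hH₁H : H₁ ≤ H) (hHK : H ≤ K)
    (hnil : Group.IsNilpotent (H.map (mk' M))) (hcoh : Coh (indD K K H₁) τ)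
    (hbig : 4 * K.index ^ 2 + 1 < H₁.relIndex H) : Coh (indD K K M) τ := by
  obtain ⟨A, hA, ⟨hn, h1, h2⟩, h3⟩ := Solv.exists_minimal_le
    (P := fun A => A.Normal ∧ M ≤ A ∧ Coh (indD K K A) τ) ⟨hH₁, hMH₁, hcoh⟩
  have hAH := hA.trans hH₁H
  have h4 : 4 * K.index ^ 2 + 1 < A.relIndex H := hbig.trans_le
    (Subgroup.relIndex_le_of_le_left hA Subgroup.index_ne_zero_of_finite)
  have h5 : A < K := lt_of_le_of_ne (hAH.trans hHK) (by
    rintro rfl
    rw [Subgroup.relIndex_eq_one.2 hHK] at h4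
    omega)
  have h6 := h.coh_indD_of_lt hs (B := ⁅A, H⁆ ⊔ M) h5 hAH hHK
    (fun d hd c hc => Subgroup.mem_sup_left (Subgroup.commutator_mem_commutator hd hc)) h2 (by
      rw [← Subgroup.relIndex_mul_relIndex A H K hAH hHK, ← Subgroup.relIndex_mul_index hHK]
      obtain ⟨k, hk⟩ := Nat.exists_eq_add_of_le' (one_le_relIndex H K)
      obtain ⟨x, hx⟩ := Nat.exists_eq_add_of_lt h4
      rw [hk, hx]
      set e := K.index ^ 2 with he
      rw [mul_pow, ← he, show (4 * e + 1 + x + 1) * (k + 1) - 1 =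
        (4 * e + 1 + x) * (k + 1) + k by rw [add_mul _ 1, one_mul, ← add_assoc]; simp]
      nlinarith [Nat.zero_le (e * k * x), Nat.zero_le (k * x), Nat.zero_le (e * k),
        Nat.zero_le (e * x), Nat.zero_le (e * k * k), Nat.zero_le (k * k * x),
        Nat.zero_le (e * e * k), Nat.zero_le (e * k * k * x), Nat.zero_le (k * k * x * x),
        Nat.zero_le (k * x * x), Nat.zero_le (x * x), Nat.zero_le (k * k)])
  have h7 := h3 _ ⟨inferInstance, le_sup_right, h6⟩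
    (sup_le (Subgroup.commutator_le_left A H) h1)
  have h8 : A ≤ M := by
    rw [← Solv.map_mk_eq_bot_iff]
    refine Solv.eq_bot_of_le_commutator_of_nilpotent hnil (Subgroup.map_mono hAH) le_rfl ?_
    rw [← Subgroup.map_commutator, Solv.map_mk_le_map_mk_iff, h7]
  exact le_antisymm h8 h1 ▸ h2

theorem coh_indD_of_commutator_le {M : Subgroup L} (hM : ⁅K, K⁆ ≤ M) : Coh (indD K K M) τ :=
  h.coh_of_uniform' (conjSub_indD (indD_subset K K M)) fun φ hφ ψ hψ => by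
    rw [apply_one_of_mem_indD hφ hM, apply_one_of_mem_indD hψ hM]

/-- Peterfalvi 6.5. -/
theorem coh_or_chief (hs : Group.IsSolvable K) (hodd : Odd (Nat.card L)) {M : Subgroup L}
    [M.Normal] (hMK : M < K) (hnil : Group.IsNilpotent (K.map (mk' M)))
    (hfrob : FrobMod K K (⁅K, K⁆ ⊔ M)) : Coh (indD K K M) τ ∨
      ((∀ N : Subgroup L, N.Normal → ⁅K, K⁆ ⊔ M ≤ N → N ≤ K → N = ⁅K, K⁆ ⊔ M ∨ N = K) ∧
        (⁅K, K⁆ ⊔ M).relIndex K ≤ 4 * K.index ^ 2 + 1 ∧ ¬ ⁅K, K⁆ ≤ M ∧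
        ∃ p m : ℕ, p.Prime ∧ M.relIndex K = p ^ m ∧ ¬ K.index ∣ p - 1) := by
  by_cases hc : Coh (indD K K M) τ
  · exact Or.inl hc
  right
  have h0 : ⁅K, K⁆ ⊔ M ≤ K := sup_le (commutator_le_self' K) hMK.le
  have h0' : ⁅K, K⁆ ⊔ M < K := lt_of_le_not_ge h0 (not_le_commutator_sup hs hMK)
  have h1 : (⁅K, K⁆ ⊔ M).relIndex K ≤ 4 * K.index ^ 2 + 1 := not_lt.1 fun h1 =>
    hc (h.coh_indD_of_nilpotent hs le_sup_right h0 le_rfl hnil
      (h.coh_indD_of_commutator_le le_sup_left) h1)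
  have h2 : ∀ N : Subgroup L, N.Normal → ⁅K, K⁆ ⊔ M ≤ N → N ≤ K → N = ⁅K, K⁆ ⊔ M ∨ N = K := by
    intro N hN h2 h3
    by_contra! h4
    have h5 := (hfrob.mono h3).two_mul_add_one_le hodd h0 (lt_of_le_of_ne h2 h4.1.symm)
    have h6 := (hfrob.of_le h2 h3).two_mul_add_one_le hodd h3 (lt_of_le_of_ne h3 h4.2)
    rw [← Subgroup.relIndex_mul_relIndex _ N K h2 h3] at h1
    have := Nat.pos_of_ne_zero (Subgroup.index_ne_zero_of_finite (H := K))
    nlinarith [Nat.mul_le_mul h5 h6]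
  have h3 : ¬ ⁅K, K⁆ ≤ M := fun h3 => hc (h.coh_indD_of_commutator_le h3)
  have := hK.map (mk' (⁅K, K⁆ ⊔ M)) (mk'_surjective _)
  obtain ⟨-, p, hp, h4⟩ := Solv.minimal_normal_elementary (K.map (mk' (⁅K, K⁆ ⊔ M)))
    (Solv.isSolvable_map _ hs) (by rw [Ne, Solv.map_mk_eq_bot_iff]; exact h0'.not_ge) (by
      intro N hN h5
      rw [← Solv.map_comap_mk _ N]
      rcases h2 (N.comap (mk' _)) inferInstance (Solv.le_comap_mk _ _) (by
        have := Subgroup.comap_mono (f := mk' (⁅K, K⁆ ⊔ M)) h5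
        rwa [Solv.comap_map_mk, sup_eq_left.2 h0] at this) with h6 | h6
      · left; rw [h6, Solv.map_mk_eq_bot_iff]
      · right; rw [h6])
  have := Fact.mk hp
  obtain ⟨j, hj⟩ := IsPGroup.iff_card.1 (Solv.isPGroup_of_pow_eq_one h4)
  rw [Solv.card_map_mk_eq_relIndex] at hj
  refine ⟨h2, h1, h3, p, _, hp, Nat.eq_prime_pow_of_unique_prime_dvd
    Subgroup.index_ne_zero_of_finite fun hq h5 => (Nat.prime_dvd_prime_iff_eq hq hp).1
      (hq.dvd_of_dvd_pow (hj ▸ prime_dvd_relIndex_commutator hnil hq h5)), fun h5 => ?_⟩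
  have h6 := one_lt_relIndex_of_lt h0'
  have h7 := two_mul_add_one_le_of_dvd (odd_index hodd K) ((odd_relIndex hodd _ K).of_dvd_nat
    (hj ▸ dvd_pow_self p (by rintro rfl; simp [hj] at h6))) hp.one_lt h5
  rcases j with _ | _ | j
  · simp [hj] at h6
  · exact h3 (commutator_le_of_relIndex_prime hnil (by simpa [hj] using hp))
  · have := Nat.pos_of_ne_zero (Subgroup.index_ne_zero_of_finite (H := K))
    have h8 : p ^ 2 ≤ p ^ (j + 1 + 1) := Nat.pow_le_pow_right hp.pos (by omega)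
    nlinarith [Nat.pow_le_pow_left h7 2]

/-- Peterfalvi 6.6. -/
theorem coh_indD_center (hodd : Odd (Nat.card L)) (hnil : Group.IsNilpotent K)
    (hfrob : FrobMod K K ⁅K, K⁆) {Z : Subgroup L} [Z.Normal] (hZK : Z ≤ K)
    (hZc : ∀ z ∈ Z, ∀ k ∈ K, z * k = k * z) (hirr : ∀ χ ∈ indD K Z ⊥, IsIrrCharacter L χ) :
    Coh (indD K Z ⊥) τ := by
  classical
  rcases (indD K Z ⊥).eq_empty_or_nonempty with h0 | h0
  · rw [h0]; exact coh_empty τ
  have hK1 : ⊥ < K := bot_lt_iff_ne_bot.2 (by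
    rintro rfl
    exact h0.ne_empty (indD_eq_empty hZK))
  have hs : Group.IsSolvable K := inferInstance
  rcases h.coh_or_chief hs hodd hK1 (Solv.isNilpotent_map _ hnil) (by rwa [sup_bot_eq]) with
    h1 | ⟨-, -, h1, p, k, hp, hk, -⟩
  · exact h1.mono (indD_subset K Z ⊥)
  rw [Subgroup.relIndex_bot_left] at hk
  have h2 : p ∣ Nat.card K := hk ▸ dvd_pow_self p (by
    rintro rfl
    exact hK1.ne' (Subgroup.card_eq_one.1 hk))
  have hp2 : p ≠ 2 := by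
    rintro rfl
    exact (Nat.not_even_iff_odd.2 (odd_card_sub hodd K)) (even_iff_two_dvd.2 h2)
  have hcop : K.index.Coprime p := by
    have h3 := prime_dvd_relIndex_commutator (M := ⊥) (Solv.isNilpotent_map _ hnil) hp
      (by rwa [Subgroup.relIndex_bot_left])
    rw [sup_bot_eq] at h3
    refine ((Nat.Coprime.coprime_dvd_left (hfrob.index_dvd (commutator_le_self' K)) ?_).coprime_dvd_right h3)
    rw [Nat.coprime_self_sub_left (one_le_relIndex _ _)]; simp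
  choose! d hd using fun φ (hφ : φ ∈ indD K Z ⊥) => (isCharacter_of_mem_indD hφ).exists_degree
  obtain ⟨χ₁, h₁, h3⟩ := Set.exists_min_image _ d (finite_indD K Z ⊥) h0
  have h4 : ∀ n : ℕ, ConjSub {φ ∈ indD K Z ⊥ | deg φ ≤ n} (indD K K ⊥) := fun n =>
    ⟨fun φ hφ => indD_subset K Z ⊥ hφ.1, fun φ hφ => ⟨conj_mem_indD hφ.1, by
      have := hφ.2
      rwa [deg, (isCharacter_of_mem_indD hφ.1).conjFun_one]⟩⟩
  obtain ⟨ν, hν⟩ := h.coh_of_uniform' (h4 (d χ₁)) (by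
    suffices ∀ φ ∈ {φ ∈ indD K Z ⊥ | deg φ ≤ d χ₁}, φ 1 = d χ₁ from
      fun φ hφ ψ hψ => by rw [this φ hφ, this ψ hψ]
    intro φ hφ
    have := hφ.2
    rw [deg_eq_nat (hd φ hφ.1), Nat.cast_le] at this
    rw [hd φ hφ.1, le_antisymm this (h3 φ hφ.1)])
  have h5 : ∀ n, d χ₁ ≤ n → CohWith {φ ∈ indD K Z ⊥ | deg φ ≤ n} τ ν := by
    intro n hn
    induction n, hn using Nat.le_induction with
    | base => exact hν
    | succ n hn ih =>
      have h6 : deg χ₁ ≤ n := by rw [deg_eq_nat (hd _ h₁)]; exact_mod_cast hn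
      refine (h.extend_set (h4 n) ih (h4 (n + 1)).sub ⟨h₁, h6⟩
        (T := (indF K Z ⊥).filter fun φ => deg φ ≤ n) (fun φ hφ => by simpa using hφ)
        fun χ hχ hχ' => ?_).mono Set.subset_union_right
      have h7 : (n : ℝ) < deg χ := not_le.1 fun h7 => hχ' ⟨hχ.1, h7⟩
      obtain ⟨h8, h9⟩ := two_mul_deg_lt hp hp2 hk hcop hZK hZc hirr hχ.1 h₁ (h6.trans_lt h7)
      refine ⟨h8, h9.trans_eq (Finset.sum_congr (Finset.filter_congr fun φ hφ => ?_)
        fun φ hφ => by rw [(hirr φ (mem_indF.1 (Finset.mem_filter.1 hφ).1)).rip_self, div_one])⟩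
      have h10 := hχ.2
      rw [deg_eq_nat (hd χ hχ.1)] at h7 h10 ⊢
      rw [deg_eq_nat (hd φ (mem_indF.1 hφ))]
      norm_cast at h7 h10 ⊢
      omega
  obtain ⟨n, hn⟩ := ((finite_indD K Z ⊥).image d).bddAbove
  refine (h5 n (hn ⟨_, h₁, rfl⟩)).coh.mono fun φ hφ => ⟨hφ, ?_⟩
  rw [deg_eq_nat (hd φ hφ)]
  exact_mod_cast hn ⟨_, hφ, rfl⟩

end CohSys

end Cfsg.Agent.Char
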