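import Cfsg.Agent.Lib.Char.Sec9B
import Cfsg.Agent.Lib.Char.Sec6

/-!
Peterfalvi (9.11): coherence of `S(H₀ C')`.
-/

set_option autoImplicit false

namespace Cfsg.Agent.Char

open Subgroup
open scoped commutatorElement

universe u

variable {L : Type u} [Group L] {G : Type*} [Group G] {A : Type*} [Group A] {B : Type*} [Group B]

theorem exists_comm_of_cmod [Finite L] {H H₀ H₁ : Subgroup L} [hN : H₀.Normal] (h0 : H₀ < H₁)
    (h1 : H₁ ≤ H) {x : L} (hx : x ∈ cmod H₁ H₀) : ∃ y ∈ H, y ≠ 1 ∧ x * y = y * x := by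
  by_contra hc
  have key : ∀ y ∈ H, ∀ z ∈ H, x * y * x⁻¹ * y⁻¹ = x * z * x⁻¹ * z⁻¹ → y = z := fun y hy z hz e => by
    by_contra hne
    refine hc ⟨z⁻¹ * y, H.mul_mem (H.inv_mem hz) hy, fun a => hne (inv_mul_eq_one.1 a).symm, ?_⟩
    calc x * (z⁻¹ * y) = x * z⁻¹ * x⁻¹ * (x * y * x⁻¹ * y⁻¹) * y * x := by group
      _ = z⁻¹ * y * x := by rw [e]; group
  let F : H₀ → H₀ := fun y => ⟨x * y * x⁻¹ * (y : L)⁻¹,
    H₀.mul_mem (hN.conj_mem _ y.2 x) (H₀.inv_mem y.2)⟩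
  have hF : Function.Injective F := fun y z e => Subtype.ext
    (key _ (h1 (h0.le y.2)) _ (h1 (h0.le z.2)) (congrArg Subtype.val e))
  obtain ⟨y, hy, hy0⟩ := SetLike.exists_of_lt h0
  obtain ⟨z, hz⟩ := Finite.surjective_of_injective hF ⟨_, hx y hy⟩
  exact hy0 (key _ (h1 (h0.le z.2)) _ (h1 hy) (congrArg Subtype.val hz) ▸ z.2)

theorem rip_ind_one_le [Fintype L] {N K D : Subgroup L}
    (h : ∀ y, y ∉ K → ∀ x ∈ N, y * x * y⁻¹ ∈ N → x ∈ D) :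
    (Nat.card N : ℝ) ^ 2 * rip (indFun N fun _ => 1) (indFun N fun _ => 1) ≤
      Nat.card K * Nat.card N + (Nat.card L - Nat.card K : ℝ) * Nat.card D := by
  classical
  have := Fintype.ofFinite N
  have h0 : (Nat.card N : ℂ) ≠ 0 := card_ne_zero' N
  have e : (Nat.card N : ℂ) ^ 2 * classInner (indFun N fun _ => 1) (indFun N fun _ => 1) =
      ∑ y : L, (Nat.card {x : N // y * x * y⁻¹ ∈ N} : ℂ) := by
    rw [frobenius_right _ _ (isClassFunction_indFun _ _), classInner_one_right]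
    simp only [indFun_apply', ← Finset.mul_sum]
    rw [Finset.sum_comm]
    field_simp
    refine Finset.sum_congr rfl fun y _ => ?_
    simp only [extendByZero_eq, dite_eq_ite, Finset.sum_boole, Nat.card_eq_fintype_card,
      Fintype.card_subtype]
  have e' : (Nat.card N : ℝ) ^ 2 * rip (indFun N fun _ => 1) (indFun N fun _ => 1) =
      ∑ y : L, (Nat.card {x : N // y * x * y⁻¹ ∈ N} : ℝ) := by
    rw [classInner_self_eq_rip] at e
    exact_mod_cast e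
  rw [e', ← Finset.sum_filter_add_sum_filter_not _ (· ∈ K)]
  have c1 : ((Finset.univ.filter (· ∈ K)).card : ℝ) = Nat.card K := by
    rw [Nat.card_eq_fintype_card, Fintype.card_subtype]
  have c2 : ((Finset.univ.filter (¬ · ∈ K)).card : ℝ) = Nat.card L - Nat.card K := by
    rw [← c1, Nat.card_eq_fintype_card, ← Finset.card_univ,
      ← Finset.card_filter_add_card_filter_not (s := Finset.univ) (· ∈ K)]
    push_cast; ring
  rw [← c2, ← c1]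
  refine add_le_add ?_ ?_
  · refine (Finset.sum_le_card_nsmul _ _ (Nat.card N : ℝ) fun y _ => ?_).trans (by simp)
    exact_mod_cast Nat.card_le_card_of_injective _ Subtype.val_injective
  · refine (Finset.sum_le_card_nsmul _ _ (Nat.card D : ℝ) fun y hy => ?_).trans (by simp)
    exact_mod_cast Nat.card_le_card_of_injective
      (fun x : {x : N // y * x * y⁻¹ ∈ N} => (⟨x.1, h y (Finset.mem_filter.1 hy).2 _ x.1.2 x.2⟩ : D))
      fun a b e => Subtype.ext (Subtype.ext (by simpa using e))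

theorem classInner_ind_one_eq_zero [Fintype L] {K H M N : Subgroup L} [H.Normal] (hH : H ≤ N)
    {φ : L → ℂ} (hφ : φ ∈ indD K H M) : classInner φ (indFun N fun _ => 1) = 0 := by
  obtain ⟨θ, hθ, -, hk, rfl⟩ := hφ
  have := Fintype.ofFinite K
  have hγ : IsCharacter L (indFun N fun _ => 1) := isCharacter_one.ind
  rw [frobenius_left _ _ hγ.isClassFunction, classInner_eq_zero_comm]
  by_contra hne
  refine hk (KerOn.of_under (hγ.res K) hθ hne fun x hx => ?_)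
  exact hγ.mem_charKer.1 (le_charKer_indFun hH isCharacter_one (fun _ _ => rfl) hx)

theorem arith9 {a q : ℕ} (ha : 1 ≤ a) (hq : 3 ≤ q) :
    1 + 2 * a * q + q ^ 2 * a ^ 2 + (q + 2) * a ^ 3 < (2 * a + 1) ^ q := by
  induction q, hq using Nat.le_induction with
  | base => nlinarith [Nat.pow_pos (n := 2) ha, Nat.pow_pos (n := 3) ha]
  | succ q hq ih =>
    rw [pow_succ (2 * a + 1)]
    have h1 : (2 * q + 1) * a ^ 2 ≤ 4 * q * a ^ 2 := Nat.mul_le_mul_right _ (by omega)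
    have h2 : 1 * a ^ 3 ≤ 2 * q ^ 2 * a ^ 3 := Nat.mul_le_mul_right _ (by nlinarith)
    nlinarith [Nat.zero_le ((q + 2) * a ^ 4)]

variable [Fintype L] [Fintype G]

theorem CohSys.final9 {S : Set (L → ℂ)} {τ ν ν₃ : (L → ℂ) →ₗ[ℂ] (G → ℂ)}
    {R : (L → ℂ) → Finset (G → ℂ)} (h : CohSys S τ R) {T : Finset (L → ℂ)} (hT : ConjSub T S)
    (hν : CohWith T τ ν) (hirr : ∀ ψ ∈ T, IsIrrCharacter L ψ) {ψ₁ : L → ℂ} (h₁ : ψ₁ ∈ T)
    (hdeg : ∀ ψ ∈ T, ψ 1 = ψ₁ 1) {n : ℕ} (hn : T.card = 2 * n) (hn1 : n ≠ 1) {χ : L → ℂ}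
    (hχ : χ ∈ S) (hχT : χ ∉ T) (hi : IsIrrCharacter L χ) (hd : χ 1 = n * ψ₁ 1)
    (h₃ : CohWith {χ, conjFun χ} τ ν₃) {Z : G → ℂ} (hZ : IsGeneralizedCharacter G Z)
    (hZ1 : rip Z (ν₃ χ) = 0) (hZ2 : rip Z (ν₃ (conjFun χ)) = 0)
    (hZ3 : ∀ ψ ∈ T, ψ ≠ ψ₁ → rip Z (τ (ψ - ψ₁)) = 1) (hZ4 : rip Z (τ (χ - (n : ℂ) • ψ₁)) = n) :
    CohWith (T ∪ {χ, conjFun χ}) τ ν := by
  classical
  have s₁ := hT.sub h₁
  have hg := h.gen_ext hν.ext hχ s₁ hd (hν.gen _ h₁)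
  refine h.extend hT hν hχ hχT h₁ hg (hg.classInner_eq_zero (hν.gen _ h₁) ?_)
  have m1 : χ ∈ ({χ, conjFun χ} : Set (L → ℂ)) := by simp
  have m2 : conjFun χ ∈ ({χ, conjFun χ} : Set (L → ℂ)) := by simp
  have hχ' := h.conj_mem χ hχ
  have hχT' := hT.conj_not_mem hχT
  obtain ⟨b, hb⟩ := hg.rip_eq_int (hν.gen _ h₁)
  obtain ⟨x, hx⟩ := hg.rip_eq_int (h₃.gen _ m1)
  obtain ⟨y, hy⟩ := hg.rip_eq_int (h₃.gen _ m2)
  obtain ⟨z, hz⟩ := hZ.rip_eq_int (hν.gen _ h₁)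
  have ho : ∀ φ ∈ T, classInner χ φ = 0 := fun φ hφ =>
    h.orth χ hχ φ (hT.sub hφ) (by rintro rfl; exact hχT hφ)
  have h2 : ∀ φ ∈ T, rip (ν χ) (ν φ) = b := fun φ hφ => by
    have := h.inner_prop hT.sub hν (Submodule.subset_span hχ) hφ h₁ (h.one_ne_zero s₁)
      (ho φ hφ) (ho _ h₁)
    rw [hdeg φ hφ, mul_right_inj' (h.one_ne_zero s₁)] at this
    rw [rip, this, ← rip, hb]
  have hm := sub_smul_mem_span (R := ℂ) hχ s₁ n
  have h0 : (χ - (n : ℂ) • ψ₁) 1 = 0 := by simp [hd]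
  have h3 := h.rip_ext hν.ext hm hm h0 h0
  simp only [map_sub, map_smul, rip_sub_left, rip_sub_right, rip_natCast_smul_left,
    rip_natCast_smul_right, rip_comm (ν ψ₁) (ν χ), rip_comm ψ₁ χ, rip_eq_zero (ho _ h₁),
    hν.rip_eq h₁ h₁, hb, hi.rip_self] at h3
  have o1 : ∀ φ ∈ T, rip (ν φ) (ν₃ χ) = 0 := fun φ hφ =>
    rip_eq_zero (h.orth_coh hT hν (h.conjSub_pair hχ) h₃ hφ m1 hχT)
  have o2 : ∀ φ ∈ T, rip (ν φ) (ν₃ (conjFun χ)) = 0 := fun φ hφ =>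
    rip_eq_zero (h.orth_coh hT hν (h.conjSub_pair hχ) h₃ hφ m2 hχT')
  have h4 := h.rip_eq hm (sub_mem_span hχ hχ') h0 (by simp [h.conj_one hχ])
  rw [hν.ext.sub_smul hd, h₃.ext.sub (h.conj_one hχ).symm] at h4
  simp only [rip_sub_left, rip_sub_right, rip_natCast_smul_left, hx, hy, o1 _ h₁, o2 _ h₁,
    hi.rip_self, h.rip_conj hχ, rip_comm ψ₁ χ, rip_eq_zero (ho _ h₁),
    h.rip_orth s₁ hχ' (by rintro rfl; exact hχT' h₁)] at h4
  set P := ∑ φ ∈ T, ν φ with hP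
  have p1 : rip P P = 2 * n := by
    rw [hP, ← map_sum, hν.rip_span (Submodule.sum_mem _ fun φ hφ => Submodule.subset_span hφ)
      (Submodule.sum_mem _ fun φ hφ => Submodule.subset_span hφ)]
    have := rip_sum_orthonormal T (fun φ => φ) fun φ hφ ψ hψ => by
      convert (hirr φ hφ).classInner_eq_ite (hirr ψ hψ)
    simpa [hn] using this
  have p2 : rip (ν χ) P = 2 * n * b := by
    rw [hP, rip_sum_right, Finset.sum_congr rfl h2]; simp [hn]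
  have p3 : rip (ν₃ χ) P = 0 := by
    rw [hP, rip_sum_right]; exact Finset.sum_eq_zero fun φ hφ => by rw [rip_comm, o1 φ hφ]
  have p4 : rip (ν₃ (conjFun χ)) P = 0 := by
    rw [hP, rip_sum_right]; exact Finset.sum_eq_zero fun φ hφ => by rw [rip_comm, o2 φ hφ]
  have p5 : rip Z P = 2 * n * (z + 1) - 1 := by
    have k : ∀ φ ∈ T.erase ψ₁, rip Z (ν φ) = z + 1 := fun φ hφ => by
      have := hZ3 φ (Finset.mem_of_mem_erase hφ) (Finset.ne_of_mem_erase hφ)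
      rw [hν.ext.sub (hdeg φ (Finset.mem_of_mem_erase hφ)), rip_sub_right, hz] at this
      linarith
    rw [hP, rip_sum_right, ← Finset.add_sum_erase _ _ h₁, Finset.sum_congr rfl k]
    have := Finset.card_erase_add_one h₁
    rw [hn] at this
    have : ((T.erase ψ₁).card : ℝ) = 2 * n - 1 := by
      rw [eq_sub_iff_add_eq]; exact_mod_cast this
    rw [hz, Finset.sum_const, nsmul_eq_mul, this]; ring
  have q1 : rip (ν₃ χ) (ν₃ χ) = 1 := by rw [h₃.rip_eq m1 m1, hi.rip_self]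
  have q2 : rip (ν₃ (conjFun χ)) (ν₃ (conjFun χ)) = 1 := by
    rw [h₃.rip_eq m2 m2, hi.conjFun.rip_self]
  have q3 : rip (ν₃ χ) (ν₃ (conjFun χ)) = 0 := by rw [h₃.rip_eq m1 m2, h.rip_conj hχ]
  set W := (x : ℂ) • ν₃ χ + (y : ℂ) • ν₃ (conjFun χ) with hW
  have w1 : rip W W = x ^ 2 + y ^ 2 := by
    simp only [hW, rip_add_left, rip_add_right, rip_intCast_smul_left, rip_intCast_smul_right,
      q1, q2, q3, rip_comm (ν₃ (conjFun χ)) (ν₃ χ)]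
    ring
  have w2 : rip (ν χ) W = rip W W := by
    rw [w1]
    simp only [hW, rip_add_right, rip_intCast_smul_right, hx, hy]
    ring
  have w3 : rip W ((b : ℂ) • P) = 0 := by
    simp [hW, p3, p4]
  have w4 : rip (ν χ) ((b : ℂ) • P) = rip ((b : ℂ) • P) ((b : ℂ) • P) := by
    simp only [rip_intCast_smul_left, rip_intCast_smul_right, p1, p2]; ring
  have hxy : (1 : ℝ) ≤ x ^ 2 + y ^ 2 := by nlinarith [int_le_sq x, int_le_sq (-y)]
  have h5 := rip_add_le_of_orth w2 w4 w3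
  have hn0 : (0 : ℝ) < n := by
    have := Finset.card_pos.2 ⟨_, h₁⟩
    exact_mod_cast (by omega : 0 < n)
  simp only [rip_intCast_smul_left, rip_intCast_smul_right, p1, w1] at h5
  have h6 : (b : ℝ) * b ≤ b := by nlinarith
  have h7 : b = 0 ∨ b = 1 := by
    have : b * b ≤ b := by exact_mod_cast h6
    have : 0 ≤ b := by nlinarith
    have : b ≤ 1 := by nlinarith
    omega
  rcases h7 with rfl | rfl
  · simpa using hb
  exfalso
  have h8 := eq_add_of_orth w2 w4 w3 (by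
    simp only [rip_intCast_smul_left, rip_intCast_smul_right, p1, w1]
    push_cast at h3 ⊢; linarith)
  rw [hν.ext.sub_smul hd, h8] at hZ4
  simp only [hW, rip_sub_right, rip_add_right, rip_intCast_smul_right, rip_natCast_smul_right,
    hZ1, hZ2, p5, hz] at hZ4
  have h9 : (n : ℤ) * (z + 1) = 1 := by
    have : (n : ℝ) * (z + 1) = 1 := by push_cast at hZ4; linarith
    exact_mod_cast this
  exact hn1 (by exact_mod_cast Int.eq_one_of_mul_eq_one_right (Int.natCast_nonneg n) h9)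

theorem eq_of_relIndex_eq {X Y K : Subgroup L} (h : X ≤ Y) (hY : Y ≤ K)
    (e : X.relIndex K = Y.relIndex K) : X = Y :=
  h.eq_or_lt.resolve_right fun a => (relIndex_lt_of_lt a hY).ne' e

namespace Sec9

variable {K H U H₀ H₁ : Subgroup L} [hH₀ : H₀.Normal] {f : A × B →* L} {p q a : ℕ}
  (h : Sec9 K H U H₀ f p q)
include h

theorem der_le_cmod : ⁅K, K⁆ ≤ cmod H H₀ := by
  have := h.normalH
  have := normal_cmod (X := H) (N := H₀)
  refine Subgroup.commutator_le.2 fun x hx y hy => ?_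
  obtain ⟨a, ha, u, hu, rfl⟩ := h.decK hx
  obtain ⟨b, hb, v, hv, rfl⟩ := h.decK hy
  have e := (QuotientGroup.eq_one_iff _).2 (h.derU (commutator_mem_commutator hu hv))
  have ha' := (QuotientGroup.eq_one_iff _).2 (h.H_le_cmod ha)
  have hb' := (QuotientGroup.eq_one_iff _).2 (h.H_le_cmod hb)
  rw [← QuotientGroup.eq_one_iff]
  simpa [commutatorElement_def, ha', hb'] using e

theorem index_K : K.index = q := h.pti.index.trans h.cardA

theorem three_le_q : 3 ≤ q := by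
  have := h.primeq.two_le
  obtain ⟨k, hk⟩ := h.odd_q
  omega

theorem sup_inf_eq {X : Subgroup L} (hX : X ≤ U) : (H₀ ⊔ X) ⊓ H = H₀ := by
  refine le_antisymm (fun x ⟨h1, h2⟩ => ?_) (le_inf le_sup_left h.lt.le)
  obtain ⟨y, hy, z, hz, rfl⟩ := mem_sup_of_normal_left.1 h1
  rwa [h.eq_one_of_mem ((H.mul_mem_cancel_left (h.lt.le hy)).1 h2) (hX hz), mul_one]

theorem relIndex_H₀_sup {X : Subgroup L} (hX : X ≤ U) [(H₀ ⊔ X).Normal] :
    (H₀ ⊔ X).relIndex (H ⊔ X) = p ^ q := by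
  have : H ⊔ X = H ⊔ (H₀ ⊔ X) := by rw [← sup_assoc, sup_eq_left.2 h.lt.le]
  rw [this, relIndex_sup_right, ← inf_relIndex_right, h.sup_inf_eq hX, h.relIndex_eq]

theorem relIndex_H₀_sup_K {X : Subgroup L} (hX : X ≤ U) [(H₀ ⊔ X).Normal] :
    (H₀ ⊔ X).relIndex K = p ^ q * X.relIndex U := by
  rw [← relIndex_mul_relIndex _ _ _ (sup_le_sup_right h.lt.le X) (sup_le h.HK (hX.trans h.UK)),
    h.relIndex_H₀_sup hX, h.relIndex_sup hX]

theorem cjS_U (w : A) : cjS (f (w, 1)) U = U := by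
  refine le_antisymm ?_ fun x hx => ⟨_, h.conj_mem' hx w, by simp [mul_assoc]⟩
  rintro _ ⟨x, hx, rfl⟩
  exact h.conj_mem hx w

theorem u_eq_a (hA : CaseA H U H₀ H₁ f p q a) {w : A} (hw : w ≠ 1)
    (e : ((U ⊓ cmod H₁ H₀) ⊓ cjS (f (w, 1)) (U ⊓ cmod H₁ H₀)).relIndex U = a) :
    (U ⊓ cmod H H₀).relIndex U = a := by
  set U₁ := U ⊓ cmod H₁ H₀ with hU₁
  have e1 := inf_eq_left.1 (eq_of_relIndex_eq inf_le_left inf_le_left (e.trans hA.a_eq.symm))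
  have e2 : (f (w, 1))⁻¹ ∈ normalizer (U₁ : Set L) := mem_normalizer_fintype fun x hx => by
    obtain ⟨y, hy, rfl⟩ := e1 hx
    simpa [mul_assoc] using hy
  have : Fact (Nat.card A).Prime := ⟨h.cardA ▸ h.primeq⟩
  have e3 := ((normalizer (U₁ : Set L)).comap
    (f.comp (MonoidHom.inl A B))).eq_bot_or_eq_top_of_prime_card.resolve_left fun b =>
      hw (mem_bot.1 (b ▸ (inv_mem_iff.1 e2 : f (w, 1) ∈ normalizer (U₁ : Set L)) :
        w ∈ (⊥ : Subgroup A)))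
  have e4 : U₁ ≤ U ⊓ cmod H H₀ := by
    rw [← h.caseA_iInf hA]
    refine le_iInf fun v x hx => ⟨(f (v, 1))⁻¹ * x * f (v, 1), ?_, by simp [mul_assoc]⟩
    have : v ∈ (normalizer (U₁ : Set L)).comap (f.comp (MonoidHom.inl A B)) := e3 ▸ mem_top v
    exact (mem_normalizer_iff''.1 this x).1 hx
  rw [← hA.a_eq, ← hU₁, le_antisymm e4 (inf_le_inf_left U fun x hx y hy => hx y (hA.le hy))]

theorem mem_HC (hA : CaseA H U H₀ H₁ f p q a) (hC : ∀ w, w ≠ 1 →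
      (U ⊓ cmod H₁ H₀) ⊓ cjS (f (w, 1)) (U ⊓ cmod H₁ H₀) = U ⊓ cmod H H₀) (y : L) (hy : y ∉ K)
    (x : L) (hx : x ∈ K ⊓ cmod H₁ H₀) (hxy : y * x * y⁻¹ ∈ K ⊓ cmod H₁ H₀) :
    x ∈ K ⊓ cmod H H₀ := by
  have hH := h.normalH
  have hN := normal_cmod (X := H) (N := H₀)
  have hle : cmod H H₀ ≤ cmod H₁ H₀ := fun x hx y hy => hx y (hA.le hy)
  obtain ⟨k, hk, w, rfl⟩ := h.pti.surj y
  have hw : w ≠ 1 := by
    rintro rfl
    exact hy (K.mul_mem hk ((h.pti.memK _ _).2 rfl))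
  obtain ⟨z, hz, v, hv, rfl⟩ := h.decK hx.1
  have h1 : v ∈ cmod H₁ H₀ := (mul_mem_cancel_left (hle (h.H_le_cmod hz))).1 hx.2
  have h2 := h.conj_mem hv w
  have h3 : f (w, 1) * v * (f (w, 1))⁻¹ ∈ cmod H₁ H₀ := by
    refine (mul_mem_cancel_left (mul_mem (hle (h.H_le_cmod (hH.conj_mem _ hz (k * f (w, 1)))))
      (hle (h.der_le_cmod (commutator_mem_commutator hk (h.UK h2)))))).1 ?_
    convert (mem_inf.1 hxy).2 using 1
    simp only [commutatorElement_def]; group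
  have h4 : f (w, 1) * v * (f (w, 1))⁻¹ ∈ U ⊓ cmod H H₀ := hC w hw ▸ ⟨⟨h2, h3⟩, v, ⟨hv, h1⟩, rfl⟩
  refine ⟨hx.1, mul_mem (h.H_le_cmod hz) ?_⟩
  simpa [mul_assoc] using hN.conj_mem _ h4.2 (f (w, 1))⁻¹

variable {μ : (A →* ℂˣ) → (B →* ℂˣ) → L → ℂ} {δ : (B →* ℂˣ) → ℤ} {g : A × B →* G}
  {η : (A →* ℂˣ) → (B →* ℂˣ) → G → ℂ} {S₀ : Set L} {τ ν : (L → ℂ) →ₗ[ℂ] (G → ℂ)}
  {R : (L → ℂ) → Finset (G → ℂ)}

theorem norm_gamma (hA : CaseA H U H₀ H₁ f p q a) (hC : ∀ w, w ≠ 1 →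
      (U ⊓ cmod H₁ H₀) ⊓ cjS (f (w, 1)) (U ⊓ cmod H₁ H₀) = U ⊓ cmod H H₀) {u : ℕ}
    (hu : (U ⊓ cmod H H₀).relIndex U = u) :
    u * rip (indFun (K ⊓ cmod H₁ H₀) fun _ => 1) (indFun (K ⊓ cmod H₁ H₀) fun _ => 1) ≤
      a * u + (q - 1) * a ^ 2 := by
  have hle : cmod H H₀ ≤ cmod H₁ H₀ := fun x hx y hy => hx y (hA.le hy)
  have h1 := rip_ind_one_le (h.mem_HC hA hC)
  have h2 := Solv.card_mul_relIndex (inf_le_left : K ⊓ cmod H₁ H₀ ≤ K)
  have h3 := Solv.card_mul_relIndex (inf_le_left : K ⊓ cmod H H₀ ≤ K)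
  rw [h.inf_eq_sup (h.H_le_cmod.trans hle), h.relIndex_sup inf_le_left, hA.a_eq,
    ← h.inf_eq_sup (h.H_le_cmod.trans hle)] at h2
  rw [h.inf_eq_sup h.H_le_cmod, h.relIndex_sup inf_le_left, hu,
    ← h.inf_eq_sup h.H_le_cmod] at h3
  have h4 := K.card_mul_index
  rw [h.index_K] at h4
  rw [← h4] at h1
  have h5 : (0 : ℝ) < Nat.card (K ⊓ cmod H₁ H₀ : Subgroup L) := by exact_mod_cast Nat.card_pos
  have h2' := congrArg (Nat.cast : ℕ → ℝ) h2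
  have h3' := congrArg (Nat.cast : ℕ → ℝ) h3
  push_cast at h1 h2' h3'
  generalize (Nat.card (K ⊓ cmod H₁ H₀ : Subgroup L) : ℝ) = n at *
  generalize (Nat.card (K ⊓ cmod H H₀ : Subgroup L) : ℝ) = c at *
  generalize (Nat.card K : ℝ) = k at *
  refine le_of_mul_le_mul_left ?_ (by positivity : 0 < n ^ 2)
  have h6 := mul_le_mul_of_nonneg_left h1 (Nat.cast_nonneg u)
  calc _ = u * (n ^ 2 * _) := by ring
    _ ≤ _ := h6
    _ = k * n * u + (q - 1) * k * (c * u) := by ring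
    _ = _ := by rw [h3', ← h2']; ring

theorem count_irr (hf : PrimeFam K f μ δ) {T : Finset (L → ℂ)} {u : ℕ}
    (hu : (U ⊓ cmod H H₀).relIndex U = u)
    (hT : ∀ ψ ∈ T, IsIrrCharacter L ψ ∧ ψ 1 = q * a)
    (hS : ∀ χ ∈ indD K H (H₀ ⊔ (U ⊓ cmod H H₀)), χ ∉ T → χ 1 = q * u) :
    ∃ S₄ : Finset (L → ℂ), (∀ χ ∈ S₄, χ ∈ indD K H (H₀ ⊔ (U ⊓ cmod H H₀)) ∧ χ ∉ T ∧
      IsIrrCharacter L χ) ∧ (q : ℝ) * (p ^ q * u - u) ≤
        T.card * (q * a) ^ 2 + (p - 1) * (q * u ^ 2) + S₄.card * (q * u) ^ 2 := by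
  classical
  have := h.pti.normal
  have := h.normalH
  have := h.normal_H0C
  have := h.pti.finiteB
  set F := indF K H (H₀ ⊔ (U ⊓ cmod H H₀)) with hF
  refine ⟨F.filter fun χ => χ ∉ T ∧ IsIrrCharacter L χ, fun χ hχ => by simpa [hF] using hχ, ?_⟩
  have h1 := sum_indF_deg_sq h.HK (sup_le h.H₀K (inf_le_left.trans h.UK) :
    H₀ ⊔ (U ⊓ cmod H H₀) ≤ K)
  have e : H₀ ⊔ (U ⊓ cmod H H₀) ⊔ H = H ⊔ (U ⊓ cmod H H₀) := by
    rw [sup_comm, ← sup_assoc, sup_eq_left.2 h.lt.le]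
  rw [h.relIndex_H₀_sup_K inf_le_left, e, h.relIndex_sup inf_le_left, hu, h.index_K, ← hF,
    ← Finset.sum_filter_add_sum_filter_not _ (· ∈ T),
    ← Finset.sum_filter_add_sum_filter_not (F.filter (· ∉ T)) (¬ IsIrrCharacter L ·),
    Finset.filter_filter, Finset.filter_filter] at h1
  push_cast at h1
  rw [← h1, add_assoc]
  refine add_le_add ?_ (add_le_add ?_ ?_)
  · refine (Finset.sum_le_card_nsmul _ _ (((q : ℝ) * a) ^ 2) fun φ hφ => ?_).trans ?_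
    · have := hT φ (Finset.mem_filter.1 hφ).2
      rw [this.1.rip_self, deg_eq_of (r := q * a) (by simp [this.2]), div_one]
    · rw [nsmul_eq_mul]
      gcongr
      exact fun φ hφ => (Finset.mem_filter.1 hφ).2
  · refine (Finset.sum_le_card_nsmul _ _ ((q : ℝ) * u ^ 2) fun φ hφ => ?_).trans ?_
    · obtain ⟨h2, h3, h4⟩ := Finset.mem_filter.1 hφ
      have h2 := mem_indF.1 h2
      obtain ⟨θ, hθ, -, -, rfl⟩ := id h2
      obtain ⟨j, rfl⟩ := (hf.ind_irr_or hθ).resolve_left h4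
      have h5 := hf.rip_pmu j j
      rw [if_pos rfl, h.cardA, pmu] at h5
      have : (q : ℝ) ≠ 0 := by exact_mod_cast h.primeq.ne_zero
      rw [h5, deg_eq_of (r := q * u) (by simp [hS _ h2 h3])]
      exact le_of_eq (by field_simp)
    · rw [nsmul_eq_mul]
      have h2 : (F.filter fun φ => φ ∉ T ∧ ¬ IsIrrCharacter L φ).card ≤ p - 1 := by
        rw [← h.card_red hf, Nat.card_eq_fintype_card, Fintype.card_subtype]
        refine le_trans (Finset.card_le_card fun φ hφ => ?_) (Finset.card_image_le (f := pmu K μ))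
        obtain ⟨h2, h3, h4⟩ := Finset.mem_filter.1 hφ
        have h2 := mem_indF.1 h2
        obtain ⟨θ, hθ, -, -, rfl⟩ := id h2
        obtain ⟨j, rfl⟩ := (hf.ind_irr_or hθ).resolve_left h4
        exact Finset.mem_image.2 ⟨j, Finset.mem_filter.2
          ⟨Finset.mem_univ _, indD_mono le_rfl le_sup_left h2⟩, rfl⟩
      have h3 : ((p - 1 : ℕ) : ℝ) = p - 1 := by rw [Nat.cast_sub h.primep.one_le, Nat.cast_one]
      rw [← h3]
      gcongr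
  · refine (Finset.sum_le_card_nsmul _ _ (((q : ℝ) * u) ^ 2) fun φ hφ => ?_).trans ?_
    · obtain ⟨h2, h3, h4⟩ := Finset.mem_filter.1 hφ
      rw [(not_not.1 h4).rip_self, deg_eq_of (r := q * u) (by simp [hS _ (mem_indF.1 h2) h3]),
        div_one]
    · simp

theorem caseA_tail (hP : PDade K H f μ δ g η S₀ τ) (hS : CohSys (indD K H ⊥) τ R)
    (hA : CaseA H U H₀ H₁ f p q a) {u : ℕ} (hu : (U ⊓ cmod H H₀).relIndex U = u)
    {T : Finset (L → ℂ)} (hT : ConjSub T (indD K H ⊥)) (hν : CohWith T τ ν)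
    (hT' : ∀ ψ ∈ T, IsIrrCharacter L ψ ∧ ψ 1 = q * a) (hp : p = 2 * a + 1)
    (hc : T.card * a = 2 * u) (hua : u ≠ a)
    (hS₃ : ∀ χ ∈ indD K H (H₀ ⊔ (U ⊓ cmod H H₀)), χ ∉ T → χ 1 = q * u) :
    ∃ χ ∈ indD K H (H₀ ⊔ (U ⊓ cmod H H₀)), χ ∉ T ∧ CohWith (T ∪ {χ, conjFun χ}) τ ν := by
  classical
  have hK := h.pti.normal
  have hH := h.normalH
  have hle : cmod H H₀ ≤ cmod H₁ H₀ := fun x hx y hy => hx y (hA.le hy)
  have q0 : (q : ℂ) ≠ 0 := by exact_mod_cast h.primeq.ne_zero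
  have hC : ∀ w, w ≠ 1 →
      (U ⊓ cmod H₁ H₀) ⊓ cjS (f (w, 1)) (U ⊓ cmod H₁ H₀) = U ⊓ cmod H H₀ := fun w hw => by
    obtain ⟨χ, h1, h2⟩ := h.caseA_pair hA hw
    by_cases h3 : χ ∈ T
    · rw [(hT' χ h3).2, mul_right_inj' q0, Nat.cast_inj] at h2
      exact absurd (hu ▸ h.u_eq_a hA hw h2.symm) hua
    rw [hS₃ χ h1 h3, mul_right_inj' q0, Nat.cast_inj] at h2
    refine (eq_of_relIndex_eq (le_inf (inf_le_inf_left U hle) ?_) (inf_le_left.trans inf_le_left)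
      (hu.trans h2)).symm
    rw [← h.caseA_iInf hA]
    exact iInf_le _ w
  have ha := hA.one_lt
  have hu1 : 1 ≤ u := hu ▸ one_le_relIndex _ _
  have hua2 : u ≤ a ^ 2 := by
    obtain ⟨w, hw⟩ := h.pti.exists_ne_one
    have := relIndex_map_map_of_injective (U ⊓ cmod H₁ H₀) U
      (f := (MulAut.conj (f (w, 1))).toMonoidHom) (MulAut.conj _).injective
    rw [show U.map _ = U from h.cjS_U w, hA.a_eq] at this
    rw [← hu, ← hC w hw, sq]
    exact relIndex_inf_le.trans (by rw [hA.a_eq, this])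
  obtain ⟨n, hn⟩ : a ∣ u := hA.a_eq ▸ hu ▸ relIndex_dvd_of_le_left U (inf_le_inf_left U hle)
  have hTn : T.card = 2 * n := Nat.eq_of_mul_eq_mul_right (by omega : 0 < a) (by rw [hc, hn]; ring)
  obtain ⟨ψ₁, h₁⟩ : T.Nonempty := Finset.card_pos.1 (by
    rcases n with _ | n
    · omega
    · omega)
  obtain ⟨S₄, h4, h4c⟩ := h.count_irr hP.fam hu hT' hS₃
  have hγ := h.norm_gamma hA hC hu
  set γ := indFun (K ⊓ cmod H₁ H₀) fun _ => (1 : ℂ) with hγd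
  have γc : IsCharacter L γ := isCharacter_one.ind
  have γo : ∀ φ ∈ indD K H ⊥, rip γ φ = 0 := fun φ hφ => by
    rw [rip_comm]
    exact rip_eq_zero (classInner_ind_one_eq_zero (le_inf h.HK (h.H_le_cmod.trans hle)) hφ)
  have s₁ := hT.sub h₁
  have i₁ := (hT' _ h₁).1
  have αg : IsGeneralizedCharacter L (γ - ψ₁) := γc.isGen.sub i₁.isGen
  have αs : SuppIn S₀ (γ - ψ₁) := fun x hx => by
    by_cases h1 : x = 1
    · rw [h1, Pi.sub_apply, (hT' _ h₁).2, hγd, indFun_one,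
        h.inf_eq_sup (h.H_le_cmod.trans hle), h.index_sup inf_le_left, hA.a_eq]
      simp
    rw [Pi.sub_apply, hP.eq_zero_of_mem s₁ h1 hx, sub_zero]
    refine indFun_eq_zero _ _ _ fun y hy => (hx ?_).elim
    obtain ⟨z, hz, hz1, e⟩ := exists_comm_of_cmod (lt_of_le_of_ne hA.le₀ fun e => by
      have := hA.card
      rw [e, relIndex_self] at this
      exact h.primep.one_lt.ne this) hA.le hy.2
    refine hP.cent x (by simpa [mul_assoc] using hK.conj_mem _ hy.1 y⁻¹) h1 (y⁻¹ * z * y)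
      (by simpa using hH.conj_mem _ hz y⁻¹) (fun b => hz1 ?_) ?_
    · calc z = y * (y⁻¹ * z * y) * y⁻¹ := by group
        _ = 1 := by rw [b]; group
    · calc x * (y⁻¹ * z * y) = y⁻¹ * (y * x * y⁻¹ * z) * y := by group
        _ = _ := by rw [e]; group
  have αi : ∀ β ∈ Submodule.span ℂ (indD K H ⊥), β 1 = 0 →
      rip (τ (γ - ψ₁)) (τ β) = rip (γ - ψ₁) β := fun β hβ h0 =>
    hP.rip_eq αg.isClassFunction (isClassFunction_of_mem_span
      (fun _ b => (isCharacter_of_mem_indD b).isClassFunction) hβ) αs (hP.suppIn_span hβ h0)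
  have αn : rip (τ (γ - ψ₁)) (τ (γ - ψ₁)) = rip γ γ + 1 := by
    rw [hP.rip_eq αg.isClassFunction αg.isClassFunction αs αs]
    simp [rip_comm ψ₁ γ, γo _ s₁, i₁.rip_self]
  have hlt : rip γ γ + 1 < S₄.card := by
    by_contra h5
    have h6 := arith9 ha.le h.three_le_q
    rw [← hp] at h6
    have h6 : (1 : ℝ) + 2 * a * q + q ^ 2 * a ^ 2 + (q + 2) * a ^ 3 < p ^ q := by exact_mod_cast h6
    have h7 : (T.card : ℝ) * a = 2 * u := by exact_mod_cast hc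
    have h8 : (p : ℝ) - 1 = 2 * a := by rw [hp]; push_cast; ring
    have h9 : (u : ℝ) ≤ a ^ 2 := by exact_mod_cast hua2
    have u0 : (0 : ℝ) < u := by exact_mod_cast hu1
    have a0 : (0 : ℝ) < a := by exact_mod_cast ha.le
    have q0 : (0 : ℝ) < q := by exact_mod_cast h.primeq.pos
    have h10 : u * (S₄.card : ℝ) ≤ a * u + (q - 1) * a ^ 2 + u := by
      nlinarith [mul_le_mul_of_nonneg_left (not_lt.1 h5) u0.le]
    have h11 : (p : ℝ) ^ q - 1 ≤ 2 * q * a + 2 * a * u + q * (u * S₄.card) := by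
      refine le_of_mul_le_mul_left ?_ (mul_pos q0 u0)
      calc _ = q * ((p : ℝ) ^ q * u - u) := by ring
        _ ≤ _ := h4c
        _ = T.card * a * (q ^ 2 * a) + (p - 1) * (q * u ^ 2) + S₄.card * (q * u) ^ 2 := by ring
        _ = _ := by rw [h7, h8]; ring
    have h12 := mul_le_mul_of_nonneg_left h10 q0.le
    have h13 := mul_le_mul_of_nonneg_left h9 (by positivity : (0 : ℝ) ≤ 2 * a + q * a + q)
    nlinarith
  have c₃ : ConjSub (indD K H (H₀ ⊔ (U ⊓ cmod H H₀)) \ T) (indD K H ⊥) :=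
    (conjSub_indD (indD_subset_bot _ _ _)).diff hT
  obtain ⟨ν₃, h₃⟩ := hS.coh_of_uniform' c₃ fun φ hφ ψ hψ => by
    rw [hS₃ φ hφ.1 hφ.2, hS₃ ψ hψ.1 hψ.2]
  obtain ⟨χ, hχ⟩ : S₄.Nonempty := Finset.card_pos.1 (by
    have := rip_self_nonneg γ
    exact_mod_cast (by linarith : (0 : ℝ) < S₄.card))
  obtain ⟨χ1, χ2, χ3⟩ := h4 χ hχ
  have Zg := hP.gen _ αg αs
  obtain ⟨c, hc'⟩ := Zg.rip_eq_int (h₃.gen χ ⟨χ1, χ2⟩)
  have o₁ : ∀ φ ∈ indD K H (H₀ ⊔ (U ⊓ cmod H H₀)) \ T, rip ψ₁ φ = 0 := fun φ hφ =>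
    hS.rip_orth s₁ (c₃.sub hφ) (by rintro rfl; exact hφ.2 h₁)
  have hconst : ∀ φ ∈ indD K H (H₀ ⊔ (U ⊓ cmod H H₀)) \ T, rip (τ (γ - ψ₁)) (ν₃ φ) = c :=
    fun φ hφ => by
      have e : φ 1 = χ 1 := by rw [hS₃ φ hφ.1 hφ.2, hS₃ χ χ1 χ2]
      have := αi _ (sub_mem_span (c₃.sub hφ) (c₃.sub ⟨χ1, χ2⟩)) (by simp [e])
      rw [h₃.ext.sub e, rip_sub_right, hc'] at this
      simp only [rip_sub_left, rip_sub_right, γo _ (c₃.sub hφ), γo _ (c₃.sub ⟨χ1, χ2⟩), o₁ _ hφ,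
        o₁ _ ⟨χ1, χ2⟩] at this
      linarith
  have c0 : c = 0 := by
    have := bessel S₄ ν₃ (fun φ hφ ψ hψ => by
      rw [h₃.iso φ ⟨(h4 φ hφ).1, (h4 φ hφ).2.1⟩ ψ ⟨(h4 ψ hψ).1, (h4 ψ hψ).2.1⟩]
      convert (h4 φ hφ).2.2.classInner_eq_ite (h4 ψ hψ).2.2) (τ (γ - ψ₁))
    rw [αn, Finset.sum_congr rfl (g := fun _ => (c : ℝ) ^ 2) fun φ hφ => by
      have m : φ ∈ indD K H (H₀ ⊔ (U ⊓ cmod H H₀)) \ T := ⟨(h4 φ hφ).1, (h4 φ hφ).2.1⟩
      rw [Zg.classInner_eq_rip (h₃.gen φ m), hconst φ m, Complex.norm_real, Real.norm_eq_abs,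
        sq_abs], Finset.sum_const, nsmul_eq_mul] at this
    by_contra c0
    have : (1 : ℝ) ≤ (c : ℝ) ^ 2 := by
      exact_mod_cast (by have := sq_pos_of_ne_zero c0; omega : 1 ≤ c ^ 2)
    nlinarith [rip_self_nonneg γ]
  have m2 := c₃.cj χ ⟨χ1, χ2⟩
  have hd : χ 1 = n * ψ₁ 1 := by rw [hS₃ χ χ1 χ2, (hT' _ h₁).2, hn]; push_cast; ring
  have hdeg : ∀ ψ ∈ T, ψ 1 = ψ₁ 1 := fun ψ hψ => by rw [(hT' _ h₁).2, (hT' _ hψ).2]
  refine ⟨χ, χ1, χ2, hS.final9 hT hν (fun ψ hψ => (hT' ψ hψ).1) h₁ hdeg hTn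
    (by rintro rfl; omega) (c₃.sub ⟨χ1, χ2⟩) χ2 χ3 hd
    (h₃.mono (Set.pair_subset ⟨χ1, χ2⟩ m2)) Zg (by rw [hconst _ ⟨χ1, χ2⟩, c0, Int.cast_zero])
    (by rw [hconst _ m2, c0, Int.cast_zero]) (fun ψ hψ e => ?_) ?_⟩
  · rw [αi _ (sub_mem_span (hT.sub hψ) s₁) (by simp [hdeg ψ hψ])]
    simp [γo _ s₁, γo _ (hT.sub hψ), i₁.rip_self, hS.rip_orth s₁ (hT.sub hψ) e.symm]
  · rw [αi _ (sub_smul_mem_span (c₃.sub ⟨χ1, χ2⟩) s₁ _) (by simp [hd])]
    simp [γo _ s₁, γo _ (c₃.sub ⟨χ1, χ2⟩), i₁.rip_self, o₁ _ ⟨χ1, χ2⟩]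

/-- Peterfalvi (9.11). -/
theorem coh (hP : PDade K H f μ δ g η S₀ τ) (hS : CohSys (indD K H ⊥) τ R) :
    Coh (indD K H (H₀ ⊔ ⁅U ⊓ cmod H H₀, U ⊓ cmod H H₀⁆)) τ := by
  classical
  have hK := h.pti.normal
  have hH := h.normalH
  have sub : ∀ M, ConjSub (indD K H M) (indD K H ⊥) := fun M =>
    conjSub_indD (indD_subset_bot _ _ _)
  by_cases hG : Gal9 H U H₀
  · exact hS.coh_of_uniform' (sub _) fun φ hφ ψ hψ => by
      rw [(h.gal_deg hG hφ).1, (h.gal_deg hG hψ).1]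
  obtain ⟨H₁, a, hA⟩ := h.caseA hG
  obtain ⟨T, hT, hTc⟩ := h.caseA_count hA
  set C := U ⊓ cmod H H₀ with hC
  set u := C.relIndex U with hu
  set S := indD K H (H₀ ⊔ ⁅C, C⁆) with hSd
  have sS : S ⊆ indD K H ⊥ := (sub _).sub
  have c1 : ConjSub {φ | φ ∈ S ∧ φ 1 = q * a} (indD K H ⊥) :=
    ⟨fun φ hφ => sS hφ.1, fun φ hφ => ⟨conj_mem_indD hφ.1, by rw [hS.conj_one (sS hφ.1), hφ.2]⟩⟩
  obtain ⟨ν, hν⟩ := hS.coh_of_uniform' c1 fun φ hφ ψ hψ => by rw [hφ.2, hψ.2]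
  set S₂ := {χ | χ ∈ S ∧ CohWith {χ, conjFun χ} τ ν} with hS₂
  have c2 : ConjSub S₂ (indD K H ⊥) := ⟨fun φ hφ => sS hφ.1, fun φ hφ =>
    ⟨conj_mem_indD hφ.1, by rw [conjFun_conjFun, Set.pair_comm]; exact hφ.2⟩⟩
  have hν₂ : CohWith S₂ τ ν := ⟨hν.ext, fun χ hχ φ hφ =>
    (hS.union (hS.conjSub_pair (sS hχ.1)) hχ.2 (hS.conjSub_pair (sS hφ.1)) hφ.2).iso χ (by simp)
      φ (by simp), fun χ hχ => hχ.2.gen χ (by simp)⟩
  have s12 : ∀ φ ∈ S, φ 1 = q * a → φ ∈ S₂ := fun φ h1 h2 =>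
    ⟨h1, hν.mono (Set.pair_subset ⟨h1, h2⟩ (c1.cj φ ⟨h1, h2⟩))⟩
  by_contra hne
  obtain ⟨χ₀, hχ₀, hχ₀'⟩ : ∃ χ ∈ S, χ ∉ S₂ := by
    by_contra h1
    exact hne ⟨ν, hν₂.mono fun χ hχ => by_contra fun h2 => h1 ⟨χ, hχ, h2⟩⟩
  have hT2 : ∀ φ ∈ T, φ ∈ S₂ := fun φ hφ => s12 φ (indD_mono le_rfl
    (sup_le_sup_left (commutator_mono inf_le_left inf_le_left) _) (hT φ hφ).1) (hT φ hφ).2.2
  have ha := hA.one_lt
  have hu1 : 1 ≤ u := one_le_relIndex _ _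
  have hur : u ≤ ⁅U, U⁆.relIndex U := relIndex_le_of_le_left
    (le_inf (commutator_le_self' U) h.derU) (Nat.one_le_iff_ne_zero.1 (one_le_relIndex _ _))
  have h2a : 2 * a ≤ p - 1 := by
    have h1 : Odd a := hA.a_eq ▸ odd_relIndex h.odd _ _
    have := two_mul_add_one_le_of_dvd h1 (h.primep.odd_of_ne_two h.p_ne_two) h.primep.one_lt hA.dvd
    omega
  have hle : 2 * a * u ≤ T.card * a ^ 2 := (Nat.mul_le_mul h2a hur).trans hTc
  obtain ⟨ψ₁, h₁⟩ : T.Nonempty := Finset.card_pos.1 (Nat.pos_of_ne_zero fun e => by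
    rw [e] at hle
    have : 0 < 2 * a * u := by positivity
    omega)
  have d₁ : ∀ ψ ∈ T, deg ψ = q * a := fun ψ hψ => deg_eq_of (by simp [(hT ψ hψ).2.2])
  have key : ∀ χ ∈ S, χ ∉ S₂ → ∀ T' : Finset (L → ℂ), ↑T' ⊆ S₂ →
      ∑ φ ∈ T', deg φ ^ 2 / rip φ φ ≤ 2 * deg χ * (q * a) := fun χ h1 h2 T' h3 => by
    by_contra h4
    obtain ⟨n, hn⟩ := h.caseA_dvd hA (indD_mono le_rfl le_sup_left h1)
    exact h2 ⟨h1, (hS.extend_coh c2 hν₂ (sS h1) h2 (hT2 _ h₁) (a := n) (by rw [hn, (hT _ h₁).2.2])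
      h3 (by rw [d₁ _ h₁]; exact not_le.1 h4)).mono Set.subset_union_right⟩
  have hdeg : ∀ χ ∈ S, deg χ ≤ q * u := fun χ hχ => by
    have := h.normal_H0C'
    have := deg_sq_le_of_mem_indD (C := H ⊔ C) le_rfl (sup_le h.HK (inf_le_left.trans h.UK))
      (fun d hd c hc => h.commutator_le inf_le_right le_sup_left le_sup_right
        (commutator_mem_commutator hd hc)) hχ
    rw [relIndex_self, h.index_sup inf_le_left] at this
    push_cast at this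
    exact le_of_sq_le_sq (by simpa using this) (by positivity) |> id
  have sT : ∑ φ ∈ T, deg φ ^ 2 / rip φ φ = T.card * (q * a) ^ 2 := by
    rw [Finset.sum_congr rfl (g := fun _ => ((q : ℝ) * a) ^ 2) fun φ hφ => by
      rw [d₁ φ hφ, (hT φ hφ).2.1.rip_self, div_one]]
    simp
  have a0 : (0 : ℝ) < a := by exact_mod_cast ha.le
  have q0 : (0 : ℝ) < q := by exact_mod_cast h.primeq.pos
  have hle' : (2 * a * u : ℝ) ≤ T.card * a ^ 2 := by exact_mod_cast hle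
  have hge : T.card * a ^ 2 ≤ 2 * a * u := by
    have h1 := key χ₀ hχ₀ hχ₀' T hT2
    have h2 := mul_le_mul_of_nonneg_right (hdeg χ₀ hχ₀) (by positivity : 0 ≤ 2 * (q * a : ℝ))
    have : (T.card * a ^ 2 : ℝ) ≤ 2 * a * u :=
      le_of_mul_le_mul_left (by nlinarith) (by positivity : (0 : ℝ) < q ^ 2)
    exact_mod_cast this
  have hp : p = 2 * a + 1 := by
    have := Nat.le_of_mul_le_mul_right ((Nat.mul_le_mul_left (p - 1) hur).trans
      (hTc.trans hge)) hu1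
    have := h.primep.one_lt
    omega
  have hc : T.card * a = 2 * u :=
    Nat.eq_of_mul_eq_mul_right ha.le (by nlinarith [le_antisymm hle hge])
  have sT'' : (T.card * (q * a) ^ 2 : ℝ) = 2 * (q * u) * (q * a) := by
    have : (T.card * a : ℝ) = 2 * u := by exact_mod_cast hc
    calc _ = (T.card * a : ℝ) * (q ^ 2 * a) := by ring
      _ = _ := by rw [this]; ring
  have sT' := sT.trans sT''
  have hS₃ : ∀ χ ∈ S, χ ∉ S₂ → deg χ = q * u := fun χ h1 h2 => le_antisymm (hdeg χ h1) (by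
    have h3 := key χ h1 h2 T hT2
    rw [sT'] at h3
    exact le_of_mul_le_mul_left (by linarith) (by positivity : (0 : ℝ) < 2 * (q * a)))
  have hS₃' : ∀ χ ∈ S, χ ∉ S₂ → χ 1 = q * u := fun χ h1 h2 => by
    rw [← (hS.char χ (sS h1)).coe_deg, hS₃ χ h1 h2]; simp
  have eT : S₂ = T := Set.Subset.antisymm (fun φ hφ => by_contra fun h1 => by
    have h2 := key χ₀ hχ₀ hχ₀' (insert φ T) (by
      rw [Finset.coe_insert]; exact Set.insert_subset hφ hT2)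
    rw [Finset.sum_insert h1, sT', hS₃ χ₀ hχ₀ hχ₀'] at h2
    have := div_pos (pow_pos (hS.deg_pos (sS hφ.1)) 2) (hS.rip_pos (sS hφ.1))
    linarith) hT2
  have sC : indD K H (H₀ ⊔ C) ⊆ S :=
    indD_mono le_rfl (sup_le_sup_left (commutator_le_self' C) _)
  obtain ⟨χ, h1, h2, h3⟩ := h.caseA_tail hP hS hA hu.symm (eT ▸ c2) (eT ▸ hν₂)
    (fun ψ hψ => (hT ψ hψ).2) hp hc
    (fun e => hχ₀' (s12 _ hχ₀ (by rw [hS₃' _ hχ₀ hχ₀', e])))
    fun χ h1 h2 => hS₃' χ (sC h1) (eT ▸ h2)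
  exact h2 (show χ ∈ (T : Set (L → ℂ)) from eT ▸ ⟨sC h1, h3.mono Set.subset_union_right⟩)

end Sec9

end Cfsg.Agent.Char
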