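import Cfsg.Agent.Lib.Char.Sec10
import Cfsg.Agent.Lib.Char.Sec9C

/-!
Peterfalvi (11.8), (11.9.a) in the abstract set-up `P10` + `Sec9`.
-/

set_option autoImplicit false

namespace Cfsg.Agent.Char

universe u

variable {L : Type u} [Group L] {G : Type*} [Group G] {A : Type*} [Group A] {B : Type*} [Group B]

theorem sum_ite_one {I : Type*} [Fintype I] [DecidableEq I] (k : I) (F : Prop → ℝ) :
    ∑ i, F (i = k) = F True + (Fintype.card I - 1) * F False := by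
  rw [← Finset.add_sum_erase _ _ (Finset.mem_univ k), Finset.sum_congr rfl (g := fun _ => F False)
    fun i hi => by rw [eq_false (Finset.ne_of_mem_erase hi)], Finset.sum_const,
    Finset.card_erase_of_mem (Finset.mem_univ k), nsmul_eq_mul, Finset.card_univ,
    Nat.cast_pred (Fintype.card_pos_iff.2 ⟨k⟩), eq_true (rfl : k = k)]

theorem arith11 {P Q x y : ℤ} (hP : 2 ≤ P) (hQ : 2 ≤ Q)
    (h : 1 + P * y ^ 2 + Q * (x ^ 2 + P * (x + y - 1) ^ 2) ≤ Q + 1) :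
    (x = 1 ∧ y = 0) ∨ (x = 0 ∧ y = 1 ∧ P ≤ Q) := by
  have h1 : 0 ≤ P * y ^ 2 := by positivity
  have h2 : x ^ 2 + P * (x + y - 1) ^ 2 ≤ 1 := le_of_mul_le_mul_left (by linarith) (by omega : 0 < Q)
  have h3 : x + y - 1 = 0 := by
    by_contra e
    have : 1 ≤ (x + y - 1) ^ 2 := by have := sq_pos_of_ne_zero e; omega
    nlinarith [sq_nonneg x]
  rw [h3] at h
  by_cases e : x = 0
  · obtain rfl : y = 1 := by omega
    exact Or.inr ⟨e, rfl, by nlinarith⟩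
  · have : 1 ≤ x ^ 2 := by have := sq_pos_of_ne_zero e; omega
    have : y ^ 2 ≤ 0 := le_of_mul_le_mul_left (by nlinarith) (by omega : 0 < P)
    have : y = 0 := by nlinarith [sq_nonneg y]
    exact Or.inl ⟨by omega, this⟩

variable [Fintype L] [Fintype G]

theorem CohSys.cohWith_of_pairs {S S₁ : Set (L → ℂ)} {τ ν : (L → ℂ) →ₗ[ℂ] (G → ℂ)}
    {R : (L → ℂ) → Finset (G → ℂ)} (h : CohSys S τ R) (hS : S₁ ⊆ S) (hν : IsExt τ ν)
    (h1 : ∀ χ ∈ S₁, CohWith {χ, conjFun χ} τ ν) : CohWith S₁ τ ν :=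
  ⟨hν, fun χ hχ φ hφ => (h.union (h.conjSub_pair (hS hχ)) (h1 χ hχ) (h.conjSub_pair (hS hφ))
    (h1 φ hφ)).iso χ (by simp) φ (by simp), fun χ hχ => (h1 χ hχ).gen χ (by simp)⟩

namespace P10

variable {K : Subgroup L} {f : A × B →* L}
  {μ : (A →* ℂˣ) → (B →* ℂˣ) → L → ℂ} {δ : (B →* ℂˣ) → ℤ} {g : A × B →* G}
  {η : (A →* ℂˣ) → (B →* ℂˣ) → G → ℂ} {S₀ : Set L} {τ ν : (L → ℂ) →ₗ[ℂ] (G → ℂ)}
  {R : (L → ℂ) → Finset (G → ℂ)} {ζ : L → ℂ} {d n : ℕ}
  (h : P10 K f μ δ g η S₀ τ R) (hζ : ζ ∈ indD K K ⁅K, K⁆)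
include h hζ

theorem tau_sub_orth {φ : L → ℂ} (hφ : φ ∈ indD K K ⁅K, K⁆) (i : A →* ℂˣ) (j : B →* ℂˣ) :
    classInner (τ (φ - ζ)) (η i j) = 0 := by
  obtain ⟨ν, hν⟩ := h.coh_der
  rw [hν.ext.sub (by rw [h.deg_eq hζ, h.deg_eq hφ]), classInner_sub_left,
    h.coh_orth h.sys subset_rfl (h.conjSub _) hν hζ (h.irr hζ),
    h.coh_orth h.sys subset_rfl (h.conjSub _) hν hφ (h.irr hφ), sub_zero]

theorem rip_beta_sub {φ ψ : L → ℂ} (hφ : φ ∈ indD K K ⁅K, K⁆) (hψ : ψ ∈ indD K K ⁅K, K⁆) :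
    rip (τ (pmu K μ 1 - ζ)) (τ (φ - ψ)) = rip ζ ψ - rip ζ φ := by
  rw [h.rip_eq (h.isGen_beta hζ).isClassFunction
    ((h.irr hφ).isGen.sub (h.irr hψ).isGen).isClassFunction (h.suppIn_beta hζ)
    (h.suppIn_span (sub_mem_span hφ hψ) (by simp [h.deg_eq hφ, h.deg_eq hψ]))]
  simp [h.fam.rip_pmu_irr hφ (h.irr hφ), h.fam.rip_pmu_irr hψ (h.irr hψ), neg_add_eq_sub]

variable [Finite A]

theorem cohWith_of_mu (hν : IsExt τ ν) (h0 : ∀ i j, classInner (ν ζ) (η i j) = 0)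
    (e : ν (pmu K μ 1) = ecol η 1) : CohWith (indD K K ⁅K, K⁆) τ ν := by
  have e' : τ (pmu K μ 1 - ζ) = ecol η 1 - ν ζ := by
    rw [hν.sub (by rw [h.fam.pmu_one_one, h.deg_eq hζ]), e]
  have hg : IsGeneralizedCharacter G (ν ζ) := by
    have := (h.cyc.isGen_ecol 1).sub (h.gen _ (h.isGen_beta hζ) (h.suppIn_beta hζ))
    rwa [e', sub_sub_cancel] at this
  have h1 := rip_eq_zero (h.cyc.orth_ecol (h0 · 1))
  have h2 : rip (ν ζ) (ν ζ) = 1 := by
    have := h.rip_beta hζ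
    rw [e'] at this
    simp only [rip_sub_left, rip_sub_right, h.cyc.rip_ecol, rip_comm (ecol η 1) (ν ζ), h1,
      if_true] at this
    linarith
  refine h.sys.pivot (h.conjSub _).sub hν (Submodule.subset_span (h.mem_bot hζ))
    (h.irr hζ).apply_one_ne_zero
    (by rw [classInner_self_eq_rip, h2, (h.irr hζ).classInner_self]; simp) fun φ hφ => ?_
  have e1 : φ 1 = ζ 1 := by rw [h.deg_eq hζ, h.deg_eq hφ]
  have hg' := h.sys.gen_ext hν (h.mem_bot hφ) (h.mem_bot hζ) (a := 1) (by simp [e1]) hg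
  refine ⟨hg', ?_⟩
  have h3 := h.rip_beta_sub hζ hφ hζ
  have h4 := rip_eq_zero (h.cyc.orth_ecol (h.tau_sub_orth hζ hφ · 1))
  rw [e', rip_sub_left, rip_comm (ecol η 1), h4, hν.sub e1, rip_sub_right, h2,
    (h.irr hζ).rip_self] at h3
  rw [hg'.classInner_eq_rip hg, (h.irr hφ).isGen.classInner_eq_rip (h.irr hζ).isGen, rip_comm,
    rip_comm φ]
  congr 1
  linarith

/-- (11.8.2) - (11.8.5) -/
theorem rip_alph_eq (dn : DN μ δ d n 1) (hn : (indF K K ⁅K, K⁆).card = n)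
    (hν : CohWith (indD K K ⁅K, K⁆) τ ν) (e : ν (pmu K μ 1) = ecol η 1) {j : B →* ℂˣ}
    (hj : j ≠ 1) : rip (τ (alph μ δ n ζ 1 j)) (ν ζ) = -n := by
  classical
  have hK := h.normalK
  have h0 : ∀ φ ∈ indD K K ⁅K, K⁆, ∀ i j, classInner (ν φ) (η i j) = 0 := fun φ hφ =>
    h.coh_orth h.sys subset_rfl (h.conjSub _) hν hφ (h.irr hφ)
  have hg := h.isGen_tau_alph (i := 1) hζ dn hj
  have hc := (h.isGen_alph (n := n) hζ 1 j).isClassFunction
  have hs := h.suppIn_alph (i := 1) hζ dn hj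
  have hd := hν.isDirr hζ (h.irr hζ)
  obtain ⟨b, hb⟩ := hg.rip_eq_int hd.isGen
  obtain ⟨a, rfl⟩ : ∃ a : ℤ, b = a - n := ⟨b + n, by ring⟩
  push_cast at hb
  have h1 := h.alph_bessel hζ dn hj hν hb
  rw [hn] at h1
  have o : ∀ φ ∈ indD K K ⁅K, K⁆, rip (ν φ) (ecol η 1) = 0 := fun φ hφ =>
    rip_eq_zero (h.cyc.orth_ecol (h0 φ hφ · 1))
  have h2 : rip (τ (alph μ δ n ζ 1 j)) (ecol η 1) = a - 1 := by
    have := h.rip_tau_alph_span (i := 1) hζ dn hj (h.beta_mem hζ) (h.beta_one hζ)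
    rw [hν.ext.sub (by rw [h.fam.pmu_one_one, h.deg_eq hζ]), e, rip_sub_right, rip_sub_right, hb,
      h.rip_alph_pmu hζ, h.rip_alph_zeta hζ, dn.sign j hj, if_neg hj.symm, if_pos rfl] at this
    push_cast at this
    linarith
  have h3 : rip (τ (alph μ δ n ζ 1 j)) (fun _ => 1) = -1 := by
    rw [rip, h.tone _ hc hs, ← rip, ← h.fam.mu_one_one, h.rip_alph_mu hζ, dn.sign j hj]
    simp [hj]
  have hj' := lc_inv_ne_one hj
  have iA : (1 : A →* ℂˣ)⁻¹ = 1 := by ext; simp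
  have iB : (1 : B →* ℂˣ)⁻¹ = 1 := by ext; simp
  have h4 : conjFun (τ (alph μ δ n ζ 1 j) + (n : ℂ) • ν ζ - η 1 j) =
      τ (alph μ δ n ζ 1 j) + (n : ℂ) • ν ζ - η 1 j := by
    have e1 : conjFun (alph μ δ n ζ 1 j) =
        alph μ δ n ζ 1 j + (μ 1 j⁻¹ - μ 1 j) + (n : ℂ) • (ζ - conjFun ζ) := by
      simp only [alph, conjFun_sub, conjFun_smul, h.fam.conjFun_mu, iA, iB, map_intCast,
        map_natCast]
      module
    rw [conjFun_sub, conjFun_add, conjFun_smul, ← h.tau_conj, e1, map_add, map_add, map_smul,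
      h.tau_mu_sub 1 hj' hj (h.fam.mu_inv_apply_one j), dn.sign _ hj',
      hν.ext.sub (h.irr hζ).isCharacter.conjFun_one.symm,
      ← h.sys.conj_ext (h.conjSub _).sub hν h.tau_conj hζ (conj_mem_indD hζ) (h.irr hζ)
        (h.sys.conj_ne _ (h.mem_bot hζ)), h.cyc.conjFun_eq, iA, map_natCast]
    module
  obtain ⟨m, hm⟩ := exists_rip_eq_of_real h.oddG
    ((hg.add (hd.isGen.natCast_smul n)).sub (h.cyc.isGen 1 j)) (h.cyc.isGen_ecol 1) h4
    (by rw [h.cyc.conjFun_ecol, iB])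
  rw [← h.cyc.one] at hm h3
  simp only [rip_sub_left, rip_add_left, rip_natCast_smul_left, h2, h3, o ζ hζ,
    rip_eq_zero (h0 ζ hζ _ _), rip_comm (η 1 j) (ecol η 1), h.cyc.rip_ecol_eta, h.cyc.rip_eq,
    hj, hj.symm, and_false, if_true, if_false] at hm
  have h5 : a = 2 * m := by
    have : (a : ℝ) = 2 * m := by linarith
    exact_mod_cast this
  have h6 : (n : ℤ) * a ^ 2 - 2 * a * n ≤ 2 := by exact_mod_cast h1
  have h7 : (2 : ℤ) ≤ n := by exact_mod_cast dn.two_le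
  have h8 : m = 0 ∨ m = 1 := by
    subst h5
    by_contra h9
    have : 2 ≤ m * (m - 1) := by
      rcases (by omega : m ≤ -1 ∨ 2 ≤ m) with h9 | h9 <;> nlinarith
    nlinarith
  rcases h8 with rfl | rfl
  · rw [hb, h5]; simp
  exfalso
  obtain rfl : a = 2 := h5
  set P := ∑ φ ∈ indF K K ⁅K, K⁆, ν φ with hP
  have pm : ∑ φ ∈ indF K K ⁅K, K⁆, φ ∈ Submodule.span ℂ (indD K K ⁅K, K⁆) :=
    Submodule.sum_mem _ fun φ hφ => Submodule.subset_span (mem_indF.1 hφ)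
  have on : ∀ φ ∈ indF K K ⁅K, K⁆, ∀ ψ ∈ indF K K ⁅K, K⁆, classInner φ ψ =
      @ite _ (φ = ψ) (Classical.propDecidable _) 1 0 := fun φ hφ ψ hψ => by
    convert (h.irr (mem_indF.1 hφ)).classInner_eq_ite (h.irr (mem_indF.1 hψ))
  have p1 : rip P P = n := by
    rw [hP, ← map_sum, hν.rip_span pm pm, rip_sum_orthonormal _ (fun φ => φ) on, hn]
  have p2 : rip P (ν ζ) = 1 := by
    rw [hP, ← map_sum, hν.rip_span pm (Submodule.subset_span hζ)]
    refine rip_eq_one ?_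
    simpa using classInner_sum_orthonormal _ (fun φ => φ) on (fun _ => 1) (mem_indF.2 hζ)
  have p3 : rip (τ (alph μ δ n ζ 1 j)) P = n := by
    have k : ∀ φ ∈ indF K K ⁅K, K⁆, rip (τ (alph μ δ n ζ 1 j)) (ν φ) = 2 - n * rip ζ φ :=
      fun φ hφ => by
        have h2 := mem_indF.1 hφ
        rw [h.rip_alph_nu hζ dn hj hν.ext (indD_subset_indT (h.mem_bot h2)) (c := 1)
          (by simp [h.deg_eq h2]), h.rip_alph_irr hζ (h.mem_bot h2) (h.irr h2), hb]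
        push_cast; ring
    rw [hP, rip_sum_right, Finset.sum_congr rfl k, Finset.sum_sub_distrib, ← Finset.mul_sum,
      ← rip_sum_right, ← hν.rip_span (Submodule.subset_span hζ) pm, map_sum, ← hP, rip_comm, p2,
      Finset.sum_const, hn]
    simp only [nsmul_eq_mul]; ring
  have p4 : ∀ i k, classInner P (η i k) = 0 := fun i k => by
    rw [hP, classInner_sum_left]
    exact Finset.sum_eq_zero fun φ hφ => h0 φ (mem_indF.1 hφ) i k
  have pg : IsGeneralizedCharacter G P :=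
    IsGeneralizedCharacter.sum fun φ hφ => hν.gen φ (mem_indF.1 hφ)
  have h9 := h.cyc.eq_sub_of_norm_two (i := 1)
    (Z := τ (alph μ δ n ζ 1 j) + (n : ℂ) • ν ζ - ((2 : ℕ) : ℂ) • P)
    ((hg.add (hd.isGen.natCast_smul n)).sub (pg.natCast_smul 2)) (by
      simp only [rip_add_left, rip_add_right, rip_sub_left, rip_sub_right, rip_natCast_smul_left,
        rip_natCast_smul_right, h.rip_tau_alph hζ dn hj, rip_comm (ν ζ) (τ _), rip_comm P (τ _),
        rip_comm (ν ζ) P, hb, hd.rip_self, p1, p2, p3]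
      push_cast; ring) hj fun a b ha hb => by
      rw [Pi.sub_apply, Pi.add_apply, Pi.smul_apply, Pi.smul_apply,
        h.cyc.eq_zero_of_orth hd.isClassFunction (h0 ζ hζ) ha hb,
        h.cyc.eq_zero_of_orth pg.isClassFunction p4 ha hb, h.onV _ hc hs a b ha hb,
        h.alph_V hζ 1 j ha, dn.sign j hj]
      simp
  have := congrArg (rip · (ecol η 1)) h9
  simp only [rip_sub_left, rip_add_left, rip_natCast_smul_left, h2, o ζ hζ,
    rip_eq_zero (h.cyc.orth_ecol (p4 · 1)), rip_comm (η 1 _) (ecol η 1), h.cyc.rip_ecol_eta,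
    hj.symm, if_true, if_false] at this
  norm_num at this

/-- (11.8) -/
theorem coh_union (dn : DN μ δ d n 1) (hn : (indF K K ⁅K, K⁆).card = n)
    (h0 : ∀ i j, classInner (τ (pmu K μ 1 - ζ)) (η i j) = if j = 1 then 1 else 0)
    {S₂ : Set (L → ℂ)} (c₂ : ConjSub S₂ (indD K K ⊥)) (h₂ : Coh S₂ τ) {j : B →* ℂˣ}
    (hm : pmu K μ j ∈ S₂) (hd : ∀ φ ∈ S₂, φ ∉ indD K K ⁅K, K⁆) :
    Coh (indD K K ⁅K, K⁆ ∪ S₂) τ := by
  have hj := h.ne_one_of_mem (c₂.sub hm)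
  obtain ⟨ν, hν, e⟩ := exists_isExt τ (χ := pmu K μ 1)
    (by rw [h.fam.pmu_one_one]; exact h.card_A_ne) (ecol η 1)
  have e0 := hν.sub (show pmu K μ 1 1 = ζ 1 by rw [h.fam.pmu_one_one, h.deg_eq hζ])
  have h1 : ∀ i j, classInner (ν ζ) (η i j) = 0 := fun i j => by
    have := h0 i j
    rw [e0, e, classInner_sub_left, h.cyc.classInner_ecol_eta] at this
    simp only [eq_comm (a := (1 : B →* ℂˣ))] at this
    exact sub_eq_self.1 this
  have c₁ := h.cohWith_of_mu hζ hν h1 e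
  have hD := c₁.isDirr hζ (h.irr hζ)
  have h2 : ∀ i, rip (τ (alph μ δ n ζ i j)) (ν ζ) = -n := fun i => by
    have e1 : alph μ δ n ζ i j =
        alph μ δ n ζ 1 j + (μ 1 1 - μ i 1 - (δ j : ℂ) • μ 1 j + (δ j : ℂ) • μ i j) := by
      simp only [alph, dn.sign j hj]
      module
    rw [e1, map_add, h.tau_rect, rip_add_left, h.rip_alph_eq hζ dn hn c₁ e hj]
    simp [rip_comm (η _ _), rip_eq_zero (h1 _ _)]
  have h3 : classInner (ν (pmu K μ j)) (ν ζ) = 0 := by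
    have := h.nu_pmu_sub hζ dn hj hν fun i => h.tau_alph_of hζ dn hj hD h1 (h2 i)
    rw [e, smul_sub, sub_left_inj] at this
    rw [this, classInner_smul_left, classInner_eq_zero_comm.1 (h.cyc.orth_ecol (h1 · j)), mul_zero]
  obtain ⟨ν₂, hν₂⟩ := h₂
  refine ⟨ν, h.sys.union (h.conjSub _) c₁ c₂ (h.sys.cohWith_of_pairs c₂.sub hν fun ξ hξ => ?_)⟩
  obtain ⟨c, -, hc⟩ := exists_degree_of_mem_indD (c₂.sub hξ)
  refine (h.sys.extend (h.conjSub _) c₁ (c₂.sub hξ) (hd ξ hξ) hζ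
    (h.sys.gen_ext hν (c₂.sub hξ) (h.mem_bot hζ) (a := c)
      (by rw [hc, h.deg_eq hζ, h.index, mul_comm]) hD.isGen) ?_).mono Set.subset_union_right
  have e1 : pmu K μ j 1 * ξ 1 = ξ 1 * pmu K μ j 1 := mul_comm _ _
  have h4 := congrArg (classInner · (ν ζ))
    ((hν.smul_sub_smul e1).symm.trans (hν₂.ext.smul_sub_smul e1))
  simp only [classInner_sub_left, classInner_smul_left, h3, classInner_eq_zero_comm.1
    (h.sys.orth_coh (h.conjSub _) c₁ c₂ hν₂ hζ hξ (hd _ hξ)), classInner_eq_zero_comm.1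
    (h.sys.orth_coh (h.conjSub _) c₁ c₂ hν₂ hζ hm (hd _ hm)), mul_zero, sub_zero] at h4
  exact (mul_eq_zero.1 h4).resolve_left (h.sys.one_ne_zero (c₂.sub hm))

omit [Finite A] in
theorem beta_map (σ : ℂ →+* ℂ) (i : A →* ℂˣ) (j : B →* ℂˣ) :
    rip (τ (pmu K μ 1 - ζ)) (η (autLc σ i) (autLc σ j)) = rip (τ (pmu K μ 1 - ζ)) (η i j) := by
  have hg := h.gen _ (h.isGen_beta hζ) (h.suppIn_beta hζ)
  obtain ⟨a, ha⟩ := hg.classInner_eq_int (h.cyc.isGen i j)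
  have h1 := IsGeneralizedCharacter.classInner_map_ringHom (τ (pmu K μ 1 - ζ)) (h.cyc.isGen i j) σ
  have e : (fun x => σ ((pmu K μ 1 - ζ) x)) = (pmu K μ 1 - ζ) - ((fun x => σ (ζ x)) - ζ) := by
    have := h.fam.pmu_map σ 1
    rw [autLc_one] at this
    ext x
    simp [← congrFun this x]
  rw [← h.map, ← h.cyc.map, e, map_sub, classInner_sub_left,
    h.tau_sub_orth hζ (map_mem_indD hζ σ), sub_zero, ha, map_intCast, ← ha] at h1
  rw [rip, h1, rip]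

/-- (11.9.a): a row or a column. -/
theorem row_or_col (hq : (Nat.card A).Prime) :
    (∀ i j, classInner (τ (pmu K μ 1 - ζ)) (η i j) = if j = 1 then 1 else 0) ∨
    ((∀ i j, classInner (τ (pmu K μ 1 - ζ)) (η i j) = if i = 1 then 1 else 0) ∧
      Nat.card B < Nat.card A) := by
  classical
  have := h.cyc.ti.finiteB
  have hg := h.gen _ (h.isGen_beta hζ) (h.suppIn_beta hζ)
  obtain ⟨i₀, hi₀⟩ := h.cyc.ti.exists_ne_oneA
  obtain ⟨j₀, hj₀⟩ := h.cyc.ti.exists_ne_oneB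
  obtain ⟨x, hx⟩ := hg.rip_eq_int (h.cyc.isGen i₀ 1)
  obtain ⟨y, hy⟩ := hg.rip_eq_int (h.cyc.isGen 1 j₀)
  have h1 := h.rip_beta_one hζ
  have key : ∀ i j, rip (τ (pmu K μ 1 - ζ)) (η i j) =
      (if i = 1 then 1 else (x : ℝ)) + (if j = 1 then 1 else (y : ℝ)) - 1 := fun i j => by
    have h2 : rip (τ (pmu K μ 1 - ζ)) (η i 1) = if i = 1 then 1 else (x : ℝ) := by
      split_ifs with e
      · simp [e, h1, -map_sub]
      · obtain ⟨σ, rfl⟩ := exists_autLc_eq hq hi₀ e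
        rw [← hx, ← h.beta_map hζ σ i₀, autLc_one]
    have h3 : rip (τ (pmu K μ 1 - ζ)) (η 1 j) = if j = 1 then 1 else (y : ℝ) := by
      split_ifs with e
      · simp [e, h1, -map_sub]
      · obtain ⟨σ, rfl⟩ := exists_autLc_eq h.primeB hj₀ e
        rw [← hy, ← h.beta_map hζ σ 1 j₀, autLc_one]
    have := h.cyc.rip_exchange hg.isClassFunction (fun a b => h.beta_V hζ) i 1 j 1
    rw [h1, h2, h3] at this
    linarith
  obtain ⟨X, hX, oX, c, hc, c0⟩ : ∃ X, IsDirr G X ∧ (∀ i j, classInner X (η i j) = 0) ∧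
      ∃ c : ℤ, rip (τ (pmu K μ 1 - ζ)) X = c ∧ c ≠ 0 := by
    obtain ⟨ν, hν⟩ := h.coh_der
    have hζ' := conj_mem_indD hζ
    have h2 := h.rip_beta_sub hζ hζ hζ'
    rw [hν.ext.sub (h.irr hζ).isCharacter.conjFun_one.symm, rip_sub_right,
      h.sys.rip_conj (h.mem_bot hζ), (h.irr hζ).rip_self] at h2
    obtain ⟨c, hc⟩ := hg.rip_eq_int (hν.gen _ hζ)
    obtain ⟨c', hc'⟩ := hg.rip_eq_int (hν.gen _ hζ')
    by_cases e : c = 0
    · refine ⟨_, hν.isDirr hζ' (h.irr hζ'),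
        h.coh_orth h.sys subset_rfl (h.conjSub _) hν hζ' (h.irr hζ'), c', hc', ?_⟩
      rintro rfl
      simp [hc, hc', e, -map_sub] at h2
    · exact ⟨_, hν.isDirr hζ (h.irr hζ),
        h.coh_orth h.sys subset_rfl (h.conjSub _) hν hζ (h.irr hζ), c, hc, e⟩
  have h2 := h.cyc.sum_rip_sq_le (τ (pmu K μ 1 - ζ) - (c : ℂ) • X) Finset.univ
  simp only [rip_sub_left, rip_sub_right, rip_intCast_smul_left, rip_intCast_smul_right,
    rip_eq_zero (oX _ _), key, h.rip_beta hζ, rip_comm X (τ _), hc, hX.rip_self, mul_zero,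
    sub_zero] at h2
  rw [Fintype.sum_prod_type] at h2
  have h3 : ∀ z : ℝ, ∑ j : B →* ℂˣ, (z + (if j = 1 then 1 else (y : ℝ)) - 1) ^ 2 =
      z ^ 2 + (Nat.card B - 1) * (z + y - 1) ^ 2 := fun z => by
    have := sum_ite_one (1 : B →* ℂˣ) fun P => (z + (if P then 1 else (y : ℝ)) - 1) ^ 2
    rw [← Nat.card_eq_fintype_card, h.cyc.ti.card_lcB] at this
    convert this using 2 <;> simp
  have h4 := sum_ite_one (1 : A →* ℂˣ) fun P => ((if P then 1 else (x : ℝ)) ^ 2 +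
    (Nat.card B - 1) * ((if P then 1 else (x : ℝ)) + y - 1) ^ 2)
  rw [h.cyc.card_lcA] at h4
  have h5 : (1 : ℝ) ≤ (c : ℝ) ^ 2 := by
    exact_mod_cast (by have := sq_pos_of_ne_zero c0; omega : 1 ≤ c ^ 2)
  have h6 : (1 : ℝ) + (Nat.card B - 1) * y ^ 2 + (Nat.card A - 1) *
      (x ^ 2 + (Nat.card B - 1) * (x + y - 1) ^ 2) ≤ (Nat.card A - 1) + 1 := by
    rw [Finset.sum_congr rfl (g := fun i => (if i = 1 then 1 else (x : ℝ)) ^ 2 +
      (Nat.card B - 1) * ((if i = 1 then 1 else (x : ℝ)) + y - 1) ^ 2)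
      fun i _ => h3 (if i = 1 then 1 else (x : ℝ))] at h2
    have : _ ≤ _ := (le_of_eq (by convert h4.symm)).trans h2
    simp only [if_true, if_false] at this
    nlinarith
  have h7 := h.cyc.ti.three_le_A
  have h8 := h.cyc.ti.three_le_B
  have h9 := h.cyc.ti.card_ne
  rcases arith11 (P := Nat.card B - 1) (Q := Nat.card A - 1) (x := x) (y := y) (by omega) (by omega)
    (by exact_mod_cast h6) with ⟨rfl, rfl⟩ | ⟨rfl, rfl, h10⟩
  · refine Or.inl fun i j => ?_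
    rw [hg.classInner_eq_rip (h.cyc.isGen i j), key]
    split_ifs <;> simp
  · refine Or.inr ⟨fun i j => ?_, by omega⟩
    rw [hg.classInner_eq_rip (h.cyc.isGen i j), key]
    split_ifs <;> simp

omit [Finite A] in
/-- Peterfalvi (11.8), (11.9.a) and the inequality of (11.9.b). -/
theorem sec11_9 {H U : Subgroup L} {p q : ℕ} (h9 : Sec9 K H U ⊥ f p q)
    (hK : ⁅K, K⁆ = H ⊔ (U ⊓ cmod H ⊥)) (hn : ¬ Coh (indD K K (U ⊓ cmod H ⊥)) τ) :
    (∀ i j, classInner (τ (pmu K μ 1 - ζ)) (η i j) = if i = 1 then 1 else 0) ∧ p < q := by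
  have := h.cyc.ti.finiteA
  have := h.normalK
  have := h9.normalH
  have := h9.normal_HC
  have hp : Nat.card B = p := by
    rw [← h9.index_W₂, MonoidHom.comap_bot, (MonoidHom.ker_eq_bot_iff _).2
      fun a b e => (Prod.ext_iff.1 (h9.pti.inj (a₁ := (1, a)) (a₂ := (1, b)) e)).2,
      Subgroup.index_bot]
  refine ((h.row_or_col hζ (h9.cardA ▸ h9.primeq)).resolve_left fun h0 => hn ?_).imp_right
    fun e => by rwa [hp, h9.cardA] at e
  have hP := h.toPDade.mono h9.HK h9.BH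
  obtain ⟨d, n, ε, dn⟩ := h.exists_dn
  obtain ⟨j, hj⟩ := h.cyc.ti.exists_ne_oneB
  obtain ⟨h1, h2, -⟩ := h9.red_spec h.fam (hP.pmu_mem hj)
  rw [bot_sup_eq] at h2
  rw [dn.deg j hj, Nat.cast_inj] at h1
  have h3 := h.card_der
  rw [show ⁅K, K⁆.relIndex K = d by rw [hK, h9.relIndex_sup inf_le_left, h1]] at h3
  have h4 := dn.eq
  have h5 := h.three_le
  obtain ⟨rfl, hn⟩ : ε = 1 ∧ (indF K K ⁅K, K⁆).card = n := by
    generalize (indF K K ⁅K, K⁆).card = m at *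
    generalize Nat.card A = w at *
    have h6 : ((n : ℤ) - m) * w = 1 - ε := by rw [← h3] at h4; push_cast at h4; linarith
    rcases dn.sign j hj ▸ h.fam.sign j with rfl | rfl
    · exact ⟨rfl, by have := (mul_eq_zero.1 h6).resolve_right (by omega); omega⟩
    · have := Int.le_of_dvd (by norm_num) (Dvd.intro_left _ h6)
      omega
  have c₂ : ConjSub (indD K H (U ⊓ cmod H ⊥)) (indD K K ⊥) := conjSub_indD (indD_subset _ _ _)
  refine (h.coh_union hζ dn hn h0 c₂ ((h9.coh hP (h.sys.mono (conjSub_indD (indD_subset _ _ _)))).mono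
    (indD_mono le_rfl (sup_le bot_le (commutator_le_self' _)))) h2 fun φ hφ hφ' =>
      not_le_charKer_of_mem_indD h9.HK hφ (le_sup_left.trans (hK ▸
        le_charKer_of_mem_indD (commutator_le_self' K) hφ'))).mono ?_
  rintro _ ⟨θ, a, b, c, rfl⟩
  by_cases e : KerOn H θ
  · exact Or.inl ⟨θ, a, hK ▸ (kerOn_sup_iff a.isCharacter h9.HK (inf_le_left.trans h9.UK)).2 ⟨e, b⟩,
      c, rfl⟩
  · exact Or.inr ⟨θ, a, b, e, rfl⟩

end P10

end Cfsg.Agent.Char
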