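import Cfsg.Agent.Lib.Char.Sec6B
import Cfsg.Agent.Lib.Solv.Schmidt

/-!
Peterfalvi's Section 7: partial norms, the adjoint `ρ` of the Dade isometry on coherent images,
the parity lemma (7.9) and the non-existence theorem (7.11).
-/

set_option autoImplicit false

namespace Cfsg.Agent.Char

open scoped ComplexConjugate

variable {G : Type*} [Group G]

section nrm

variable [Fintype G]

/-- The part of the squared norm of `χ` carried by the set `S`. -/
noncomputable def nrm (S : Set G) (χ : G → ℂ) : ℝ :=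
  (Nat.card G : ℝ)⁻¹ * ∑ g, S.indicator (fun g => ‖χ g‖ ^ 2) g

variable {S T : Set G} {χ ψ : G → ℂ}

open Classical in
theorem nrm_eq (S : Set G) (χ : G → ℂ) :
    nrm S χ = (Nat.card G : ℝ)⁻¹ * ∑ g with g ∈ S, ‖χ g‖ ^ 2 := by
  rw [nrm, Finset.sum_filter]
  simp only [Set.indicator_apply]

theorem nrm_univ (χ : G → ℂ) : nrm Set.univ χ = rip χ χ := by
  simp [nrm, rip, classInner_self_re]

@[simp] theorem nrm_empty (χ : G → ℂ) : nrm ∅ χ = 0 := by simp [nrm]

theorem nrm_singleton (g : G) (χ : G → ℂ) : nrm {g} χ = ‖χ g‖ ^ 2 / Nat.card G := by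
  classical
  simp [nrm, Set.indicator_apply, div_eq_inv_mul]

theorem nrm_nonneg (S : Set G) (χ : G → ℂ) : 0 ≤ nrm S χ :=
  mul_nonneg (by positivity) (Finset.sum_nonneg fun _ _ =>
    Set.indicator_nonneg (fun _ _ => by positivity) _)

theorem nrm_le_nrm (h : ∀ g ∈ S, ‖χ g‖ ≤ ‖ψ g‖) : nrm S χ ≤ nrm S ψ :=
  mul_le_mul_of_nonneg_left (Finset.sum_le_sum fun g _ => by
    by_cases hg : g ∈ S
    · simp only [Set.indicator_of_mem hg]
      exact pow_le_pow_left₀ (norm_nonneg _) (h g hg) 2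
    · simp [Set.indicator_of_notMem hg]) (by positivity)

theorem nrm_congr (h : ∀ g ∈ S, χ g = ψ g) : nrm S χ = nrm S ψ :=
  le_antisymm (nrm_le_nrm fun g hg => (h g hg ▸ le_rfl)) (nrm_le_nrm fun g hg => (h g hg ▸ le_rfl))

theorem nrm_union (h : Disjoint S T) (χ : G → ℂ) : nrm (S ∪ T) χ = nrm S χ + nrm T χ := by
  simp only [nrm, Set.indicator_union_of_disjoint h, Finset.sum_add_distrib, mul_add]

theorem nrm_mono (h : S ⊆ T) (χ : G → ℂ) : nrm S χ ≤ nrm T χ := by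
  rw [← Set.union_diff_cancel h, nrm_union Set.disjoint_sdiff_right]
  linarith [nrm_nonneg (T \ S) χ]

theorem nrm_union_le (S T : Set G) (χ : G → ℂ) : nrm (S ∪ T) χ ≤ nrm S χ + nrm T χ := by
  rw [← Set.union_diff_self, nrm_union Set.disjoint_sdiff_right]
  linarith [nrm_mono (Set.diff_subset : T \ S ⊆ T) χ]

theorem nrm_diff (h : T ⊆ S) (χ : G → ℂ) : nrm (S \ T) χ = nrm S χ - nrm T χ := by
  rw [eq_sub_iff_add_eq, ← nrm_union Set.disjoint_sdiff_left, Set.diff_union_of_subset h]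

theorem nrm_le_rip (S : Set G) (χ : G → ℂ) : nrm S χ ≤ rip χ χ :=
  nrm_univ χ ▸ nrm_mono (Set.subset_univ S) χ

theorem nrm_add_compl (S : Set G) (χ : G → ℂ) : nrm S χ + nrm Sᶜ χ = rip χ χ := by
  rw [← nrm_union disjoint_compl_right, Set.union_compl_self, nrm_univ]

theorem nrm_add_le (h : Disjoint S T) (χ : G → ℂ) : nrm S χ + nrm T χ ≤ rip χ χ :=
  nrm_union h χ ▸ nrm_le_rip _ χ

theorem nrm_biUnion {ι : Type*} (s : Finset ι) (S : ι → Set G)
    (h : (s : Set ι).PairwiseDisjoint S) (χ : G → ℂ) :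
    nrm (⋃ i ∈ s, S i) χ = ∑ i ∈ s, nrm (S i) χ := by
  simp only [nrm, Finset.indicator_biUnion s S h]
  rw [Finset.sum_comm, Finset.mul_sum]

theorem nrm_const (S : Set G) (c : ℂ) : nrm S (fun _ => c) = ‖c‖ ^ 2 * (S.ncard / Nat.card G) := by
  classical
  rw [nrm_eq, Finset.sum_const, Set.ncard_eq_toFinset_card',
    show S.toFinset = Finset.univ.filter (· ∈ S) by ext; simp, nsmul_eq_mul]
  ring

theorem nrm_one (S : Set G) : nrm S (fun _ => 1) = S.ncard / Nat.card G := by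
  simp [nrm_const]

theorem nrm_of_eq {c : ℂ} (h : ∀ g ∈ S, χ g = c) :
    nrm S χ = ‖c‖ ^ 2 * (S.ncard / Nat.card G) := by
  rw [nrm_congr h, nrm_const]

theorem nrm_eq_zero (h : ∀ g ∈ S, χ g = 0) : nrm S χ = 0 := by
  simp [nrm_of_eq h]

theorem le_nrm {c : ℝ} (hc : 0 ≤ c) (h : ∀ g ∈ S, c ≤ ‖χ g‖) :
    c ^ 2 * (S.ncard / Nat.card G) ≤ nrm S χ := by
  have := nrm_le_nrm (χ := fun _ => (c : ℂ)) (ψ := χ) (S := S) fun g hg => by
    simpa [abs_of_nonneg hc] using h g hg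
  simpa [nrm_const] using this

theorem nrm_one_le (h : ∀ g ∈ S, 1 ≤ ‖χ g‖) : nrm S (fun _ => 1) ≤ nrm S χ :=
  nrm_le_nrm fun g hg => by simpa using h g hg

theorem rip_eq_nrm (h : ∀ g, g ∉ S → χ g = 0) : rip χ χ = nrm S χ := by
  rw [← nrm_add_compl S, nrm_eq_zero (S := Sᶜ) h, add_zero]

theorem nrm_smul (S : Set G) (c : ℂ) (χ : G → ℂ) : nrm S (c • χ) = ‖c‖ ^ 2 * nrm S χ := by
  classical
  simp only [nrm_eq, Pi.smul_apply, smul_eq_mul, norm_mul, mul_pow, ← Finset.mul_sum]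
  ring

theorem nrm_neg (S : Set G) (χ : G → ℂ) : nrm S (-χ) = nrm S χ := by
  simp [nrm]

theorem classInner_eq_zero_of_disjoint (h : Disjoint S T) (h1 : ∀ g, g ∉ S → χ g = 0)
    (h2 : ∀ g, g ∉ T → ψ g = 0) : classInner χ ψ = 0 := by
  rw [classInner, Finset.sum_eq_zero, mul_zero]
  intro g _
  by_cases hg : g ∈ S
  · rw [h2 g (Set.disjoint_left.1 h hg)]; simp
  · rw [h1 g hg, zero_mul]

/-- Real virtual characters of a group of odd order: the parity of their inner product. -/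
theorem exists_rip_eq_of_real (hodd : Odd (Nat.card G)) (hχ : IsGeneralizedCharacter G χ)
    (hψ : IsGeneralizedCharacter G ψ) (h1 : conjFun χ = χ) (h2 : conjFun ψ = ψ) :
    ∃ n : ℤ, rip χ ψ = rip χ (fun _ => 1) * rip ψ (fun _ => 1) + 2 * n := by
  classical
  obtain ⟨c, hc, -⟩ := hχ.exists_coeff
  obtain ⟨d, hd, -⟩ := hψ.exists_coeff
  let t : IrrCharacter G → IrrCharacter G := fun θ => ⟨conjFun θ.1, θ.2.conjFun⟩
  have ht : ∀ θ, t (t θ) = θ := fun θ => Subtype.ext (conjFun_conjFun _)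
  have key : ∀ {φ : G → ℂ} {e : IrrCharacter G → ℤ}, conjFun φ = φ →
      (∀ θ : IrrCharacter G, classInner φ θ = e θ) → ∀ θ, e (t θ) = e θ := by
    intro φ e h he θ
    have h3 : rip φ (t θ) = rip φ θ := by rw [← rip_conjFun_left, h]
    have h4 := rip_eq_of_classInner (r := e θ) (by simpa using he θ)
    have h5 := rip_eq_of_classInner (r := e (t θ)) (by simpa using he (t θ))
    exact_mod_cast h5.symm.trans (h3.trans h4)
  have h3 : rip χ ψ = ((∑ θ, c θ * d θ : ℤ) : ℝ) := by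
    refine rip_eq_of_classInner ?_
    rw [hχ.isClassFunction.classInner_eq_sum]
    simp [hc, hd]
  have h4 : rip χ (fun _ => 1) = c (irrOne G) :=
    rip_eq_of_classInner (by simpa [coe_irrOne] using hc (irrOne G))
  have h5 : rip ψ (fun _ => 1) = d (irrOne G) :=
    rip_eq_of_classInner (by simpa [coe_irrOne] using hd (irrOne G))
  have h6 : ∀ θ, t θ = θ → θ = irrOne G := fun θ h =>
    Subtype.ext (θ.2.eq_one_of_conj_eq hodd (congrArg Subtype.val h))
  have h7 : t (irrOne G) = irrOne G := Subtype.ext (by ext; simp [t, conjFun_apply])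
  have h8 : ∑ θ ∈ Finset.univ.erase (irrOne G), ((c θ * d θ : ℤ) : ZMod 2) = 0 := by
    refine Finset.sum_involution (fun θ _ => t θ) (fun θ _ => ?_) (fun θ hθ _ h => ?_)
      (fun θ hθ => ?_) (fun θ _ => ht θ)
    · rw [key h1 hc, key h2 hd]; exact CharTwo.add_self_eq_zero _
    · exact (Finset.mem_erase.1 hθ).1 (h6 θ h)
    · refine Finset.mem_erase.2 ⟨fun h => (Finset.mem_erase.1 hθ).1 ?_, Finset.mem_univ _⟩
      rw [← ht θ, h, h7]
  rw [← Int.cast_sum, ZMod.intCast_zmod_eq_zero_iff_dvd] at h8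
  obtain ⟨n, hn⟩ := h8
  refine ⟨n, ?_⟩
  rw [h3, h4, h5, ← Finset.add_sum_erase _ _ (Finset.mem_univ (irrOne G)), hn]
  push_cast; ring

end nrm

end Cfsg.Agent.Char

namespace Cfsg.DadeHypothesis

open Cfsg.Agent Cfsg.Agent.Char

variable {G : Type*} [Group G] {A : Set G} {L : Subgroup G} {H : G → Subgroup G}
  [Fintype G] [Fintype L] (hD : DadeHypothesis A L H)
include hD

theorem rip_rho_le_nrm {χ : G → ℂ} (hχ : IsClassFunction G χ) :
    rip (dadeRho A L H χ) (dadeRho A L H χ) ≤ nrm (dadeSupp A H) χ := by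
  rw [nrm_eq]; exact hD.rip_rho_le hχ

/-- If `χ` is constant on the cosets `a H(a)`, (7.3) is an equality. -/
theorem nrm_dadeSupp {χ : G → ℂ} (hχ : IsClassFunction G χ)
    (h : ∀ a ∈ A, ∀ u ∈ H a, χ (a * u) = χ a) :
    nrm (dadeSupp A H) χ = nrm {x : L | (x : G) ∈ A} fun x => χ x := by
  classical
  have h1 := hD.sum_dadeSupp (hχ.map fun z => ((‖z‖ ^ 2 : ℝ) : ℂ))
  have h2 : ∀ a : L, dadeRho A L H (fun g => ((‖χ g‖ ^ 2 : ℝ) : ℂ)) a =
      ((if (a : G) ∈ A then ‖χ a‖ ^ 2 else 0 : ℝ) : ℂ) := by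
    intro a
    split_ifs with ha
    · rw [dadeRho_of_mem H _ ha, avg_congr (f' := fun _ => ((‖χ a‖ ^ 2 : ℝ) : ℂ)), avg_const]
      intro u hu; rw [h _ ha u hu]
    · rw [dadeRho_of_not_mem H _ ha]; simp
  simp only [h2] at h1
  rw [nrm_eq, nrm_eq, Finset.sum_filter (s := (Finset.univ : Finset L))]
  apply Complex.ofReal_injective
  simpa using h1

theorem nrm_one_dadeSupp :
    nrm (dadeSupp A H) (fun _ => 1) = A.ncard / Nat.card L := by
  rw [hD.nrm_dadeSupp (IsClassFunction.const 1) fun _ _ _ _ => rfl, nrm_one]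
  congr 2
  rw [← Set.ncard_image_of_injective _ L.subtype_injective]
  congr 1
  ext a
  exact ⟨fun ⟨x, hx, e⟩ => e ▸ hx, fun ha => ⟨⟨a, hD.subset ha⟩, ha, rfl⟩⟩

end Cfsg.DadeHypothesis

namespace Cfsg.Agent.Char

open scoped ComplexConjugate

variable {G : Type*} [Group G]

section general

variable [Fintype G]

theorem sum_rip_of_orth {ι : Type*} {s : Finset ι} {P : ι → G → ℂ}
    (h : ∀ i ∈ s, ∀ j ∈ s, i ≠ j → rip (P i) (P j) = 0) :
    rip (∑ i ∈ s, P i) (∑ i ∈ s, P i) = ∑ i ∈ s, rip (P i) (P i) := by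
  rw [rip_sum_left]
  refine Finset.sum_congr rfl fun i hi => ?_
  rw [rip_sum_right, Finset.sum_eq_single_of_mem i hi fun j hj e => h i hi j hj e.symm]

theorem rip_le_of_rip_eq {Y P : G → ℂ} (h : rip Y P = rip P P) : rip P P ≤ rip Y Y := by
  have := rip_self_nonneg (Y - P)
  simp only [rip_sub_left, rip_sub_right, rip_comm P Y] at this
  linarith

theorem rip_eq_zero_of_conj {Z q : G → ℂ} (hZ : conjFun Z = -Z) (h : rip Z (q - conjFun q) = 0) :
    rip Z q = 0 := by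
  rw [rip_sub_right, ← rip_conjFun_left, hZ, rip_neg_left] at h
  linarith

theorem IsDirr.orth_of_sub_conj {p q : G → ℂ} (hp : IsDirr G p) (hq : IsDirr G q)
    (h1 : rip p (conjFun p) = 0) (h2 : rip (p - conjFun p) q = 0) : classInner p q = 0 := by
  rcases hp.trichotomy hq with rfl | e | e
  · rw [rip_sub_left, rip_comm (conjFun p), h1, hp.rip_self] at h2; norm_num at h2
  · obtain rfl : q = -p := by rw [e, neg_neg]
    rw [rip_neg_right, rip_sub_left, rip_comm (conjFun p), h1, hp.rip_self] at h2; norm_num at h2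
  · exact e

variable {H : Subgroup G} [hH : H.Normal]

theorem ind_one_of_mem {x : G} (hx : x ∈ H) : indFun H (fun _ => 1) x = H.index := by
  simpa using res_indFun_of_invariant (N := H) (θ := fun _ => 1) (fun g => cj_const g 1) ⟨x, hx⟩

theorem classInner_ind_one_self :
    classInner (indFun H fun _ => 1) (indFun H fun _ => 1) = H.index := by
  classical
  rw [frobenius_left _ _ (isClassFunction_indFun _ _), show (fun h : H => indFun H (fun _ => 1) h) =
    (H.index : ℂ) • fun _ => (1 : ℂ) from funext fun h => by simp [ind_one_of_mem h.2],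
    classInner_smul_right, isIrrCharacter_one.classInner_self]
  simp

theorem rip_ind_one_self : rip (indFun H fun _ => 1) (indFun H fun _ => 1) = H.index :=
  rip_eq_of_classInner (by simpa using classInner_ind_one_self)

omit hH in
theorem classInner_ind_one_one (H : Subgroup G) :
    classInner (indFun H fun _ => 1) (fun _ => 1) = 1 := by
  classical
  rw [frobenius_left _ _ (IsClassFunction.const 1), isIrrCharacter_one.classInner_self]

omit hH in
theorem conjFun_ind_one (H : Subgroup G) :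
    conjFun (indFun H fun _ => 1) = indFun H fun _ => 1 := by
  rw [conjFun_eq, ← indFun_conj]; simp

/-- All characters induced from irreducible characters of `H`. -/
def indT (H : Subgroup G) : Set (G → ℂ) := insert (indFun H fun _ => 1) (indD H H ⊥)

omit hH in
theorem ind_one_mem_indT : (indFun H fun _ => 1) ∈ indT H := Set.mem_insert _ _

omit hH in
theorem indD_subset_indT : indD H H ⊥ ⊆ indT H := Set.subset_insert _ _

omit hH in
theorem ind_mem_indT {θ : H → ℂ} (hθ : IsIrrCharacter H θ) : indFun H θ ∈ indT H := by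
  by_cases h : θ = fun _ => 1
  · exact h ▸ ind_one_mem_indT
  · exact indD_subset_indT (ind_mem_indD hθ (kerOn_bot θ) (mt (kerOn_self_iff hθ).1 h))

omit hH in
theorem isCharacter_of_mem_indT {φ : G → ℂ} (h : φ ∈ indT H) : IsCharacter G φ := by
  rcases h with rfl | h
  · exact isCharacter_one.ind
  · exact isCharacter_of_mem_indD h

theorem eq_zero_of_mem_indT {φ : G → ℂ} (h : φ ∈ indT H) {x : G} (hx : x ∉ H) : φ x = 0 := by
  rcases h with rfl | h
  · exact indFun_normal_of_not_mem _ hx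
  · exact eq_zero_of_mem_indD h hx

theorem eq_zero_of_mem_span_indT {φ : G → ℂ} (h : φ ∈ Submodule.span ℂ (indT H)) {x : G}
    (hx : x ∉ H) : φ x = 0 := by
  induction h using Submodule.span_induction with
  | mem φ h => exact eq_zero_of_mem_indT h hx
  | zero => rfl
  | add _ _ _ _ h1 h2 => simp [h1, h2]
  | smul _ _ _ h => simp [h]

omit hH in
theorem isClassFunction_of_mem_span_indT {φ : G → ℂ} (h : φ ∈ Submodule.span ℂ (indT H)) :
    IsClassFunction G φ :=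
  isClassFunction_of_mem_span (fun _ h => (isCharacter_of_mem_indT h).isClassFunction) h

theorem mem_span_indT {α : G → ℂ} (hα : IsClassFunction G α) (h : ∀ x, x ∉ H → α x = 0) :
    α ∈ Submodule.span ℂ (indT H) := by
  classical
  have h0 : (H.index : ℂ) ≠ 0 := Nat.cast_ne_zero.2 Subgroup.index_ne_zero_of_finite
  have h1 : α = (H.index : ℂ)⁻¹ • indFun H fun h => α h := by
    ext x
    rw [indFun_res H hα]
    by_cases hx : x ∈ H
    · simp [ind_one_of_mem hx, h0]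
    · simp [h x hx]
  rw [h1, (hα.res H).eq_sum, indFun_sum]
  refine Submodule.smul_mem _ _ (Submodule.sum_mem _ fun θ _ => ?_)
  rw [indFun_smul]
  exact Submodule.smul_mem _ _ (Submodule.subset_span (ind_mem_indT θ.2))

/-- The non-principal part of the regular character of `G`, relative to `H`. -/
noncomputable def regS (H : Subgroup G) : G → ℂ :=
  ∑ φ ∈ indF H H ⊥, ((deg φ / rip φ φ : ℝ) : ℂ) • φ

omit hH in
theorem regS_mem_span : regS H ∈ Submodule.span ℂ (indD H H ⊥) :=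
  Submodule.sum_mem _ fun _ h => Submodule.smul_mem _ _ (Submodule.subset_span (mem_indF.1 h))

theorem regS_one : regS H 1 = H.index * ((Nat.card H : ℂ) - 1) := by
  have := sum_indF_apply (K := H) (H := H) (M := ⊥) le_rfl bot_le 1
  simpa [regS, Finset.sum_apply] using this

theorem rip_regS : rip (regS H) (regS H) = H.index * ((Nat.card H : ℝ) - 1) := by
  rw [regS, sum_rip_of_orth, ← Subgroup.relIndex_bot_left, ← sum_indF_deg_sq_self bot_le]
  · refine Finset.sum_congr rfl fun φ hφ => ?_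
    have := (rip_self_pos (ne_zero_of_mem_indD (mem_indF.1 hφ))).ne'
    rw [rip_real_smul_left, rip_real_smul_right]
    field_simp
  · intro φ hφ ψ hψ e
    rw [rip_real_smul_left, rip_real_smul_right,
      rip_eq_zero (orth_of_mem_indD (mem_indF.1 hφ) (mem_indF.1 hψ) e)]
    simp

theorem ncard_sharp (H : Subgroup G) : {x : G | x ∈ H ∧ x ≠ 1}.ncard + 1 = Nat.card H := by
  rw [show {x : G | x ∈ H ∧ x ≠ 1} = (H : Set G) \ {1} from rfl,
    Set.ncard_diff_singleton_add_one H.one_mem, ← Nat.card_coe_set_eq]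
  rfl

theorem ncard_sharp_div (H : Subgroup G) : ({x : G | x ∈ H ∧ x ≠ 1}.ncard : ℝ) / Nat.card G =
    ((Nat.card H : ℝ) - 1) / (H.index * Nat.card H) := by
  rw [← ncard_sharp H, ← H.index_mul_card, ← ncard_sharp H]
  push_cast; ring

/-- The kernel of a Frobenius group is nilpotent. -/
theorem FrobMod.isNilpotent (h : FrobMod H H ⊥) (hne : H ≠ ⊤) : Group.IsNilpotent H := by
  have h1 := frobMod_bot_iff.1 h
  have h2 := coprime_card_index_of_centralizer_le h1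
  obtain ⟨p, hp, hd⟩ := Nat.exists_prime_and_dvd (mt Subgroup.index_eq_one.1 hne)
  have := Fact.mk hp
  obtain ⟨x, hx⟩ := exists_prime_orderOf_dvd_card' p (hd.trans H.index_dvd_card)
  have hx1 : x ≠ 1 := by rintro rfl; exact hp.one_lt.ne (by simpa using hx)
  refine Solv.thompson_fpf (H := Subgroup.zpowers x) (H.normalizer_eq_top ▸ le_top)
    (mt Subgroup.zpowers_eq_bot.1 hx1) (Solv.fpf_zpowers_of_prime (hx ▸ hp) ?_)
  refine (Subgroup.eq_bot_iff_forall _).2 fun k hk => by_contra fun hk1 => ?_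
  have h3 : x ∈ H := h1 k hk.1 hk1 (Subgroup.mem_centralizer_singleton_iff.2
    (Subgroup.mem_centralizer_singleton_iff.1 hk.2).symm)
  have h4 := H.orderOf_dvd_natCard h3
  rw [hx] at h4
  exact hp.one_lt.ne' (Nat.eq_one_of_dvd_coprimes h2 h4 hd)

theorem FrobMod.irr (h : FrobMod H H ⊥) {M N : Subgroup G} {φ : G → ℂ} (hφ : φ ∈ indD H M N) :
    IsIrrCharacter G φ := by
  obtain ⟨θ, hθ, -, h1, rfl⟩ := hφ
  exact hθ.ind_of_centralizer_le (frobMod_bot_iff.1 h) fun e => h1 (e ▸ kerOn_one M)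

end general

/-- Hypothesis (7.6): `τ` agrees with the Dade isometry relative to `A = H^#`. -/
structure D7 [Fintype G] (A : Set G) (L : Subgroup G) (R : G → Subgroup G) (H : Subgroup L)
    (τ : (L → ℂ) →ₗ[ℂ] (G → ℂ)) : Prop where
  dade : DadeHypothesis A L R
  mem : ∀ x : L, (x : G) ∈ A ↔ x ∈ H ∧ x ≠ 1
  eq : ∀ α, IsClassFunction L α → (∀ x, x ∉ H → α x = 0) → α 1 = 0 → τ α = dadeLin A L R α
  cj : ∀ α, τ (conjFun α) = conjFun (τ α)

/-- Hypothesis (7.8). -/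
structure C7 [Fintype G] (A : Set G) (L : Subgroup G) [Fintype L] (R : G → Subgroup G)
    (H : Subgroup L) (τ ν : (L → ℂ) →ₗ[ℂ] (G → ℂ)) (ζ : L → ℂ) : Prop extends D7 A L R H τ where
  coh : CohWith (indD H H ⊥) τ ν
  mem_S : ζ ∈ indD H H ⊥
  irr : IsIrrCharacter L ζ
  one : ζ 1 = H.index
  odd : Odd (Nat.card L)

variable [Fintype G] {A A' : Set G} {L : Subgroup G} [Fintype L] {R : G → Subgroup G}
  {H : Subgroup L} [hH : H.Normal] {τ ν : (L → ℂ) →ₗ[ℂ] (G → ℂ)} {ζ : L → ℂ}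

theorem d7_of_restrict (hD : DadeHypothesis A' L R) (h1 : A ⊆ A')
    (mem : ∀ x : L, (x : G) ∈ A ↔ x ∈ H ∧ x ≠ 1) : D7 A L R H (dadeLin A' L R) := by
  have h2 : ∀ x ∈ L, ∀ a ∈ A, x * a * x⁻¹ ∈ A := fun x hx a ha => by
    have ha' := (mem ⟨a, hD.subset (h1 ha)⟩).1 ha
    refine (mem (⟨x, hx⟩ * ⟨a, hD.subset (h1 ha)⟩ * ⟨x, hx⟩⁻¹)).2 ⟨hH.conj_mem _ ha'.1 _, ?_⟩
    simpa [mul_inv_eq_one] using ha'.2
  refine ⟨hD.restrict h1 h2, mem, fun α hα h0 h3 => (hD.dade_restrict h1 h2 hα fun x hx => ?_).symm,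
    dadeLin_conjFun _ _ _⟩
  by_cases hx1 : x = 1
  · rw [hx1, h3]
  · exact h0 x fun h => hx ((mem x).2 ⟨h, hx1⟩)

theorem d7_of_ti (ti : ∀ x ∈ H, x ≠ 1 → ∀ y ∈ H, ∀ g : G, g * x * g⁻¹ = y → g ∈ L) :
    D7 {g | g ∈ H.map L.subtype ∧ g ≠ 1} L (fun _ => ⊥) H (indLin L) := by
  have mem : ∀ x : L, (x : G) ∈ {g | g ∈ H.map L.subtype ∧ g ≠ 1} ↔ x ∈ H ∧ x ≠ 1 := fun x => by
    simp
  have hD : DadeHypothesis {g | g ∈ H.map L.subtype ∧ g ≠ 1} L fun _ => ⊥ := by
    refine dadeHypothesis_of_TI (fun h => h.2 rfl) ?_ ?_ ?_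
    · rintro _ ⟨⟨x, -, rfl⟩, -⟩; exact x.2
    · rintro g hg _ ⟨⟨x, hx, rfl⟩, h1⟩
      exact ⟨⟨⟨g, hg⟩ * x * ⟨g, hg⟩⁻¹, hH.conj_mem _ hx _, rfl⟩, by simpa [mul_inv_eq_one] using h1⟩
    · rintro _ ⟨⟨x, hx, rfl⟩, h1⟩ g ⟨⟨y, hy, e⟩, -⟩
      exact ti x hx (fun e => h1 (by simp [e])) y hy g e.symm
  refine ⟨hD, mem, fun α hα h0 h1 => (hD.dade_eq_ind hα fun x hx => ⟨(mem x).2 ⟨?_, ?_⟩, rfl⟩).symm,
    fun α => indFun_conj L α⟩
  · exact by_contra fun h => hx (h0 x h)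
  · rintro rfl; exact hx h1

namespace D7

variable (h : D7 A L R H τ)
include h

omit [Fintype L] hH in
theorem supp {α : L → ℂ} (h0 : ∀ x, x ∉ H → α x = 0) (h1 : α 1 = 0) (x : L) (hx : (x : G) ∉ A) :
    α x = 0 := by
  by_cases hx1 : x = 1
  · rw [hx1, h1]
  · exact h0 x fun e => hx ((h.mem x).2 ⟨e, hx1⟩)

theorem eq_span {α : L → ℂ} (hα : α ∈ Submodule.span ℂ (indT H)) (h1 : α 1 = 0) :
    τ α = dadeLin A L R α :=
  h.eq α (isClassFunction_of_mem_span_indT hα) (fun _ => eq_zero_of_mem_span_indT hα) h1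

theorem isoOn : IsoOn (indT H) τ :=
  (h.dade.isoOn (fun _ => isCharacter_of_mem_indT) fun _ hχ x h1 hx =>
    eq_zero_of_mem_indT hχ fun e => hx ((h.mem x).2 ⟨e, h1⟩)).congr fun _ => h.eq_span

theorem tau_eq_zero {α : L → ℂ} (hα : α ∈ Submodule.span ℂ (indT H)) (h1 : α 1 = 0) {g : G}
    (hg : g ∉ dadeSupp A R) : τ α g = 0 := by
  rw [h.eq_span hα h1, dadeLin_of_not_mem _ hg]

theorem tau_one {α : L → ℂ} (hα : α ∈ Submodule.span ℂ (indT H)) (h1 : α 1 = 0) :
    classInner (τ α) (fun _ => 1) = classInner α fun _ => 1 := by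
  rw [h.eq_span hα h1, h.dade.reciprocity_one (isClassFunction_of_mem_span_indT hα)
    (h.supp (fun _ => eq_zero_of_mem_span_indT hα) h1)]

omit hH in
theorem rip_rho (χ : G → ℂ) : rip (dadeRho A L R χ) (dadeRho A L R χ) =
    nrm {x | x ∈ H ∧ x ≠ 1} (dadeRho A L R χ) :=
  rip_eq_nrm fun x hx => dadeRho_of_not_mem _ _ fun e => hx ((h.mem x).1 e)

omit hH in
theorem nrm_one : nrm (dadeSupp A R) (fun _ => 1) =
    ((Nat.card H : ℝ) - 1) / (H.index * Nat.card H) := by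
  rw [h.dade.nrm_dadeSupp (IsClassFunction.const 1) fun _ _ _ _ => rfl, ← ncard_sharp_div,
    Char.nrm_one]
  simp only [h.mem]

/-- Peterfalvi (7.7). -/
theorem rho_eq (hν : IsExt τ ν) {χ : G → ℂ} (hχ : IsClassFunction G χ) {ψ : L → ℂ}
    (hψ : IsClassFunction L ψ) (c : ℂ)
    (e : ∀ φ ∈ indT H, classInner (ν φ) χ = classInner φ ψ + c * φ 1) {x : L} (hx : x ∈ H)
    (hx1 : x ≠ 1) : dadeRho A L R χ x = ψ x := by
  classical
  have e' : ∀ φ ∈ Submodule.span ℂ (indT H), classInner (ν φ) χ = classInner φ ψ + c * φ 1 := by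
    intro φ hφ
    induction hφ using Submodule.span_induction with
    | mem φ h => exact e φ h
    | zero => simp
    | add _ _ _ _ h1 h2 => simp only [map_add, classInner_add_left, h1, h2, Pi.add_apply]; ring
    | smul _ _ _ h1 =>
      simp only [map_smul, classInner_smul_left, h1, Pi.smul_apply, smul_eq_mul]; ring
  obtain ⟨ψ', hψ'⟩ : ∃ ψ' : L → ℂ, ψ' = fun x : L => if (x : G) ∈ A then ψ x else 0 := ⟨_, rfl⟩
  have h1 : IsClassFunction L ψ' := fun a b => by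
    simp only [hψ', Subgroup.coe_mul, Subgroup.coe_inv, h.dade.conj_mem_iff b.2, hψ a b]
  have h2 := (h.dade.isClassFunction_rho hχ).sub h1
  have h3 : ∀ x : L, (x : G) ∉ A → (dadeRho A L R χ - ψ') x = 0 := fun x hx => by
    simp [hψ', hx, dadeRho_of_not_mem _ _ hx]
  have h4 : (dadeRho A L R χ - ψ') 1 = 0 := h3 1 h.dade.one_not_mem
  have h5 := mem_span_indT (H := H) h2 fun x hx => h3 x fun e => hx ((h.mem x).1 e).1
  have h6 := e' _ h5
  rw [hν _ h4, h.eq_span h5 h4, h.dade.reciprocity h2 hχ, h4, mul_zero, add_zero] at h6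
  have h7 : classInner (dadeRho A L R χ - ψ') ψ = classInner (dadeRho A L R χ - ψ') ψ' := by
    simp only [classInner]
    congr 1
    refine Finset.sum_congr rfl fun y _ => ?_
    by_cases hy : (y : G) ∈ A
    · simp [hψ', hy]
    · rw [h3 y hy, zero_mul, zero_mul]
  have h8 : dadeRho A L R χ - ψ' = 0 := by
    rw [← classInner_self_eq_zero, classInner_sub_right, h6, h7, sub_self]
  have := congrFun h8 x
  simpa [hψ', (h.mem x).2 ⟨hx, hx1⟩, sub_eq_zero] using this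

theorem rip_rho_eq (hν : IsExt τ ν) {χ : G → ℂ} (hχ : IsClassFunction G χ) {ψ : L → ℂ}
    (hψ : ψ ∈ Submodule.span ℂ (indT H)) (c : ℂ)
    (e : ∀ φ ∈ indT H, classInner (ν φ) χ = classInner φ ψ + c * φ 1) :
    rip (dadeRho A L R χ) (dadeRho A L R χ) =
      rip ψ ψ - ‖ψ 1‖ ^ 2 / (H.index * Nat.card H) := by
  rw [h.rip_rho, nrm_congr (ψ := ψ) fun x hx =>
    h.rho_eq hν hχ (isClassFunction_of_mem_span_indT hψ) c e hx.1 hx.2,
    show {x : L | x ∈ H ∧ x ≠ 1} = (H : Set L) \ {1} from rfl,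
    nrm_diff (Set.singleton_subset_iff.2 H.one_mem), nrm_singleton,
    ← rip_eq_nrm fun x hx => eq_zero_of_mem_span_indT hψ hx, ← H.index_mul_card, Nat.cast_mul]

end D7

namespace C7

variable (h : C7 A L R H τ ν ζ)
include h

theorem isoOn : IsoOn (indT H) τ := h.toD7.isoOn

theorem isoOn_S : IsoOn (indD H H ⊥) τ := h.isoOn.mono indD_subset_indT

omit hH in
theorem deg_eq : deg ζ = H.index := deg_eq_nat h.one

omit hH in
theorem isDirr : IsDirr G (ν ζ) := h.coh.isDirr h.mem_S h.irr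

theorem conj_ne {φ : L → ℂ} (hφ : φ ∈ indD H H ⊥) : conjFun φ ≠ φ := conj_ne_of_mem_indD h.odd hφ

theorem conj_nu {φ : L → ℂ} (hφ : φ ∈ indD H H ⊥) (hi : IsIrrCharacter L φ) :
    ν (conjFun φ) = conjFun (ν φ) :=
  h.isoOn_S.conj_ext le_rfl h.coh h.cj hφ (conj_mem_indD hφ) hi (h.conj_ne hφ)

theorem tau_sub_conj {φ : L → ℂ} (hφ : φ ∈ indD H H ⊥) (hi : IsIrrCharacter L φ) :
    τ (φ - conjFun φ) = ν φ - conjFun (ν φ) := by
  rw [h.coh.ext.sub hi.isCharacter.conjFun_one.symm, h.conj_nu hφ hi]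

theorem rip_conj {φ : L → ℂ} (hφ : φ ∈ indD H H ⊥) (hi : IsIrrCharacter L φ) :
    rip (ν φ) (conjFun (ν φ)) = 0 := by
  rw [← h.conj_nu hφ hi, h.coh.rip_eq hφ (conj_mem_indD hφ),
    hi.rip_of_ne hi.conjFun (h.conj_ne hφ).symm]

omit hH in
theorem index_ne : (H.index : ℂ) ≠ 0 := Nat.cast_ne_zero.2 Subgroup.index_ne_zero_of_finite

omit hH in
theorem index_pos : (0 : ℝ) < H.index :=
  Nat.cast_pos.2 (Nat.pos_of_ne_zero Subgroup.index_ne_zero_of_finite)

omit hH in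
/-- Every class function is its component along `ζ` plus a function vanishing at `1`. -/
theorem nu_eq (α : L → ℂ) : ν α = τ (α - (α 1 / H.index) • ζ) + (α 1 / H.index) • ν ζ := by
  rw [h.coh.ext.sub_smul (by rw [h.one, div_mul_cancel₀ _ h.index_ne]), sub_add_cancel]

omit hH in
theorem sub_one (α : L → ℂ) : (α - (α 1 / H.index) • ζ) 1 = 0 := by
  simp [h.one, div_mul_cancel₀ _ h.index_ne]

omit hH in
theorem sub_mem {S : Set (L → ℂ)} (hS : indD H H ⊥ ⊆ S) {α : L → ℂ} (hα : α ∈ Submodule.span ℂ S) :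
    α - (α 1 / H.index) • ζ ∈ Submodule.span ℂ S :=
  Submodule.sub_mem _ hα (Submodule.smul_mem _ _ (Submodule.subset_span (hS h.mem_S)))

theorem zeta_one : classInner (ν ζ) (fun _ => 1) = 0 := by
  refine h.isDirr.orth_of_sub_conj isIrrCharacter_one.isDirr (h.rip_conj h.mem_S h.irr) ?_
  rw [← h.tau_sub_conj h.mem_S h.irr]
  refine rip_eq_zero ?_
  rw [h.tau_one (sub_mem_span (indD_subset_indT h.mem_S) (indD_subset_indT (conj_mem_indD h.mem_S)))
    (by simp [h.irr.isCharacter.conjFun_one]), classInner_sub_left,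
    classInner_one_of_mem_indD h.mem_S, classInner_one_of_mem_indD (conj_mem_indD h.mem_S), sub_self]

theorem nu_one {α : L → ℂ} (hα : α ∈ Submodule.span ℂ (indT H)) :
    classInner (ν α) (fun _ => 1) = classInner α fun _ => 1 := by
  rw [h.nu_eq, classInner_add_left, classInner_smul_left, h.zeta_one,
    h.tau_one (h.sub_mem indD_subset_indT hα) (h.sub_one α), classInner_sub_left,
    classInner_smul_left, classInner_one_of_mem_indD h.mem_S]
  simp

theorem orth_one {φ : L → ℂ} (hφ : φ ∈ indD H H ⊥) : classInner (ν φ) (fun _ => 1) = 0 := by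
  rw [h.nu_one (Submodule.subset_span (indD_subset_indT hφ)), classInner_one_of_mem_indD hφ]

theorem X_one : rip (ν (indFun H fun _ => 1)) (fun _ => 1) = 1 :=
  rip_eq_one (by rw [h.nu_one (Submodule.subset_span ind_one_mem_indT), classInner_ind_one_one])

omit hH in
theorem ind_one_one : indFun H (fun _ => 1) 1 = ζ 1 := by simp [indFun_one, h.one]

omit hH in
theorem beta_eq : τ ((indFun H fun _ => 1) - ζ) = ν (indFun H fun _ => 1) - ν ζ :=
  h.coh.ext.sub h.ind_one_one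

theorem beta_eq_zero {g : G} (hg : g ∉ dadeSupp A R) :
    (ν (indFun H fun _ => 1) - ν ζ) g = 0 := by
  rw [← h.beta_eq]
  exact h.tau_eq_zero (sub_mem_span ind_one_mem_indT (indD_subset_indT h.mem_S))
    (by simp [h.ind_one_one]) hg

theorem gen_X : IsGeneralizedCharacter G (ν (indFun H fun _ => 1)) :=
  h.isoOn.gen_ext h.coh.ext ind_one_mem_indT (indD_subset_indT h.mem_S) (a := 1)
    (by simp [h.ind_one_one]) h.isDirr.isGen

theorem conj_X : conjFun (ν (indFun H fun _ => 1)) = ν (indFun H fun _ => 1) := by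
  have h1 := h.cj ((indFun H fun _ => 1) - ζ)
  rw [h.beta_eq, conjFun_sub, conjFun_sub, conjFun_ind_one, h.coh.ext.sub
    (by rw [h.ind_one_one, h.irr.isCharacter.conjFun_one]), h.conj_nu h.mem_S h.irr] at h1
  exact (sub_left_injective h1).symm

theorem exists_int : ∃ a : ℤ, rip (ν (indFun H fun _ => 1)) (ν ζ) = a :=
  h.gen_X.rip_eq_int h.isDirr.isGen

theorem rip_beta : rip (ν (indFun H fun _ => 1) - ν ζ) (ν (indFun H fun _ => 1) - ν ζ) =
    H.index + 1 := by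
  have hm := sub_mem_span (R := ℂ) ind_one_mem_indT (indD_subset_indT h.mem_S)
  have h0 : ((indFun H fun _ => 1) - ζ) 1 = 0 := by simp [h.ind_one_one]
  have h1 := rip_eq_zero (classInner_ind_one_of_mem_indD h.mem_S)
  rw [← h.beta_eq, h.isoOn.rip_eq hm hm h0 h0]
  simp only [rip_sub_left, rip_sub_right, rip_ind_one_self, h.irr.rip_self, h1, rip_comm _ ζ]
  ring

theorem rip_X : rip (ν (indFun H fun _ => 1)) (ν (indFun H fun _ => 1)) =
    H.index + 2 * rip (ν (indFun H fun _ => 1)) (ν ζ) := by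
  have := h.rip_beta
  simp only [rip_sub_left, rip_sub_right, h.isDirr.rip_self, rip_comm (ν ζ)] at this
  linarith

theorem X_tau {α : L → ℂ} (hα : α ∈ Submodule.span ℂ (indD H H ⊥)) (h1 : α 1 = 0) :
    classInner (τ α) (ν (indFun H fun _ => 1)) = 0 := by
  have h2 := h.isoOn.iso α (Submodule.span_mono indD_subset_indT hα) _
    (sub_mem_span ind_one_mem_indT (indD_subset_indT h.mem_S)) h1 (by simp [h.ind_one_one])
  rw [h.beta_eq, classInner_sub_right, classInner_sub_right, ← h.coh.ext α h1,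
    h.coh.iso_span hα (Submodule.subset_span h.mem_S),
    orth_span_left (fun _ => classInner_ind_one_of_mem_indD) hα, sub_left_inj] at h2
  rw [← h.coh.ext α h1, h2]

omit hH in
/-- A function orthogonal to `τ(S, L^#)` has inner products with `ν S` proportional to degrees. -/
theorem inner_of_orth {Y : G → ℂ}
    (hY : ∀ α ∈ Submodule.span ℂ (indD H H ⊥), α 1 = 0 → classInner (τ α) Y = 0) {α : L → ℂ}
    (hα : α ∈ Submodule.span ℂ (indD H H ⊥)) :
    classInner (ν α) Y = α 1 / H.index * classInner (ν ζ) Y := by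
  rw [h.nu_eq, classInner_add_left, hY _ (h.sub_mem le_rfl hα) (h.sub_one α), zero_add,
    classInner_smul_left]

theorem exists_proj {Y : G → ℂ}
    (hY : ∀ α ∈ Submodule.span ℂ (indD H H ⊥), α 1 = 0 → classInner (τ α) Y = 0) :
    ∃ α ∈ Submodule.span ℂ (indD H H ⊥), rip Y (ν α) = rip (ν α) (ν α) ∧
      rip (ν α) (ν α) = rip Y (ν ζ) ^ 2 * (((Nat.card H : ℝ) - 1) / H.index) := by
  have h0 := h.index_pos
  have h1 : rip Y (ν (regS H)) = ((Nat.card H : ℝ) - 1) * rip Y (ν ζ) := by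
    rw [rip_comm, rip_comm Y, rip, h.inner_of_orth hY regS_mem_span, regS_one,
      mul_div_cancel_left₀ _ h.index_ne, ← Complex.ofReal_natCast, ← Complex.ofReal_one,
      ← Complex.ofReal_sub, Complex.re_ofReal_mul, rip]
  have h2 := h.coh.rip_span regS_mem_span regS_mem_span
  refine ⟨((rip Y (ν ζ) / H.index : ℝ) : ℂ) • regS H, Submodule.smul_mem _ _ regS_mem_span, ?_⟩
  simp only [map_smul, rip_real_smul_left, rip_real_smul_right, h1, h2, rip_regS]
  constructor <;> field_simp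

theorem sq_mul_le {Y : G → ℂ}
    (hY : ∀ α ∈ Submodule.span ℂ (indD H H ⊥), α 1 = 0 → classInner (τ α) Y = 0) :
    rip Y (ν ζ) ^ 2 * (((Nat.card H : ℝ) - 1) / H.index) ≤ rip Y Y := by
  obtain ⟨α, -, h1, h2⟩ := h.exists_proj hY
  exact h2 ▸ rip_le_of_rip_eq h1

/-- Peterfalvi (7.8.a,b): the bound for components of `β` orthogonal to `1` and `ν S`. -/
theorem gamma_le' {Y : G → ℂ} (h1 : rip (ν (indFun H fun _ => 1)) Y = rip Y Y)
    (h2 : rip Y (fun _ => 1) = 0) (h3 : ∀ φ ∈ indD H H ⊥, classInner (ν φ) Y = 0) :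
    rip Y Y ≤ H.index - 1 + 2 * rip (ν (indFun H fun _ => 1)) (ν ζ) -
      rip (ν (indFun H fun _ => 1)) (ν ζ) ^ 2 * (((Nat.card H : ℝ) - 1) / H.index) := by
  obtain ⟨α, hα, h4, h5⟩ := h.exists_proj fun _ => h.X_tau
  have h6 : rip (ν α) Y = 0 := rip_eq_zero (orth_map_span_left h3 hα)
  have h7 : rip (ν α) (fun _ => 1) = 0 := rip_eq_zero (orth_map_span_left (fun _ => h.orth_one) hα)
  have h8 := rip_le_of_rip_eq (Y := ν (indFun H fun _ => 1)) (P := (fun _ => 1) + ν α + Y) (by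
    simp only [rip_add_left, rip_add_right, h1, h2, h4, h6, h7, rip_comm _ (ν α), h.X_one,
      rip_comm (fun _ => 1) Y, isIrrCharacter_one.rip_self]
    ring)
  simp only [rip_add_left, rip_add_right, h2, h6, h7, rip_comm _ (ν α), h5,
    rip_comm (fun _ => 1) Y, isIrrCharacter_one.rip_self, h.rip_X] at h8
  linarith

theorem quad_nonneg (he : 2 * H.index + 1 ≤ Nat.card H) :
    2 * rip (ν (indFun H fun _ => 1)) (ν ζ) ≤
      rip (ν (indFun H fun _ => 1)) (ν ζ) ^ 2 * (((Nat.card H : ℝ) - 1) / H.index) := by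
  obtain ⟨a, ha⟩ := h.exists_int
  have h1 : (2 : ℝ) ≤ ((Nat.card H : ℝ) - 1) / H.index := by
    rw [le_div_iff₀ h.index_pos]
    have : ((2 * H.index + 1 : ℕ) : ℝ) ≤ Nat.card H := Nat.cast_le.2 he
    push_cast at this; linarith
  rw [ha]
  nlinarith [int_le_sq a, sq_nonneg (a : ℝ)]

theorem gamma_le (he : 2 * H.index + 1 ≤ Nat.card H) {Y : G → ℂ}
    (h1 : rip (ν (indFun H fun _ => 1)) Y = rip Y Y) (h2 : rip Y (fun _ => 1) = 0)
    (h3 : ∀ φ ∈ indD H H ⊥, classInner (ν φ) Y = 0) : rip Y Y ≤ H.index - 1 := by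
  linarith [h.gamma_le' h1 h2 h3, h.quad_nonneg he]

theorem inner_zeta {a : ℝ} (ha : rip (ν (indFun H fun _ => 1)) (ν ζ) = a) :
    ∀ φ ∈ indT H, classInner (ν φ) (ν ζ) =
      classInner φ (ζ + ((a / H.index : ℝ) : ℂ) • indFun H fun _ => 1) + 0 * φ 1 := by
  rintro φ (rfl | hφ)
  · rw [h.gen_X.classInner_eq_rip h.isDirr.isGen, ha, classInner_add_right, classInner_smul_right,
      classInner_ind_one_self, classInner_eq_zero_comm.1 (classInner_ind_one_of_mem_indD h.mem_S)]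
    simp [div_mul_cancel₀ _ h.index_ne]
  · rw [h.coh.iso φ hφ ζ h.mem_S, classInner_add_right, classInner_smul_right,
      classInner_ind_one_of_mem_indD hφ]
    simp

theorem rho_zeta {x : L} (hx : x ∈ H) (hx1 : x ≠ 1) :
    dadeRho A L R (ν ζ) x = ζ x + rip (ν (indFun H fun _ => 1)) (ν ζ) := by
  rw [h.rho_eq h.coh.ext h.isDirr.isClassFunction (h.irr.isClassFunction.add
    ((isClassFunction_indFun _ _).smul _)) 0 (h.inner_zeta rfl) hx hx1]
  simp [ind_one_of_mem hx, div_mul_cancel₀ _ h.index_ne]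

theorem rip_rho_zeta : rip (dadeRho A L R (ν ζ)) (dadeRho A L R (ν ζ)) =
    1 - H.index / Nat.card H + (rip (ν (indFun H fun _ => 1)) (ν ζ) ^ 2 *
      (((Nat.card H : ℝ) - 1) / H.index) - 2 * rip (ν (indFun H fun _ => 1)) (ν ζ)) / Nat.card H := by
  generalize ha : rip (ν (indFun H fun _ => 1)) (ν ζ) = a
  have h0 := h.index_pos
  have h1 : (0 : ℝ) < Nat.card H := Nat.cast_pos.2 Nat.card_pos
  have h2 := rip_eq_zero (classInner_ind_one_of_mem_indD h.mem_S)
  have h3 : (ζ + ((a / H.index : ℝ) : ℂ) • indFun H fun _ => 1) 1 = ((H.index + a : ℝ) : ℂ) := by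
    simp [h.one, indFun_one, div_mul_cancel₀ _ h.index_ne]
  rw [h.rip_rho_eq h.coh.ext h.isDirr.isClassFunction (Submodule.add_mem _
    (Submodule.subset_span (indD_subset_indT h.mem_S))
    (Submodule.smul_mem _ _ (Submodule.subset_span ind_one_mem_indT))) 0 (h.inner_zeta ha), h3,
    Complex.norm_real, Real.norm_eq_abs, sq_abs]
  simp only [rip_add_left, rip_add_right, rip_real_smul_left, rip_real_smul_right, h2,
    rip_comm _ ζ, h.irr.rip_self, rip_ind_one_self]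
  field_simp
  ring

/-- Peterfalvi (7.8.b). -/
theorem le_rip_rho (he : 2 * H.index + 1 ≤ Nat.card H) :
    1 - (H.index : ℝ) / Nat.card H ≤ rip (dadeRho A L R (ν ζ)) (dadeRho A L R (ν ζ)) := by
  rw [h.rip_rho_zeta, le_add_iff_nonneg_right]
  exact div_nonneg (sub_nonneg.2 (h.quad_nonneg he)) (Nat.cast_nonneg _)

theorem le_nrm (he : 2 * H.index + 1 ≤ Nat.card H) :
    1 - (H.index : ℝ) / Nat.card H ≤ nrm (dadeSupp A R) (ν ζ) :=
  (h.le_rip_rho he).trans (h.dade.rip_rho_le_nrm h.isDirr.isClassFunction)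

/-- Peterfalvi (7.8.c). -/
theorem rho_of_orth {χ : G → ℂ} (hχ : IsGeneralizedCharacter G χ)
    (ho : ∀ φ ∈ indD H H ⊥, classInner (ν φ) χ = 0) {x : L} (hx : x ∈ H) (hx1 : x ≠ 1) :
    dadeRho A L R χ x = rip (ν (indFun H fun _ => 1)) χ := by
  rw [h.rho_eq h.coh.ext hχ.isClassFunction ((isClassFunction_indFun H fun _ => 1).smul
    ((rip (ν (indFun H fun _ => 1)) χ / H.index : ℝ) : ℂ)) 0 ?_ hx hx1]
  · simp [ind_one_of_mem hx, div_mul_cancel₀ _ h.index_ne]
  rintro φ (rfl | hφ)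
  · rw [h.gen_X.classInner_eq_rip hχ, classInner_smul_right, classInner_ind_one_self]
    simp [div_mul_cancel₀ _ h.index_ne]
  · simp [ho φ hφ, classInner_smul_right, classInner_ind_one_of_mem_indD hφ]

theorem rip_rho_of_orth {χ : G → ℂ} (hχ : IsGeneralizedCharacter G χ)
    (ho : ∀ φ ∈ indD H H ⊥, classInner (ν φ) χ = 0) :
    rip (dadeRho A L R χ) (dadeRho A L R χ) =
      rip (ν (indFun H fun _ => 1)) χ ^ 2 * nrm (dadeSupp A R) fun _ => 1 := by
  rw [h.rip_rho, nrm_of_eq fun x hx => h.rho_of_orth hχ ho hx.1 hx.2, ncard_sharp_div, h.nrm_one,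
    Complex.norm_real, Real.norm_eq_abs, sq_abs]

theorem nrm_one_le {χ : G → ℂ} (hχ : IsGeneralizedCharacter G χ)
    (ho : ∀ φ ∈ indD H H ⊥, classInner (ν φ) χ = 0) (hne : rip (ν (indFun H fun _ => 1)) χ ≠ 0) :
    nrm (dadeSupp A R) (fun _ => 1) ≤ nrm (dadeSupp A R) χ := by
  refine le_trans ?_ (h.dade.rip_rho_le_nrm hχ.isClassFunction)
  obtain ⟨n, hn⟩ := h.gen_X.rip_eq_int hχ
  rw [h.rip_rho_of_orth hχ ho]
  refine le_mul_of_one_le_left (nrm_nonneg _ _) ?_
  rw [hn] at hne ⊢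
  exact_mod_cast (one_le_sq_iff_one_le_abs n).2 (Int.one_le_abs (by exact_mod_cast hne))

/-- A function vanishing on the Dade support is orthogonal to `τ(S, L^#)`. -/
theorem tau_orth {Y : G → ℂ} (hY : ∀ g ∈ dadeSupp A R, Y g = 0) {α : L → ℂ}
    (hα : α ∈ Submodule.span ℂ (indT H)) (h1 : α 1 = 0) : classInner (τ α) Y = 0 :=
  classInner_eq_zero_of_disjoint disjoint_compl_right (fun _ => h.tau_eq_zero hα h1)
    fun g hg => hY g (not_not.1 hg)

theorem rip_nu_of_conj {Z : G → ℂ} (hZ : ∀ g ∈ dadeSupp A R, Z g = 0) (hc : conjFun Z = -Z)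
    {φ : L → ℂ} (hφ : φ ∈ indD H H ⊥) (hi : IsIrrCharacter L φ) : rip Z (ν φ) = 0 := by
  refine rip_eq_zero_of_conj hc ?_
  rw [← h.tau_sub_conj hφ hi, rip_comm]
  exact rip_eq_zero (h.tau_orth hZ (sub_mem_span (indD_subset_indT hφ)
    (indD_subset_indT (conj_mem_indD hφ))) (by simp [hi.isCharacter.conjFun_one]))

/-- A `±` irreducible character `p` with `p - p̄` vanishing on the support is orthogonal to `ν S`. -/
theorem orth_of_dirr {p : G → ℂ} (hp : IsDirr G p) (h1 : rip p (conjFun p) = 0)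
    (h2 : ∀ g ∈ dadeSupp A R, (p - conjFun p) g = 0) {φ : L → ℂ} (hφ : φ ∈ indD H H ⊥)
    (hi : IsIrrCharacter L φ) : classInner p (ν φ) = 0 :=
  hp.orth_of_sub_conj (h.coh.isDirr hφ hi) h1
    (h.rip_nu_of_conj h2 (by simp [conjFun_sub]) hφ hi)

variable {A₂ : Set G} {L₂ : Subgroup G} [Fintype L₂] {R₂ : G → Subgroup G} {H₂ : Subgroup L₂}
  [H₂.Normal] {τ₂ ν₂ : (L₂ → ℂ) →ₗ[ℂ] (G → ℂ)} {ζ₂ : L₂ → ℂ} (h₂ : C7 A₂ L₂ R₂ H₂ τ₂ ν₂ ζ₂)
  (hd : Disjoint (dadeSupp A R) (dadeSupp A₂ R₂))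
include h₂ hd

theorem orth_of_disjoint {φ : L → ℂ} (hφ : φ ∈ indD H H ⊥) (hi : IsIrrCharacter L φ)
    {φ₂ : L₂ → ℂ} (hφ₂ : φ₂ ∈ indD H₂ H₂ ⊥) (hi₂ : IsIrrCharacter L₂ φ₂) :
    classInner (ν φ) (ν₂ φ₂) = 0 := by
  refine h₂.orth_of_dirr (h.coh.isDirr hφ hi) (h.rip_conj hφ hi) (fun g hg => ?_) hφ₂ hi₂
  rw [← h.tau_sub_conj hφ hi]
  exact h.tau_eq_zero (sub_mem_span (indD_subset_indT hφ) (indD_subset_indT (conj_mem_indD hφ)))
    (by simp [hi.isCharacter.conjFun_one]) (Set.disjoint_right.1 hd hg)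

/-- Peterfalvi (7.9), in parity form. -/
theorem parity (hodd : Odd (Nat.card G)) : ∃ n : ℤ,
    rip (ν (indFun H fun _ => 1)) (ν₂ ζ₂) + rip (ν₂ (indFun H₂ fun _ => 1)) (ν ζ) = 2 * n + 1 := by
  obtain ⟨n, hn⟩ := exists_rip_eq_of_real hodd h.gen_X h₂.gen_X h.conj_X h₂.conj_X
  have h1 := rip_eq_zero (classInner_eq_zero_of_disjoint hd (fun _ => h.beta_eq_zero)
    fun _ => h₂.beta_eq_zero)
  simp only [rip_sub_left, rip_sub_right, hn, h.X_one, h₂.X_one, rip_comm (ν ζ),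
    rip_eq_zero (classInner_eq_zero_comm.1 (h.orth_of_disjoint h₂ hd h.mem_S h.irr h₂.mem_S h₂.irr))]
    at h1
  exact ⟨n, by linarith⟩

theorem ne_zero_or (hodd : Odd (Nat.card G)) :
    rip (ν (indFun H fun _ => 1)) (ν₂ ζ₂) ≠ 0 ∨ rip (ν₂ (indFun H₂ fun _ => 1)) (ν ζ) ≠ 0 := by
  obtain ⟨n, hn⟩ := h.parity h₂ hd hodd
  by_contra! h1
  rw [h1.1, h1.2] at hn
  have : (0 : ℤ) = 2 * n + 1 := by exact_mod_cast (zero_add (0 : ℝ)).symm.trans hn
  omega

theorem tau_orth_X (hi : ∀ φ ∈ indD H₂ H₂ ⊥, IsIrrCharacter L₂ φ) {α : L₂ → ℂ}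
    (hα : α ∈ Submodule.span ℂ (indD H₂ H₂ ⊥)) (h1 : α 1 = 0) :
    classInner (τ₂ α) (ν (indFun H fun _ => 1)) = 0 := by
  have h2 := h₂.tau_orth (fun g hg => h.beta_eq_zero (Set.disjoint_right.1 hd hg))
    (Submodule.span_mono indD_subset_indT hα) h1
  rwa [classInner_sub_right, ← h₂.coh.ext α h1, orth_map_span_left (β := ν ζ) (fun φ hφ =>
    h₂.orth_of_disjoint h hd.symm hφ (hi φ hφ) h.mem_S h.irr) hα, sub_zero, h₂.coh.ext α h1] at h2

end C7

theorem one_le_sq_of_ne {r : ℝ} (h : ∃ n : ℤ, r = n) (h0 : r ≠ 0) : 1 ≤ r ^ 2 := by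
  obtain ⟨n, rfl⟩ := h
  exact_mod_cast (one_le_sq_iff_one_le_abs n).2 (Int.one_le_abs (by exact_mod_cast h0))

/-- Peterfalvi (7.10), (7.11) for a family of coherent Frobenius-like sections. -/
theorem not_cover_of_c7 (hodd : Odd (Nat.card G)) {ι : Type*} [Fintype ι] [Nonempty ι]
    {A : ι → Set G} {L : ι → Subgroup G} [∀ i, Fintype (L i)] {R : ι → G → Subgroup G}
    {H : ∀ i, Subgroup (L i)} [∀ i, (H i).Normal] {τ ν : ∀ i, (L i → ℂ) →ₗ[ℂ] (G → ℂ)}
    {ζ : ∀ i, L i → ℂ} (h : ∀ i, C7 (A i) (L i) (R i) (H i) (τ i) (ν i) (ζ i))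
    (hi : ∀ i, ∀ φ ∈ indD (H i) (H i) ⊥, IsIrrCharacter (L i) φ)
    (he : ∀ i, 2 * (H i).index + 1 ≤ Nat.card (H i)) (he1 : ∀ i, 1 < (H i).index)
    (hd : ∀ i j, i ≠ j → Disjoint (dadeSupp (A i) (R i)) (dadeSupp (A j) (R j)))
    (hne : ∀ i j, i ≠ j → Nat.card (H i) ≠ Nat.card (H j))
    (cover : ∀ g : G, g ≠ 1 → ∃ i, g ∈ dadeSupp (A i) (R i)) : False := by
  classical
  obtain ⟨k, hk⟩ := Finite.exists_min fun i => Nat.card (H i)
  have hχ := (h k).isDirr
  have hU : (⋃ i ∈ (Finset.univ : Finset ι), dadeSupp (A i) (R i)) = {1}ᶜ := by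
    ext g
    simp only [Finset.mem_univ, Set.iUnion_true, Set.mem_iUnion, Set.mem_compl_iff,
      Set.mem_singleton_iff]
    exact ⟨fun ⟨i, hg⟩ e => (h i).dade.one_not_mem_dadeSupp (e ▸ hg), cover g⟩
  have h1 : ∀ χ : G → ℂ, nrm {1} χ + ∑ i, nrm (dadeSupp (A i) (R i)) χ = rip χ χ := fun χ => by
    rw [← nrm_biUnion _ _ fun i _ j _ e => hd i j e, hU, nrm_add_compl]
  have h2 : nrm {1} (fun _ : G => 1) ≤ nrm {1} (ν k (ζ k)) := nrm_one_le fun g hg => by
    obtain ⟨n, hn⟩ := hχ.isGen.exists_degree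
    have := hχ.apply_one_ne_zero
    rw [Set.mem_singleton_iff.1 hg, hn, Complex.norm_intCast]
    rw [hn] at this
    exact_mod_cast Int.one_le_abs (by exact_mod_cast this)
  obtain ⟨B, hB⟩ : ∃ B : Finset ι, B = Finset.univ.filter fun i =>
      i ≠ k ∧ rip (ν i (indFun (H i) fun _ => 1)) (ν k (ζ k)) = 0 := ⟨_, rfl⟩
  have hB' : ∀ i ∈ B, i ≠ k := fun i hi => by simp only [hB, Finset.mem_filter] at hi; exact hi.2.1
  have h3 : nrm (dadeSupp (A k) (R k)) (ν k (ζ k)) ≤ nrm (dadeSupp (A k) (R k)) (fun _ => 1) +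
      ∑ i ∈ B, nrm (dadeSupp (A i) (R i)) fun _ => 1 := by
    have h4 : ∑ i ∈ Finset.univ.erase k, (nrm (dadeSupp (A i) (R i)) fun _ => 1) ≤
        ∑ i ∈ Finset.univ.erase k, (nrm (dadeSupp (A i) (R i)) (ν k (ζ k)) +
          if i ∈ B then nrm (dadeSupp (A i) (R i)) fun _ => 1 else 0) := by
      refine Finset.sum_le_sum fun i hik => ?_
      have hik := (Finset.mem_erase.1 hik).1
      split_ifs with hiB
      · exact le_add_of_nonneg_left (nrm_nonneg _ _)
      · rw [add_zero]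
        refine (h i).nrm_one_le hχ.isGen (fun φ hφ => (h i).orth_of_disjoint (h k) (hd i k hik) hφ
          (hi i φ hφ) (h k).mem_S (h k).irr) fun e => hiB ?_
        simp [hB, hik, e]
    rw [Finset.sum_add_distrib, ← Finset.sum_filter, show (Finset.univ.erase k).filter (· ∈ B) = B by
      ext i; simpa using hB' i] at h4
    have h5 := h1 (ν k (ζ k))
    have h6 := h1 fun _ => 1
    rw [← Finset.add_sum_erase _ _ (Finset.mem_univ k)] at h5 h6
    rw [hχ.rip_self] at h5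
    rw [isIrrCharacter_one.rip_self] at h6
    linarith
  have h4 : ∀ i, i ≠ k → ∃ α ∈ Submodule.span ℂ (indD (H i) (H i) ⊥), _ := fun i hik =>
    (h i).exists_proj fun α => (h k).tau_orth_X (h i) (hd k i hik.symm) (hi i)
  choose! α hα h5 h6 using h4
  have h7 : ∀ i ∈ B, ∀ j, ∀ φ ∈ Submodule.span ℂ (indD (H j) (H j) ⊥), j ≠ i →
      classInner (ν j φ) (ν i (α i)) = 0 := fun i hiB j φ hφ e =>
    orth_map_span_left (fun ψ hψ => classInner_eq_zero_comm.1 (orth_map_span_left (fun χ hχ =>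
      (h i).orth_of_disjoint (h j) (hd i j e.symm) hχ (hi i χ hχ) hψ (hi j ψ hψ))
      (hα i (hB' i hiB)))) hφ
  have h8 := sum_rip_of_orth (s := B) (P := fun i => ν i (α i)) fun i hi j hj e =>
    rip_eq_zero (h7 j hj i _ (hα i (hB' i hi)) e)
  have h9 := (h k).gamma_le (he k) (Y := ∑ i ∈ B, ν i (α i))
    (by rw [h8, rip_sum_right]; exact Finset.sum_congr rfl fun i hi => h5 i (hB' i hi))
    (by
      rw [rip_sum_left]
      exact Finset.sum_eq_zero fun i hi => rip_eq_zero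
        (orth_map_span_left (fun _ => (h i).orth_one) (hα i (hB' i hi))))
    (fun φ hφ => by
      rw [classInner_sum_right]
      exact Finset.sum_eq_zero fun i hi => h7 i hi k φ (Submodule.subset_span hφ) (hB' i hi).symm)
  have h10 : ∑ i ∈ B, (nrm (dadeSupp (A i) (R i)) fun _ => 1) ≤
      ((H k).index - 1) / (Nat.card (H k) + 1) := by
    rw [le_div_iff₀ (by positivity), Finset.sum_mul]
    refine le_trans (Finset.sum_le_sum fun i hiB => ?_) (h8 ▸ h9)
    have hik := hB' i hiB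
    have e1 : (Nat.card (H k) : ℝ) + 1 ≤ Nat.card (H i) := by
      exact_mod_cast lt_of_le_of_ne (hk i) (hne k i hik.symm)
    have e2 := (h i).index_pos
    have e3 : (1 : ℝ) ≤ Nat.card (H i) := by exact_mod_cast Nat.card_pos
    have e4 : 1 ≤ rip (ν k (indFun (H k) fun _ => 1)) (ν i (ζ i)) ^ 2 := by
      refine one_le_sq_of_ne ((h k).gen_X.rip_eq_int (h i).isDirr.isGen)
        (((h k).ne_zero_or (h i) (hd k i hik.symm) hodd).resolve_right fun e => e ?_)
      simp only [hB, Finset.mem_filter] at hiB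
      exact hiB.2.2
    rw [h6 i hik, (h i).nrm_one]
    calc _ ≤ ((Nat.card (H i) : ℝ) - 1) / ((H i).index * Nat.card (H i)) * Nat.card (H i) := by
          gcongr
      _ = 1 * (((Nat.card (H i) : ℝ) - 1) / (H i).index) := by field_simp
      _ ≤ _ := by gcongr
  have h11 := (h k).le_nrm (he k)
  rw [(h k).nrm_one] at h3
  have e1 : (1 : ℝ) < (H k).index := by exact_mod_cast he1 k
  have e2 : 2 * ((H k).index : ℝ) + 1 ≤ Nat.card (H k) := by exact_mod_cast he k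
  generalize ((H k).index : ℝ) = e at *
  generalize (Nat.card (H k) : ℝ) = n at *
  have h12 : 1 - e / n ≤ (n - 1) / (e * n) + (e - 1) / (n + 1) := by linarith
  have h13 : (e - 1) / (n + 1) < (e - 1) / n := by
    apply div_lt_div_of_pos_left <;> linarith
  have h14 : (n - 1) / (e * n) + (e - 1) / n - (1 - e / n) = -((e - 1) * (n - 2 * e - 1) / (e * n)) := by
    have : n ≠ 0 := by linarith
    field_simp; ring
  have h15 : 0 ≤ (e - 1) * (n - 2 * e - 1) / (e * n) :=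
    div_nonneg (mul_nonneg (by linarith) (by linarith)) (by nlinarith)
  linarith

/-- A Frobenius group of odd order with TI kernel satisfies Hypothesis (7.8). -/
theorem exists_c7_of_frob (hodd : Odd (Nat.card L)) (h0 : H ≠ ⊥) (h1 : H ≠ ⊤)
    (ti : ∀ x ∈ H, x ≠ 1 → ∀ y ∈ H, ∀ g : G, g * x * g⁻¹ = y → g ∈ L) (frob : FrobMod H H ⊥) :
    ∃ ν ζ, C7 {g | g ∈ H.map L.subtype ∧ g ≠ 1} L (fun _ => ⊥) H (indLin L) ν ζ := by
  have hnil := frob.isNilpotent h1
  obtain ⟨ν, hν⟩ := sibley_frob hodd hnil ti frob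
  obtain ⟨ζ, h2, h3⟩ := exists_mem_indD_index (K := H) (H := H) (M := ⊥) le_rfl bot_le
    (not_le_commutator_sup inferInstance (bot_lt_iff_ne_bot.2 h0))
  exact ⟨ν, ζ, d7_of_ti ti, hν, h2, frob.irr h2, h3, hodd⟩

/-- Peterfalvi (7.11). -/
theorem not_frob_cover (hodd : Odd (Nat.card G)) {ι : Type*} [Fintype ι] [Nonempty ι]
    (L H : ι → Subgroup G) (hHL : ∀ i, H i < L i) (hH1 : ∀ i, H i ≠ ⊥)
    (hHn : ∀ i, ∀ x ∈ L i, ∀ h ∈ H i, x * h * x⁻¹ ∈ H i)
    (hfrob : ∀ i, ∀ h ∈ H i, h ≠ 1 → L i ⊓ Subgroup.centralizer ({h} : Set G) ≤ H i)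
    (hcop : ∀ i j, i ≠ j → Nat.Coprime (Nat.card (H i)) (Nat.card (H j)))
    (hTI : ∀ i, ∀ x ∈ H i, x ≠ 1 → ∀ g : G, g * x * g⁻¹ ∈ H i → g ∈ L i)
    (hcover : ∀ g : G, g ≠ 1 → ∃ i, ∃ x : G, x * g * x⁻¹ ∈ H i) : False := by
  classical
  have hn : ∀ i, ((H i).subgroupOf (L i)).Normal := fun i => ⟨fun h hh x => hHn i x x.2 h hh⟩
  have hc : ∀ i, Nat.card ((H i).subgroupOf (L i)) = Nat.card (H i) := fun i =>
    Nat.card_congr (Subgroup.subgroupOfEquivOfLe (hHL i).le).toEquiv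
  have h0 : ∀ i, (H i).subgroupOf (L i) ≠ ⊥ := fun i e => hH1 i (by
    rw [← Subgroup.card_eq_one, ← hc, e, Subgroup.card_bot])
  have h1 : ∀ i, (H i).subgroupOf (L i) ≠ ⊤ := fun i e =>
    (hHL i).not_ge (Subgroup.subgroupOf_eq_top.1 e)
  have hf : ∀ i, FrobMod ((H i).subgroupOf (L i)) ((H i).subgroupOf (L i)) ⊥ := fun i =>
    frobMod_bot_iff.2 fun n hn h1 x hx => hfrob i n hn (fun e => h1 (Subtype.ext e)) ⟨x.2,
      Subgroup.mem_centralizer_singleton_iff.2
        (congrArg Subtype.val (Subgroup.mem_centralizer_singleton_iff.1 hx))⟩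
  have ho := fun i => odd_card_sub hodd (L i)
  choose ν ζ h using fun i => exists_c7_of_frob (ho i) (h0 i) (h1 i) (fun x hx h1 y hy g e =>
    hTI i x hx (fun e => h1 (Subtype.ext e)) g (e ▸ hy)) (hf i)
  have hs : ∀ i g, g ∈ dadeSupp {g | g ∈ ((H i).subgroupOf (L i)).map (L i).subtype ∧ g ≠ 1}
      (fun _ => ⊥) ↔ g ≠ 1 ∧ ∃ x, x * g * x⁻¹ ∈ H i := fun i g => by
    rw [Subgroup.subgroupOf_map_subtype, inf_eq_left.2 (hHL i).le]
    constructor
    · rintro ⟨a, ⟨ha, ha1⟩, u, hu, x, e⟩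
      rw [Subgroup.mem_bot.1 hu, mul_one] at e
      exact ⟨by rintro rfl; exact ha1 (by simp [← e]), x, e ▸ ha⟩
    · rintro ⟨hg, x, hx⟩
      exact ⟨_, ⟨hx, by simpa [mul_inv_eq_one] using hg⟩, 1, Subgroup.one_mem _, x, (mul_one _).symm⟩
  refine not_cover_of_c7 hodd h (fun i φ hφ => (hf i).irr hφ) (fun i => ?_) (fun i => ?_)
    (fun i j e => Set.disjoint_left.2 fun g hi hj => ?_) (fun i j e e' => ?_)
    fun g hg => (hcover g hg).imp fun i hi => (hs i g).2 ⟨hg, hi⟩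
  · simpa using (hf i).two_mul_add_one_le (ho i) bot_le (bot_lt_iff_ne_bot.2 (h0 i))
  · exact Subgroup.one_lt_index_of_ne_top (h1 i)
  · obtain ⟨hg, x, hx⟩ := (hs i g).1 hi
    obtain ⟨-, y, hy⟩ := (hs j g).1 hj
    have e1 := (H i).orderOf_dvd_natCard hx
    have e2 := (H j).orderOf_dvd_natCard hy
    rw [← MulAut.conj_apply, MulEquiv.orderOf_eq] at e1 e2
    exact hg (orderOf_eq_one_iff.1 (Nat.eq_one_of_dvd_coprimes (hcop i j e) e1 e2))
  · have := hcop i j e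
    rw [hc, hc] at e'
    rw [← e', Nat.coprime_self, Subgroup.card_eq_one] at this
    exact hH1 i this

end Cfsg.Agent.Char
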