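import Cfsg.Agent.Lib.Char.Sec9A

/-!
Peterfalvi (9.8) - (9.10): characters of `L` with `H₀` in the kernel.
-/

set_option autoImplicit false

namespace Cfsg.Agent.Char

open Subgroup
open scoped commutatorElement

universe u

variable {L : Type u} [Group L] {A : Type*} [Group A] {B : Type*} [Group B]

theorem commutator_le_iff_le_cmod {X Y N : Subgroup L} [N.Normal] : ⁅X, Y⁆ ≤ N ↔ X ≤ cmod Y N :=
  commutator_le

theorem card_lc_trivial {W : Type*} [Group W] [Finite W] (N : Subgroup W) [N.Normal]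
    (h : ∀ a b : W, ⁅a, b⁆ ∈ N) : Nat.card {j : W →* ℂˣ // N ≤ j.ker} = N.index := by
  have := (QuotientGroup.mk' N).liftOfSurjective (G₃ := ℂˣ) (QuotientGroup.mk'_surjective N)
  rw [QuotientGroup.ker_mk'] at this
  rw [Nat.card_congr this, card_lc, index]
  intro a b
  obtain ⟨a, rfl⟩ := QuotientGroup.mk'_surjective N a
  obtain ⟨b, rfl⟩ := QuotientGroup.mk'_surjective N b
  rw [← commutatorElement_eq_one_iff_mul_comm, ← map_commutatorElement]
  exact (QuotientGroup.eq_one_iff _).2 (h a b)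

theorem exists_lc_ne_one {W : Type*} [Group W] [Finite W] (N : Subgroup W) [N.Normal]
    (h : ∀ a b : W, ⁅a, b⁆ ∈ N) (hN : N ≠ ⊤) : ∃ j : W →* ℂˣ, N ≤ j.ker ∧ j ≠ 1 := by
  have : Nontrivial {j : W →* ℂˣ // N ≤ j.ker} := Finite.one_lt_card_iff_nontrivial.1 (by
    rw [card_lc_trivial N h]; exact one_lt_index_of_ne_top hN)
  obtain ⟨j, e⟩ := exists_ne (⟨1, fun _ _ => rfl⟩ : {j : W →* ℂˣ // N ≤ j.ker})
  exact ⟨j.1, j.2, fun a => e (Subtype.ext a)⟩

theorem exists_lc_ext {H X : Subgroup L} [hH : H.Normal] (hd : H ⊓ X = ⊥) (ξ : H →* ℂˣ)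
    (η : X →* ℂˣ) (hX : X ≤ inertia H (lc ξ)) : ∃ ω : (H ⊔ X : Subgroup L) →* ℂˣ,
      (∀ x : H, ω ⟨x, mem_sup_left x.2⟩ = ξ x) ∧ ∀ x : X, ω ⟨x, mem_sup_right x.2⟩ = η x := by
  choose a ha b hb e using fun t : (H ⊔ X : Subgroup L) =>
    (Solv.mem_sup_of_le_normalizer' le_normalizer_of_normal).1 t.2
  have k : ∀ t : (H ⊔ X : Subgroup L), ∀ x : H, ∀ y : X, t.1 = x * y →
      ξ ⟨a t, ha t⟩ * η ⟨b t, hb t⟩ = ξ x * η y := fun t x y e' => by
    have e1 : (x : L)⁻¹ * a t = y * (b t)⁻¹ := by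
      rw [inv_mul_eq_iff_eq_mul, ← mul_assoc, ← e', e t, mul_inv_cancel_right]
    have e2 := mem_bot.1 (hd.le (mem_inf.2 ⟨mul_mem (inv_mem x.2) (ha t),
      e1 ▸ mul_mem y.2 (inv_mem (hb t))⟩))
    rw [show x = ⟨a t, ha t⟩ from Subtype.ext (inv_mul_eq_one.1 e2),
      show y = ⟨b t, hb t⟩ from Subtype.ext (mul_inv_eq_one.1 (e1 ▸ e2))]
  refine ⟨MonoidHom.mk' (fun t => ξ ⟨a t, ha t⟩ * η ⟨b t, hb t⟩) fun t t' => ?_,
    fun x => by simpa using k _ x 1 (mul_one _).symm, fun x => by simpa using k _ 1 x (one_mul _).symm⟩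
  rw [k (t * t') (⟨a t, ha t⟩ * ⟨_, hH.conj_mem _ (ha t') (b t)⟩) (⟨b t, hb t⟩ * ⟨b t', hb t'⟩) (by
    rw [coe_mul, e t, e t']; simp only [coe_mul, ← e]; rw [e t, e t']; group), map_mul, map_mul,
    Units.ext (mem_inertia'.1 (hX (hb t)) ⟨a t', ha t'⟩), mul_mul_mul_comm]

section rel

variable [Fintype L] {K N T : Subgroup L} [N.Normal] [Fintype K] [Fintype N]

omit [Fintype L] [Fintype K] [Fintype N] in
theorem inertia_subgroupOf (ξ : N → ℂ) (hNK : N ≤ K) : (K ⊓ inertia N ξ).subgroupOf K =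
    inertia (N.subgroupOf K) (fun x => ξ ⟨(x : K), mem_subgroupOf.mp x.2⟩) := by
  ext g
  rw [mem_subgroupOf, mem_inf, and_iff_right g.2, mem_inertia', mem_inertia']
  exact ⟨fun a n => a ⟨n, n.2⟩, fun a n => a ⟨⟨n, hNK n.2⟩, n.2⟩⟩

theorem rel_clifford_surj (hNK : N ≤ K) {θ : K → ℂ} (hθ : IsIrrCharacter K θ) {ξ : N → ℂ}
    (hξ : IsIrrCharacter N ξ) (h : classInner (fun n : N => θ ⟨n, hNK n.2⟩) ξ ≠ 0)
    (hT : T = K ⊓ inertia N ξ) : ∃ ψ : T → ℂ, IsIrrCharacter T ψ ∧ indFun K θ = indFun T ψ := by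
  have := Fintype.ofFinite (N.subgroupOf K)
  have TK : T ≤ K := hT ▸ inf_le_left
  have e := inertia_subgroupOf ξ hNK
  rw [← hT] at e
  obtain ⟨ψ, a, b, -⟩ := ((isIrr_subgroupOf_iff hNK).2 hξ).clifford_surj e
    (e ▸ le_inertia ((isIrr_subgroupOf_iff hNK).2 hξ).isClassFunction) hθ
    (by rw [← classInner_subgroupOf hNK] at h; exact h)
  exact ⟨fun t => ψ ((subgroupOfEquivOfLe TK).symm t), a.comp_equiv _, by
    rw [← indFun_trans TK, ← b]; rfl⟩

theorem rel_clifford_ind (hNK : N ≤ K) {ξ : N → ℂ} (hξ : IsIrrCharacter N ξ)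
    (hT : T = K ⊓ inertia N ξ) (hNT : N ≤ T) {ψ : T → ℂ} (hψ : IsIrrCharacter T ψ)
    (h : classInner (fun n : N => ψ ⟨n, hNT n.2⟩) ξ ≠ 0) :
    ∃ θ : K → ℂ, IsIrrCharacter K θ ∧ indFun K θ = indFun T ψ := by
  have := Fintype.ofFinite (N.subgroupOf K)
  have TK : T ≤ K := hT ▸ inf_le_left
  have e := inertia_subgroupOf ξ hNK
  rw [← hT] at e
  exact ⟨_, (((isIrr_subgroupOf_iff hNK).2 hξ).clifford_ind e (fun _ a => hNT a)
    ((isIrr_subgroupOf_iff TK).2 hψ) (by rw [← classInner_subgroupOf hNK] at h; exact h)).1,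
    indFun_trans TK ψ⟩

omit [N.Normal] [Fintype K] [Fintype N] in
theorem kerOn_iff_of_ind_eq {M : Subgroup L} [M.Normal] {θ : K → ℂ} (hθ : IsIrrCharacter K θ)
    {ψ : T → ℂ} (hψ : IsIrrCharacter T ψ) (e : indFun K θ = indFun T ψ) (h1 : M ≤ K) (h2 : M ≤ T) :
    KerOn M θ ↔ KerOn M ψ := by
  rw [kerOn_iff_ind hθ h1, kerOn_iff_ind hψ h2, e]

omit [Fintype L] [N.Normal] [Fintype K] in
theorem classInner_lc_ext {ξ : N →* ℂˣ} (hNT : N ≤ T) {ω : T →* ℂˣ}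
    (h : ∀ x : N, ω ⟨x, hNT x.2⟩ = ξ x) : classInner (fun n : N => lc ω ⟨n, hNT n.2⟩) (lc ξ) ≠ 0 := by
  simp only [lc, h]
  rw [(isIrr_lc ξ).classInner_self]
  exact one_ne_zero

omit [Fintype K] [Fintype N] in
theorem ind_lc_mem_indD (hNK : N ≤ K) {ξ : N →* ℂˣ} (h1 : ξ ≠ 1) (hT : T = K ⊓ inertia N (lc ξ))
    (hNT : N ≤ T) {ω : T →* ℂˣ} (h : ∀ x : N, ω ⟨x, hNT x.2⟩ = ξ x) {M : Subgroup L} [M.Normal]
    (hM : M ≤ T) (hk : ∀ x : T, x.1 ∈ M → ω x = 1) : indFun T (lc ω) ∈ indD K N M := by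
  have := Fintype.ofFinite K
  have := Fintype.ofFinite N
  have TK : T ≤ K := hT ▸ inf_le_left
  obtain ⟨θ, a, b⟩ := rel_clifford_ind hNK (isIrr_lc ξ) hT hNT (isIrr_lc ω) (classInner_lc_ext hNT h)
  refine ⟨θ, a, (kerOn_iff_of_ind_eq a (isIrr_lc ω) b (hM.trans TK) hM).2 fun x hx => ?_,
    fun c => h1 (MonoidHom.ext fun x => ?_), b.symm⟩
  · simp [lc, hk x hx]
  · simpa [lc, h] using (kerOn_iff_of_ind_eq a (isIrr_lc ω) b hNK hNT).1 c ⟨x, hNT x.2⟩ x.2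

end rel

section dual

variable {p : ℕ} {V : Type*} [AddCommGroup V] [Module (ZMod p) V]

/-- The kernel of a character of `V` as a submodule. -/
def kerS (p : ℕ) [Module (ZMod p) V] (χ : Multiplicative V →* ℂˣ) : Submodule (ZMod p) V :=
  AddSubgroup.toZModSubmodule p (toAddSubgroup' χ.ker)

theorem mem_kerS {χ : Multiplicative V →* ℂˣ} {v : V} : v ∈ kerS p χ ↔ χ (.ofAdd v) = 1 := Iff.rfl

theorem kerS_ne_top {χ : Multiplicative V →* ℂˣ} (h : χ ≠ 1) : kerS p χ ≠ ⊤ := fun e =>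
  h (MonoidHom.ext fun v => e.ge (trivial : v.toAdd ∈ ⊤))

theorem sub_mem_kerS {χ : Multiplicative V →* ℂˣ} {v w : V} :
    v - w ∈ kerS p χ ↔ χ (.ofAdd v) = χ (.ofAdd w) := by
  rw [mem_kerS, ofAdd_sub, map_div, div_eq_one]

theorem exists_dual_char [hp : Fact p.Prime] :
    ∃ e : Multiplicative (ZMod p) →* ℂˣ, Function.Injective e := by
  obtain ⟨e, -, h⟩ := exists_lc_ne_one (⊥ : Subgroup (Multiplicative (ZMod p)))
    (fun a b => commutatorElement_eq_one_iff_mul_comm.2 (mul_comm a b)) bot_ne_top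
  have a := (eq_bot_or_eq_top (kerS p e)).resolve_right (kerS_ne_top h)
  exact ⟨e, (injective_iff_map_eq_one e).2 fun x hx => a.le (show x.toAdd ∈ kerS p e from hx)⟩

variable {H H₀ : Subgroup L} {ρ : L →* Module.End (ZMod p) V} {φ : L → V} (m : VMod H H₀ p ρ φ)

theorem VMod.hom_surjective : Function.Surjective m.hom := fun v => by
  obtain ⟨x, a, b⟩ := m.surj v.toAdd
  exact ⟨⟨x, a⟩, b⟩

theorem VMod.comp_ne_one {χ : Multiplicative V →* ℂˣ} (h : χ ≠ 1) : χ.comp m.hom ≠ 1 := fun e =>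
  h ((MonoidHom.cancel_right m.hom_surjective).1 e)

theorem VMod.comp_eq_one (χ : Multiplicative V →* ℂˣ) {x : H} (h : x.1 ∈ H₀) :
    χ.comp m.hom x = 1 := by
  rw [MonoidHom.comp_apply, show m.hom x = 1 from (m.ker x x.2).2 h, map_one]

theorem VMod.cj_eq_iff [H.Normal] {χ χ' : Multiplicative V →* ℂˣ} {g : L} :
    cj H g (lc (χ.comp m.hom)) = lc (χ'.comp m.hom) ↔
      ∀ v, χ (.ofAdd (ρ g v)) = χ' (.ofAdd v) := by
  rw [funext_iff]
  refine ⟨fun a v => ?_, fun a x => ?_⟩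
  · obtain ⟨x, b, rfl⟩ := m.surj v
    rw [← m.act g x b]
    exact Units.ext (a ⟨x, b⟩)
  · have := a (φ x)
    rw [← m.act g x x.2] at this
    exact congrArg Units.val this

theorem VMod.mem_inertia [H.Normal] {χ : Multiplicative V →* ℂˣ} {g : L} :
    g ∈ inertia H (lc (χ.comp m.hom)) ↔ ∀ v, ρ g v - v ∈ kerS p χ := by
  simp only [sub_mem_kerS]
  exact m.cj_eq_iff

theorem VMod.exists_under [Finite L] [H.Normal] [Fintype H] {K : Subgroup L} (hK : H ≤ K)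
    (hc : ⁅H, H⁆ ≤ H₀) {θ : K → ℂ} (hθ : IsIrrCharacter K θ) (h0 : KerOn H₀ θ) (h1 : ¬ KerOn H θ) :
    ∃ χ : Multiplicative V →* ℂˣ, χ ≠ 1 ∧
      classInner (fun n : H => θ ⟨n, hK n.2⟩) (lc (χ.comp m.hom)) ≠ 0 := by
  have r := hθ.isCharacter.res_le hK
  obtain ⟨ξ, a, b⟩ := r.exists_irr_constituent fun e => hθ.apply_one_ne_zero (congrFun e 1)
  have k : KerOn H₀ ξ := KerOn.of_under r a b fun x hx => h0 _ hx
  have k1 := (k.mono hc).apply_one_eq_one a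
  obtain ⟨ω, rfl⟩ := a.isCharacter.exists_units_of_apply_one k1
  obtain ⟨χ, rfl⟩ : ∃ χ : Multiplicative V →* ℂˣ, χ.comp m.hom = ω :=
    ⟨_, MonoidHom.liftOfRightInverse_comp _ _ (Function.rightInverse_surjInv m.hom_surjective)
      ⟨ω, fun x hx => Units.ext ((k x ((m.ker x x.2).1 hx)).trans k1)⟩⟩
  refine ⟨_, fun e => h1 ?_, b⟩
  subst e
  have := Fintype.ofFinite K
  have := Fintype.ofFinite (H.subgroupOf K)
  rw [kerOn_iff hθ.isCharacter]
  refine hθ.le_charKer_of_over_one ?_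
  rw [← classInner_subgroupOf hK] at b
  exact b

end dual

namespace Sec9

variable [Fintype L] {K H U H₀ H₁ : Subgroup L} [hH₀ : H₀.Normal] {f : A × B →* L} {p q a : ℕ}
  {μ : (A →* ℂˣ) → (B →* ℂˣ) → L → ℂ} {δ : (B →* ℂˣ) → ℤ} (h : Sec9 K H U H₀ f p q)
include h

theorem inf_eq_bot' {X : Subgroup L} (hX : X ≤ U) : H ⊓ X = ⊥ :=
  eq_bot_iff.2 ((inf_le_inf_left _ hX).trans h.inf.le)

theorem relIndex_sup {X : Subgroup L} (hX : X ≤ U) : (H ⊔ X).relIndex K = X.relIndex U := by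
  have := h.normalH
  have e := Solv.card_mul_relIndex (sup_le h.HK (hX.trans h.UK))
  rw [← h.sup, sup_comm, sup_comm H U, Solv.card_sup_of_disjoint le_normalizer_of_normal
    (inf_comm H X ▸ h.inf_eq_bot' hX), Solv.card_sup_of_disjoint le_normalizer_of_normal
    (inf_comm H U ▸ h.inf), ← Solv.card_mul_relIndex hX, mul_right_comm _ (X.relIndex U),
    sup_comm X, sup_comm U, h.sup] at e
  exact Nat.eq_of_mul_eq_mul_left (mul_pos Nat.card_pos Nat.card_pos) e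

theorem index_sup {X : Subgroup L} (hX : X ≤ U) : (H ⊔ X).index = q * X.relIndex U := by
  rw [← relIndex_mul_index (sup_le h.HK (hX.trans h.UK)), h.relIndex_sup hX, h.pti.index, h.cardA,
    mul_comm]

theorem inf_eq_sup {I : Subgroup L} (hI : H ≤ I) : K ⊓ I = H ⊔ (U ⊓ I) :=
  have := h.normalH
  h.sup ▸ Solv.dedekind hI le_normalizer_of_normal

theorem commutator_le {X M : Subgroup L} [M.Normal] (hX : X ≤ cmod H H₀) (h0 : H₀ ≤ M)
    (h1 : ⁅X, X⁆ ≤ M) : ⁅H ⊔ X, H ⊔ X⁆ ≤ M := by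
  have a := (commutator_le_iff_le_cmod.2 hX).trans h0
  refine commutator_le_iff_le_cmod.2 (sup_le ?_ ?_) <;>
    rw [← commutator_le_iff_le_cmod, commutator_comm, commutator_le_iff_le_cmod] <;>
    refine sup_le ?_ ?_ <;> rw [← commutator_le_iff_le_cmod]
  exacts [h.comm.trans h0, a, by rwa [commutator_comm], h1]

theorem indLin_of_kerOn {θ : K → ℂ} (hθ : IsIrrCharacter K θ) {ψ : (H ⊔ (U ⊓ cmod H H₀) : Subgroup L) → ℂ}
    (hψ : IsIrrCharacter _ ψ) (e : indFun K θ = indFun _ ψ)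
    (k : KerOn (H₀ ⊔ ⁅U ⊓ cmod H H₀, U ⊓ cmod H H₀⁆) θ) :
    indFun K θ 1 = q * (U ⊓ cmod H H₀).relIndex U ∧ IndLin (H ⊔ (U ⊓ cmod H H₀)) (indFun K θ) := by
  have := h.normal_H0C'
  have le : H₀ ⊔ ⁅U ⊓ cmod H H₀, U ⊓ cmod H H₀⁆ ≤ H ⊔ (U ⊓ cmod H H₀) :=
    sup_le_sup h.lt.le (commutator_le_self' _)
  have k1 := (((kerOn_iff_of_ind_eq hθ hψ e (le.trans (sup_le h.HK (inf_le_left.trans h.UK))) le).1
    k).mono (h.commutator_le inf_le_right le_sup_left le_sup_right)).apply_one_eq_one hψ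
  refine ⟨by rw [e, indFun_one, k1, h.index_sup inf_le_left]; simp, ?_⟩
  obtain ⟨ω, rfl⟩ := hψ.isCharacter.exists_units_of_apply_one k1
  exact ⟨ω, e⟩

section mod

variable {V : Type*} [AddCommGroup V] [Module (ZMod p) V] [H.Normal]
  {ρ : L →* Module.End (ZMod p) V} {φ : L → V} (m : VMod H H₀ p ρ φ) {χ : Multiplicative V →* ℂˣ}
include m

omit h in
theorem cmod_le_inertia : cmod H H₀ ≤ inertia H (lc (χ.comp m.hom)) := fun g hg =>
  m.mem_inertia.2 fun v => by simp [m.mem_cmod.1 hg]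

theorem gal_inertia (hG : Gal9 H U H₀) (h1 : χ ≠ 1) :
    U ⊓ inertia H (lc (χ.comp m.hom)) = U ⊓ cmod H H₀ := by
  refine le_antisymm (fun u hu => ⟨hu.1, m.mem_cmod.2 ?_⟩) (inf_le_inf_left _ (cmod_le_inertia m))
  rcases gal_irr m hG (W := LinearMap.range (ρ u - 1)) (by
    rintro v hv _ ⟨x, rfl⟩
    refine ⟨ρ v x, ?_⟩
    simp only [LinearMap.sub_apply, map_sub, Module.End.one_apply]
    rw [← Module.End.mul_apply, ← h.act_comm m hv hu.1, Module.End.mul_apply]) with e | e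
  · exact sub_eq_zero.1 (LinearMap.range_eq_bot.1 e)
  · refine absurd (top_le_iff.1 (e.ge.trans ?_)) (kerS_ne_top (p := p) h1)
    rintro _ ⟨x, rfl⟩
    exact m.mem_inertia.1 hu.2 x

theorem inv_inertia (h1 : χ ≠ 1) (hW : ∀ w, f (w, 1) ∈ inertia H (lc (χ.comp m.hom))) :
    U ⊓ inertia H (lc (χ.comp m.hom)) = U ⊓ cmod H H₀ := by
  refine le_antisymm (fun u hu => ⟨hu.1, m.mem_cmod.2 ?_⟩) (inf_le_inf_left _ (cmod_le_inertia m))
  have k : ∀ g g' v, v ∈ ⨅ g, (kerS p χ).comap (ρ g) → ρ g (ρ g' v) ∈ kerS p χ := fun g g' v hv => by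
    rw [← act_mul]
    exact (Submodule.mem_iInf _).1 hv _
  rcases h.irr m (W := ⨅ g, (kerS p χ).comap (ρ g))
    (fun u _ v hv => (Submodule.mem_iInf _).2 fun g => k g u v hv)
    (fun w v hv => (Submodule.mem_iInf _).2 fun g => k g _ v hv) with e | e
  · refine LinearMap.ext fun v => sub_eq_zero.1 (e.le ((Submodule.mem_iInf _).2 fun g => ?_))
    obtain ⟨y, hy, x, hx, w, rfl⟩ := h.dec g
    have := m.mem_inertia.1 (mul_mem (mul_mem (hW w) hu.2) (inv_mem (hW w))) (ρ x (ρ (f (w, 1)) v))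
    rw [← Module.End.mul_apply, h.act_comm m (h.conj_mem hu.1 w) hx, Module.End.mul_apply,
      ← act_mul ρ (_ * _), inv_mul_cancel_right] at this
    simpa [act_mul, m.act_of_mem hy] using this
  · refine absurd (eq_top_iff.2 fun v _ => ?_) (kerS_ne_top (p := p) h1)
    simpa using (Submodule.mem_iInf _).1 (e.ge (trivial : v ∈ ⊤)) 1

theorem exists_ind {ξ : L → ℂ} {M : Subgroup L} (hM : H₀ ≤ M) (hξ : ξ ∈ indD K H M) :
    ∃ χ : Multiplicative V →* ℂˣ, χ ≠ 1 ∧ ∀ X, U ⊓ inertia H (lc (χ.comp m.hom)) = X →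
      ∃ ψ : (H ⊔ X : Subgroup L) → ℂ, IsIrrCharacter _ ψ ∧ ξ = indFun _ ψ := by
  have := Fintype.ofFinite K
  have := Fintype.ofFinite H
  obtain ⟨θ, a, b, c, rfl⟩ := hξ
  obtain ⟨χ, d, e⟩ := m.exists_under h.HK h.comm a (b.mono hM) c
  exact ⟨χ, d, fun X hX => rel_clifford_surj h.HK a (isIrr_lc _) e
    (hX ▸ (h.inf_eq_sup (le_inertia (isIrr_lc _).isClassFunction)).symm)⟩

theorem exists_mem (h1 : χ ≠ 1) {X : Subgroup L} (hX : U ⊓ inertia H (lc (χ.comp m.hom)) = X)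
    (η : X →* ℂˣ) : ∃ ω : (H ⊔ X : Subgroup L) →* ℂˣ,
      (∀ x : H, ω ⟨x, mem_sup_left x.2⟩ = χ.comp m.hom x) ∧
      (∀ x : X, ω ⟨x, mem_sup_right x.2⟩ = η x) ∧ ∀ Y, Y ≤ X → (H₀ ⊔ Y).Normal →
        (∀ x : X, x.1 ∈ Y → η x = 1) → indFun _ (lc ω) ∈ indD K H (H₀ ⊔ Y) := by
  obtain ⟨ω, a, b⟩ := exists_lc_ext (h.inf_eq_bot' (hX.ge.trans inf_le_left)) _ η
    (hX.ge.trans inf_le_right)
  refine ⟨ω, a, b, fun Y c _ d => ind_lc_mem_indD h.HK (m.comp_ne_one h1)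
    (hX ▸ (h.inf_eq_sup (le_inertia (isIrr_lc _).isClassFunction)).symm) le_sup_left a
    (sup_le_sup h.lt.le c) fun x hx => ?_⟩
  obtain ⟨y, hy, z, hz, e⟩ := (Solv.mem_sup_of_le_normalizer' le_normalizer_of_normal).1 hx
  rw [show x = ⟨y, mem_sup_left (h.lt.le hy)⟩ * ⟨z, mem_sup_right (c hz)⟩ from Subtype.ext e,
    map_mul, a ⟨y, h.lt.le hy⟩, b ⟨z, c hz⟩, d _ hz, m.comp_eq_one χ hy, mul_one]

end mod

/-- (9.9.a), first part. -/
theorem gal_dvd (hG : Gal9 H U H₀) {χ : L → ℂ} (hχ : χ ∈ indD K H H₀) :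
    ∃ n : ℕ, χ 1 = n * (q * (U ⊓ cmod H H₀).relIndex U) := by
  obtain ⟨V, _, _, _, ρ, φ, m⟩ := h.exists_vMod
  have := h.normalH
  obtain ⟨ξ, a, b⟩ := h.exists_ind m le_rfl hχ
  obtain ⟨ψ, c, rfl⟩ := b _ (h.gal_inertia m hG a)
  obtain ⟨n, -, e⟩ := c.exists_degree
  exact ⟨n, by rw [indFun_one, e, h.index_sup inf_le_left, mul_comm]; simp⟩

/-- (9.9.a), second part. -/
theorem gal_deg (hG : Gal9 H U H₀) {χ : L → ℂ}
    (hχ : χ ∈ indD K H (H₀ ⊔ ⁅U ⊓ cmod H H₀, U ⊓ cmod H H₀⁆)) :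
    χ 1 = q * (U ⊓ cmod H H₀).relIndex U ∧ IndLin (H ⊔ (U ⊓ cmod H H₀)) χ := by
  obtain ⟨V, _, _, _, ρ, φ, m⟩ := h.exists_vMod
  have := h.normalH
  obtain ⟨ξ, a, b⟩ := h.exists_ind m le_sup_left hχ
  obtain ⟨ψ, c, e⟩ := b _ (h.gal_inertia m hG a)
  obtain ⟨θ, d, k, -, rfl⟩ := hχ
  exact h.indLin_of_kerOn d c e k

theorem pmu_mem_iff (hf : PrimeFam K f μ δ) {M : Subgroup L} [M.Normal] (hM : M ≤ K)
    {j : B →* ℂˣ} : pmu K μ j ∈ indD K H M ↔
      M.comap (f.comp (MonoidHom.inr A B)) ≤ j.ker ∧ j ≠ 1 := by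
  have := h.normalH
  have := h.pti.normal
  rw [pmu, ind_mem_indD_iff (hf.isIrr_pchi j), KerOn, KerOn, hf.le_charKer_pchi_iff hM,
    hf.le_charKer_pchi_iff h.HK]
  exact and_congr Iff.rfl (not_congr ⟨fun a => MonoidHom.ext fun b => a b (h.BH b),
    fun a _ _ => a ▸ rfl⟩)

/-- (9.8.b), (9.9.b): number of reducible members of S(H₀). -/
theorem card_red (hf : PrimeFam K f μ δ) :
    Nat.card {j : B →* ℂˣ // pmu K μ j ∈ indD K H H₀} = p - 1 := by
  classical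
  have := h.pti.finiteB
  have e := card_lc_trivial (H₀.comap (f.comp (MonoidHom.inr A B))) fun a b => by
    rw [commutatorElement_eq_one_iff_mul_comm.2 (h.pti.commB a b)]; exact one_mem _
  simp only [h.pmu_mem_iff hf h.H₀K]
  rw [h.index_W₂, Nat.card_eq_fintype_card, Fintype.card_subtype] at e
  rw [← e, Nat.card_eq_fintype_card, Fintype.card_subtype, Finset.filter_and, Finset.filter_ne',
    Finset.inter_erase, Finset.inter_univ, Finset.card_erase_of_mem (by simp)]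

/-- (9.8.b), (9.9.b) (both cases). -/
theorem red_spec (hf : PrimeFam K f μ δ) {j : B →* ℂˣ} (hj : pmu K μ j ∈ indD K H H₀) :
    μ 1 j 1 = (U ⊓ cmod H H₀).relIndex U ∧ pmu K μ j ∈ indD K H (H₀ ⊔ (U ⊓ cmod H H₀)) ∧
      IndLin (H ⊔ (U ⊓ cmod H H₀)) (pmu K μ j) := by
  obtain ⟨V, _, _, _, ρ, φ, m⟩ := h.exists_vMod
  have := h.normalH
  have := h.pti.normal
  have := h.normal_H0C
  have := Fintype.ofFinite K
  have := Fintype.ofFinite H
  have k : pmu K μ j ∈ indD K H (H₀ ⊔ (U ⊓ cmod H H₀)) := by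
    rw [h.pmu_mem_iff hf h.H₀K] at hj
    refine (h.pmu_mem_iff hf (sup_le h.H₀K (inf_le_left.trans h.UK))).2 ⟨fun b hb => hj.1 ?_, hj.2⟩
    have := (Solv.dedekind h.lt.le le_normalizer_of_normal).le (mem_inf.2 ⟨hb, h.BH b⟩)
    rwa [inf_comm, h.inf_eq_bot' inf_le_left, sup_bot_eq] at this
  have i := hf.isIrr_pchi j
  obtain ⟨k1, k2⟩ := (ind_mem_indD_iff i).1 k
  obtain ⟨χ, a, b⟩ := m.exists_under h.HK h.comm i (k1.mono le_sup_left) k2
  have r : IsClassFunction L (μ 1 j) := hf.isClassFunction 1 j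
  obtain ⟨g, hg, e⟩ := Solv.glauberman_exists (A := (f.comp (MonoidHom.inl A B)).range) (K := K)
    (S := inertia H (lc (χ.comp m.hom))) le_normalizer_of_normal
    (by rw [h.card_W₁, ← h.cardA]; exact h.pti.cop) (Or.inr (have := h.solv; inferInstance))
    fun w _ => by
      obtain ⟨k, c, d⟩ := i.exists_cj_of_under h.HK (isIrr_lc _) ((isIrr_lc _).cj w⁻¹) b
        ((classInner_res_cj r w⁻¹ _).trans_ne b)
      refine ⟨k⁻¹, inv_mem c, ?_⟩
      simpa using cj_eq_cj_iff.1 d.symm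
  let χ' := χ.comp (AddMonoidHom.toMultiplicative (ρ g⁻¹).toAddMonoidHom)
  have e1 : cj H g⁻¹ (lc (χ.comp m.hom)) = lc (χ'.comp m.hom) := m.cj_eq_iff.2 fun v => rfl
  obtain ⟨ψ, c, d⟩ := rel_clifford_surj (T := H ⊔ (U ⊓ cmod H H₀)) h.HK i (isIrr_lc (χ'.comp m.hom))
    (e1 ▸ (classInner_res_cj r g⁻¹ _).trans_ne b) (by
      rw [h.inf_eq_sup (le_inertia (isIrr_lc _).isClassFunction), h.inv_inertia m
        (fun e => a (MonoidHom.ext fun v => ?_)) fun w => ?_]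
      · simpa [χ', act_inv_act] using DFunLike.congr_fun e (.ofAdd (ρ g v.toAdd))
      · rw [mem_inertia, ← e1, ← cj_mul, cj_eq_cj_iff, inv_inv]
        exact Solv.mem_conj_smul.1 (e ⟨w, rfl⟩))
  obtain ⟨l1, l2⟩ := h.indLin_of_kerOn i c d (k1.mono (sup_le_sup_left (commutator_le_self' _) _))
  refine ⟨mul_left_cancel₀ (Nat.cast_ne_zero.2 h.primeq.ne_zero) ?_, k, l2⟩
  rw [← l1, ← h.cardA, ← hf.pmu_apply_one, pmu]

section line

variable {V : Type*} [AddCommGroup V] [Module (ZMod p) V] [Finite V] [H.Normal]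
  {ρ : L →* Module.End (ZMod p) V} {φ : L → V} (m : VMod H H₀ p ρ φ)
  {v : V} {lam : U →* (ZMod p)ˣ} (l : Line U H₀ H₁ f ρ v lam)
  {e : Multiplicative (ZMod p) →* ℂˣ} (he : Function.Injective e)

/-- The character of `V` with coordinates `c`. -/
noncomputable def co (e : Multiplicative (ZMod p) →* ℂˣ) (c : A → ZMod p) : Multiplicative V →* ℂˣ :=
  e.comp (AddMonoidHom.toMultiplicative ((h.basis m l).constr (ZMod p) c).toAddMonoidHom)

include he

theorem co_cj_iff {c c' : A → ZMod p} {y : L} (hy : y ∈ H) (u : U) (w₀ : A) :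
    cj H (y * u * f (w₀, 1)) (lc ((h.co m l e c).comp m.hom)) = lc ((h.co m l e c').comp m.hom) ↔
      ∀ w, lam (h.cw (w₀ * w) u) * c (w₀ * w) = c' w := by
  have k : ∀ w, ((h.basis m l).constr (ZMod p) c) (ρ (y * u * f (w₀, 1)) (h.basis m l w)) =
      lam (h.cw (w₀ * w) u) * c (w₀ * w) := fun w => by
    rw [act_mul, act_mul, m.act_of_mem hy, Module.End.one_apply, h.basis_apply, ← act_mul ρ (f _),
      ← h.f_mul, h.act_line m l, ← h.basis_apply m l, map_smul, Module.Basis.constr_basis,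
      smul_eq_mul]
  rw [m.cj_eq_iff]
  refine ⟨fun a w => ?_, fun a x => ?_⟩
  · rw [← k, ← (h.basis m l).constr_basis (ZMod p) c' w]
    exact he (a _)
  · have : ((h.basis m l).constr (ZMod p) c).comp (ρ (y * u * f (w₀, 1))) =
        (h.basis m l).constr (ZMod p) c' := (h.basis m l).ext fun w => by
      rw [LinearMap.comp_apply, k, a, Module.Basis.constr_basis]
    exact congrArg (fun z => e (.ofAdd z)) (LinearMap.congr_fun this x)

omit [H.Normal] he in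
theorem co_apply (c : A → ZMod p) (x : V) :
    h.co m l e c (.ofAdd x) = e (.ofAdd ((h.basis m l).constr (ZMod p) c x)) := rfl

omit [H.Normal] in
theorem co_ne_one {c : A → ZMod p} {w : A} (hc : c w ≠ 0) : h.co m l e c ≠ 1 := fun a => hc (by
  have := h.co_apply m l (e := e) c (h.basis m l w)
  rw [a, MonoidHom.one_apply, Module.Basis.constr_basis] at this
  exact ofAdd_eq_one.1 ((map_eq_one_iff e he).1 this.symm))

theorem mem_inertia_co {c : A → ZMod p} (u : U) :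
    (u : L) ∈ inertia H (lc ((h.co m l e c).comp m.hom)) ↔ ∀ w, c w ≠ 0 → lam (h.cw w u) = 1 := by
  have := Fact.mk h.primep
  have := h.co_cj_iff m l he (c := c) (c' := c) (one_mem H) u 1
  simp only [one_mul, Prod.mk_one_one, map_one, mul_one] at this
  rw [mem_inertia, this]
  refine forall_congr' fun w => ⟨fun a b => Units.ext (mul_eq_right₀ b |>.1 a), fun a => ?_⟩
  by_cases b : c w = 0
  · rw [b, mul_zero]
  · rw [a b, Units.val_one, one_mul]

theorem inertia_co_eq {c : A → ZMod p} {X : Subgroup L}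
    (hX : U ⊓ inertia H (lc ((h.co m l e c).comp m.hom)) = X)
    (hc : ∀ u w₀, (∀ w, lam (h.cw (w₀ * w) u) * c (w₀ * w) = c w) → w₀ = 1) :
    H ⊔ X = inertia H (lc ((h.co m l e c).comp m.hom)) := by
  rw [← hX, ← h.inf_eq_sup (le_inertia (isIrr_lc _).isClassFunction), inf_eq_right]
  intro g hg
  obtain ⟨y, hy, u, hu, w, rfl⟩ := h.dec g
  rw [hc _ _ ((h.co_cj_iff m l he hy ⟨u, hu⟩ w).1 hg), Prod.mk_one_one, map_one, mul_one]
  exact mul_mem (h.HK hy) (h.UK hu)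

end line

/-- (9.8.a) -/
theorem caseA_dvd (hA : CaseA H U H₀ H₁ f p q a) {χ : L → ℂ} (hχ : χ ∈ indD K H H₀) :
    ∃ n : ℕ, χ 1 = n * (q * a) := by
  obtain ⟨V, _, _, _, ρ, φ, m⟩ := h.exists_vMod
  obtain ⟨v, lam, l⟩ := hA.exists_line h m
  have := h.normalH
  have := Fact.mk h.primep
  obtain ⟨ξ, c, b⟩ := h.exists_ind m le_rfl hχ
  obtain ⟨ψ, d, rfl⟩ := b _ rfl
  obtain ⟨n, -, e⟩ := d.exists_degree
  obtain ⟨w, hw⟩ : ∃ w, ρ (f (w, 1)) v ∉ kerS p ξ := by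
    by_contra! k
    exact kerS_ne_top c (top_le_iff.1 (l.span.trans (Submodule.span_le.2 (Set.range_subset_iff.2 k))))
  obtain ⟨k, hk⟩ : a ∣ (U ⊓ inertia H (lc (ξ.comp m.hom))).relIndex U := by
    have : (lam.comp (h.cw w)).range = lam.range := by
      rw [MonoidHom.range_comp, MonoidHom.range_eq_top.2 fun u => ⟨h.cw w⁻¹ u, by
        rw [h.cw_cw, inv_mul_cancel, h.cw_one]⟩, ← MonoidHom.range_eq_map]
    rw [← hA.a_eq, card_range_lam l, ← this, ← index_ker]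
    refine index_dvd_of_le fun u hu => Units.ext (by_contra fun a => hw ?_)
    have := (m.mem_inertia (g := u)).1 hu.2 (ρ (f (w, 1)) v)
    rw [h.act_line m l] at this
    exact (Submodule.smul_mem_iff _ (sub_ne_zero.2 a)).1 (by rwa [sub_smul, Units.val_one, one_smul])
  exact ⟨k * n, by rw [indFun_one, e, h.index_sup inf_le_left, hk]; push_cast; ring⟩

/-- (9.8.c) -/
theorem caseA_exists_irr (hA : CaseA H U H₀ H₁ f p q a) :
    ∃ χ ∈ indD K H (H₀ ⊔ (U ⊓ cmod H H₀)), IsIrrCharacter L χ ∧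
      χ 1 = q * (U ⊓ cmod H H₀).relIndex U ∧ IndLin (H ⊔ (U ⊓ cmod H H₀)) χ := by
  classical
  obtain ⟨V, _, _, _, ρ, φ, m⟩ := h.exists_vMod
  obtain ⟨v, lam, l⟩ := hA.exists_line h m
  have := h.normalH
  have := Fact.mk h.primep
  have := Fintype.ofFinite H
  obtain ⟨e, he⟩ := exists_dual_char (p := p)
  let c : A → ZMod p := fun w => if w = 1 then -1 else 1
  have c0 : ∀ w, c w ≠ 0 := fun w => by simp only [c]; split_ifs <;> simp
  have hX : U ⊓ inertia H (lc ((h.co m l e c).comp m.hom)) = U ⊓ cmod H H₀ := by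
    ext u
    refine and_congr_right fun hu => (h.mem_inertia_co m l he ⟨u, hu⟩).trans
      (Iff.trans ?_ (h.mem_C_iff m l ⟨u, hu⟩).symm)
    simp [c0]
  obtain ⟨ω, a, -, b⟩ := h.exists_mem m (h.co_ne_one m l he (c0 1)) hX 1
  refine ⟨_, b _ le_rfl h.normal_H0C fun _ _ => rfl, ((isIrr_lc _).clifford_ind
    (h.inertia_co_eq m l he hX fun u w k => by_contra fun hw => ?_) le_sup_left (isIrr_lc ω)
    (classInner_lc_ext _ a)).1, by rw [indFun_one, h.index_sup inf_le_left]; simp, ω, rfl⟩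
  have k := k 1
  simp only [c, mul_one, if_neg hw, if_true] at k
  have := h.eq_one_of_sq lam (h.cw w u) (Units.ext (by simp [k]))
  rw [this, Units.val_one, eq_neg_iff_add_eq_zero, one_add_one_eq_two] at k
  exact h.p_ne_two ((Nat.prime_dvd_prime_iff_eq h.primep Nat.prime_two).1
    ((CharP.cast_eq_zero_iff (ZMod p) p 2).1 k))

/-- The character used in (9.11.2); `U₁ = U ⊓ cmod H₁ H₀`. -/
theorem caseA_pair (hA : CaseA H U H₀ H₁ f p q a) {w : A} (hw : w ≠ 1) :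
    ∃ χ ∈ indD K H (H₀ ⊔ (U ⊓ cmod H H₀)),
      χ 1 = q * ((U ⊓ cmod H₁ H₀) ⊓ cjS (f (w, 1)) (U ⊓ cmod H₁ H₀)).relIndex U := by
  classical
  obtain ⟨V, _, _, _, ρ, φ, m⟩ := h.exists_vMod
  obtain ⟨v, lam, l⟩ := hA.exists_line h m
  have := h.normalH
  have := Fact.mk h.primep
  obtain ⟨e, he⟩ := exists_dual_char (p := p)
  let c : A → ZMod p := fun x => if x = 1 ∨ x = w then 1 else 0
  have hX : U ⊓ inertia H (lc ((h.co m l e c).comp m.hom)) =
      (U ⊓ cmod H₁ H₀) ⊓ cjS (f (w, 1)) (U ⊓ cmod H₁ H₀) := by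
    ext u
    rw [mem_inf, mem_inf, mem_inf, Solv.mem_map_conj, mem_inf, and_assoc]
    refine and_congr_right fun hu => (h.mem_inertia_co m l he ⟨u, hu⟩).trans ?_
    rw [and_iff_right (h.conj_mem' hu w), l.ker ⟨u, hu⟩, show (f (w, 1))⁻¹ * u * f (w, 1) ∈ _ ↔ _ from
      l.ker (h.cw w ⟨u, hu⟩)]
    simp [c, -not_or, or_imp, forall_and, h.cw_one]
  obtain ⟨ω, -, -, b⟩ := h.exists_mem m (h.co_ne_one m l he (w := 1) (by simp [c])) hX 1
  exact ⟨_, b _ (hX ▸ inf_le_inf_left _ (cmod_le_inertia m)) h.normal_H0C fun _ _ => rfl,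
    by rw [indFun_one, h.index_sup (inf_le_left.trans inf_le_left)]; simp⟩

/-- (9.8.d): at least `((p-1)/a) * (|U:U'|/a)` irreducible members of degree `q a`. -/
theorem caseA_count (hA : CaseA H U H₀ H₁ f p q a) :
    ∃ T : Finset (L → ℂ), (∀ χ ∈ T, χ ∈ indD K H (H₀ ⊔ ⁅U, U⁆) ∧ IsIrrCharacter L χ ∧
      χ 1 = q * a) ∧ (p - 1) * ⁅U, U⁆.relIndex U ≤ T.card * a ^ 2 := by
  classical
  obtain ⟨V, _, _, _, ρ, φ, m⟩ := h.exists_vMod
  obtain ⟨v, lam, l⟩ := hA.exists_line h m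
  have := h.normalH
  have := Fact.mk h.primep
  have := Fintype.ofFinite H
  obtain ⟨e, he⟩ := exists_dual_char (p := p)
  let c : (ZMod p)ˣ → A → ZMod p := fun t x => if x = 1 then t else 0
  have hX : ∀ t, U ⊓ inertia H (lc ((h.co m l e (c t)).comp m.hom)) = U ⊓ cmod H₁ H₀ := fun t => by
    ext u
    refine and_congr_right fun hu => (h.mem_inertia_co m l he ⟨u, hu⟩).trans
      (Iff.trans ?_ (l.ker ⟨u, hu⟩).symm)
    simp [c, h.cw_one]
  have k : ∀ t t' u w, (∀ x, lam (h.cw (w * x) u) * c t (w * x) = c t' x) → w = 1 ∧ lam u * t = t' :=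
    fun t t' u w k => by
      have k := k 1
      by_cases hw : w = 1
      · exact ⟨hw, Units.ext (by simpa [c, hw, h.cw_one] using k)⟩
      · exact absurd k.symm (by simp [c, hw])
  have le : ⁅U, U⁆ ≤ U ⊓ cmod H₁ H₀ := le_inf (commutator_le_self' U) fun u hu y hy =>
    h.derU hu y (hA.le hy)
  choose ω a1 a2 a3 using fun (t : (ZMod p)ˣ)
    (η : {j : (U ⊓ cmod H₁ H₀ : Subgroup L) →* ℂˣ // ⁅U, U⁆.subgroupOf _ ≤ j.ker}) =>
    h.exists_mem m (h.co_ne_one m l he (c := c t) (w := 1) (by simp [c])) (hX t) η.1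
  have hT := fun t => h.inertia_co_eq m l he (hX t) fun u w a => (k t t u w a).1
  have ir := fun t η => (isIrr_lc _).clifford_ind (hT t) le_sup_left (isIrr_lc (ω t η))
    (classInner_lc_ext _ (a1 t η))
  have : (⁅U, U⁆.subgroupOf (U ⊓ cmod H₁ H₀)).Normal := (normal_subgroupOf_iff_le_normalizer le).2
    (inf_le_left.trans (Solv.le_normalizer_commutator le_normalizer le_normalizer))
  have cd := card_lc_trivial (⁅U, U⁆.subgroupOf (U ⊓ cmod H₁ H₀)) fun x y =>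
    commutator_mem_commutator x.2.1 y.2.1
  have := Fintype.ofFinite {j : (U ⊓ cmod H₁ H₀ : Subgroup L) →* ℂˣ // ⁅U, U⁆.subgroupOf _ ≤ j.ker}
  refine ⟨Finset.univ.image fun x : _ × _ => indFun _ (lc (ω x.1 x.2)), fun χ hχ => ?_, ?_⟩
  · obtain ⟨⟨t, η⟩, -, rfl⟩ := Finset.mem_image.1 hχ
    exact ⟨a3 t η _ le h.normal_H0U' fun x hx => η.2 hx, (ir t η).1,
      by rw [indFun_one, h.index_sup inf_le_left, hA.a_eq]; simp⟩
  have := Finset.card_le_mul_card_image (f := fun x : _ × _ => indFun _ (lc (ω x.1 x.2)))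
    Finset.univ a fun χ hχ => ?_
  · rw [Finset.card_univ, Fintype.card_prod, ZMod.card_units, ← Nat.card_eq_fintype_card, cd] at this
    rw [← relIndex_mul_relIndex _ _ _ le inf_le_left, hA.a_eq, ← mul_assoc, sq, ← mul_assoc,
      mul_comm (Finset.card _) a]
    exact Nat.mul_le_mul_right _ this
  obtain ⟨⟨t, η⟩, -, rfl⟩ := Finset.mem_image.1 hχ
  have := Fintype.ofFinite lam.range
  rw [← hA.a_eq, card_range_lam l, Nat.card_eq_fintype_card, Fintype.card_subtype]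
  refine Finset.card_le_card_of_injOn (fun x => x.1 * t⁻¹) (fun x hx => ?_) fun x hx y hy e' => ?_
  · have hx := (Finset.mem_filter.1 hx).2
    obtain ⟨g, hg⟩ := mem_cjOrbit.1 ((ir t η).1.mem_cjOrbit_of_under (isIrr_lc _) (isIrr_lc _)
      ((ir t η).2.trans_ne (classInner_lc_ext _ (a1 t η)))
      (hx ▸ (ir x.1 x.2).2.trans_ne (classInner_lc_ext _ (a1 x.1 x.2))))
    obtain ⟨y, hy, u, hu, w, rfl⟩ := h.dec g
    have := (k _ _ _ _ ((h.co_cj_iff m l he hy ⟨u, hu⟩ w).1 hg.symm)).2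
    exact Finset.mem_filter.2 ⟨Finset.mem_univ _, ⟨u, hu⟩, eq_mul_inv_of_mul_eq this⟩
  · obtain ⟨s, η₁⟩ := x
    obtain ⟨s', η₂⟩ := y
    obtain rfl : s = s' := mul_right_cancel e'
    have := lc_injective ((isIrr_lc _).clifford_inj (hT s) le_sup_left (isIrr_lc (ω s η₁))
      (isIrr_lc (ω s η₂)) (classInner_lc_ext _ (a1 s η₁)) (classInner_lc_ext _ (a1 s η₂))
      ((Finset.mem_filter.1 hx).2.trans (Finset.mem_filter.1 hy).2.symm))
    exact Prod.ext rfl (Subtype.ext (MonoidHom.ext fun x => by rw [← a2, ← a2, this]))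

/-- (9.10) (from (9.8.c), (9.9.a), (9.9.c)). -/
theorem core_cases : (∃ χ ∈ indD K H (H₀ ⊔ ⁅U ⊓ cmod H H₀, U ⊓ cmod H H₀⁆), IsIrrCharacter L χ ∧
      χ 1 = q * (U ⊓ cmod H H₀).relIndex U ∧ IndLin (H ⊔ (U ⊓ cmod H H₀)) χ) ∨
    (Gal9 H U H₀ ∧ U ⊓ cmod H H₀ = ⊥ ∧ Nat.card U = (p ^ q - 1) / (p - 1) ∧ IsCyclic U) := by
  classical
  by_cases hG : Gal9 H U H₀; swap
  · obtain ⟨H₁, a, hA⟩ := h.caseA hG
    obtain ⟨χ, a, b⟩ := h.caseA_exists_irr hA
    exact Or.inl ⟨χ, indD_mono le_rfl (sup_le_sup_left (commutator_le_self' _) _) a, b⟩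
  refine or_iff_not_imp_left.2 fun hn => ?_
  obtain ⟨μ, δ, hf⟩ := h.pti.exists_fam
  have red : ∀ χ ∈ indD K H (H₀ ⊔ ⁅U ⊓ cmod H H₀, U ⊓ cmod H H₀⁆), ∃ j, χ = pmu K μ j := by
    rintro _ ⟨θ, a, b, c, rfl⟩
    obtain ⟨j, rfl⟩ := (hf.ind_irr_or a).resolve_left fun d =>
      hn ⟨_, ⟨θ, a, b, c, rfl⟩, d, h.gal_deg hG ⟨θ, a, b, c, rfl⟩⟩
    exact ⟨j, rfl⟩
  obtain ⟨V, _, _, _, ρ, φ, m⟩ := h.exists_vMod
  have := h.normalH
  have := h.pti.normal
  have C0 : U ⊓ cmod H H₀ = ⊥ := by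
    by_contra C0
    have : Nontrivial V := Finite.one_lt_card_iff_nontrivial.1 (by
      rw [h.card_V m]; exact Nat.one_lt_pow h.primeq.ne_zero h.primep.one_lt)
    obtain ⟨χ, -, a⟩ := exists_lc_ne_one (⊥ : Subgroup (Multiplicative V))
      (fun a b => commutatorElement_eq_one_iff_mul_comm.2 (mul_comm a b)) bot_ne_top
    have := h.solv
    have := (nontrivial_iff_ne_bot _).2 C0
    obtain ⟨η, b, c⟩ := exists_lc_ne_one (_root_.commutator (U ⊓ cmod H H₀ : Subgroup L))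
      (fun a b => commutator_mem_commutator trivial trivial) (Group.IsSolvable.commutator_lt_top_of_nontrivial _).ne
    obtain ⟨ω, -, d, k⟩ := h.exists_mem m a (h.gal_inertia m hG a) η
    have k := k _ (commutator_le_self' _) h.normal_H0C' fun x hx => b (by
      rw [← map_subtype_commutator] at hx
      obtain ⟨y, hy, e⟩ := hx
      exact Subtype.ext e ▸ hy)
    obtain ⟨j, e⟩ := red _ k
    have := h.normal_H0C
    have := le_charKer_of_mem_indD (sup_le h.H₀K (inf_le_left.trans h.UK))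
      (h.red_spec hf (indD_mono le_rfl le_sup_left (e ▸ k))).2.1
    rw [← e, ← kerOn_iff_ind (isIrr_lc ω) (sup_le_sup_right h.lt.le _)] at this
    exact c (MonoidHom.ext fun x => by
      simpa [lc, d] using this ⟨x, mem_sup_right x.2⟩ (mem_sup_right x.2))
  refine ⟨hG, C0, ?_, ?_⟩
  · have := h.pti.finiteB
    have s := sum_indF_deg_sq h.HK h.H₀K
    have e : indF K H H₀ = (Finset.univ.filter fun j => pmu K μ j ∈ indD K H H₀).image (pmu K μ) := by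
      ext χ
      rw [mem_indF, Finset.mem_image]
      refine ⟨fun a => ?_, fun ⟨j, a, b⟩ => b ▸ (Finset.mem_filter.1 a).2⟩
      obtain ⟨j, rfl⟩ := red χ (by rwa [C0, commutator_bot_left, sup_bot_eq])
      exact ⟨j, Finset.mem_filter.2 ⟨Finset.mem_univ _, a⟩, rfl⟩
    have u : H.relIndex K = Nat.card U := by simpa using h.relIndex_sup (bot_le (a := U))
    rw [e, Finset.sum_image hf.pmu_injective.injOn, Finset.sum_congr rfl (g := fun _ =>
      (q * Nat.card U : ℝ) ^ 2 / q) fun j hj => by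
        rw [hf.rip_pmu, if_pos rfl, h.cardA, deg_eq_nat (r := q * Nat.card U) (by
          rw [hf.pmu_apply_one, (h.red_spec hf (Finset.mem_filter.1 hj).2).1, C0, h.cardA]; simp),
          Nat.cast_mul], Finset.sum_const, ← Fintype.card_subtype, ← Nat.card_eq_fintype_card,
      h.card_red hf, sup_eq_right.2 h.lt.le, ← relIndex_mul_relIndex _ _ _ h.lt.le h.HK, u,
      h.relIndex_eq, h.pti.index, h.cardA, nsmul_eq_mul] at s
    have q0 : (q : ℝ) ≠ 0 := Nat.cast_ne_zero.2 h.primeq.ne_zero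
    have u0 : (Nat.card U : ℝ) ≠ 0 := Nat.cast_ne_zero.2 Nat.card_pos.ne'
    refine (Nat.div_eq_of_eq_mul_left (Nat.sub_pos_of_lt h.primep.one_lt) ?_).symm
    apply Nat.cast_injective (R := ℝ)
    rw [Nat.cast_sub (Nat.one_le_pow _ _ h.primep.pos)]
    field_simp at s
    push_cast at s ⊢
    exact mul_left_cancel₀ u0 (by linear_combination -s)
  · obtain ⟨F, _, _, φ, ψ, -, -, -, -, -, a, b, -⟩ := (h.caseB hG).field
    let g : U →* F :=
      { toFun := fun u => ψ u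
        map_one' := (b 1 (one_mem _)).2 (one_mem _)
        map_mul' := fun x y => a _ x.2 _ y.2 }
    exact isCyclic_of_injective_ringHom g ((injective_iff_map_eq_one g).2 fun u e =>
      Subtype.ext (mem_bot.1 (C0.le ⟨u.2, (b _ u.2).1 e⟩)))

end Sec9

end Cfsg.Agent.Char
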