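import Cfsg.Agent.Lib.Char.Galois

/-!
Central characters, divisibility of degrees and Burnside's theorems.
-/

set_option autoImplicit false

namespace Cfsg

open Agent.Char Module Representation Polynomial
open scoped ComplexConjugate

variable {G : Type*} [Group G]

namespace Agent.Char

/-- The group as the product of a left transversal and the subgroup. -/
noncomputable def cosetProdEquiv (Z : Subgroup G) : (G ⧸ Z) × Z ≃ G where
  toFun p := p.1.out * p.2
  invFun g := ((g : G ⧸ Z), ⟨(g : G ⧸ Z).out⁻¹ * g, QuotientGroup.eq.1 (Quotient.out_eq _)⟩)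
  left_inv p := by
    have h : ((p.1.out * p.2 : G) : G ⧸ Z) = p.1 := by
      rw [QuotientGroup.mk_mul_of_mem _ p.2.2]; exact Quotient.out_eq _
    ext
    · exact h
    · simp [h]
  right_inv g := by simp

theorem sum_eq_sum_coset {M : Type*} [AddCommMonoid M] [Fintype G] (Z : Subgroup G) [Fintype Z]
    [Fintype (G ⧸ Z)] (F : G → M) : ∑ g, F g = ∑ q : G ⧸ Z, ∑ z : Z, F (q.out * z) := by
  rw [← (cosetProdEquiv Z).sum_comp, Fintype.sum_prod_type]; rfl

theorem sum_eq_card_smul_sum_out {M : Type*} [AddCommMonoid M] [Fintype G] (Z : Subgroup G)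
    [Fintype (G ⧸ Z)] (F : G → M) (hF : ∀ g, ∀ z : Z, F (g * z) = F g) :
    ∑ g, F g = Nat.card Z • ∑ q : G ⧸ Z, F q.out := by
  have := Fintype.ofFinite Z
  rw [sum_eq_sum_coset Z, Finset.smul_sum]
  simp [hF]

theorem isIntegral_of_sum_smul_eq [Fintype G] {V : Type*} [AddCommGroup V] [Module ℂ V]
    [Nontrivial V] (ρ : Representation ℂ G V) {φ : G → ℂ} (hφ : ∀ g, IsIntegral ℤ (φ g)) {c : ℂ}
    (h : ∑ g, φ g • ρ g = c • LinearMap.id) : IsIntegral ℤ c := by
  let R := integralClosure ℤ ℂ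
  let a : MonoidAlgebra R G := ∑ g, MonoidAlgebra.single g ⟨φ g, hφ g⟩
  have ha : IsIntegral R a := Algebra.IsIntegral.isIntegral a
  let F : MonoidAlgebra R G →ₐ[R] Module.End ℂ V := MonoidAlgebra.lift R _ G ρ
  have h1 : F a = algebraMap ℂ (Module.End ℂ V) c := by
    simp only [a, F, map_sum, MonoidAlgebra.lift_single]
    exact h
  have h2 := ha.map F
  rw [h1, isIntegral_algebraMap_iff (algebraMap ℂ (Module.End ℂ V)).injective] at h2
  exact isIntegral_trans c h2

theorem exists_prod_eq_int {ι : Type*} [Fintype ι] (f : ι → ℂ) (hf : ∀ i, IsIntegral ℤ (f i))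
    (hσ : ∀ σ : ℂ ≃+* ℂ, ∃ e : ι ≃ ι, ∀ i, σ (f i) = f (e i)) : ∃ n : ℤ, ∏ i, f i = n := by
  refine exists_int_of_forall_ringEquiv (IsIntegral.prod _ fun i _ => hf i) fun σ => ?_
  obtain ⟨e, he⟩ := hσ σ
  rw [map_prod]
  exact Fintype.prod_equiv e _ _ he

theorem one_le_prod_norm {ι : Type*} [Fintype ι] (f : ι → ℂ) (hf : ∀ i, IsIntegral ℤ (f i))
    (h0 : ∀ i, f i ≠ 0) (hσ : ∀ σ : ℂ ≃+* ℂ, ∃ e : ι ≃ ι, ∀ i, σ (f i) = f (e i)) :
    1 ≤ ∏ i, ‖f i‖ := by
  obtain ⟨n, hn⟩ := exists_prod_eq_int f hf hσ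
  have h1 : (n : ℂ) ≠ 0 := hn ▸ Finset.prod_ne_zero_iff.2 fun i _ => h0 i
  rw [← norm_prod, hn, Complex.norm_intCast]
  exact_mod_cast Int.one_le_abs (by exact_mod_cast h1)

theorem card_le_sum_norm_sq {ι : Type*} [Fintype ι] (f : ι → ℂ) (hf : ∀ i, IsIntegral ℤ (f i))
    (h0 : ∀ i, f i ≠ 0) (hσ : ∀ σ : ℂ ≃+* ℂ, ∃ e : ι ≃ ι, ∀ i, σ (f i) = f (e i)) :
    (Fintype.card ι : ℝ) ≤ ∑ i, ‖f i‖ ^ 2 := by
  have h1 := one_le_prod_norm f hf h0 hσ
  have h2 : 0 ≤ ∑ i, Real.log ‖f i‖ := by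
    rw [← Real.log_prod fun i _ => norm_ne_zero_iff.2 (h0 i)]
    exact Real.log_nonneg h1
  have h3 : ∀ i, 1 + 2 * Real.log ‖f i‖ ≤ ‖f i‖ ^ 2 := by
    intro i
    have h4 : 0 < ‖f i‖ ^ 2 := pow_pos (norm_pos_iff.2 (h0 i)) 2
    have := Real.log_le_sub_one_of_pos h4
    rw [Real.log_pow] at this
    push_cast at this
    linarith
  have h5 := Finset.sum_le_sum fun i (_ : i ∈ Finset.univ) => h3 i
  rw [Finset.sum_add_distrib, ← Finset.mul_sum] at h5
  simp only [Finset.sum_const, Finset.card_univ, nsmul_eq_mul, mul_one] at h5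
  linarith

/-- A nonzero algebraic integer all of whose conjugates lie in the unit disc has norm one. -/
theorem norm_eq_one_of_forall_conj_le {α : ℂ} (hα : IsIntegral ℤ α) (h0 : α ≠ 0)
    (h : ∀ σ : ℂ ≃+* ℂ, ‖σ α‖ ≤ 1) : ‖α‖ = 1 := by
  let S : Set ℂ := {β | ∃ σ : ℂ ≃+* ℂ, σ α = β}
  have hfin : S.Finite := by
    refine ((minpoly ℤ α).rootSet_finite ℂ).subset ?_
    rintro _ ⟨σ, rfl⟩
    rw [mem_rootSet_of_ne (minpoly.ne_zero hα)]
    have := aeval_algHom_apply σ.toRingHom.toIntAlgHom α (minpoly ℤ α)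
    simpa using this
  have := hfin.fintype
  have h1 := one_le_prod_norm (fun β : S => (β : ℂ))
    (by rintro ⟨_, σ, rfl⟩; exact hα.map σ.toRingHom.toIntAlgHom)
    (by rintro ⟨_, σ, rfl⟩; simpa using h0)
    (fun σ => ⟨⟨fun β => ⟨σ β, by obtain ⟨_, τ, rfl⟩ := β; exact ⟨τ.trans σ, rfl⟩⟩,
      fun β => ⟨σ.symm β, by obtain ⟨_, τ, rfl⟩ := β; exact ⟨τ.trans σ.symm, rfl⟩⟩,
      fun β => by simp, fun β => by simp⟩, fun _ => rfl⟩)
  have h2 : ∀ β : S, ‖(β : ℂ)‖ ≤ 1 := by rintro ⟨_, σ, rfl⟩; exact h σ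
  by_contra h3
  have h4 : ‖α‖ < 1 := lt_of_le_of_ne (h (RingEquiv.refl ℂ)) h3
  have h5 : ∏ β : S, ‖(β : ℂ)‖ < ∏ _β : S, (1 : ℝ) := by
    refine Finset.prod_lt_prod (fun β _ => ?_) (fun β _ => h2 β)
      ⟨⟨α, RingEquiv.refl ℂ, rfl⟩, Finset.mem_univ _, h4⟩
    obtain ⟨_, σ, rfl⟩ := β
    simpa using h0
  simp at h5
  linarith

end Agent.Char

theorem IsIrrCharacter.isIntegral_sum_div [Fintype G] {χ φ : G → ℂ} (h : IsIrrCharacter G χ)
    (hφ : IsClassFunction G φ) (hi : ∀ g, IsIntegral ℤ (φ g)) :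
    IsIntegral ℤ ((∑ g, φ g * χ g) / χ 1) := by
  obtain ⟨n, ρ, hρ, rfl⟩ := h
  have := nontrivial_of_isIrreducible ρ
  rw [char_one]
  exact isIntegral_of_sum_smul_eq ρ hi (sum_smul_rep_eq ρ hφ)

/-- The values of a central character are algebraic integers. -/
theorem IsIrrCharacter.isIntegral_centralChar [Finite G] {χ : G → ℂ} (h : IsIrrCharacter G χ)
    (g : G) : IsIntegral ℤ (centralChar χ g) := by
  have := Fintype.ofFinite G
  have h1 := h.isIntegral_sum_div (isClassFunction_classInd g) (fun x => by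
    unfold classInd; split_ifs; exacts [isIntegral_one, isIntegral_zero])
  rwa [sum_classInd_mul g h.isClassFunction] at h1

/-- The degree of an irreducible character divides the index of its centre. -/
theorem IsIrrCharacter.degree_dvd_index [Finite G] {χ : G → ℂ} (h : IsIrrCharacter G χ)
    {Z : Subgroup G} (hZ : Z ≤ charCenter χ) {d : ℕ} (hd : χ 1 = d) : d ∣ Z.index := by
  classical
  have := Fintype.ofFinite G
  have := Fintype.ofFinite Z
  have hχ := h
  have hd0 : d ≠ 0 := by rintro rfl; exact h.apply_one_ne_zero (by simpa using hd)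
  obtain ⟨n, ρ, hρ, rfl⟩ := h
  have := nontrivial_of_isIrreducible ρ
  have h1 := sum_smul_rep_eq ρ (hχ.isClassFunction.map conj)
  have h2 : ∑ g, conj (ρ.character g) * ρ.character g = Nat.card G := by
    have := hχ.classInner_self
    rw [classInner, inv_mul_eq_iff_eq_mul₀ (card_ne_zero' G), mul_one] at this
    simpa only [mul_comm] using this
  rw [h2, ← char_one ρ, hd] at h1
  let F : G → Module.End ℂ (Fin n → ℂ) := fun g => conj (ρ.character g) • ρ g
  have hF : ∀ g, ∀ z : Z, F (g * z) = F g := by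
    intro g z
    obtain ⟨ω, hω, h3⟩ := (norm_character_eq_iff ρ z).1 (by
      rw [hχ.isCharacter.mem_charCenter.1 (hZ z.2)]; simp)
    have h4 : ρ (g * z) = ω • ρ g := by
      rw [map_mul, h3, ← Module.End.one_eq_id]; simp
    have h5 : conj ω * ω = 1 := by
      rw [mul_comm, Complex.mul_conj, Complex.normSq_eq_norm_sq, hω]; simp
    simp only [F, Representation.character, h4, map_smul, smul_eq_mul, map_mul, smul_smul]
    congr 1
    linear_combination (conj (LinearMap.trace ℂ _ (ρ g))) * h5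
  have h6 : ∑ g, F g = (Nat.card Z : ℂ) • ∑ q : G ⧸ Z, F q.out := by
    rw [Nat.cast_smul_eq_nsmul, sum_eq_card_smul_sum_out Z F hF]
  have h7 : ∑ q : G ⧸ Z, F q.out = ((Z.index : ℂ) / d) • LinearMap.id := by
    apply smul_right_injective _ (card_ne_zero' Z)
    simp only
    rw [← h6, h1, smul_smul, ← Z.card_mul_index]
    push_cast
    rw [mul_div_assoc]
  have h8 : ∑ q : G ⧸ Z, F q.out =
      ∑ g, (if g ∈ Finset.univ.image (fun q : G ⧸ Z => q.out) then conj (ρ.character g) else 0) •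
        ρ g := by
    simp only [ite_smul, zero_smul]
    rw [Finset.sum_ite_mem, Finset.univ_inter]
    exact (Finset.sum_image (f := F) (g := fun q : G ⧸ Z => q.out)
      fun a _ b _ h => Quotient.out_injective h).symm
  rw [h8] at h7
  refine nat_dvd_of_isIntegral_div hd0 (isIntegral_of_sum_smul_eq ρ (fun g => ?_) h7)
  split_ifs
  · exact hχ.conj.isCharacter.isIntegral g
  · exact isIntegral_zero

theorem IsIrrCharacter.degree_dvd_card [Finite G] {χ : G → ℂ} (h : IsIrrCharacter G χ)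
    {d : ℕ} (hd : χ 1 = d) : d ∣ Nat.card G := by
  simpa using h.degree_dvd_index (Z := ⊥) bot_le hd

theorem IsIrrCharacter.degree_dvd_index_center [Finite G] {χ : G → ℂ} (h : IsIrrCharacter G χ)
    {d : ℕ} (hd : χ 1 = d) : d ∣ (Subgroup.center G).index :=
  h.degree_dvd_index h.center_le_charCenter hd

/-- The square of the degree is at most the index of the centre of the character. -/
theorem IsIrrCharacter.degree_sq_le_index [Finite G] {χ : G → ℂ} (h : IsIrrCharacter G χ)
    {Z : Subgroup G} (hZ : Z ≤ charCenter χ) {d : ℕ} (hd : χ 1 = d) : d ^ 2 ≤ Z.index := by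
  classical
  have := Fintype.ofFinite G
  have h1 := classInner_self_re χ
  rw [h.classInner_self, Complex.one_re, eq_inv_mul_iff_mul_eq₀ (by exact_mod_cast Nat.card_pos.ne'),
    mul_one] at h1
  have h2 : ∑ g ∈ Finset.univ.filter (· ∈ Z), ‖χ g‖ ^ 2 ≤ ∑ g, ‖χ g‖ ^ 2 :=
    Finset.sum_le_sum_of_subset_of_nonneg (Finset.filter_subset _ _) fun _ _ _ => by positivity
  rw [Finset.sum_congr rfl (g := fun _ => (d : ℝ) ^ 2) (fun g hg => by
    rw [h.isCharacter.mem_charCenter.1 (hZ (by simpa using hg)), hd]; simp), ← h1,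
    ← Z.card_mul_index, Finset.sum_const, ← Fintype.card_subtype, Fintype.card_eq_nat_card] at h2
  have h3 : Nat.card Z * d ^ 2 ≤ Nat.card Z * Z.index := by
    rw [nsmul_eq_mul] at h2
    exact_mod_cast h2
  exact Nat.le_of_mul_le_mul_left h3 Nat.card_pos

/-- If a character value divided by the degree is an algebraic integer, the value is zero or
has the norm of the degree. -/
theorem IsCharacter.eq_zero_or_norm_eq [Finite G] {χ : G → ℂ} (h : IsCharacter G χ) {g : G}
    (hi : IsIntegral ℤ (χ g / χ 1)) : χ g = 0 ∨ ‖χ g‖ = ‖χ 1‖ := by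
  by_cases h0 : χ g = 0
  · exact Or.inl h0
  right
  have h1 : χ 1 ≠ 0 := fun h1 => h0 (by rw [h.eq_zero_of_apply_one h1]; rfl)
  have := norm_eq_one_of_forall_conj_le hi (div_ne_zero h0 h1) fun σ => by
    have h2 := (h.map_ringHom σ.toRingHom).norm_le g
    have h3 : σ (χ 1) ≠ 0 := by simpa using h1
    rw [map_div₀, norm_div, div_le_one (norm_pos_iff.2 h3)]
    exact h2
  rwa [norm_div, div_eq_one_iff_eq (norm_ne_zero_iff.2 h1)] at this

theorem IsIrrCharacter.eq_zero_or_norm_eq_of_coprime [Finite G] {χ : G → ℂ}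
    (h : IsIrrCharacter G χ) {g : G} {d : ℕ} (hd : χ 1 = d)
    (hc : d.Coprime (Subgroup.centralizer ({g} : Set G)).index) : χ g = 0 ∨ ‖χ g‖ = ‖χ 1‖ := by
  apply h.isCharacter.eq_zero_or_norm_eq
  obtain ⟨a, b, hab⟩ := Nat.isCoprime_iff_coprime.2 hc
  have h1 := h.isIntegral_centralChar g
  have h2 := h.isCharacter.isIntegral g
  have h3 : χ g / χ 1 = a * χ g + b * centralChar χ g := by
    have h4 : (a : ℂ) * d + b * (Subgroup.centralizer ({g} : Set G)).index = 1 := by
      exact_mod_cast hab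
    have h5 := h.apply_one_ne_zero
    rw [centralChar]
    field_simp
    rw [hd]
    linear_combination -(χ g) * h4
  rw [h3]
  exact ((isIntegral_algebraMap (x := a)).mul h2).add ((isIntegral_algebraMap (x := b)).mul h1)

/-- Burnside: a nonlinear irreducible character has a zero. -/
theorem IsIrrCharacter.exists_eq_zero [Finite G] {χ : G → ℂ} (h : IsIrrCharacter G χ)
    (h1 : χ 1 ≠ 1) : ∃ g, χ g = 0 := by
  classical
  have := Fintype.ofFinite G
  by_contra h0
  push Not at h0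
  have h2 := card_le_sum_norm_sq (fun g : {g : G // g ≠ 1} => χ g)
    (fun g => h.isCharacter.isIntegral g) (fun g => h0 g) (fun σ => by
      obtain ⟨k, hk, hσ⟩ := exists_pow_of_ringHom_char G σ.toRingHom
      refine ⟨(powCoprime hk.symm).subtypeEquiv fun g => ?_, fun g => hσ χ h.isGen g⟩
      rw [← powCoprime_one hk.symm, ne_eq, ne_eq, (powCoprime hk.symm).apply_eq_iff_eq,
        powCoprime_one])
  have h3 := classInner_self_re χ
  rw [h.classInner_self, Complex.one_re, eq_inv_mul_iff_mul_eq₀ (by exact_mod_cast Nat.card_pos.ne'),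
    mul_one, ← Finset.add_sum_erase _ _ (Finset.mem_univ 1),
    Finset.sum_subtype (p := fun g => g ≠ 1) _ (by simp)] at h3
  obtain ⟨d, hd, hd'⟩ := h.exists_degree
  rw [Fintype.card_subtype_compl, Fintype.card_unique (α := {x : G // x = 1}),
    Fintype.card_eq_nat_card, Nat.cast_sub Nat.card_pos] at h2
  rw [hd'] at h3 h1
  have h4 : (d : ℝ) ^ 2 ≤ 1 := by
    simp only [Complex.norm_natCast] at h3
    push_cast at h2
    linarith
  have h5 : d ^ 2 ≤ 1 := by exact_mod_cast h4
  have : d = 1 := by nlinarith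
  exact h1 (by simp [this])

namespace Agent.Char

/-- Burnside: for a class of prime-power size some nonprincipal character has the element in
its centre. -/
theorem exists_irr_mem_charCenter [Finite G] {p k : ℕ} (hp : p.Prime) {g : G} (hg : g ≠ 1)
    (hclass : (Subgroup.centralizer ({g} : Set G)).index = p ^ k) :
    ∃ χ, IsIrrCharacter G χ ∧ χ ≠ (fun _ => 1) ∧ g ∈ charCenter χ := by
  classical
  by_contra hcon
  push Not at hcon
  have h1 := sum_degree_mul g
  rw [regChar_of_ne hg, ← Finset.add_sum_erase _ _ (Finset.mem_univ (irrOne G))] at h1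
  have h2 : IsIntegral ℤ (∑ χ ∈ Finset.univ.erase (irrOne G), (χ : G → ℂ) 1 * (χ : G → ℂ) g / p) := by
    refine IsIntegral.sum _ fun χ hχ => ?_
    obtain ⟨d, -, hd⟩ := χ.2.exists_degree
    by_cases hpd : p ∣ d
    · obtain ⟨c, rfl⟩ := hpd
      have : (p : ℂ) ≠ 0 := by exact_mod_cast hp.ne_zero
      rw [hd, show ((p * c : ℕ) : ℂ) * (χ : G → ℂ) g / p = c * (χ : G → ℂ) g by
        push_cast; field_simp]
      exact (isIntegral_natCast c).mul (χ.2.isCharacter.isIntegral g)
    · rcases χ.2.eq_zero_or_norm_eq_of_coprime (g := g) hd (by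
        rw [hclass]; exact ((hp.coprime_iff_not_dvd.2 hpd).symm).pow_right k) with h | h
      · simp [h, isIntegral_zero]
      · exact absurd (χ.2.isCharacter.mem_charCenter.2 h)
          (hcon χ χ.2 fun h3 => (Finset.mem_erase.1 hχ).1 (Subtype.ext h3))
  rw [← Finset.sum_div, eq_neg_of_add_eq_zero_right h1] at h2
  have h3 := int_dvd_of_isIntegral_div (a := -1) (b := p) (by exact_mod_cast hp.ne_zero)
    (by simpa using h2)
  have h4 : p ∣ 1 := by exact_mod_cast (Int.dvd_neg.1 h3)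
  exact hp.one_lt.ne' (Nat.dvd_one.1 h4)

theorem prime_card_of_simple_of_class_prime_pow [Finite G] [IsSimpleGroup G] {p k : ℕ}
    (hp : p.Prime) {g : G} (hg : g ≠ 1)
    (hclass : (Subgroup.centralizer ({g} : Set G)).index = p ^ k) : (Nat.card G).Prime := by
  obtain ⟨χ, hχ, h1, h2⟩ := exists_irr_mem_charCenter hp hg hclass
  have h3 : charKer χ = ⊥ :=
    (hχ.isCharacter.normal_charKer.eq_bot_or_eq_top).resolve_right (hχ.charKer_ne_top h1)
  rw [hχ.charCenter_eq_center h3] at h2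
  have h4 : Subgroup.center G = ⊤ :=
    (Subgroup.Normal.eq_bot_or_eq_top inferInstance).resolve_left fun h => hg (by simpa [h] using h2)
  let _ : CommGroup G := Group.commGroupOfCenterEqTop h4
  exact IsSimpleGroup.prime_card

end Agent.Char

end Cfsg
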