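import Cfsg.Agent.Lib.Char.Brauer

/-!
Applications of Brauer's characterization of characters.
-/

set_option autoImplicit false

universe u

namespace Cfsg.Agent.Char

open scoped ComplexConjugate

variable {G : Type u} [Group G]

theorem exists_nat_sum_units {A : Type*} [Group A] [Fintype A] (lam : A →* ℂˣ) :
    ∃ n : ℕ, ∑ a, conj (lam a : ℂ) = n * Nat.card A := by
  obtain ⟨n, hn⟩ := isCharacter_one.classInner_eq_nat (isIrrCharacter_units lam).isCharacter
  refine ⟨n, ?_⟩
  rw [← hn, classInner]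
  have := card_ne_zero' A
  simp only [one_mul]
  field_simp

open Classical in
/-- The truncation of a character of `p`-defect zero to the `p`-regular elements is a
generalized character. -/
theorem isGen_truncate_of_defect_zero [Fintype G] {χ : G → ℂ} (hχ : IsIrrCharacter G χ) {p n d : ℕ}
    (hp : p.Prime) (hn : ¬ p ^ (n + 1) ∣ Nat.card G) (hd : χ 1 = d) (hdeg : p ^ n ∣ d) :
    IsGeneralizedCharacter G (fun x => if p ∣ orderOf x then 0 else χ x) := by
  have := Fact.mk hp
  refine brauer_char_of_int (fun x g => ?_) fun E _ q hq hE lam => ?_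
  · rw [show orderOf (g * x * g⁻¹) = orderOf x from (MulAut.conj g).orderOf_eq x,
      hχ.isClassFunction x g]
  have := hE.isNilpotent hq
  obtain ⟨A, B, -, -, h1, h2, h3, h4⟩ := nilpotent_split E {p}
  have := Fintype.ofFinite A
  have := Fintype.ofFinite B
  obtain ⟨k, hk⟩ := IsPGroup.iff_card.1 (Solv.isPGroup_of_forall_prime_dvd h3)
  have h5 : ∑ e : E, (if p ∣ orderOf (e : G) then 0 else χ e) * conj (lam e : ℂ) =
      ∑ b : B, χ (b : E) * conj (lam b : ℂ) := by
    rw [sum_eq_sum_of_isComplement' h1, Finset.sum_eq_single 1 (fun a _ ha => ?_) (by simp)]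
    · refine Finset.sum_congr rfl fun b _ => ?_
      rw [OneMemClass.coe_one, one_mul, if_neg]
      exact (isPiElt_compl_singleton_iff hp).1 (isPiElt_coe.2 (isPiElt_of_mem h4 b.2))
    · refine Finset.sum_eq_zero fun b _ => ?_
      rw [if_pos, zero_mul]
      by_contra h
      have := piPart_eq_one_iff.2 (isPiElt_coe.1 ((isPiElt_compl_singleton_iff hp).2 h))
      rw [piPart_mul (h2 a a.2 b b.2) (isPiElt_of_mem h3 a.2) (isPiElt_of_mem h4 b.2)] at this
      exact ha (Subtype.ext this)
  obtain ⟨m, hm⟩ := ((hχ.isCharacter.res E).res B).classInner_eq_nat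
    ((isIrrCharacter_units lam).isCharacter.res B)
  have hB := card_ne_zero' B
  have hA := card_ne_zero' A
  have h6 : ∑ b : B, χ (b : E) * conj (lam b : ℂ) = Nat.card B * m := by
    rw [← hm, classInner, mul_inv_cancel_left₀ hB]
  obtain ⟨c, hc⟩ := hχ.degree_dvd_card hd
  have hd0 : (d : ℂ) ≠ 0 := hd ▸ hχ.apply_one_ne_zero
  have h7 : IsIntegral ℤ (((c * (Nat.card B * m) : ℕ) : ℂ) / (Nat.card A : ℕ)) := by
    push_cast
    rw [← h6, Finset.mul_sum, Finset.sum_div]
    refine IsIntegral.sum _ fun b _ => ?_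
    have h8 : A.map E.subtype ≤ Subgroup.centralizer ({((b : E) : G)} : Set G) := by
      rintro _ ⟨a, ha, rfl⟩
      rw [Subgroup.mem_centralizer_singleton_iff]
      exact congrArg Subtype.val (h2 a ha b b.2).eq
    obtain ⟨r, hr⟩ := Subgroup.card_dvd_of_le h8
    rw [Subgroup.card_subtype] at hr
    have h9 : (c : ℂ) * (χ (b : E) * conj (lam b : ℂ)) / Nat.card A =
        centralChar χ (b : E) * r * conj (lam b : ℂ) := by
      have h10 := (Subgroup.centralizer ({((b : E) : G)} : Set G)).index_mul_card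
      rw [hr, hc] at h10
      have h11 : (c : ℂ) = (Subgroup.centralizer ({((b : E) : G)} : Set G)).index *
          (Nat.card A * r) / d := by
        rw [eq_div_iff hd0, mul_comm]; exact_mod_cast h10.symm
      rw [centralChar, hd, h11]
      field_simp
    rw [h9]
    exact ((hχ.isIntegral_centralChar _).mul (isIntegral_natCast r)).mul
      ((isIrrCharacter_units lam).isCharacter.conj.isIntegral _)
  have h8 := nat_dvd_of_isIntegral_div Nat.card_pos.ne' h7
  have h9 : (Nat.card A).Coprime c := by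
    rw [hk]
    refine ((Nat.Prime.coprime_iff_not_dvd hp).2 fun h => hn ?_).pow_left k
    rw [hc, pow_succ]
    exact Nat.mul_dvd_mul hdeg h
  have h10 : (Nat.card A).Coprime (Nat.card B) :=
    Nat.coprime_of_dvd fun q hq ha hb => h4 q hq hb (h3 q hq ha)
  obtain ⟨t, rfl⟩ := h10.dvd_of_dvd_mul_left (h9.dvd_of_dvd_mul_left h8)
  refine ⟨t, ?_⟩
  rw [classInner, h5, h6, ← h1.card_mul]
  push_cast
  field_simp

/-- Characters of `p`-defect zero vanish on `p`-singular elements. -/
theorem _root_.Cfsg.IsIrrCharacter.eq_zero_of_defect_zero [Finite G] {χ : G → ℂ}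
    (hχ : IsIrrCharacter G χ) {p n d : ℕ} (hp : p.Prime) (hn : ¬ p ^ (n + 1) ∣ Nat.card G)
    (hd : χ 1 = d) (hdeg : p ^ n ∣ d) {x : G} (hx : p ∣ orderOf x) : χ x = 0 := by
  classical
  have := Fintype.ofFinite G
  have h1 := isGen_truncate_of_defect_zero hχ hp hn hd hdeg
  set θ : G → ℂ := fun x => if p ∣ orderOf x then 0 else χ x with hθ
  obtain ⟨m, hm⟩ := h1.classInner_eq_int hχ.isGen
  have h2 : classInner θ (χ - θ) = 0 := by
    rw [classInner, Finset.sum_eq_zero, mul_zero]
    intro g _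
    by_cases h : p ∣ orderOf g <;> simp [hθ, h]
  have h3 : classInner θ θ = m := by
    rw [classInner_sub_right, hm] at h2; exact (sub_eq_zero.1 h2).symm
  have h4 : classInner (χ - θ) (χ - θ) = 1 - m := by
    rw [classInner_sub_left, h2, classInner_sub_right, hχ.classInner_self, ← conj_classInner, hm]
    simp
  have h5 := classInner_self_re_nonneg θ
  have h6 := classInner_self_re_nonneg (χ - θ)
  rw [h3] at h5
  rw [h4] at h6
  simp only [Complex.intCast_re, Complex.sub_re, Complex.one_re, sub_nonneg] at h5 h6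
  have h7 : m ≠ 0 := by
    rintro rfl
    have := congrFun (classInner_self_eq_zero.1 (h3.trans Int.cast_zero)) 1
    simp [hθ, hp.one_lt.ne', hχ.apply_one_ne_zero] at this
  obtain rfl : m = 1 := by
    have : (0 : ℤ) ≤ m := by exact_mod_cast h5
    have : m ≤ 1 := by exact_mod_cast h6
    omega
  have := congrFun (classInner_self_eq_zero.1 (h4.trans (by simp))) x
  simpa [hθ, hx] using this

open Classical in
/-- Indicator functions of `π`-sections have algebraic integer coefficients. -/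
theorem isIntegral_classInner_piSection [Fintype G] (π : Set ℕ) (g : G) {n : ℕ}
    (hn : ∀ B : Subgroup G, (∀ q : ℕ, q.Prime → q ∣ Nat.card B → q ∈ π) → Nat.card B ∣ n)
    {χ : G → ℂ} (hχ : IsGeneralizedCharacter G χ) :
    IsIntegral ℤ (classInner (fun x => if IsConj (piPart π x) g then (n : ℂ) else 0) χ) := by
  refine brauer_inner (integralClosure ℤ ℂ).toSubring.toAddSubgroup (fun x y => ?_)
    (fun E _ q hq hE lam => ?_) hχ
  · have h := isConj_piPart π (isConj_iff.2 ⟨y, rfl⟩ : IsConj x (y * x * y⁻¹))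
    have : IsConj (piPart π (y * x * y⁻¹)) g ↔ IsConj (piPart π x) g :=
      ⟨fun h1 => h.trans h1, fun h1 => h.symm.trans h1⟩
    simp only [this]
  have := hE.isNilpotent hq
  obtain ⟨B, A, -, -, h1, h2, h3, h4⟩ := nilpotent_split E π
  have := Fintype.ofFinite A
  have := Fintype.ofFinite B
  obtain ⟨r, hr⟩ := hn (B.map E.subtype) (by rwa [Subgroup.card_subtype])
  rw [Subgroup.card_subtype] at hr
  obtain ⟨k, hk⟩ := exists_nat_sum_units (lam.comp A.subtype)
  have h5 : classInner (fun e : E => if IsConj (piPart π (e : G)) g then (n : ℂ) else 0)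
      (fun e => (lam e : ℂ)) =
      ∑ b : B, (if IsConj ((b : E) : G) g then (r : ℂ) else 0) * conj (lam b : ℂ) * k := by
    rw [classInner, sum_eq_sum_of_isComplement' h1, Finset.mul_sum]
    refine Finset.sum_congr rfl fun b _ => ?_
    have h6 : ∀ a : A, piPart π (((b : E) * a : E) : G) = (b : E) := fun a => by
      rw [← coe_piPart,
        piPart_mul (h2 b b.2 a a.2) (isPiElt_of_mem h3 b.2) (isPiElt_of_mem h4 a.2)]
    simp only [h6, map_mul, Units.val_mul, ← mul_assoc, ← Finset.mul_sum]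
    rw [show ∑ a : A, conj (lam a : ℂ) = _ from hk, ← h1.card_mul, hr]
    have hB := card_ne_zero' B
    have hA := card_ne_zero' A
    split_ifs
    · push_cast; field_simp
    · simp
  change IsIntegral ℤ _
  rw [h5]
  refine IsIntegral.sum _ fun b _ => IsIntegral.mul (IsIntegral.mul ?_
    ((isIrrCharacter_units lam).isCharacter.conj.isIntegral _)) (isIntegral_natCast k)
  split_ifs
  · exact isIntegral_natCast r
  · exact isIntegral_zero

theorem piPart_mul_of_nilpotent {E : Type*} [Group E] [Finite E] [Group.IsNilpotent E]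
    (π : Set ℕ) (x y : E) : piPart π (x * y) = piPart π x * piPart π y := by
  obtain ⟨B, A, -, -, h1, h2, h3, h4⟩ := nilpotent_split E π
  obtain ⟨b, hb, a, ha, rfl⟩ := Solv.IsComplement'.exists_mul h1 x
  obtain ⟨b', hb', a', ha', rfl⟩ := Solv.IsComplement'.exists_mul h1 y
  have e : ∀ b ∈ B, ∀ a ∈ A, piPart π (b * a) = b := fun b hb a ha =>
    piPart_mul (h2 b hb a ha) (isPiElt_of_mem h3 hb) (isPiElt_of_mem h4 ha)
  rw [e b hb a ha, e b' hb' a' ha', ← e _ (B.mul_mem hb hb') _ (A.mul_mem ha ha'),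
    mul_assoc, ← mul_assoc a, ← (h2 b' hb' a ha).eq, mul_assoc, mul_assoc]

/-- The `π`-part as an endomorphism of a finite nilpotent group. -/
noncomputable def piPartHom (E : Type*) [Group E] [Finite E] [Group.IsNilpotent E] (π : Set ℕ) :
    E →* E where
  toFun := piPart π
  map_one' := piPart_one π
  map_mul' := piPart_mul_of_nilpotent π

theorem card_range_piPartHom {E : Type*} [Group E] [Finite E] [Group.IsNilpotent E] (π : Set ℕ)
    (q : ℕ) (hq : q.Prime) (h : q ∣ Nat.card (piPartHom E π).range) : q ∈ π := by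
  have := Fact.mk hq
  obtain ⟨⟨_, x, rfl⟩, hx⟩ := exists_prime_orderOf_dvd_card' q h
  exact isPiElt_coe.1 (isPiElt_piPart π x) q hq hx.symm.dvd

/-- A normal subgroup containing all `π'`-elements has `π`-index. -/
theorem index_pi_of_forall_mem [Finite G] {K : Subgroup G} [K.Normal] {π : Set ℕ}
    (h : ∀ x, IsPiElt πᶜ x → x ∈ K) (q : ℕ) (hq : q.Prime) (hd : q ∣ K.index) : q ∈ π := by
  have := Fact.mk hq
  obtain ⟨y, hy⟩ := exists_prime_orderOf_dvd_card' (G := G ⧸ K) q hd
  obtain ⟨x, rfl⟩ := QuotientGroup.mk_surjective y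
  have h1 : (x : G ⧸ K) = QuotientGroup.mk' K (piPart π x) := by
    conv_lhs => rw [← piPart_mul_compl π x]
    simp [(QuotientGroup.eq_one_iff _).2 (h _ (isPiElt_piPart πᶜ x))]
  exact (isPiElt_piPart π x).map (QuotientGroup.mk' K) q hq (h1 ▸ hy.symm.dvd)

/-- If `φ ↦ φ ∘ r` maps irreducible characters to generalized characters and `r` hits every
class, then it is an isometry. -/
theorem sum_comp_eq_of_isGen {H : Type*} [Group H] [Fintype H] [Fintype G] (r : G → H)
    (hr : ∀ h, ∃ g, IsConj (r g) h)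
    (hgen : ∀ φ, IsIrrCharacter H φ → IsGeneralizedCharacter G (fun g => φ (r g)))
    {φ ψ : H → ℂ} (hφ : IsClassFunction H φ) (hψ : IsClassFunction H ψ) :
    classInner (fun g => φ (r g)) (fun g => ψ (r g)) = classInner φ ψ := by
  classical
  let c : H → ℕ := fun h => ∑ g : G, ∑ k : H, if k * r g * k⁻¹ = h then 1 else 0
  let ν : H → ℂ := fun h => (Nat.card G : ℂ)⁻¹ * c h
  have h1 : ∀ φ, IsClassFunction H φ →
      classInner φ ν = classInner (fun g => φ (r g)) (fun _ => 1) := fun φ hφ => by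
    have : ∑ h, φ h * c h = Nat.card H * ∑ g, φ (r g) := by
      simp only [c, Nat.cast_sum, Finset.mul_sum]
      rw [Finset.sum_comm]
      refine Finset.sum_congr rfl fun g _ => ?_
      rw [Finset.sum_comm]
      simp [hφ.apply_conj]
    rw [classInner_one_right, classInner]
    simp only [ν, map_mul, map_inv₀, map_natCast, mul_left_comm _ (Nat.card G : ℂ)⁻¹,
      ← Finset.mul_sum, this, inv_mul_cancel_left₀ (card_ne_zero' H)]
  have h2 : IsClassFunction H ν := fun h y => by
    simp only [ν, c]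
    congr 2
    refine Finset.sum_congr rfl fun g _ => (Fintype.sum_equiv (Equiv.mulLeft y) _ _ fun k => ?_).symm
    have : Equiv.mulLeft y k * r g * (Equiv.mulLeft y k)⁻¹ = y * (k * r g * k⁻¹) * y⁻¹ := by
      simp [mul_assoc]
    simp only [this, mul_left_inj, mul_right_inj]
  have h3 : IsGeneralizedCharacter H ν := h2.isGen_of_int fun χ hχ => by
    obtain ⟨n, hn⟩ := (hgen χ hχ).classInner_eq_int isCharacter_one.isGen
    exact ⟨n, by rw [← conj_classInner, h1 χ hχ.isClassFunction, hn]; simp⟩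
  have h4 : ∀ h, Nat.card G ≤ c h := fun h => by
    refine Nat.le_of_dvd ?_ (nat_dvd_of_isIntegral_div Nat.card_pos.ne' ?_)
    · obtain ⟨g, hg⟩ := hr h
      obtain ⟨k, hk⟩ := isConj_iff.1 hg
      exact Finset.sum_pos' (fun _ _ => Nat.zero_le _) ⟨g, Finset.mem_univ _,
        Finset.sum_pos' (fun _ _ => Nat.zero_le _) ⟨k, Finset.mem_univ _, by simp [hk]⟩⟩
    · rw [div_eq_inv_mul]; exact h3.isIntegral h
  have h5 : ∑ h, c h = ∑ _h : H, Nat.card G := by
    simp only [c]
    rw [Finset.sum_comm]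
    simp only [Finset.sum_comm (s := Finset.univ (α := H)) (t := Finset.univ (α := H))
      (f := fun h k => if k * r _ * k⁻¹ = h then 1 else 0)]
    simp [mul_comm]
  have h6 : ν = fun _ => 1 := by
    ext h
    simp only [ν, ← (Finset.sum_eq_sum_iff_of_le fun h _ => h4 h).1 h5.symm h (Finset.mem_univ _)]
    exact inv_mul_cancel₀ (card_ne_zero' G)
  have h7 := h1 _ (hφ.mul (hψ.map conj))
  rw [h6] at h7
  simpa [classInner] using h7.symm

/-- The Brauer--Suzuki normal complement theorem. -/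
theorem brauer_suzuki_complement [Finite G] (H : Subgroup G)
    (hHall : Nat.Coprime (Nat.card H) H.index)
    (hfus : ∀ x ∈ H, ∀ y ∈ H, IsConj x y → ∃ h ∈ H, h * x * h⁻¹ = y)
    (helem : ∀ (E : Subgroup G) (p : ℕ), p.Prime → IsElementary p E → Nat.card E ∣ Nat.card H →
      ∃ g : G, E.map (MulAut.conj g).toMonoidHom ≤ H) :
    ∃ K : Subgroup G, K.Normal ∧ K ⊔ H = ⊤ ∧ K ⊓ H = ⊥ := by
  have := Fintype.ofFinite G
  have := Fintype.ofFinite H
  set π : Set ℕ := {q | q ∣ Nat.card H} with hπ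
  have hdvd : ∀ E : Subgroup G, (∀ q : ℕ, q.Prime → q ∣ Nat.card E → q ∈ π) →
      Nat.card E ∣ Nat.card H := fun E hE =>
    Nat.Coprime.dvd_of_dvd_mul_right (Nat.coprime_of_dvd fun q hq h1 h2 =>
      hq.one_lt.ne' (Nat.eq_one_of_dvd_coprimes hHall (hE q hq h1) h2))
      (H.card_mul_index ▸ E.card_subgroup_dvd_card)
  have h1 : ∀ x : G, ∃ h : H, IsConj (piPart π x) h := fun x => by
    obtain ⟨g, hg⟩ := helem (Subgroup.zpowers (piPart π x)) 2 Nat.prime_two
      (isElementary_of_isCyclic Nat.prime_two)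
      (hdvd _ (by rw [Nat.card_zpowers]; exact isPiElt_piPart π x))
    exact ⟨⟨_, hg ⟨_, Subgroup.mem_zpowers _, rfl⟩⟩, isConj_iff.2 ⟨g, rfl⟩⟩
  choose r hr using h1
  have h2 : ∀ (x : G) (h : H), IsConj (piPart π x) h → IsConj (r x) h := fun x h hx => by
    obtain ⟨k, hk, h3⟩ := hfus _ (r x).2 _ h.2 ((hr x).symm.trans hx)
    exact isConj_iff.2 ⟨⟨k, hk⟩, Subtype.ext h3⟩
  have h3 : ∀ h : H, IsConj (r h) h := fun h => h2 _ _ (by
    rw [piPart_of_isPiElt (isPiElt_of_mem (π := π) (fun _ _ h => h) h.2)])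
  have h4 : ∀ φ, IsIrrCharacter H φ → IsGeneralizedCharacter G (fun g => φ (r g)) := by
    intro φ hφ
    refine brauer_char (fun x y => hφ.isClassFunction.eq_of_isConj (h2 _ _
      ((isConj_piPart π (isConj_iff.2 ⟨y, rfl⟩ : IsConj x (y * x * y⁻¹))).symm.trans (hr x))))
      fun E p hp hE => ?_
    have := hE.isNilpotent hp
    obtain ⟨g, hg⟩ := helem ((piPartHom E π).range.map E.subtype) p hp
      (isElementary_map_subtype hp (hE.of_injective hp _ (Subgroup.subtype_injective _)))
      (hdvd _ (by rw [Subgroup.card_subtype]; exact card_range_piPartHom π))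
    let f : E →* H := ((MulAut.conj g).toMonoidHom.comp (E.subtype.comp (piPartHom E π))).codRestrict
      H fun e => hg ⟨_, ⟨_, ⟨e, rfl⟩, rfl⟩, rfl⟩
    convert (hφ.isCharacter.comp f).isGen using 2 with e
    exact hφ.isClassFunction.eq_of_isConj (h2 _ _ (isConj_iff.2 ⟨g, by rw [← coe_piPart]; rfl⟩))
  have h5 : ∀ φ, IsIrrCharacter H φ → IsIrrCharacter G (fun g => φ (r g)) := fun φ hφ => by
    refine (h4 φ hφ).isIrr_of_re_nonneg ?_ ?_
    · rw [sum_comp_eq_of_isGen r (fun h => ⟨h, h3 h⟩) h4 hφ.isClassFunction hφ.isClassFunction,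
        hφ.classInner_self]
    · rw [show φ (r 1) = φ 1 from hφ.isClassFunction.eq_of_isConj (h3 1)]
      exact hφ.isCharacter.degree_re_nonneg
  let K : Subgroup G := ⨅ φ : IrrCharacter H, charKer (fun g => φ.1 (r g))
  have hK : K.Normal := Subgroup.normal_iInf_normal fun φ => (h5 _ φ.2).isCharacter.normal_charKer
  refine ⟨K, hK, ?_, eq_bot_iff.2 fun x hx => ?_⟩
  · rw [← Subgroup.index_eq_one]
    refine Nat.eq_one_of_dvd_coprimes (Nat.coprime_of_dvd fun q hq h6 h7 => ?_)
      (Subgroup.index_dvd_of_le le_sup_left) (Subgroup.index_dvd_of_le le_sup_right)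
    refine hq.one_lt.ne' (Nat.eq_one_of_dvd_coprimes hHall
      (index_pi_of_forall_mem (π := π) (fun x hx => ?_) q hq h6) h7)
    refine Subgroup.mem_iInf.2 fun φ => (h5 _ φ.2).isCharacter.mem_charKer.2 ?_
    exact φ.2.isClassFunction.eq_of_isConj ((h2 _ 1 (by
      rw [piPart_of_isPiElt_compl hx]; rfl)).trans (h3 1).symm)
  · by_contra h
    obtain ⟨φ, hφ, h6⟩ := exists_irr_apply_ne (g := (⟨x, hx.2⟩ : H)) (by simpa using h)
    have := (h5 φ hφ).isCharacter.mem_charKer.1 (Subgroup.mem_iInf.1 hx.1 ⟨φ, hφ⟩)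
    exact h6 ((hφ.isClassFunction.eq_of_isConj (h3 ⟨x, hx.2⟩)).symm.trans
      (this.trans (hφ.isClassFunction.eq_of_isConj (h3 1))))

end Cfsg.Agent.Char
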