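import Cfsg.Prelude.Def_Characters
import Cfsg.Agent.Lib.Solv.Cores

/-!
Group theory for Brauer's theorems: `π`-parts of elements, elementary and quasi-elementary
groups, the splitting of a nilpotent group into Hall subgroups.
-/

set_option autoImplicit false

namespace Cfsg.Agent.Char

variable {G : Type*} [Group G]

/-- `x` is a `π`-element. -/
def IsPiElt (π : Set ℕ) (x : G) : Prop := ∀ q : ℕ, q.Prime → q ∣ orderOf x → q ∈ π

theorem isPiElt_one (π : Set ℕ) : IsPiElt π (1 : G) := fun q hq h =>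
  absurd (by simpa using h) hq.one_lt.ne'

theorem IsPiElt.of_dvd {π : Set ℕ} {G' : Type*} [Group G'] {x : G} {y : G'} (h : IsPiElt π x)
    (hd : orderOf y ∣ orderOf x) : IsPiElt π y := fun q hq h1 => h q hq (h1.trans hd)

theorem IsPiElt.pow {π : Set ℕ} {x : G} (h : IsPiElt π x) (n : ℕ) : IsPiElt π (x ^ n) :=
  h.of_dvd (orderOf_pow_dvd n)

theorem IsPiElt.of_mem_zpowers {π : Set ℕ} {x y : G} (h : IsPiElt π x)
    (hy : y ∈ Subgroup.zpowers x) : IsPiElt π y := h.of_dvd (orderOf_dvd_of_mem_zpowers hy)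

theorem IsPiElt.inv {π : Set ℕ} {x : G} (h : IsPiElt π x) : IsPiElt π x⁻¹ :=
  h.of_dvd (by rw [orderOf_inv])

theorem IsPiElt.map {π : Set ℕ} {G' : Type*} [Group G'] (f : G →* G') {x : G} (h : IsPiElt π x) :
    IsPiElt π (f x) := h.of_dvd (orderOf_map_dvd f x)

theorem isPiElt_map_iff {π : Set ℕ} {G' : Type*} [Group G'] {f : G →* G'}
    (hf : Function.Injective f) {x : G} : IsPiElt π (f x) ↔ IsPiElt π x := by
  unfold IsPiElt; rw [orderOf_injective f hf]

theorem isPiElt_coe {π : Set ℕ} {H : Subgroup G} {x : H} : IsPiElt π (x : G) ↔ IsPiElt π x :=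
  isPiElt_map_iff H.subtype_injective

theorem IsPiElt.conj {π : Set ℕ} {x : G} (h : IsPiElt π x) (g : G) : IsPiElt π (g * x * g⁻¹) :=
  h.map (MulAut.conj g).toMonoidHom

theorem IsPiElt.of_isConj {π : Set ℕ} {x y : G} (h : IsPiElt π x) (hy : IsConj x y) :
    IsPiElt π y := by
  obtain ⟨g, rfl⟩ := isConj_iff.1 hy; exact h.conj g

theorem IsPiElt.mul {π : Set ℕ} {x y : G} (hx : IsPiElt π x) (hy : IsPiElt π y)
    (h : Commute x y) : IsPiElt π (x * y) := fun q hq h1 =>
  ((Nat.Prime.dvd_mul hq).1 (h1.trans h.orderOf_mul_dvd_mul_orderOf)).elim (hx q hq) (hy q hq)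

theorem IsPiElt.mono {π σ : Set ℕ} {x : G} (h : IsPiElt π x) (hs : π ⊆ σ) : IsPiElt σ x :=
  fun q hq h1 => hs (h q hq h1)

theorem IsPiElt.coprime {π : Set ℕ} {G' : Type*} [Group G'] {x : G} {y : G'} (hx : IsPiElt π x)
    (hy : IsPiElt πᶜ y) : (orderOf x).Coprime (orderOf y) :=
  Nat.coprime_of_dvd fun q hq h1 h2 => hy q hq h2 (hx q hq h1)

theorem IsPiElt.eq_one {π : Set ℕ} {x : G} (hx : IsPiElt π x) (hy : IsPiElt πᶜ x) : x = 1 :=
  orderOf_eq_one_iff.1 ((Nat.coprime_self _).1 (hx.coprime hy))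

theorem isPiElt_of_mem {π : Set ℕ} {H : Subgroup G}
    (hH : ∀ q : ℕ, q.Prime → q ∣ Nat.card H → q ∈ π) {x : G} (hx : x ∈ H) : IsPiElt π x :=
  fun q hq h => hH q hq (h.trans (H.orderOf_dvd_natCard hx))

theorem isPiElt_iff_coprime {x : G} {n : ℕ} :
    IsPiElt {q | ¬ q ∣ n} x ↔ (orderOf x).Coprime n :=
  ⟨fun h => Nat.coprime_of_dvd fun q hq h1 h2 => h q hq h1 h2,
    fun h _ hq h1 h2 => hq.one_lt.ne' (Nat.eq_one_of_dvd_coprimes h h1 h2)⟩

theorem isPiElt_compl_iff_coprime {x : G} {n : ℕ} :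
    IsPiElt {q | q ∣ n}ᶜ x ↔ (orderOf x).Coprime n := isPiElt_iff_coprime

theorem isPiElt_compl_singleton_iff {x : G} {p : ℕ} (hp : p.Prime) :
    IsPiElt {p}ᶜ x ↔ ¬ p ∣ orderOf x :=
  ⟨fun h h1 => h p hp h1 rfl, fun h _ _ h1 h2 => h (h2 ▸ h1)⟩

theorem isPiElt_singleton_iff [Finite G] {x : G} {p : ℕ} (hp : p.Prime) :
    IsPiElt {p} x ↔ ∃ k, orderOf x = p ^ k := by
  refine ⟨fun h => ⟨_, Nat.eq_prime_pow_of_unique_prime_dvd (orderOf_pos x).ne'
    fun {d} hd h1 => h d hd h1⟩, ?_⟩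
  rintro ⟨k, hk⟩ q hq h
  rw [hk] at h
  exact (Nat.prime_dvd_prime_iff_eq hq hp).1 (hq.dvd_of_dvd_pow h)

/-- A `π`-element lies in a normal subgroup of `π'`-index. -/
theorem IsPiElt.mem_of_index {π : Set ℕ} {N : Subgroup G} [N.Normal] {x : G} (hx : IsPiElt π x)
    (hN : ∀ q : ℕ, q.Prime → q ∣ N.index → q ∉ π) : x ∈ N := by
  rw [← Subgroup.zpowers_le]
  refine Solv.le_of_coprime_index (Nat.coprime_of_dvd fun q hq h1 h2 => hN q hq h2 (hx q hq ?_))
  rwa [Nat.card_zpowers] at h1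

theorem coprime_decomp_unique {u v u' v' : G} (h : u * v = u' * v') (hc : Commute u v)
    (hc' : Commute u' v') (hcop : (orderOf u * orderOf u').Coprime (orderOf v * orderOf v')) :
    u = u' ∧ v = v' := by
  obtain ⟨k, h1, h2⟩ := Nat.chineseRemainder hcop 0 1
  have h0 := (Nat.modEq_zero_iff_dvd.1 h1)
  have e : ∀ {a b : G}, Commute a b → orderOf a ∣ k → k ≡ 1 [MOD orderOf b] → (a * b) ^ k = b := by
    intro a b hab ha hb
    rw [hab.mul_pow, orderOf_dvd_iff_pow_eq_one.1 ha, one_mul, pow_eq_pow_iff_modEq.2 hb, pow_one]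
  have h3 : v = v' := by
    rw [← e hc ((Dvd.intro _ rfl).trans h0) (h2.of_mul_right _), h,
      e hc' ((Dvd.intro_left _ rfl).trans h0) (h2.of_mul_left _)]
  subst h3
  exact ⟨mul_right_cancel h, rfl⟩

theorem piDecomp_unique {π : Set ℕ} {u v u' v' : G} (h : u * v = u' * v') (hc : Commute u v)
    (hc' : Commute u' v') (hu : IsPiElt π u) (hu' : IsPiElt π u') (hv : IsPiElt πᶜ v)
    (hv' : IsPiElt πᶜ v') : u = u' ∧ v = v' :=
  coprime_decomp_unique h hc hc' (Nat.Coprime.mul_left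
    ((hu.coprime hv).mul_right (hu.coprime hv')) ((hu'.coprime hv).mul_right (hu'.coprime hv')))

theorem exists_pi_factor (π : Set ℕ) {n : ℕ} (hn : n ≠ 0) : ∃ a b : ℕ, n = a * b ∧
    (∀ q : ℕ, q.Prime → q ∣ a → q ∈ π) ∧ (∀ q : ℕ, q.Prime → q ∣ b → q ∉ π) := by
  induction n using induction_on_primes with
  | zero => exact absurd rfl hn
  | one => exact ⟨1, 1, rfl, fun q hq h => absurd (Nat.dvd_one.1 h) hq.one_lt.ne',
      fun q hq h => absurd (Nat.dvd_one.1 h) hq.one_lt.ne'⟩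
  | prime_mul p m hp ih =>
    obtain ⟨a, b, rfl, h1, h2⟩ := ih (by rintro rfl; simp at hn)
    by_cases h : p ∈ π
    · refine ⟨p * a, b, by ring, fun q hq hd => ?_, h2⟩
      rcases (Nat.Prime.dvd_mul hq).1 hd with h3 | h3
      · rwa [(Nat.prime_dvd_prime_iff_eq hq hp).1 h3]
      · exact h1 q hq h3
    · refine ⟨a, p * b, by ring, h1, fun q hq hd => ?_⟩
      rcases (Nat.Prime.dvd_mul hq).1 hd with h3 | h3
      · rwa [(Nat.prime_dvd_prime_iff_eq hq hp).1 h3]
      · exact h2 q hq h3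

theorem exists_piDecomp [Finite G] (π : Set ℕ) (x : G) : ∃ u : G, ∃ v : G, x = u * v ∧
    u ∈ Subgroup.zpowers x ∧ v ∈ Subgroup.zpowers x ∧ IsPiElt π u ∧ IsPiElt πᶜ v := by
  obtain ⟨a, b, h, h1, h2⟩ := exists_pi_factor π (orderOf_pos x).ne'
  have hc : a.Coprime b := Nat.coprime_of_dvd fun q hq ha hb => h2 q hq hb (h1 q hq ha)
  have hb : (a : ℤ) * a.gcdA b + b * a.gcdB b = 1 := by
    rw [← Nat.gcd_eq_gcd_ab, hc]; rfl
  refine ⟨x ^ (b * a.gcdB b), x ^ (a * a.gcdA b), by rw [← zpow_add, add_comm, hb, zpow_one],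
    ⟨_, rfl⟩, ⟨_, rfl⟩, fun q hq hd => h1 q hq (hd.trans ?_), fun q hq hd => h2 q hq (hd.trans ?_)⟩
  · rw [orderOf_dvd_iff_pow_eq_one, ← zpow_natCast, ← zpow_mul, ← orderOf_dvd_iff_zpow_eq_one, h]
    exact ⟨a.gcdB b, by push_cast; ring⟩
  · rw [orderOf_dvd_iff_pow_eq_one, ← zpow_natCast, ← zpow_mul, ← orderOf_dvd_iff_zpow_eq_one, h]
    exact ⟨a.gcdA b, by push_cast; ring⟩

theorem commute_of_mem_zpowers {x u v : G} (hu : u ∈ Subgroup.zpowers x)
    (hv : v ∈ Subgroup.zpowers x) : Commute u v := by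
  obtain ⟨a, rfl⟩ := hu
  obtain ⟨b, rfl⟩ := hv
  exact Commute.zpow_zpow_self x a b

/-- The `π`-part of an element of a finite group. -/
noncomputable def piPart [Finite G] (π : Set ℕ) (x : G) : G := (exists_piDecomp π x).choose

section piPart

variable [Finite G] {π : Set ℕ}

theorem piPart_mem_zpowers (π : Set ℕ) (x : G) : piPart π x ∈ Subgroup.zpowers x :=
  (exists_piDecomp π x).choose_spec.choose_spec.2.1

theorem isPiElt_piPart (π : Set ℕ) (x : G) : IsPiElt π (piPart π x) :=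
  (exists_piDecomp π x).choose_spec.choose_spec.2.2.2.1

theorem piPart_mul {u v : G} (hc : Commute u v) (hu : IsPiElt π u) (hv : IsPiElt πᶜ v) :
    piPart π (u * v) = u := by
  obtain ⟨w, h1, h2, h3, h4, h5⟩ := (exists_piDecomp π (u * v)).choose_spec
  exact (piDecomp_unique h1 hc (commute_of_mem_zpowers h2 h3) hu h4 hv h5).1.symm

theorem piPart_mul' {u v : G} (hc : Commute u v) (hu : IsPiElt πᶜ u) (hv : IsPiElt π v) :
    piPart π (u * v) = v := by
  rw [hc.eq, piPart_mul hc.symm hv hu]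

theorem piPart_compl_mul {u v : G} (hc : Commute u v) (hu : IsPiElt π u) (hv : IsPiElt πᶜ v) :
    piPart πᶜ (u * v) = v := piPart_mul' hc (by rwa [compl_compl]) hv

theorem piPart_mul_compl (π : Set ℕ) (x : G) : piPart π x * piPart πᶜ x = x := by
  obtain ⟨u, v, rfl, h2, h3, h4, h5⟩ := exists_piDecomp π x
  rw [piPart_mul (commute_of_mem_zpowers h2 h3) h4 h5,
    piPart_compl_mul (commute_of_mem_zpowers h2 h3) h4 h5]

theorem commute_piPart (π σ : Set ℕ) (x : G) : Commute (piPart π x) (piPart σ x) :=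
  commute_of_mem_zpowers (piPart_mem_zpowers π x) (piPart_mem_zpowers σ x)

theorem commute_piPart_self (π : Set ℕ) (x : G) : Commute (piPart π x) x :=
  commute_of_mem_zpowers (piPart_mem_zpowers π x) (Subgroup.mem_zpowers x)

theorem piPart_compl_mul_piPart (π : Set ℕ) (x : G) : piPart πᶜ x * piPart π x = x := by
  rw [(commute_piPart πᶜ π x).eq, piPart_mul_compl]

theorem map_piPart {G' : Type*} [Group G'] [Finite G'] (f : G →* G') (π : Set ℕ) (x : G) :
    f (piPart π x) = piPart π (f x) := by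
  conv_rhs => rw [← piPart_mul_compl π x, map_mul]
  exact (piPart_mul ((commute_piPart π πᶜ x).map f) ((isPiElt_piPart π x).map f)
    ((isPiElt_piPart πᶜ x).map f)).symm

theorem coe_piPart {H : Subgroup G} (π : Set ℕ) (x : H) :
    ((piPart π x : H) : G) = piPart π (x : G) := map_piPart H.subtype π x

theorem piPart_conj (π : Set ℕ) (g x : G) :
    piPart π (g * x * g⁻¹) = g * piPart π x * g⁻¹ :=
  (map_piPart (MulAut.conj g).toMonoidHom π x).symm

theorem piPart_inv (π : Set ℕ) (x : G) : piPart π x⁻¹ = (piPart π x)⁻¹ := by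
  conv_lhs => rw [← piPart_compl_mul_piPart π x, mul_inv_rev]
  exact piPart_mul (commute_piPart π πᶜ x).inv_inv (isPiElt_piPart π x).inv
    (isPiElt_piPart πᶜ x).inv

theorem isConj_piPart (π : Set ℕ) {x y : G} (h : IsConj x y) :
    IsConj (piPart π x) (piPart π y) := by
  obtain ⟨g, rfl⟩ := isConj_iff.1 h
  exact isConj_iff.2 ⟨g, (piPart_conj π g x).symm⟩

theorem piPart_of_isPiElt {x : G} (h : IsPiElt π x) : piPart π x = x := by
  simpa using piPart_mul (Commute.one_right x) h (isPiElt_one _)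

theorem piPart_of_isPiElt_compl {x : G} (h : IsPiElt πᶜ x) : piPart π x = 1 := by
  simpa using piPart_mul (Commute.one_left x) (isPiElt_one _) h

@[simp] theorem piPart_one (π : Set ℕ) : piPart π (1 : G) = 1 := piPart_of_isPiElt (isPiElt_one _)

theorem piPart_eq_self_iff {x : G} : piPart π x = x ↔ IsPiElt π x :=
  ⟨fun h => h ▸ isPiElt_piPart π x, piPart_of_isPiElt⟩

theorem piPart_eq_one_iff {x : G} : piPart π x = 1 ↔ IsPiElt πᶜ x :=
  ⟨fun h => by
    have := piPart_mul_compl π x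
    rw [h, one_mul] at this
    exact this ▸ isPiElt_piPart πᶜ x, piPart_of_isPiElt_compl⟩

theorem piPart_mem {H : Subgroup G} (π : Set ℕ) {x : G} (h : x ∈ H) : piPart π x ∈ H :=
  (Subgroup.zpowers_le.2 h) (piPart_mem_zpowers π x)

theorem Commute.piPart_right {x y : G} (h : Commute y x) (π : Set ℕ) : Commute y (piPart π x) := by
  obtain ⟨n, hn⟩ := piPart_mem_zpowers π x
  rw [← hn]; exact h.zpow_right n

end piPart

/-- A finite nilpotent group is the direct product of its Hall `π`- and `π'`-subgroups. -/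
theorem nilpotent_split (E : Type*) [Group E] [Finite E] [hE : Group.IsNilpotent E] (π : Set ℕ) :
    ∃ A B : Subgroup E, A.Normal ∧ B.Normal ∧ A.IsComplement' B ∧
      (∀ a ∈ A, ∀ b ∈ B, Commute a b) ∧ (∀ q : ℕ, q.Prime → q ∣ Nat.card A → q ∈ π) ∧
      (∀ q : ℕ, q.Prime → q ∣ Nat.card B → q ∈ πᶜ) := by
  have h1 : piCore π E ⊓ piCore πᶜ E = ⊥ := Solv.inf_eq_bot_of_coprime'
    (Nat.coprime_of_dvd fun q hq ha hb => Solv.piCore_spec πᶜ q hq hb (Solv.piCore_spec π q hq ha))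
  refine ⟨piCore π E, piCore πᶜ E, inferInstance, inferInstance,
    Solv.isComplement'_of_inf_eq_bot_of_sup_eq_top h1 ?_, fun a ha b hb =>
    Subgroup.commute_of_normal_of_disjoint _ _ inferInstance inferInstance (disjoint_iff.2 h1)
      a b ha hb, Solv.piCore_spec π, Solv.piCore_spec πᶜ⟩
  rw [eq_top_iff, ← Solv.fitting_eq_top_iff.2 hE]
  refine Solv.fitting_le_of_forall_pCore fun p hp => ?_
  have := Fact.mk hp
  by_cases h : p ∈ π
  · refine le_sup_of_le_left (Solv.le_piCore fun q hq hd => ?_)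
    rwa [Solv.eq_of_isPGroup_of_dvd (Solv.isPGroup_pCore p E) hq hd]
  · refine le_sup_of_le_right (Solv.le_piCore fun q hq hd => ?_)
    rwa [Solv.eq_of_isPGroup_of_dvd (Solv.isPGroup_pCore p E) hq hd]

theorem sum_eq_sum_of_isComplement' {M : Type*} [AddCommMonoid M] [Fintype G] {A B : Subgroup G}
    [Fintype A] [Fintype B] (h : A.IsComplement' B) (F : G → M) :
    ∑ g, F g = ∑ a : A, ∑ b : B, F (a * b) := by
  rw [← Fintype.sum_prod_type']
  exact (Fintype.sum_bijective (fun x : A × B => (x.1 : G) * x.2) h _ _ fun _ => rfl).symm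

/-- Quasi-elementary groups. -/
def IsQuasiElem (p : ℕ) (H : Type*) [Group H] : Prop :=
  ∃ C : Subgroup H, C.Normal ∧ IsCyclic C ∧ (Nat.card C).Coprime p ∧ ∃ k : ℕ, C.index = p ^ k

theorem index_comap_dvd {H : Type*} [Group H] (f : H →* G) (C : Subgroup G) [C.Normal] :
    (C.comap f).index ∣ C.index := by
  rw [Subgroup.index_comap]; exact Subgroup.relIndex_dvd_index_of_normal C _

theorem isCyclic_comap {H : Type*} [Group H] {f : H →* G} (hf : Function.Injective f)
    (C : Subgroup G) [IsCyclic C] : IsCyclic (C.comap f) :=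
  isCyclic_of_injective (f.subgroupComap C) fun _ _ h =>
    Subtype.ext (hf (congrArg Subtype.val h))

theorem card_comap_dvd {H : Type*} [Group H] {f : H →* G} (hf : Function.Injective f)
    (C : Subgroup G) : Nat.card (C.comap f) ∣ Nat.card C :=
  Subgroup.card_dvd_of_injective (f.subgroupComap C) fun _ _ h =>
    Subtype.ext (hf (congrArg Subtype.val h))

theorem IsQuasiElem.of_injective {p : ℕ} (hp : p.Prime) {H : Type*} [Group H] (f : H →* G)
    (hf : Function.Injective f) (h : IsQuasiElem p G) : IsQuasiElem p H := by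
  obtain ⟨C, h1, h2, h3, k, h4⟩ := h
  refine ⟨C.comap f, inferInstance, isCyclic_comap hf C, h3.coprime_dvd_left (card_comap_dvd hf C),
    ?_⟩
  obtain ⟨j, -, hj⟩ := (Nat.dvd_prime_pow hp).1 (h4 ▸ index_comap_dvd f C)
  exact ⟨j, hj⟩

theorem isQuasiElem_iff {p : ℕ} {H : Subgroup G} : IsQuasiElem p H ↔
    ∃ C : Subgroup G, C ≤ H ∧ H ≤ Subgroup.normalizer (C : Set G) ∧ IsCyclic C ∧
      Nat.Coprime (Nat.card C) p ∧ ∃ k : ℕ, C.relIndex H = p ^ k := by
  constructor
  · rintro ⟨C, h1, h2, h3, k, h4⟩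
    refine ⟨C.map H.subtype, Subgroup.map_subtype_le _, ?_, ?_, by rwa [Subgroup.card_subtype],
      k, ?_⟩
    · rw [← Subgroup.normal_subgroupOf_iff_le_normalizer (Subgroup.map_subtype_le _)]
      rwa [Subgroup.subgroupOf, Subgroup.comap_map_eq_self_of_injective H.subtype_injective]
    · exact isCyclic_of_surjective _ (H.subtype.subgroupMap_surjective C)
    · rwa [Subgroup.relIndex, Subgroup.subgroupOf,
        Subgroup.comap_map_eq_self_of_injective H.subtype_injective]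
  · rintro ⟨C, h1, h2, h3, h4, k, h5⟩
    exact ⟨C.subgroupOf H, (Subgroup.normal_subgroupOf_iff_le_normalizer h1).2 h2,
      isCyclic_comap H.subtype_injective C, by rwa [Solv.card_subgroupOf_of_le h1], k, h5⟩

theorem normal_of_le_center {C : Subgroup G} (h : C ≤ Subgroup.center G) : C.Normal :=
  ⟨fun x hx g => by rwa [Subgroup.mem_center_iff.1 (h hx) g, mul_inv_cancel_right]⟩

theorem isElementary_of_cyclic {p : ℕ} (C : Subgroup G) [hC : IsCyclic C]
    (h1 : C ≤ Subgroup.center G) (h2 : (Nat.card C).Coprime p) {k : ℕ} (h3 : C.index = p ^ k) :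
    IsElementary p G := by
  obtain ⟨x, rfl⟩ := (Subgroup.isCyclic_iff_exists_zpowers_eq_top C).1 hC
  exact ⟨x, h1 (Subgroup.mem_zpowers x), by rwa [Nat.card_zpowers] at h2, k, h3⟩

theorem _root_.Cfsg.IsElementary.of_injective {p : ℕ} (hp : p.Prime) {H : Type*} [Group H]
    (f : H →* G) (hf : Function.Injective f) (h : IsElementary p G) : IsElementary p H := by
  obtain ⟨x, h1, h2, k, h4⟩ := h
  have h5 : Subgroup.zpowers x ≤ Subgroup.center G := Subgroup.zpowers_le.2 h1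
  have := normal_of_le_center h5
  obtain ⟨j, -, hj⟩ := (Nat.dvd_prime_pow hp).1 (h4 ▸ index_comap_dvd f (Subgroup.zpowers x))
  have := isCyclic_comap hf (Subgroup.zpowers x)
  refine isElementary_of_cyclic ((Subgroup.zpowers x).comap f) (fun y hy => ?_)
    (h2.coprime_dvd_left (Nat.card_zpowers x ▸ card_comap_dvd hf _)) hj
  rw [Subgroup.mem_center_iff]
  intro g
  apply hf
  rw [map_mul, map_mul]
  exact Subgroup.mem_center_iff.1 (h5 hy) _

theorem _root_.Cfsg.IsElementary.isQuasiElem {p : ℕ} (h : IsElementary p G) : IsQuasiElem p G := by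
  obtain ⟨x, h1, h2, k, h4⟩ := h
  exact ⟨_, normal_of_le_center (Subgroup.zpowers_le.2 h1), inferInstance,
    by rwa [Nat.card_zpowers], k, h4⟩

theorem _root_.Cfsg.IsElementary.isNilpotent {p : ℕ} (hp : p.Prime) (h : IsElementary p G) :
    Group.IsNilpotent G := by
  obtain ⟨x, h1, h2, k, h4⟩ := h
  have h5 : Subgroup.zpowers x ≤ Subgroup.center G := Subgroup.zpowers_le.2 h1
  have := normal_of_le_center h5
  have := Fact.mk hp
  have : Finite (G ⧸ Subgroup.zpowers x) :=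
    Nat.finite_of_card_ne_zero (h4 ▸ pow_ne_zero k hp.ne_zero : (Subgroup.zpowers x).index ≠ 0)
  have := (IsPGroup.of_card (G := G ⧸ Subgroup.zpowers x) h4).isNilpotent
  exact Subgroup.isNilpotent_of_ker_le_center (QuotientGroup.mk' (Subgroup.zpowers x)) (by simpa using h5)

theorem isElementary_of_isPGroup [Finite G] {p : ℕ} [Fact p.Prime] (h : IsPGroup p G) :
    IsElementary p G := by
  obtain ⟨k, hk⟩ := IsPGroup.iff_card.1 h
  exact ⟨1, Subgroup.one_mem _, by simp, k, by simpa using hk⟩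

/-- A cyclic group is elementary for every prime. -/
theorem isElementary_of_isCyclic [Finite G] [IsCyclic G] {p : ℕ} (hp : p.Prime) :
    IsElementary p G := by
  let _ : CommGroup G := IsCyclic.commGroup
  obtain ⟨A, B, -, -, h1, -, h2, h3⟩ := nilpotent_split G {p}
  have := Fact.mk hp
  obtain ⟨k, hk⟩ := IsPGroup.iff_card.1 (Solv.isPGroup_of_forall_prime_dvd h2)
  exact isElementary_of_cyclic B (fun x _ => Subgroup.mem_center_iff.2 fun g => mul_comm g x)
    ((Nat.Prime.coprime_iff_not_dvd hp).2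
    fun h => h3 p hp h rfl).symm (h1.index_eq_card.trans hk)

/-- The product of a `p`-subgroup and a commuting cyclic `p'`-subgroup is elementary. -/
theorem isElementary_sup [Finite G] {p : ℕ} [Fact p.Prime] {P Z : Subgroup G} (hP : IsPGroup p P)
    [IsCyclic Z] (hZ : (Nat.card Z).Coprime p) (hPZ : Z ≤ Subgroup.centralizer (P : Set G)) :
    IsElementary p (P ⊔ Z : Subgroup G) := by
  have h1 : P ⊔ Z ≤ Subgroup.centralizer (Z : Set G) :=
    sup_le (Subgroup.le_centralizer_iff.1 hPZ) (Subgroup.le_centralizer Z)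
  have : IsCyclic (Z.subgroupOf (P ⊔ Z)) := isCyclic_comap (P ⊔ Z).subtype_injective Z
  obtain ⟨k, hk⟩ := IsPGroup.iff_card.1 hP
  have h2 : Z.relIndex (P ⊔ Z) ∣ p ^ k := by
    rw [Solv.relIndex_sup_of_le_normalizer ((le_sup_left.trans h1).trans
      (Subgroup.centralizer_le_normalizer _)), ← hk]
    exact Subgroup.relIndex_dvd_card Z P
  obtain ⟨j, -, hj⟩ := (Nat.dvd_prime_pow Fact.out).1 h2
  refine isElementary_of_cyclic (Z.subgroupOf (P ⊔ Z)) (fun y hy => ?_)
    (by rwa [Solv.card_subgroupOf_of_le le_sup_right]) hj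
  rw [Subgroup.mem_center_iff]
  intro g
  exact Subtype.ext (h1 g.2 y hy).symm

end Cfsg.Agent.Char
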