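import Cfsg.Agent.Lib.Char.Monomial
import Cfsg.Agent.Lib.Char.Elem
import Cfsg.Agent.Lib.Solv.Coprime

/-!
Solomon's induction theorem, Brauer's induction theorem and Brauer's characterization of
characters.
-/

set_option autoImplicit false

universe u

namespace Cfsg.Agent.Char

open scoped ComplexConjugate

variable {G : Type u} [Group G]

theorem banaschewski {S : Type*} [Finite S] (R : AddSubgroup (S → ℤ))
    (hmul : ∀ f ∈ R, ∀ g ∈ R, f * g ∈ R) (h1 : (1 : S → ℤ) ∉ R) [Nonempty S] :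
    ∃ (x : S) (p : ℕ), p.Prime ∧ ∀ f ∈ R, (p : ℤ) ∣ f x := by
  classical
  by_contra h
  push Not at h
  have h2 : ∀ x : S, ∃ f ∈ R, f x = 1 := by
    intro x
    obtain ⟨a, ha⟩ := Int.subgroup_cyclic (R.map (Pi.evalAddMonoidHom (fun _ => ℤ) x))
    have ha1 : a.natAbs = 1 := by
      by_contra hne
      obtain ⟨p, hp, hpa⟩ := Nat.exists_prime_and_dvd hne
      obtain ⟨f, hf, h3⟩ := h x p hp
      have h4 : f x ∈ AddSubgroup.closure {a} := ha ▸ AddSubgroup.mem_map_of_mem _ hf
      obtain ⟨n, hn⟩ := AddSubgroup.mem_closure_singleton.1 h4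
      exact h3 (hn ▸ Dvd.dvd.mul_left (Int.natCast_dvd.2 hpa) n)
    have h5 : (1 : ℤ) ∈ AddSubgroup.closure {a} :=
      AddSubgroup.mem_closure_singleton.2 ⟨a, by
        rw [smul_eq_mul, ← Int.natAbs_mul_self, ha1]; rfl⟩
    rw [← ha] at h5
    exact h5
  choose f hf hf1 using h2
  have := Fintype.ofFinite S
  have h3 : ∀ s : Finset S, ∃ r ∈ R, ∏ x ∈ s, (1 - f x) = 1 - r := by
    intro s
    induction s using Finset.induction_on with
    | empty => exact ⟨0, R.zero_mem, by simp⟩
    | insert x s hx ih =>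
      obtain ⟨r, hr, h4⟩ := ih
      refine ⟨f x + r - f x * r, R.sub_mem (R.add_mem (hf x) hr) (hmul _ (hf x) _ hr), ?_⟩
      rw [Finset.prod_insert hx, h4]; ring
  obtain ⟨r, hr, h4⟩ := h3 Finset.univ
  have h5 : ∏ x, (1 - f x) = 0 := by
    ext y
    rw [Finset.prod_apply]
    exact Finset.prod_eq_zero (Finset.mem_univ y) (by simp [hf1])
  rw [h5] at h4
  exact h1 (sub_eq_zero.1 h4.symm ▸ hr)

theorem card_fixedBy_pow_modEq (X : Type*) [MulAction G X] [Finite X] (x : G) {p : ℕ}
    (hp : p.Prime) (n : ℕ) :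
    Nat.card (MulAction.fixedBy X (x ^ p ^ n)) ≡ Nat.card (MulAction.fixedBy X x) [MOD p] := by
  classical
  have := Fact.mk hp
  have := Fintype.ofFinite (MulAction.fixedBy X (x ^ p ^ n))
  let f : Function.End (MulAction.fixedBy X (x ^ p ^ n)) := fun a => ⟨x • a.1, by
    have h := a.2
    rw [MulAction.mem_fixedBy] at h ⊢
    rw [smul_smul, ← pow_succ, pow_succ', mul_smul, h]⟩
  have hf : ∀ k : ℕ, ∀ a, ((f ^ k) a).1 = x ^ k • a.1 := by
    intro k
    induction k with
    | zero => intro a; simp; rfl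
    | succ k ih => intro a; rw [pow_succ', pow_succ', mul_smul, ← ih]; rfl
  have h1 : f ^ p ^ n = 1 := by
    funext a
    exact Subtype.ext ((hf _ a).trans a.2)
  have h2 := Equiv.Perm.card_fixedPoints_modEq h1
  rw [Fintype.card_eq_nat_card, Fintype.card_eq_nat_card] at h2
  have h3 : Nat.card f.fixedPoints = Nat.card (MulAction.fixedBy X x) := by
    refine Nat.card_eq_of_bijective (fun a => ⟨a.1.1, congrArg Subtype.val a.2⟩) ⟨?_, ?_⟩
    · intro a b h
      exact Subtype.ext (Subtype.ext (congrArg Subtype.val h :))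
    · rintro ⟨a, ha⟩
      exact ⟨⟨⟨a, MulAction.fixedBy_subset_fixedBy_zpow X x ((p ^ n : ℕ) : ℤ) ha |>
        (zpow_natCast x (p ^ n) ▸ ·)⟩, Subtype.ext ha⟩, rfl⟩
  rwa [h3] at h2

section Solomon

variable [Fintype G]

theorem indFun_one_mul_indFun_one (H K : Subgroup G) :
    ∃ (ι : Type u) (_ : Fintype ι) (U : ι → Subgroup G), (∀ i, U i ≤ H) ∧
      indFun H (fun _ => 1) * indFun K (fun _ => 1) = ∑ i, indFun (U i) (fun _ => 1) := by
  have := Fintype.ofFinite H
  have i1 := Fintype.ofFinite (MulAction.orbitRel.Quotient H (G ⧸ K))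
  have h1 : (fun h : H => indFun K (fun _ => 1) h) = ∑ ω : MulAction.orbitRel.Quotient H (G ⧸ K),
      indFun (MulAction.stabilizer H ω.out) (fun _ => 1) := by
    ext h
    rw [indFun_one_eq_card_fixedBy_quotient, Finset.sum_apply, ← card_fixedBy_eq_sum_orbits]
    rfl
  refine ⟨MulAction.orbitRel.Quotient H (G ⧸ K), i1,
    fun ω => (MulAction.stabilizer H ω.out).map H.subtype, fun _ => Subgroup.map_subtype_le _, ?_⟩
  rw [← indFun_res H (isClassFunction_indFun K _)]
  rw [h1, indFun_sum]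
  exact Finset.sum_congr rfl fun ω _ => indFun_indFun_map H _ _

/-- If the conjugates of `c` lying in `H` are exactly those by elements of `N`. -/
theorem indFun_one_apply_of_iff {H N : Subgroup G} (hHN : H ≤ N) {c : G}
    (h : ∀ g : G, g * c * g⁻¹ ∈ H ↔ g ∈ N) : indFun H (fun _ => 1) c = H.relIndex N := by
  have := Fintype.ofFinite N
  have h1 : ∀ g : G, extendByZero H (fun _ => 1) (g * c * g⁻¹) = extendByZero N (fun _ => 1) g := by
    intro g
    by_cases hg : g ∈ N
    · rw [extendByZero_of_mem _ _ hg, extendByZero_of_mem _ _ ((h g).2 hg)]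
    · rw [extendByZero_of_not_mem _ _ hg, extendByZero_of_not_mem _ _ (mt (h g).1 hg)]
  rw [indFun_apply']
  simp only [h1, sum_extendByZero, Finset.sum_const, Finset.card_univ, nsmul_eq_mul, mul_one,
    Fintype.card_eq_nat_card, ← Solv.card_mul_relIndex hHN, Nat.cast_mul]
  rw [inv_mul_cancel_left₀ (card_ne_zero' H)]

theorem exists_quasiElem_not_dvd (x : G) {p : ℕ} (hp : p.Prime) :
    ∃ H : Subgroup G, IsQuasiElem p H ∧ ¬ p ∣ Nat.card (MulAction.fixedBy (G ⧸ H) x) := by
  have := Fact.mk hp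
  obtain ⟨n, m, hm, hnm⟩ := Nat.exists_eq_pow_mul_and_not_dvd (orderOf_pos x).ne' p hp.ne_one
  set c := x ^ p ^ n with hc
  have hc1 : (orderOf c).Coprime p := by
    rw [hc, orderOf_pow, hnm, Nat.gcd_mul_right_left, Nat.mul_div_cancel_left _ (pow_pos hp.pos n)]
    exact ((Nat.Prime.coprime_iff_not_dvd hp).2 hm).symm
  set C := Subgroup.zpowers c
  set N := Subgroup.normalizer (C : Set G)
  obtain ⟨P, hP⟩ := Solv.exists_isSylowIn p N
  have hN : P ⊔ C ≤ N := sup_le hP.le Subgroup.le_normalizer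
  obtain ⟨k, hk⟩ := IsPGroup.iff_card.1 hP.isPGroup
  have h2 : C.relIndex (P ⊔ C) ∣ p ^ k := by
    rw [Solv.relIndex_sup_of_le_normalizer hP.le, ← hk]
    exact Subgroup.relIndex_dvd_card C P
  obtain ⟨j, -, hj⟩ := (Nat.dvd_prime_pow hp).1 h2
  refine ⟨P ⊔ C, isQuasiElem_iff.2 ⟨C, le_sup_right, hN, inferInstance,
    by rwa [Nat.card_zpowers], j, hj⟩, fun h => ?_⟩
  have h3 : indFun (P ⊔ C) (fun _ => 1) c = (P ⊔ C).relIndex N := by
    refine indFun_one_apply_of_iff hN fun g => ⟨fun hg => ?_, fun hg =>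
      Subgroup.mem_sup_right (Solv.conj_mem_of_mem_normalizer hg (Subgroup.mem_zpowers c))⟩
    have := (Subgroup.normal_subgroupOf_iff_le_normalizer (le_sup_right : C ≤ P ⊔ C)).2 hN
    have h4 : (⟨_, hg⟩ : (P ⊔ C : Subgroup G)) ∈ C.subgroupOf (P ⊔ C) := by
      refine IsPiElt.mem_of_index (π := {p}ᶜ) (isPiElt_coe.1 (IsPiElt.conj ?_ g)) fun q hq hd => ?_
      · exact (isPiElt_compl_singleton_iff hp).2 ((Nat.Prime.coprime_iff_not_dvd hp).1 hc1.symm)
      · have h5 : q ∣ p ^ j := hj ▸ hd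
        simpa using (Nat.prime_dvd_prime_iff_eq hq hp).1 (hq.dvd_of_dvd_pow h5)
    refine Solv.mem_normalizer_of_conj_mem ?_
    rintro _ ⟨i, rfl⟩
    rw [← conj_zpow]
    exact C.zpow_mem h4 i
  rw [indFun_one_eq_card_fixedBy_quotient, Nat.cast_inj] at h3
  have h4 := (card_fixedBy_pow_modEq (G ⧸ (P ⊔ C)) x hp n).dvd_iff dvd_rfl |>.2 h
  rw [h3] at h4
  exact hP.not_dvd (h4.trans (Subgroup.relIndex_dvd_of_le_left N le_sup_left))

/-- Integer span of the permutation characters on cosets of subgroups in a family. -/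
def permSpan (P : Subgroup G → Prop) : AddSubgroup (G → ℂ) :=
  AddSubgroup.closure {f | ∃ H, P H ∧ f = indFun H (fun _ => 1)}

theorem permSpan_mul {P : Subgroup G → Prop} (hP : ∀ H K, K ≤ H → P H → P K) {f g : G → ℂ}
    (hf : f ∈ permSpan P) (hg : g ∈ permSpan P) : f * g ∈ permSpan P := by
  induction hf, hg using AddSubgroup.closure_induction₂ with
  | mem x y hx hy =>
    obtain ⟨H, hH, rfl⟩ := hx
    obtain ⟨K, -, rfl⟩ := hy
    obtain ⟨ι, _, U, h1, h2⟩ := indFun_one_mul_indFun_one H K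
    rw [h2]
    exact sum_mem fun i _ => AddSubgroup.subset_closure ⟨U i, hP H _ (h1 i) hH, rfl⟩
  | zero_left x _ => rw [zero_mul]; exact zero_mem _
  | zero_right x _ => rw [mul_zero]; exact zero_mem _
  | add_left x y z _ _ _ h1 h2 => rw [add_mul]; exact add_mem h1 h2
  | add_right y z x _ _ _ h1 h2 => rw [mul_add]; exact add_mem h1 h2
  | neg_left x y _ _ h => rw [neg_mul]; exact neg_mem h
  | neg_right x y _ _ h => rw [mul_neg]; exact neg_mem h

theorem exists_of_mem_permSpan {P : Subgroup G → Prop} {f : G → ℂ} (hf : f ∈ permSpan P)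
    [Fintype (Subgroup G)] : ∃ a : Subgroup G → ℤ, (∀ H, a H ≠ 0 → P H) ∧
      f = ∑ H : Subgroup G, (a H : ℂ) • indFun H (fun _ => 1) := by
  classical
  induction hf using AddSubgroup.closure_induction with
  | mem x hx =>
    obtain ⟨H, hH, rfl⟩ := hx
    refine ⟨Pi.single H 1, fun K hK => ?_, ?_⟩
    · by_cases h : K = H
      · rwa [h]
      · simp [h] at hK
    · rw [Finset.sum_eq_single H (fun K _ hK => by simp [hK]) (by simp)]; simp
  | zero => exact ⟨0, by simp, by simp⟩
  | add x y _ _ h1 h2 =>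
    obtain ⟨a, ha, rfl⟩ := h1
    obtain ⟨b, hb, rfl⟩ := h2
    refine ⟨a + b, fun H hH => ?_, by simp [add_smul, Finset.sum_add_distrib]⟩
    by_cases h : a H = 0
    · exact hb H (by simpa [h] using hH)
    · exact ha H h
  | neg x _ h =>
    obtain ⟨a, ha, rfl⟩ := h
    exact ⟨-a, fun H hH => ha H (by simpa using hH), by simp⟩

/-- Solomon's theorem, local form. -/
theorem solomon_prime {p : ℕ} (hp : p.Prime) : ∃ m : ℤ, ¬ (p : ℤ) ∣ m ∧
    (fun _ : G => (m : ℂ)) ∈ permSpan (fun H : Subgroup G => IsQuasiElem p H) := by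
  let V := permSpan (fun H : Subgroup G => IsQuasiElem p H)
  have hV : ∀ f ∈ V, ∀ g ∈ V, f * g ∈ V := fun f hf g hg => permSpan_mul
    (fun H K h1 h2 => h2.of_injective hp _ (Subgroup.inclusion_injective h1)) hf hg
  let R : AddSubgroup (G → ℤ) :=
    { carrier := {f | ∃ a : ℤ, (fun g => ((f g - p * a : ℤ) : ℂ)) ∈ V}
      zero_mem' := ⟨0, by simp; exact V.zero_mem⟩
      add_mem' := by
        rintro f g ⟨a, ha⟩ ⟨b, hb⟩
        refine ⟨a + b, ?_⟩
        convert V.add_mem ha hb using 1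
        ext x; simp; ring
      neg_mem' := by
        rintro f ⟨a, ha⟩
        refine ⟨-a, ?_⟩
        convert V.neg_mem ha using 1
        ext x; simp; ring }
  have h1 : (1 : G → ℤ) ∈ R := by
    by_contra h1
    obtain ⟨x, q, hq, h2⟩ := banaschewski R (by
      rintro f ⟨a, ha⟩ g ⟨b, hb⟩
      refine ⟨p * a * b, ?_⟩
      convert V.add_mem (V.add_mem (hV _ ha _ hb) (V.zsmul_mem ha (p * b)))
        (V.zsmul_mem hb (p * a)) using 1
      ext x; simp; ring) h1
    have h3 : (q : ℤ) ∣ p := h2 (fun _ => p) ⟨1, by simp; exact V.zero_mem⟩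
    obtain rfl := (Nat.prime_dvd_prime_iff_eq hq hp).1 (Int.natCast_dvd_natCast.1 h3)
    obtain ⟨H, hH, h4⟩ := exists_quasiElem_not_dvd x hq
    refine h4 (Int.natCast_dvd_natCast.1
      (h2 (fun g => Nat.card (MulAction.fixedBy (G ⧸ H) g)) ⟨0, ?_⟩))
    refine AddSubgroup.subset_closure ⟨H, hH, ?_⟩
    ext g
    simp [indFun_one_eq_card_fixedBy_quotient]
  obtain ⟨a, ha⟩ := h1
  refine ⟨1 - p * a, fun h => ?_, ha⟩
  have h2 : (p : ℤ) ∣ 1 := by simpa using dvd_add h (dvd_mul_right (p : ℤ) a)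
  exact hp.one_lt.ne' (Nat.dvd_one.1 (Int.natCast_dvd_natCast.1 h2))

end Solomon

theorem eq_one_of_invariant_linear [Finite G] {C P : Subgroup G} [hC : C.Normal]
    (hcop : (Nat.card P).Coprime (Nat.card C)) (hs : Group.IsSolvable P ∨ Group.IsSolvable C)
    {A : Type*} [CommGroup A] (lam : C →* A)
    (hinv : ∀ g ∈ P, ∀ c : C, lam ⟨g * c * g⁻¹, hC.conj_mem c c.2 g⟩ = lam c)
    (hker : ∀ c : C, (c : G) ∈ Subgroup.centralizer (P : Set G) → lam c = 1) : lam = 1 := by
  have h1 := Solv.coprime_commutator_sup_centralizer (A := P) (K := C)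
    Subgroup.le_normalizer_of_normal hcop hs
  have h2 : C ≤ lam.ker.map C.subtype := by
    conv_lhs => rw [← h1]
    refine sup_le (Subgroup.commutator_le.2 fun c hc g hg => ?_) fun c hc =>
      ⟨⟨c, hc.1⟩, hker _ hc.2, rfl⟩
    refine ⟨⟨c, hc⟩ * (⟨g * c * g⁻¹, hC.conj_mem c hc g⟩ : C)⁻¹, ?_, by
      simp [commutatorElement_def, mul_assoc]⟩
    simp [hinv g hg ⟨c, hc⟩]
  ext c
  obtain ⟨d, hd, h3⟩ := h2 c.2
  rwa [← Subtype.ext h3]

section Brauer

variable [Fintype G]

/-- Integer span of the characters induced from subgroups in a family. -/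
def indSpan (P : Subgroup G → Prop) : AddSubgroup (G → ℂ) :=
  AddSubgroup.closure {f | ∃ H, P H ∧ ∃ φ, IsCharacter H φ ∧ f = indFun H φ}

/-- Integer span of the functions induced from linear characters of subgroups in a family. -/
def linSpan (P : Subgroup G → Prop) : AddSubgroup (G → ℂ) :=
  AddSubgroup.closure {f | ∃ H, P H ∧ ∃ lam : H →* ℂˣ, f = indFun H (fun h => (lam h : ℂ))}

theorem mul_mem_indSpan {P : Subgroup G → Prop} {f χ : G → ℂ} (hf : f ∈ indSpan P)
    (hχ : IsCharacter G χ) : f * χ ∈ indSpan P := by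
  induction hf using AddSubgroup.closure_induction with
  | mem x hx =>
    obtain ⟨H, hH, φ, hφ, rfl⟩ := hx
    exact AddSubgroup.subset_closure ⟨H, hH, _, hφ.mul (hχ.res H),
      (indFun_mul_res H φ hχ.isClassFunction).symm⟩
  | zero => rw [zero_mul]; exact zero_mem _
  | add x y _ _ h1 h2 => rw [add_mul]; exact add_mem h1 h2
  | neg x _ h => rw [neg_mul]; exact neg_mem h

theorem indFun_mem_indSpan {P : Subgroup G → Prop} {K : Subgroup G} [Fintype K]
    {Q : Subgroup K → Prop} (hPQ : ∀ L, Q L → P (L.map K.subtype)) {f : K → ℂ}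
    (hf : f ∈ indSpan Q) : indFun K f ∈ indSpan P := by
  induction hf using AddSubgroup.closure_induction with
  | mem x hx =>
    obtain ⟨H, hH, φ, hφ, rfl⟩ := hx
    exact AddSubgroup.subset_closure ⟨_, hPQ H hH, _,
      hφ.comp (H.equivMapOfInjective _ K.subtype_injective).symm.toMonoidHom,
      indFun_indFun_map K H φ⟩
  | zero => rw [indFun_zero]; exact zero_mem _
  | add x y _ _ h1 h2 => rw [indFun_add]; exact add_mem h1 h2
  | neg x _ h => rw [indFun_neg]; exact neg_mem h

theorem indSpan_mono {P Q : Subgroup G → Prop} (h : ∀ H, P H → Q H) : indSpan P ≤ indSpan Q :=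
  AddSubgroup.closure_mono fun _ ⟨H, h1, h2⟩ => ⟨H, h H h1, h2⟩

theorem _root_.Cfsg.IsCharacter.mem_of_forall_constituent {V : AddSubgroup (G → ℂ)} {φ : G → ℂ}
    (hφ : IsCharacter G φ)
    (h : ∀ χ, IsIrrCharacter G χ → classInner φ χ ≠ 0 → χ ∈ V) : φ ∈ V := by
  rw [hφ.isClassFunction.eq_sum]
  refine sum_mem fun χ _ => ?_
  obtain ⟨n, hn⟩ := hφ.classInner_eq_nat χ.2.isCharacter
  by_cases h0 : classInner φ χ = 0
  · rw [h0, zero_smul]; exact zero_mem _
  · rw [hn, Nat.cast_smul_eq_nsmul]; exact nsmul_mem (h χ χ.2 h0) n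

omit [Fintype G] in
theorem isElementary_map_subtype {p : ℕ} (hp : p.Prime) {K : Subgroup G} {L : Subgroup K}
    (h : IsElementary p L) : IsElementary p (L.map K.subtype) :=
  h.of_injective hp (L.equivMapOfInjective _ K.subtype_injective).symm.toMonoidHom
    (MulEquiv.injective _)

theorem _root_.Cfsg.IsCharacter.classInner_res_ne_zero {φ ξ : G → ℂ} (hφ : IsCharacter G φ)
    (hξ : IsIrrCharacter G ξ) (h : classInner φ ξ ≠ 0) (C : Subgroup G) [Fintype C] {θ : C → ℂ}
    (hθ : IsCharacter C θ) (h1 : classInner (fun c : C => ξ c) θ ≠ 0) :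
    classInner (fun c : C => φ c) θ ≠ 0 := by
  have := (hξ.isCharacter.res C).classInner_add_ne_zero ((hφ.sub_irr hξ h).res C) hθ h1
  convert this using 2
  ext c; simp

theorem one_mem_indSpan_of_quasiElem {p : ℕ} (hp : p.Prime) (hG : IsQuasiElem p G) :
    (fun _ : G => (1 : ℂ)) ∈ indSpan (fun E : Subgroup G => IsElementary p E) := by
  suffices h : ∀ (n : ℕ) (G : Type u) [Group G] [Fintype G], Nat.card G = n → IsQuasiElem p G →
      (fun _ : G => (1 : ℂ)) ∈ indSpan (fun E : Subgroup G => IsElementary p E) from h _ G rfl hG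
  intro n
  induction n using Nat.strong_induction_on with
  | _ n ih =>
  intro G _ _ hn hG
  have := Fact.mk hp
  obtain ⟨C, hC, h2, h3, k, h4⟩ := id hG
  obtain ⟨P⟩ : Nonempty (Sylow p G) := inferInstance
  have hPC : C ⊔ P = ⊤ := by
    rw [← Subgroup.index_eq_one]
    have h5 : (p ^ k).Coprime (P : Subgroup G).index :=
      ((Nat.Prime.coprime_iff_not_dvd hp).2 P.not_dvd_index).pow_left k
    have h6 : (C ⊔ P).index ∣ C.index := Subgroup.index_dvd_of_le le_sup_left
    rw [h4] at h6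
    exact Nat.eq_one_of_dvd_coprimes h5 h6 (Subgroup.index_dvd_of_le le_sup_right)
  set Z := C ⊓ Subgroup.centralizer (P : Set G) with hZ
  have : IsCyclic Z := Subgroup.isCyclic_of_le inf_le_left
  have hE : IsElementary p (P ⊔ Z : Subgroup G) := isElementary_sup P.isPGroup'
    (h3.coprime_dvd_left (Subgroup.card_dvd_of_le inf_le_left)) inf_le_right
  set E : Subgroup G := P ⊔ Z with hEdef
  have := Fintype.ofFinite E
  have := Fintype.ofFinite C
  have := Fintype.ofFinite (E.subgroupOf C)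
  have hEC : ∀ g : G, ∃ h ∈ E, ∃ k ∈ C, h * k = g := fun g => by
    have : g ∈ (P : Subgroup G) ⊔ C := by rw [sup_comm, hPC]; trivial
    obtain ⟨a, ha, c, hc, rfl⟩ := (Solv.mem_sup_of_le_normalizer
      Subgroup.le_normalizer_of_normal).1 this
    exact ⟨a, Subgroup.mem_sup_left ha, c, hc, rfl⟩
  have hres : (fun c : C => indFun E (fun _ => 1) c) = indFun (E.subgroupOf C) (fun _ => 1) :=
    funext fun c => indFun_apply_of_mul_eq E C (IsClassFunction.const 1) hEC c
  have hchar : IsCharacter G (indFun E (fun _ => 1)) := isCharacter_one.ind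
  have h5 : classInner (indFun E (fun _ => 1)) (fun _ : G => (1 : ℂ)) = 1 := by
    rw [frobenius_left _ _ (IsClassFunction.const 1)]
    exact isIrrCharacter_one.classInner_self
  have hΞ := hchar.sub_irr isIrrCharacter_one (by rw [h5]; exact one_ne_zero)
  have h6 : indFun E (fun _ => 1) - (fun _ : G => (1 : ℂ)) ∈
      indSpan (fun E : Subgroup G => IsElementary p E) := by
    refine hΞ.mem_of_forall_constituent fun ξ hξ h7 => ?_
    obtain ⟨θ, hθ, h8⟩ := hξ.exists_irr_under C
    have h9 := hΞ.classInner_res_ne_zero hξ h7 C hθ.isCharacter h8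
    have h9' := hchar.classInner_res_ne_zero hξ (by
      have := hΞ.classInner_add_ne_zero isCharacter_one hξ.isCharacter h7
      rwa [sub_add_cancel] at this) C hθ.isCharacter h8
    obtain ⟨lam, rfl⟩ := hθ.isCharacter.exists_units_of_apply_one
      (hθ.apply_one_of_comm (IsCyclic.isMulCommutative (α := C)).1.1)
    have h10 : lam ≠ 1 := by
      rintro rfl
      apply h9
      have : (fun c : C => (indFun E (fun _ => 1) - (fun _ : G => (1 : ℂ))) c) =
          indFun (E.subgroupOf C) (fun _ => 1) - fun _ => 1 := by rw [← hres]; rfl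
      rw [this, classInner_sub_left, frobenius_left _ _ hθ.isClassFunction]
      simp [isIrrCharacter_one.classInner_self]
    rw [hres, frobenius_left _ _ hθ.isClassFunction] at h9'
    have h11 := isIrrCharacter_one.eq_of_classInner_ne_zero
      (isIrrCharacter_units (lam.comp (E.subgroupOf C).subtype)) h9'
    have h12 : inertia C (fun c => (lam c : ℂ)) ≠ ⊤ := by
      intro h
      refine h10 (eq_one_of_invariant_linear (P := P) (Solv.coprime_card_of_isPGroup' P.isPGroup'
        h3).symm (Or.inr inferInstance) lam (fun g _ c => Units.ext ?_) fun c hc => Units.ext ?_)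
      · exact congrFun (inertia_eq_top_iff.1 h g) c
      · exact (congrFun h11 ⟨c, Subgroup.mem_sup_right ⟨c.2, hc⟩⟩).symm
    obtain ⟨ψ, hψ, rfl, -⟩ := hθ.clifford_surj rfl (le_inertia hθ.isClassFunction) hξ h8
    have := Fintype.ofFinite (inertia C (fun c => (lam c : ℂ)))
    refine indFun_mem_indSpan (fun L hL => isElementary_map_subtype hp hL) ?_
    simpa [Pi.mul_def] using mul_mem_indSpan (ih _ (hn ▸ Solv.card_lt_of_ne_top h12) _ rfl
      (hG.of_injective hp _ (Subgroup.subtype_injective _))) hψ.isCharacter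
  have h7 : indFun E (fun _ => 1) ∈ indSpan (fun E : Subgroup G => IsElementary p E) :=
    AddSubgroup.subset_closure ⟨E, hE, _, isCharacter_one, rfl⟩
  simpa using sub_mem h7 h6

theorem brauer_prime {p : ℕ} (hp : p.Prime) : ∃ m : ℤ, ¬ (p : ℤ) ∣ m ∧
    (fun _ : G => (m : ℂ)) ∈ indSpan (fun E : Subgroup G => IsElementary p E) := by
  obtain ⟨m, h1, h2⟩ := solomon_prime (G := G) hp
  refine ⟨m, h1, (AddSubgroup.closure_le _).2 ?_ h2⟩
  rintro _ ⟨H, hH, rfl⟩
  have := Fintype.ofFinite H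
  exact indFun_mem_indSpan (fun L hL => isElementary_map_subtype hp hL)
    (one_mem_indSpan_of_quasiElem hp hH)

theorem one_mem_indSpan : (fun _ : G => (1 : ℂ)) ∈
    indSpan (fun E : Subgroup G => ∃ p : ℕ, p.Prime ∧ IsElementary p E) := by
  let V := indSpan (fun E : Subgroup G => ∃ p : ℕ, p.Prime ∧ IsElementary p E)
  let R : AddSubgroup (Unit → ℤ) :=
    { carrier := {f | (fun _ : G => (f () : ℂ)) ∈ V}
      zero_mem' := by simp; exact V.zero_mem
      add_mem' := fun {a b} ha hb => by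
        convert V.add_mem ha hb using 1
        simp [Pi.add_def]
      neg_mem' := fun {a} ha => by
        convert V.neg_mem ha using 1
        simp [Pi.neg_def] }
  have h1 : (1 : Unit → ℤ) ∈ R := by
    by_contra h1
    obtain ⟨x, p, hp, h2⟩ := banaschewski R (fun f hf g _ => by
      have := V.zsmul_mem hf (g ())
      convert this using 1
      change _ ∈ V ↔ _
      congr! 1
      ext; simp [mul_comm]) h1
    obtain ⟨m, h3, h4⟩ := brauer_prime (G := G) hp
    exact h3 (h2 (fun _ => m) (indSpan_mono (fun H h => ⟨p, hp, h⟩) h4))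
  simpa [R] using h1

theorem indSpan_le_linSpan {P : Subgroup G → Prop} (h1 : ∀ H, P H → Group.IsNilpotent H)
    (h2 : ∀ H K, K ≤ H → P H → P K) : indSpan P ≤ linSpan P := by
  refine (AddSubgroup.closure_le _).2 ?_
  rintro _ ⟨H, hH, φ, hφ, rfl⟩
  have := Fintype.ofFinite H
  have := h1 H hH
  refine hφ.mem_of_forall_constituent (V := (linSpan P).comap (indLin H).toAddMonoidHom)
    fun χ hχ _ => ?_
  obtain ⟨L, lam, rfl⟩ := isMonomialFun_of_nilpotent hχ
  exact AddSubgroup.subset_closure ⟨L.map H.subtype, h2 H _ (Subgroup.map_subtype_le _) hH,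
    lam.comp (L.equivMapOfInjective _ H.subtype_injective).symm.toMonoidHom,
    indFun_indFun_map H L _⟩

/-- Brauer's induction theorem. -/
theorem _root_.Cfsg.IsGeneralizedCharacter.mem_linSpan {χ : G → ℂ}
    (hχ : IsGeneralizedCharacter G χ) :
    χ ∈ linSpan (fun E : Subgroup G => ∃ p : ℕ, p.Prime ∧ IsElementary p E) := by
  refine indSpan_le_linSpan (fun H ⟨p, hp, h⟩ => h.isNilpotent hp)
    (fun H K h1 ⟨p, hp, h⟩ => ⟨p, hp, h.of_injective hp _ (Subgroup.inclusion_injective h1)⟩) ?_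
  obtain ⟨a, b, ha, hb, rfl⟩ := hχ
  exact sub_mem (by simpa [Pi.mul_def] using mul_mem_indSpan one_mem_indSpan ha)
    (by simpa [Pi.mul_def] using mul_mem_indSpan one_mem_indSpan hb)

/-- Brauer's characterization of characters, with coefficients. -/
theorem brauer_inner (R : AddSubgroup ℂ) {θ : G → ℂ} (hθ : IsClassFunction G θ)
    (h : ∀ (E : Subgroup G) [Fintype E] (p : ℕ), p.Prime → IsElementary p E → ∀ lam : E →* ℂˣ,
      classInner (fun e : E => θ e) (fun e => (lam e : ℂ)) ∈ R)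
    {χ : G → ℂ} (hχ : IsGeneralizedCharacter G χ) : classInner θ χ ∈ R := by
  have h1 := hχ.mem_linSpan
  clear hχ
  induction h1 using AddSubgroup.closure_induction with
  | mem x hx =>
    obtain ⟨E, ⟨p, hp, hE⟩, lam, rfl⟩ := hx
    have := Fintype.ofFinite E
    rw [frobenius_right _ _ hθ]
    exact h E p hp hE lam
  | zero => rw [classInner_zero_right]; exact zero_mem _
  | add x y _ _ h1 h2 => rw [classInner_add_right]; exact add_mem h1 h2
  | neg x _ h => rw [classInner_neg_right]; exact neg_mem h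

/-- Brauer's characterization of characters, tested on linear characters. -/
theorem brauer_char_of_int {θ : G → ℂ} (hθ : IsClassFunction G θ)
    (h : ∀ (E : Subgroup G) [Fintype E] (p : ℕ), p.Prime → IsElementary p E → ∀ lam : E →* ℂˣ,
      ∃ n : ℤ, classInner (fun e : E => θ e) (fun e => (lam e : ℂ)) = n) :
    IsGeneralizedCharacter G θ :=
  hθ.isGen_of_int fun χ hχ => by
    obtain ⟨n, hn⟩ := brauer_inner (Int.castAddHom ℂ).range hθ
      (fun E _ p hp hE lam => (h E p hp hE lam).imp fun _ => Eq.symm) hχ.isGen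
    exact ⟨n, hn.symm⟩

omit [Fintype G] in
/-- Brauer's characterization of characters. -/
theorem brauer_char [Finite G] {θ : G → ℂ} (hθ : IsClassFunction G θ)
    (h : ∀ (E : Subgroup G) (p : ℕ), p.Prime → IsElementary p E →
      IsGeneralizedCharacter E (fun e : E => θ e)) : IsGeneralizedCharacter G θ :=
  have := Fintype.ofFinite G
  brauer_char_of_int hθ fun E _ p hp hE lam =>
    (h E p hp hE).classInner_eq_int (isIrrCharacter_units lam).isGen

omit [Fintype G] in
/-- Brauer's characterization of characters, nilpotent version. -/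
theorem brauer_char_nilpotent [Finite G] {θ : G → ℂ} (hθ : IsClassFunction G θ)
    (h : ∀ E : Subgroup G, Group.IsNilpotent E → IsGeneralizedCharacter E (fun e : E => θ e)) :
    IsGeneralizedCharacter G θ :=
  brauer_char hθ fun E _ hp hE => h E (hE.isNilpotent hp)

end Brauer

end Cfsg.Agent.Char
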