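import Cfsg.Agent.Lib.Char.Down
import Cfsg.Agent.Lib.Char.Brauer

/-!
Linear characters, degrees, class two groups, relative monomiality, Artin and Dade lemmas.
-/

set_option autoImplicit false

namespace Cfsg.Agent.Char

open scoped ComplexConjugate commutatorElement Pointwise

universe u

section

variable {G : Type*} [Group G]

theorem card_irr_of_comm [Finite G] (h : ∀ a b : G, a * b = b * a) :
    Nat.card (IrrCharacter G) = Nat.card G := by
  have h1 := sum_degree_sq (G := G)
  rw [Finset.sum_congr rfl fun χ _ => by rw [χ.2.apply_one_of_comm h]] at h1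
  simp only [one_pow, Finset.sum_const, Finset.card_univ, nsmul_eq_mul, mul_one,
    ← Nat.card_eq_fintype_card] at h1
  exact_mod_cast h1

theorem card_linear [Finite G] :
    Nat.card {χ : IrrCharacter G // χ.1 1 = 1} = (commutator G).index := by
  have h := card_irr_le_charKer (QuotientGroup.mk' (commutator G)) (QuotientGroup.mk'_surjective _)
  rw [card_irr_of_comm (G := G ⧸ commutator G) (fun a b => mul_comm (G := Abelianization G) a b),
    QuotientGroup.ker_mk'] at h
  rw [Subgroup.index_eq_card, ← h]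
  exact Nat.card_congr (Equiv.subtypeEquivRight fun χ => χ.2.apply_one_eq_one_iff)

theorem comm_of_forall_linear [Finite G] (h : ∀ χ, IsIrrCharacter G χ → χ 1 = 1) (a b : G) :
    a * b = b * a := by
  by_contra h1
  obtain ⟨χ, h2, h3⟩ := exists_irr_apply_ne (mt commutatorElement_eq_one_iff_mul_comm.1 h1)
  exact h3 (h2.isCharacter.mem_charKer.1 (h2.apply_one_eq_one_iff.1 (h χ h2)
    (Subgroup.commutator_mem_commutator (Subgroup.mem_top a) (Subgroup.mem_top b))))

theorem commutator_le_of_forall_linear [Finite G] {N : Subgroup G} [N.Normal]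
    (h : ∀ χ, IsIrrCharacter G χ → N ≤ charKer χ → χ 1 = 1) : commutator G ≤ N := by
  refine Subgroup.commutator_le.2 fun a _ b _ => ?_
  rw [← QuotientGroup.eq_one_iff]
  refine commutatorElement_eq_one_iff_mul_comm.2
    (comm_of_forall_linear (G := G ⧸ N) (fun χ hχ => ?_) a b)
  exact h _ hχ.inflate fun n hn x => by
    simp [(QuotientGroup.eq_one_iff n).2 hn]

theorem sum_charDegree_sq [Finite G] :
    ∑ χ : IrrCharacter G, charDegree χ.1 ^ 2 = Nat.card G := by
  have h := sum_degree_sq (G := G)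
  simp only [← fun χ : IrrCharacter G => χ.2.isCharacter.cast_charDegree] at h
  exact_mod_cast h

open Classical in
theorem index_add_sum_nonlinear [Finite G] : (commutator G).index +
    ∑ χ : IrrCharacter G with χ.1 1 ≠ 1, charDegree χ.1 ^ 2 = Nat.card G := by
  rw [← sum_charDegree_sq, ← Finset.sum_filter_add_sum_filter_not Finset.univ
    (fun χ : IrrCharacter G => χ.1 1 = 1), ← card_linear]
  congr 1
  rw [Finset.sum_congr rfl (g := fun _ => 1) fun χ hχ => by
    have h1 := χ.2.isCharacter.cast_charDegree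
    rw [(Finset.mem_filter.1 hχ).2, Nat.cast_eq_one] at h1
    simp [h1]]
  simp [Fintype.card_subtype]

/-- If `G / Z(χ)` is abelian then `χ` vanishes off `Z(χ)`. -/
theorem _root_.Cfsg.IsIrrCharacter.eq_zero_of_commutator_mem [Finite G] {χ : G → ℂ}
    (hχ : IsIrrCharacter G χ) {g : G} (h : ∀ x : G, ⁅x, g⁆ ∈ charCenter χ) (hg : g ∉ charCenter χ) :
    χ g = 0 := by
  rw [hχ.mem_charCenter_iff] at hg
  obtain ⟨x, hx⟩ := not_forall.1 hg
  have h1 : ⁅x, g⁆ ∉ charKer χ := fun h => hx (by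
    simpa [commutatorElement_def, mul_assoc] using (charKer χ).inv_mem h)
  have h2 := IsCharacter.apply_mul_of_mem_charCenter (h x) g
  rw [commutatorElement_def, inv_mul_cancel_right, hχ.isClassFunction.apply_conj] at h2
  rw [hχ.isCharacter.mem_charKer, commutatorElement_def] at h1
  by_contra h3
  exact h1 (mul_right_cancel₀ h3 (h2.symm.trans (mul_comm _ _)))

theorem _root_.Cfsg.IsIrrCharacter.degree_sq_eq_index [Finite G] {χ : G → ℂ}
    (hχ : IsIrrCharacter G χ) {Z : Subgroup G} [Z.Normal] (hZ : Z ≤ charCenter χ)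
    (h : ∀ g, g ∉ Z → χ g = 0) {d : ℕ} (hd : χ 1 = d) : d ^ 2 = Z.index := by
  obtain ⟨lam, hlam⟩ := hχ.isCharacter.exists_units_of_le_charCenter hχ.apply_one_ne_zero hZ
  refine (sq_eq_index_iff hχ (isIrrCharacter_units lam) (funext fun x => ?_)).2 h
  have := hlam x 1
  rw [mul_one, hd] at this
  simp [this, mul_comm]

theorem card_lt_sum_norm_sq {ι : Type*} [Fintype ι] (f : ι → ℂ) (hf : ∀ i, IsIntegral ℤ (f i))
    (h0 : ∀ i, f i ≠ 0) (hσ : ∀ σ : ℂ ≃+* ℂ, ∃ e : ι ≃ ι, ∀ i, σ (f i) = f (e i))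
    {j : ι} (hj : ‖f j‖ ≠ 1) : (Fintype.card ι : ℝ) < ∑ i, ‖f i‖ ^ 2 := by
  have h1 := one_le_prod_norm f hf h0 hσ
  have h2 : 0 ≤ ∑ i, Real.log ‖f i‖ := by
    rw [← Real.log_prod fun i _ => norm_ne_zero_iff.2 (h0 i)]
    exact Real.log_nonneg h1
  have h4 : ∀ i, 0 < ‖f i‖ ^ 2 := fun i => pow_pos (norm_pos_iff.2 (h0 i)) 2
  have h3 : ∀ i, 1 + 2 * Real.log ‖f i‖ ≤ ‖f i‖ ^ 2 := by
    intro i
    have := Real.log_le_sub_one_of_pos (h4 i)
    rw [Real.log_pow] at this
    push_cast at this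
    linarith
  have h5 := Finset.sum_lt_sum (fun i (_ : i ∈ Finset.univ) => h3 i) ⟨j, Finset.mem_univ j, by
    have := Real.log_lt_sub_one_of_pos (h4 j) (by
      rwa [Ne, pow_eq_one_iff_of_nonneg (norm_nonneg _) two_ne_zero])
    rw [Real.log_pow] at this
    push_cast at this
    linarith⟩
  rw [Finset.sum_add_distrib, ← Finset.mul_sum] at h5
  simp only [Finset.sum_const, Finset.card_univ, nsmul_eq_mul, mul_one] at h5
  linarith

/-- The Galois action on the irreducible characters. -/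
noncomputable def irrGalois [Finite G] (σ : ℂ ≃+* ℂ) : IrrCharacter G ≃ IrrCharacter G where
  toFun χ := ⟨fun g => σ (χ.1 g), χ.2.map_ringHom σ.toRingHom⟩
  invFun χ := ⟨fun g => σ.symm (χ.1 g), χ.2.map_ringHom σ.symm.toRingHom⟩
  left_inv χ := by ext; simp
  right_inv χ := by ext; simp

theorem sup_eq_top_of_res_ind_irr [Fintype G] {N T : Subgroup G} {θ : T → ℂ}
    (hθ : IsCharacter T θ) (h : IsIrrCharacter N fun n : N => indFun T θ n) : N ⊔ T = ⊤ := by
  have := Fintype.ofFinite (N ⊔ T : Subgroup G)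
  have h1 := indFun_trans (le_sup_right : T ≤ N ⊔ T) θ
  have h2 := (hθ.comp (Subgroup.subgroupOfEquivOfLe (le_sup_right : T ≤ N ⊔ T)).toMonoidHom).ind
  have h3 := hθ.ind.isIrr_of_res N h
  have h4 := (hθ.ind.res (N ⊔ T)).isIrr_of_res_le le_sup_left h
  have h5 := h4.eq_of_classInner_ne_zero (h2.isIrr_of_ind (h1 ▸ h3)) (by
    rw [← frobenius_right _ _ h3.isClassFunction]
    refine (congrArg _ h1).trans_ne ?_
    rw [h3.classInner_self]; simp)
  have h6 := congrFun h1 1
  rw [indFun_one] at h6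
  have h7 := congrFun h5 1
  rw [← Subgroup.index_eq_one]
  have h8 := (mul_eq_right₀ h3.apply_one_ne_zero).1 ((congrArg _ h7).trans h6)
  exact_mod_cast h8

theorem isIrr_inf_of_res_ind_irr [Fintype G] {N T : Subgroup G} [N.Normal] {θ : T → ℂ}
    (hθ : IsCharacter T θ) (h : IsIrrCharacter N fun n : N => indFun T θ n) :
    IsIrrCharacter (N.subgroupOf T) fun n => θ n := by
  have := Fintype.ofFinite N
  have h1 := sup_eq_top_of_res_ind_irr hθ h
  rw [funext (indFun_apply_of_mul_eq T N hθ.isClassFunction fun g => by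
    obtain ⟨a, h2, b, h3, h4⟩ := (Solv.mem_sup_of_le_normalizer
      Subgroup.le_normalizer_of_normal).1 ((sup_comm N T ▸ h1).ge (Subgroup.mem_top g))
    exact ⟨a, h2, b, h3, h4.symm⟩)] at h
  let f : T.subgroupOf N →* T := (N.subtype.comp (T.subgroupOf N).subtype).codRestrict T
    fun x => x.2
  let f' : N.subgroupOf T →* T.subgroupOf N := ((T.subtype.comp (N.subgroupOf T).subtype).codRestrict
    N fun x => x.2).codRestrict _ fun x => x.1.2
  exact ((hθ.comp f).isIrr_of_ind h).comp_surjective f' fun x => ⟨⟨⟨x, x.2⟩, x.1.2⟩, rfl⟩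

theorem fitting_comm_of_sylow_comm [Finite G]
    (h : ∀ p : ℕ, p.Prime → ∀ P : Subgroup G, IsPGroup p P → ∀ a ∈ P, ∀ b ∈ P, a * b = b * a) :
    fittingSubgroup G ≤ Subgroup.centralizer (fittingSubgroup G : Set G) := by
  refine Solv.fitting_le_of_forall_pCore fun p hp => Subgroup.le_centralizer_iff.1
    (Solv.fitting_le_of_forall_pCore fun q hq => ?_)
  have := Fact.mk hp
  have := Fact.mk hq
  by_cases hpq : p = q
  · subst hpq
    exact fun a ha b hb => h p hp _ (Solv.isPGroup_pCore p G) b hb a ha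
  · exact Solv.pCore_le_centralizer_pCore hpq

end

/-- Characters restricting irreducibly to a solvable normal subgroup with abelian Sylow
subgroups are monomial. -/
theorem isMonomialFun_of_res_irr (G : Type u) [Group G] [Fintype G] (N : Subgroup G) [N.Normal]
    (hs : Group.IsSolvable N) (hab : ∀ p : ℕ, p.Prime → ∀ P : Subgroup G, IsPGroup p P → P ≤ N →
      ∀ a ∈ P, ∀ b ∈ P, a * b = b * a) {χ : G → ℂ} (hχ : IsIrrCharacter G χ)
    (hN : IsIrrCharacter N fun n : N => χ n) : IsMonomialFun G χ := by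
  induction hn : Nat.card G using Nat.strong_induction_on generalizing G with
  | _ n ih =>
  by_cases hk : charKer χ = ⊥
  · have h1 := fitting_comm_of_sylow_comm (G := N) fun p hp P hP a ha b hb => Subtype.ext
      (hab p hp _ (hP.map N.subtype) (Subgroup.map_subtype_le _) a ⟨a, ha, rfl⟩ b ⟨b, hb, rfl⟩)
    by_cases h2 : (fittingSubgroup N).map N.subtype ≤ charCenter χ
    · rw [hχ.charCenter_eq_center hk] at h2
      have h3 : ∀ a : N, a ∈ fittingSubgroup N := fun a => Solv.centralizer_fitting_le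
        fun b hb => Subtype.ext (Subgroup.mem_center_iff.1 (h2 ⟨b, hb, rfl⟩) a).symm
      obtain ⟨lam, rfl⟩ := hχ.isCharacter.exists_units_of_apply_one
        (hN.apply_one_of_comm fun a b => h1 (h3 b) a (h3 a))
      exact isMonomialFun_units lam
    · obtain ⟨T, ψ, hT, -, hψ, rfl⟩ := hχ.exists_ind_of_comm _ (by
        rintro _ ⟨a, ha, rfl⟩ _ ⟨b, hb, rfl⟩
        exact congrArg Subtype.val (h1 hb a ha)) h2
      have := Fintype.ofFinite T
      refine (ih _ (hn ▸ Solv.card_lt_of_ne_top hT) T (N.subgroupOf T)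
        (Solv.isSolvable_subgroupOf hs T) (fun p hp P hP hPN a ha b hb => Subtype.ext ?_) hψ
        (isIrr_inf_of_res_ind_irr hψ.isCharacter hN) rfl).ind
      exact hab p hp _ (hP.map T.subtype) (Subgroup.map_le_iff_le_comap.2 hPN) a ⟨a, ha, rfl⟩
        b ⟨b, hb, rfl⟩
  · have := hχ.isClassFunction.normal_charKer
    obtain ⟨ψ, hψ, h1⟩ := hχ.exists_quotient (charKer χ) le_rfl
    have := Fintype.ofFinite (G ⧸ charKer χ)
    have h2 := (ih _ (hn ▸ Solv.card_quotient_lt hk) _ (N.map (QuotientGroup.mk' _))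
      (Solv.isSolvable_map _ hs) (fun p hp P hP hPN => ?_) hψ ?_ rfl).comp_surjective
      (QuotientGroup.mk' _) (QuotientGroup.mk'_surjective _)
    · simpa [h1] using h2
    · have := Fact.mk hp
      obtain ⟨S, hS⟩ := Solv.exists_isSylowIn p (P.comap (QuotientGroup.mk' _) ⊓ N)
      have h3 := hS.map (QuotientGroup.mk' (charKer χ))
      have h4 : (P.comap (QuotientGroup.mk' _) ⊓ N).map (QuotientGroup.mk' (charKer χ)) = P := by
        refine le_antisymm (Subgroup.map_le_iff_le_comap.2 inf_le_left) fun x hx => ?_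
        obtain ⟨y, hy, rfl⟩ := hPN hx
        exact ⟨y, ⟨hx, hy⟩, rfl⟩
      rw [h4] at h3
      rw [h3.eq_of_le hP le_rfl h3.le]
      rintro _ ⟨a, ha, rfl⟩ _ ⟨b, hb, rfl⟩
      rw [← map_mul, hab p hp S hS.isPGroup (hS.le.trans inf_le_right) a ha b hb, map_mul]
    · refine IsIrrCharacter.of_comp_surjective ((QuotientGroup.mk' _).subgroupMap N)
        (MonoidHom.subgroupMap_surjective _ _) ?_
      simpa [h1] using hN

section

variable {G : Type*} [Group G]

/-- Inner product with an invariant function of the restriction of an induced function. -/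
theorem classInner_res_indFun [Fintype G] {N E : Subgroup G} [N.Normal] [Fintype N]
    [Fintype (E ⊓ N : Subgroup G)] (ψ : E → ℂ) {F : N → ℂ} (hF : ∀ g, cj N g F = F) :
    classInner (fun n : N => indFun E ψ n) F = (E ⊔ N).index *
      classInner (fun x : (E ⊓ N : Subgroup G) => ψ ⟨x, x.2.1⟩) (fun x => F ⟨x, x.2.2⟩) := by
  classical
  have := Fintype.ofFinite E
  have h1 : IsClassFunction G (extendByZero N fun n => conj (F n)) := fun g x => by
    by_cases hg : g ∈ N
    · rw [extendByZero_of_mem _ _ hg, extendByZero_of_mem _ _ (‹N.Normal›.conj_mem g hg x)]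
      exact congrArg conj (congrFun (hF x) ⟨g, hg⟩)
    · rw [extendByZero_of_not_mem _ _ hg, extendByZero_of_not_mem]
      exact fun h => hg (by simpa [mul_assoc] using ‹N.Normal›.conj_mem _ h x⁻¹)
  have h2 := sum_indFun_mul E ψ h1
  have h3 := sum_extendByZero_mul N (fun n => conj (F n)) (indFun E ψ)
  have h4 : ∑ h : E, ψ h * extendByZero N (fun n => conj (F n)) h =
      ∑ x : (E ⊓ N : Subgroup G), ψ ⟨x, x.2.1⟩ * conj (F ⟨x, x.2.2⟩) := by
    symm
    refine Finset.sum_of_injOn (fun x => ⟨x, x.2.1⟩) (fun x _ y _ h => Subtype.ext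
      (congrArg (Subtype.val : E → G) h)) (by simp) (fun h _ h5 => ?_) fun x _ => ?_
    · rw [extendByZero_of_not_mem, mul_zero]
      exact fun h6 => h5 ⟨⟨h, h.2, h6⟩, by simp, rfl⟩
    · rw [extendByZero_of_mem _ _ x.2.2]
  simp only [classInner]
  rw [← h4, Finset.sum_congr rfl fun _ _ => mul_comm _ _, ← h3,
    Finset.sum_congr rfl fun _ _ => mul_comm _ _, h2]
  have h5 := Solv.card_sup_mul_card_inf (H := E) (N := N) Subgroup.le_normalizer_of_normal
  have h6 := (E ⊔ N).card_mul_index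
  rw [← E.card_mul_index] at h6
  have h7 : E.index * Nat.card (E ⊓ N : Subgroup G) = (E ⊔ N).index * Nat.card N := by
    refine Nat.eq_of_mul_eq_mul_left (Nat.card_pos (α := E)) ?_
    rw [← mul_assoc, ← h6, mul_right_comm, h5]; ring
  have h8 : (E.index : ℂ) * Nat.card (E ⊓ N : Subgroup G) = (E ⊔ N).index * Nat.card N := by
    exact_mod_cast h7
  have h9 := card_ne_zero' N
  have h10 := card_ne_zero' (E ⊓ N : Subgroup G)
  field_simp
  linear_combination (∑ x : E, ψ x * extendByZero N (fun n => conj (F n)) x) * h8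

/-- If a `p`-group acts and an invariant weight has sum prime to `p`, some fixed point has weight
prime to `p`; version for conjugate characters. -/
theorem exists_invariant_not_dvd [Fintype G] {Q : Subgroup G} [Q.Normal] {p k : ℕ} (hp : p.Prime)
    (hk : Q.index = p ^ k) (w : IrrCharacter Q → ℤ)
    (hw : ∀ g (φ : IrrCharacter Q), w ⟨cj Q g φ.1, φ.2.cj g⟩ = w φ) (h : ¬ (p : ℤ) ∣ ∑ φ, w φ) :
    ∃ φ : IrrCharacter Q, (∀ g, cj Q g φ.1 = φ.1) ∧ ¬ (p : ℤ) ∣ w φ := by
  classical
  by_contra h1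
  push Not at h1
  refine h ?_
  let s : Setoid (IrrCharacter Q) := ⟨fun φ ψ => ψ.1 ∈ cjOrbit Q φ.1, ⟨fun φ => self_mem_cjOrbit _,
    fun {φ ψ} h => by
      obtain ⟨g, hg⟩ := mem_cjOrbit.1 h
      exact mem_cjOrbit.2 ⟨g⁻¹, by rw [hg, cj_inv_cj]⟩,
    fun {φ ψ ξ} h h' => by
      obtain ⟨g, hg⟩ := mem_cjOrbit.1 h
      obtain ⟨g', hg'⟩ := mem_cjOrbit.1 h'
      exact mem_cjOrbit.2 ⟨g * g', by rw [hg', hg, cj_mul]⟩⟩⟩
  rw [← Finset.sum_fiberwise Finset.univ (Quotient.mk s)]
  refine Finset.dvd_sum fun q _ => ?_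
  obtain ⟨φ, rfl⟩ := q.exists_rep
  have h2 : ∀ ψ ∈ Finset.univ.filter fun ψ => Quotient.mk s ψ = Quotient.mk s φ, w ψ = w φ :=
    fun ψ hψ => by
      obtain ⟨g, hg⟩ := mem_cjOrbit.1 (Quotient.exact (Finset.mem_filter.1 hψ).2.symm)
      rw [← hw g φ]; congr 1; exact Subtype.ext hg
  rw [Finset.sum_congr rfl h2, Finset.sum_const, nsmul_eq_mul]
  by_cases h3 : inertia Q φ.1 = ⊤
  · exact (h1 φ (inertia_eq_top_iff.1 h3)).mul_left _
  · refine Dvd.dvd.mul_right ?_ _
    have h4 : (Finset.univ.filter fun ψ => Quotient.mk s ψ = Quotient.mk s φ).card =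
        (cjOrbit Q φ.1).card := by
      refine Finset.card_bij (fun ψ _ => ψ.1) (fun ψ hψ => ?_) (fun _ _ _ _ h => Subtype.ext h)
        fun ψ hψ => ⟨⟨ψ, φ.2.of_mem_cjOrbit hψ⟩, by simpa using (Quotient.sound (s := s) hψ).symm,
          rfl⟩
      exact Quotient.exact (Finset.mem_filter.1 hψ).2.symm
    rw [h4, card_cjOrbit, Int.natCast_dvd_natCast]
    obtain ⟨j, -, hj⟩ := (Nat.dvd_prime_pow hp).1
      (hk ▸ Subgroup.index_dvd_of_le (le_inertia φ.2.isClassFunction))
    rw [hj]
    refine dvd_pow_self p ?_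
    rintro rfl
    exact h3 (Subgroup.index_eq_one.1 hj)

end

end Cfsg.Agent.Char
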