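import Cfsg.Agent.Lib.Char.Dade
import Cfsg.Agent.Lib.Char.Degree

/-!
Linear characters of abelian groups and of products; induction along an injective homomorphism.
-/

set_option autoImplicit false

namespace Cfsg.Agent.Char

open scoped ComplexConjugate

variable {G : Type*} [Group G] {W : Type*} [Group W] {A : Type*} [Group A] {B : Type*} [Group B]

noncomputable instance instFintypeLinChar [Finite W] : Fintype (W →* ℂˣ) := Fintype.ofFinite _

noncomputable instance instDecEqLinChar : DecidableEq (W →* ℂˣ) := Classical.decEq _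

/-- A linear character as a function. -/
abbrev lc (ω : W →* ℂˣ) : W → ℂ := fun w => ω w

@[simp] theorem lc_apply (ω : W →* ℂˣ) (w : W) : lc ω w = ω w := rfl

theorem isIrr_lc (ω : W →* ℂˣ) : IsIrrCharacter W (lc ω) := isIrrCharacter_units ω

theorem lc_injective : Function.Injective (lc : (W →* ℂˣ) → W → ℂ) :=
  fun _ _ h => units_fun_injective h

@[simp] theorem lc_one : lc (1 : W →* ℂˣ) = fun _ => 1 := rfl

theorem lc_mul (ω ω' : W →* ℂˣ) : lc (ω * ω') = lc ω * lc ω' := by ext; simp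

theorem classInner_lc [Fintype W] (ω ω' : W →* ℂˣ) :
    classInner (lc ω) (lc ω') = if ω = ω' then 1 else 0 := by
  rw [(isIrr_lc ω).classInner_eq_ite (isIrr_lc ω')]
  simp only [lc_injective.eq_iff]

theorem conjFun_lc [Finite W] (ω : W →* ℂˣ) : conjFun (lc ω) = lc ω⁻¹ := by
  ext w; simp [conjFun, conj_units_hom]

/-- Linear characters are all the irreducible characters of an abelian group. -/
noncomputable def lcEquiv (h : ∀ a b : W, a * b = b * a) : (W →* ℂˣ) ≃ IrrCharacter W :=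
  Equiv.ofBijective (fun ω => ⟨lc ω, isIrr_lc ω⟩) ⟨fun _ _ h => lc_injective (congrArg Subtype.val h),
    fun χ => by
      obtain ⟨ω, hω⟩ := χ.2.isCharacter.exists_units_of_apply_one (χ.2.apply_one_of_comm h)
      exact ⟨ω, Subtype.ext hω.symm⟩⟩

theorem lcEquiv_apply (h : ∀ a b : W, a * b = b * a) (ω : W →* ℂˣ) :
    (lcEquiv h ω : W → ℂ) = lc ω := rfl

theorem card_lc [Finite W] (h : ∀ a b : W, a * b = b * a) : Nat.card (W →* ℂˣ) = Nat.card W := by
  rw [Nat.card_congr (lcEquiv h), card_irr_of_comm h]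

theorem isClassFunction_of_comm (h : ∀ a b : W, a * b = b * a) (α : W → ℂ) : IsClassFunction W α :=
  fun g x => by rw [h x g, mul_inv_cancel_right]

theorem eq_sum_lc [Fintype W] (h : ∀ a b : W, a * b = b * a) (α : W → ℂ) :
    α = ∑ ω : W →* ℂˣ, classInner α (lc ω) • lc ω := by
  conv_lhs => rw [(isClassFunction_of_comm h α).eq_sum, ← (lcEquiv h).sum_comp]
  rfl

theorem rip_eq_sum_lc [Fintype W] (h : ∀ a b : W, a * b = b * a) (α : W → ℂ) :
    rip α α = ∑ ω : W →* ℂˣ, ‖classInner α (lc ω)‖ ^ 2 := by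
  rw [rip, (isClassFunction_of_comm h α).classInner_self_re_eq_sum, ← (lcEquiv h).sum_comp]
  rfl

open Classical in
theorem sum_lc [Finite W] (h : ∀ a b : W, a * b = b * a) (w : W) :
    ∑ ω : W →* ℂˣ, (ω w : ℂ) = if w = 1 then (Nat.card W : ℂ) else 0 := by
  have h1 := sum_degree_mul w
  rw [← (lcEquiv h).sum_comp] at h1
  simpa [lcEquiv_apply, regChar] using h1

theorem sum_lc_eq_regChar [Finite W] (h : ∀ a b : W, a * b = b * a) :
    ∑ ω : W →* ℂˣ, lc ω = regChar W := by
  ext w
  rw [Finset.sum_apply, sum_lc h, regChar]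

/-- Galois action on linear characters. -/
def autLc (σ : ℂ →+* ℂ) (ω : W →* ℂˣ) : W →* ℂˣ := (Units.map (σ : ℂ →* ℂ)).comp ω

@[simp] theorem autLc_apply (σ : ℂ →+* ℂ) (ω : W →* ℂˣ) (w : W) : (autLc σ ω w : ℂ) = σ (ω w) := rfl

theorem autLc_conj [Finite W] (ω : W →* ℂˣ) : autLc (starRingEnd ℂ) ω = ω⁻¹ := by
  ext w; simp [conj_units_hom]

@[simp] theorem autLc_one (σ : ℂ →+* ℂ) : autLc σ (1 : W →* ℂˣ) = 1 := by ext; simp

theorem autLc_eq_pow {σ : ℂ →+* ℂ} {n k : ℕ} (hσ : ∀ z : ℂ, z ^ n = 1 → σ z = z ^ k)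
    {ω : W →* ℂˣ} (h : ω ^ n = 1) : autLc σ ω = ω ^ k := by
  ext w
  have := congrArg (fun f : W →* ℂˣ => (f w : ℂ)) h
  simp only [MonoidHom.pow_apply, Units.val_pow_eq_pow_val, MonoidHom.one_apply, Units.val_one]
    at this
  simp [hσ _ this]

theorem autLc_injective (σ : ℂ →+* ℂ) : Function.Injective (autLc σ : (W →* ℂˣ) → _) := by
  intro a b h
  ext w
  exact σ.injective (by rw [← autLc_apply, h, autLc_apply])

theorem autLc_eq_one {σ : ℂ →+* ℂ} {ω : W →* ℂˣ} : autLc σ ω = 1 ↔ ω = 1 := by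
  rw [← (autLc_injective σ).eq_iff (a := ω), autLc_one]

theorem lc_pow_card (ω : W →* ℂˣ) : ω ^ Nat.card W = 1 := by
  ext w; rw [MonoidHom.pow_apply, ← map_pow, pow_card_eq_one', map_one]; rfl

theorem lc_inv_ne (hodd : Odd (Nat.card W)) {ω : W →* ℂˣ} (h : ω ≠ 1) : ω⁻¹ ≠ ω := by
  intro h1
  have h2 : orderOf ω ∣ Nat.card W := orderOf_dvd_of_pow_eq_one (lc_pow_card ω)
  have h3 : orderOf ω ∣ 2 := orderOf_dvd_of_pow_eq_one ((sq ω).trans (inv_eq_iff_mul_eq_one.1 h1))
  exact h (orderOf_eq_one_iff.1 (Nat.eq_one_of_dvd_coprimes (Nat.coprime_two_right.2 hodd) h2 h3))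

theorem exists_ringHom_inv_fix {m n : ℕ} (hm : m ≠ 0) (hn : n ≠ 0) (h : m.Coprime n) :
    ∃ σ : ℂ →+* ℂ, (∀ z : ℂ, z ^ m = 1 → σ z = z⁻¹) ∧ ∀ z : ℂ, z ^ n = 1 → σ z = z := by
  obtain ⟨k, h1, h2⟩ := Nat.chineseRemainder h (m - 1) 1
  have h3 : k.Coprime (m * n) := by
    refine Nat.Coprime.mul_right ?_ ?_
    · rw [Nat.Coprime, h1.gcd_eq]
      exact (Nat.coprime_self_sub_left (Nat.one_le_iff_ne_zero.2 hm)).2 (Nat.coprime_one_left m)
    · rw [Nat.Coprime, h2.gcd_eq, Nat.gcd_one_left]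
  obtain ⟨σ, hσ⟩ := exists_ringEquiv_pow (mul_ne_zero hm hn) h3
  have h4 : ∀ {z : ℂ} {r a b : ℕ}, z ^ r = 1 → a ≡ b [MOD r] → z ^ a = z ^ b := fun hz hab => by
    rw [pow_eq_pow_mod _ hz, hab, ← pow_eq_pow_mod _ hz]
  refine ⟨σ, fun z hz => ?_, fun z hz => ?_⟩
  · rw [RingHom.coe_coe, hσ z (by rw [pow_mul, hz, one_pow]), h4 hz h1]
    refine eq_inv_of_mul_eq_one_left ?_
    rw [← pow_succ, Nat.sub_add_cancel (Nat.one_le_iff_ne_zero.2 hm), hz]
  · rw [RingHom.coe_coe, hσ z (by rw [mul_comm, pow_mul, hz, one_pow]), h4 hz h2, pow_one]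

theorem exists_ringHom_pow_fix {m n k : ℕ} (hm : m ≠ 0) (hn : n ≠ 0) (h : m.Coprime n)
    (hk : k.Coprime m) :
    ∃ σ : ℂ →+* ℂ, (∀ z : ℂ, z ^ m = 1 → σ z = z ^ k) ∧ ∀ z : ℂ, z ^ n = 1 → σ z = z := by
  obtain ⟨l, h1, h2⟩ := Nat.chineseRemainder h k 1
  have h3 : l.Coprime (m * n) := by
    refine Nat.Coprime.mul_right ?_ ?_
    · rw [Nat.Coprime, h1.gcd_eq]; exact hk
    · rw [Nat.Coprime, h2.gcd_eq, Nat.gcd_one_left]
  obtain ⟨σ, hσ⟩ := exists_ringEquiv_pow (mul_ne_zero hm hn) h3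
  have h4 : ∀ {z : ℂ} {r a b : ℕ}, z ^ r = 1 → a ≡ b [MOD r] → z ^ a = z ^ b := fun hz hab => by
    rw [pow_eq_pow_mod _ hz, hab, ← pow_eq_pow_mod _ hz]
  refine ⟨σ, fun z hz => ?_, fun z hz => ?_⟩
  · rw [RingHom.coe_coe, hσ z (by rw [pow_mul, hz, one_pow]), h4 hz h1]
  · rw [RingHom.coe_coe, hσ z (by rw [mul_comm, pow_mul, hz, one_pow]), h4 hz h2, pow_one]

/-- The linear character of a product with given components. -/
def om (i : A →* ℂˣ) (j : B →* ℂˣ) : A × B → ℂ := fun w => i w.1 * j w.2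

@[simp] theorem om_apply (i : A →* ℂˣ) (j : B →* ℂˣ) (w : A × B) : om i j w = i w.1 * j w.2 := rfl

theorem om_eq_lc (i : A →* ℂˣ) (j : B →* ℂˣ) : om i j = lc (i.coprod j) := by
  ext w; simp

theorem isIrr_om (i : A →* ℂˣ) (j : B →* ℂˣ) : IsIrrCharacter (A × B) (om i j) :=
  om_eq_lc i j ▸ isIrr_lc _

@[simp] theorem om_one_one : om (1 : A →* ℂˣ) (1 : B →* ℂˣ) = fun _ => 1 := by ext; simp

/-- Linear characters of a product. -/
def lcProdEquiv : (A →* ℂˣ) × (B →* ℂˣ) ≃ (A × B →* ℂˣ) where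
  toFun p := p.1.coprod p.2
  invFun ω := (ω.comp (MonoidHom.inl A B), ω.comp (MonoidHom.inr A B))
  left_inv p := by ext <;> simp
  right_inv ω := MonoidHom.coprod_unique ω

theorem classInner_om [Fintype A] [Fintype B] (i k : A →* ℂˣ) (j l : B →* ℂˣ) :
    classInner (om i j) (om k l) = if i = k ∧ j = l then 1 else 0 := by
  rw [om_eq_lc, om_eq_lc, classInner_lc]
  have := (lcProdEquiv (A := A) (B := B)).injective.eq_iff (a := (i, j)) (b := (k, l))
  simp only [Prod.mk.injEq] at this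
  simp only [← this]
  rfl

theorem prod_comm_of (hA : ∀ a b : A, a * b = b * a) (hB : ∀ a b : B, a * b = b * a)
    (a b : A × B) : a * b = b * a := Prod.ext (hA _ _) (hB _ _)

theorem eq_sum_om [Fintype A] [Fintype B] (hA : ∀ a b : A, a * b = b * a)
    (hB : ∀ a b : B, a * b = b * a) (α : A × B → ℂ) :
    α = ∑ p : (A →* ℂˣ) × (B →* ℂˣ), classInner α (om p.1 p.2) • om p.1 p.2 := by
  conv_lhs => rw [eq_sum_lc (prod_comm_of hA hB) α, ← lcProdEquiv.sum_comp]
  simp only [om_eq_lc]
  rfl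

theorem rip_eq_sum_om [Fintype A] [Fintype B] (hA : ∀ a b : A, a * b = b * a)
    (hB : ∀ a b : B, a * b = b * a) (α : A × B → ℂ) :
    rip α α = ∑ p : (A →* ℂˣ) × (B →* ℂˣ), ‖classInner α (om p.1 p.2)‖ ^ 2 := by
  rw [rip_eq_sum_lc (prod_comm_of hA hB) α, ← lcProdEquiv.sum_comp]
  simp only [om_eq_lc]
  rfl

theorem om_map (σ : ℂ →+* ℂ) (i : A →* ℂˣ) (j : B →* ℂˣ) :
    om (autLc σ i) (autLc σ j) = fun w => σ (om i j w) := by
  ext w; simp

theorem exists_eq_om (hA : ∀ a b : A, a * b = b * a) (hB : ∀ a b : B, a * b = b * a)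
    {χ : A × B → ℂ} (h : IsIrrCharacter (A × B) χ) : ∃ i j, χ = om i j := by
  obtain ⟨ω, rfl⟩ := h.isCharacter.exists_units_of_apply_one
    (h.apply_one_of_comm (prod_comm_of hA hB))
  obtain ⟨⟨i, j⟩, rfl⟩ := lcProdEquiv.surjective ω
  exact ⟨i, j, (om_eq_lc i j).symm⟩

/-- A function orthogonal to all `(1 - i)(1 - j)` vanishes at `(a, b)` with `a, b ≠ 1`. -/
theorem eq_zero_of_orth_om [Fintype A] [Fintype B] (hA : ∀ a b : A, a * b = b * a)
    (hB : ∀ a b : B, a * b = b * a) {φ : A × B → ℂ}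
    (h : ∀ i j, classInner φ (om 1 1 - om i 1 - om 1 j + om i j) = 0) {a : A} {b : B} (ha : a ≠ 1)
    (hb : b ≠ 1) : φ (a, b) = 0 := by
  rw [eq_sum_om hA hB φ, Finset.sum_apply, Fintype.sum_prod_type]
  have h1 : ∀ i j, classInner φ (om i j) = classInner φ (om i 1) + classInner φ (om 1 j) -
      classInner φ (om 1 1) := by
    intro i j
    have := h i j
    simp only [classInner_add_right, classInner_sub_right] at this
    linear_combination this
  have h2 := sum_lc hA a
  have h3 := sum_lc hB b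
  rw [if_neg ha] at h2
  rw [if_neg hb] at h3
  have h4 : ∀ i j, (classInner φ (om i j) • om i j) (a, b) =
      (classInner φ (om i 1) * i a) * j b + i a * ((classInner φ (om 1 j) -
      classInner φ (om 1 1)) * j b) := by
    intro i j
    rw [h1]; simp only [Pi.smul_apply, om_apply, smul_eq_mul]; ring
  simp only [h4, Finset.sum_add_distrib, ← Finset.mul_sum, ← Finset.sum_mul, h2, h3, mul_zero,
    zero_mul, add_zero, Finset.sum_const_zero]

/-- A function orthogonal to all `ω_{ij} - ω_{1j}` vanishes at `(a, b)` with `a ≠ 1`. -/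
theorem eq_zero_of_orth_om_col [Fintype A] [Fintype B] (hA : ∀ a b : A, a * b = b * a)
    (hB : ∀ a b : B, a * b = b * a) {φ : A × B → ℂ}
    (h : ∀ i j, classInner φ (om i j) = classInner φ (om 1 j)) {a : A} (ha : a ≠ 1) (b : B) :
    φ (a, b) = 0 := by
  rw [eq_sum_om hA hB φ, Finset.sum_apply, Fintype.sum_prod_type]
  have h2 := sum_lc hA a
  rw [if_neg ha] at h2
  have h4 : ∀ i j, (classInner φ (om i j) • om i j) (a, b) =
      i a * (classInner φ (om 1 j) * j b) := by
    intro i j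
    rw [h]; simp only [Pi.smul_apply, om_apply, smul_eq_mul]; ring
  simp only [h4, ← Finset.mul_sum, ← Finset.sum_mul, h2, zero_mul]

section indHom

variable [Fintype G]

/-- Induction along an injective homomorphism. -/
noncomputable def indHom (f : W →* G) : (W → ℂ) →ₗ[ℂ] (G → ℂ) :=
  (indLin f.range).comp (LinearMap.funLeft ℂ ℂ fun x : f.range => Function.invFun f x)

theorem indHom_eq {f : W →* G} (hf : Function.Injective f) (α : W → ℂ) :
    indHom f α = indFun f.range fun x => α ((MonoidHom.ofInjective hf).symm x) := by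
  change indFun f.range (fun x : f.range => α (Function.invFun f x)) = _
  congr 1
  ext x
  obtain ⟨w, rfl⟩ := (MonoidHom.ofInjective hf).surjective x
  rw [MulEquiv.symm_apply_apply, MonoidHom.ofInjective_apply, Function.leftInverse_invFun hf]

theorem isClassFunction_indHom (f : W →* G) (α : W → ℂ) : IsClassFunction G (indHom f α) :=
  isClassFunction_indFun _ _

theorem frobenius_hom [Fintype W] {f : W →* G} (hf : Function.Injective f) (α : W → ℂ) {χ : G → ℂ}
    (hχ : IsClassFunction G χ) : classInner (indHom f α) χ = classInner α fun w => χ (f w) := by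
  have := Fintype.ofFinite f.range
  rw [indHom_eq hf, frobenius_left _ _ hχ, ← classInner_comp_equiv (MonoidHom.ofInjective hf)]
  simp only [MulEquiv.symm_apply_apply, MonoidHom.ofInjective_apply]

theorem frobenius_hom' [Fintype W] {f : W →* G} (hf : Function.Injective f) (α : W → ℂ) {χ : G → ℂ}
    (hχ : IsClassFunction G χ) : classInner χ (indHom f α) = classInner (fun w => χ (f w)) α := by
  rw [← conj_classInner, frobenius_hom hf α hχ, conj_classInner]

theorem isGen_indHom {f : W →* G} (hf : Function.Injective f) {α : W → ℂ}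
    (hα : IsGeneralizedCharacter W α) : IsGeneralizedCharacter G (indHom f α) := by
  rw [indHom_eq hf]
  exact (hα.comp (MonoidHom.ofInjective hf).symm.toMonoidHom).ind

theorem isCharacter_indHom {f : W →* G} (hf : Function.Injective f) {α : W → ℂ}
    (hα : IsCharacter W α) : IsCharacter G (indHom f α) := by
  rw [indHom_eq hf]
  exact (hα.comp (MonoidHom.ofInjective hf).symm.toMonoidHom).ind

theorem indHom_one {f : W →* G} (hf : Function.Injective f) (α : W → ℂ) :
    indHom f α 1 = f.range.index * α 1 := by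
  rw [indHom_eq hf, indFun_one, map_one]

theorem indHom_map (f : W →* G) (σ : ℂ →+* ℂ) (α : W → ℂ) :
    indHom f (fun w => σ (α w)) = fun g => σ (indHom f α g) := by
  ext g
  exact indFun_map f.range (fun x => α (Function.invFun f x)) σ g

theorem indHom_eq_zero {f : W →* G} (hf : Function.Injective f) (α : W → ℂ) {g : G}
    (h : ∀ x w, x * g * x⁻¹ = f w → α w = 0) : indHom f α g = 0 := by
  rw [indHom_eq hf]
  refine indFun_eq_zero _ _ _ fun x hx => h x _ ?_
  rw [← MonoidHom.ofInjective_apply hf, MulEquiv.apply_symm_apply]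

theorem indHom_apply_of_TI {f : W →* G} (hf : Function.Injective f) {α : W → ℂ}
    (hα : IsClassFunction W α) {u : W} (h : ∀ g : G, g * f u * g⁻¹ ∈ f.range → g ∈ f.range) :
    indHom f α (f u) = α u := by
  rw [indHom_eq hf, ← MonoidHom.ofInjective_apply hf]
  refine (indFun_apply_of_TI _ (hα.comp (MonoidHom.ofInjective hf).symm.toMonoidHom) _
    fun x hx hx' => absurd (h x hx') hx).trans ?_
  simp

theorem classInner_indHom_of_TI [Fintype W] {f : W →* G} (hf : Function.Injective f) {α β : W → ℂ}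
    (hβ : IsClassFunction W β)
    (h : ∀ u, α u ≠ 0 → ∀ g : G, g * f u * g⁻¹ ∈ f.range → g ∈ f.range) :
    classInner (indHom f α) (indHom f β) = classInner α β := by
  rw [frobenius_hom hf _ (isClassFunction_indHom f β), classInner, classInner]
  congr 1
  refine Finset.sum_congr rfl fun u _ => ?_
  by_cases hu : α u = 0
  · simp [hu]
  · rw [indHom_apply_of_TI hf hβ (h u hu)]

theorem indHom_subtype (K : Subgroup G) (α : K → ℂ) : indHom K.subtype α = indFun K α := by
  have := Fintype.ofFinite K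
  refine (isClassFunction_indHom _ _).ext_classInner (isClassFunction_indFun _ _) fun χ hχ => ?_
  rw [frobenius_hom K.subtype_injective _ hχ.isClassFunction, frobenius_left _ _ hχ.isClassFunction]
  rfl

theorem indHom_comp {L : Type*} [Group L] [Fintype L] {f : W →* L} (hf : Function.Injective f)
    {e : L →* G} (he : Function.Injective e) (α : W → ℂ) :
    indHom e (indHom f α) = indHom (e.comp f) α := by
  have := Finite.of_injective f hf
  have := Fintype.ofFinite W
  refine (isClassFunction_indHom _ _).ext_classInner (isClassFunction_indHom _ _) fun χ hχ => ?_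
  rw [frobenius_hom he _ hχ.isClassFunction, frobenius_hom hf _ (hχ.isClassFunction.comp e),
    frobenius_hom (f := e.comp f) (he.comp hf) _ hχ.isClassFunction]
  rfl

theorem indFun_indHom {L : Subgroup G} [Fintype L] {f : W →* L} (hf : Function.Injective f)
    (α : W → ℂ) : indFun L (indHom f α) = indHom (L.subtype.comp f) α := by
  rw [← indHom_subtype, indHom_comp hf L.subtype_injective]

theorem indHom_equiv {W' : Type*} [Group W'] {f : W →* G} (hf : Function.Injective f)
    (e : W' ≃* W) (α : W → ℂ) :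
    indHom (f.comp e.toMonoidHom) (fun w => α (e w)) = indHom f α := by
  have := Finite.of_injective f hf
  have := Fintype.ofFinite W
  have := Fintype.ofEquiv W e.symm.toEquiv
  refine (isClassFunction_indHom _ _).ext_classInner (isClassFunction_indHom _ _) fun χ hχ => ?_
  rw [frobenius_hom hf _ hχ.isClassFunction, frobenius_hom (f := f.comp e.toMonoidHom)
    (hf.comp e.injective) _ hχ.isClassFunction, ← classInner_comp_equiv e]
  rfl

end indHom

end Cfsg.Agent.Char
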