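import Cfsg.Agent.Lib.Char.Triple
import Cfsg.Agent.Lib.Solv.Cores
import Cfsg.Agent.Lib.Solv.SZ

/-!
Chief factors and characters: the going-down theorem, abelian factors, relative monomiality.
-/

set_option autoImplicit false

namespace Cfsg.Agent.Char

open scoped ComplexConjugate commutatorElement

universe u

variable {G : Type*} [Group G]

theorem commutator_le_subgroupOf {K L : Subgroup G} (h : ⁅K, K⁆ ≤ L) :
    commutator K ≤ L.subgroupOf K := by
  rw [← Subgroup.map_subtype_commutator] at h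
  exact Subgroup.map_le_iff_le_comap.1 h

theorem exists_chief_below [Finite G] {N K : Subgroup G} [hN : N.Normal] (h : N < K) :
    ∃ L : Subgroup G, L.Normal ∧ N ≤ L ∧ L < K ∧
      ∀ M : Subgroup G, M.Normal → L ≤ M → M ≤ K → M = L ∨ M = K := by
  obtain ⟨L, h1, h2, h3⟩ := Solv.exists_maximal_ge (P := fun L => L.Normal ∧ L < K) ⟨hN, h⟩
  refine ⟨L, h2.1, h1, h2.2, fun M h4 h5 h6 => ?_⟩
  rcases h6.lt_or_eq with h7 | h7
  exacts [Or.inl (h3 M ⟨h4, h7⟩ h5), Or.inr h7]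

theorem exists_chief_above [Finite G] {L N : Subgroup G} [hN : N.Normal] (h : L < N) :
    ∃ K : Subgroup G, K.Normal ∧ L < K ∧ K ≤ N ∧
      ∀ M : Subgroup G, M.Normal → L ≤ M → M ≤ K → M = L ∨ M = K := by
  obtain ⟨K, h1, h2, h3⟩ := Solv.exists_minimal_le (P := fun K => K.Normal ∧ L < K) ⟨hN, h⟩
  refine ⟨K, h2.1, h2.2, h1, fun M h4 h5 h6 => ?_⟩
  rcases h5.lt_or_eq with h7 | h7
  exacts [Or.inr (h3 M ⟨h4, h7⟩ h6), Or.inl h7.symm]

theorem chief_map_mk {K L : Subgroup G} [L.Normal]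
    (hchief : ∀ M : Subgroup G, M.Normal → L ≤ M → M ≤ K → M = L ∨ M = K) (hLK : L ≤ K)
    (M : Subgroup (G ⧸ L)) (hM : M.Normal) (h : M ≤ K.map (QuotientGroup.mk' L)) :
    M = ⊥ ∨ M = K.map (QuotientGroup.mk' L) := by
  have h1 : M.comap (QuotientGroup.mk' L) ≤ K := by
    have := Subgroup.comap_mono (f := QuotientGroup.mk' L) h
    rwa [Solv.comap_map_mk, sup_eq_left.2 hLK] at this
  rw [← Solv.map_comap_mk L M]
  rcases hchief _ inferInstance (Solv.le_comap_mk L M) h1 with h2 | h2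
  · exact Or.inl ((Solv.map_mk_eq_bot_iff L).2 h2.le)
  · exact Or.inr (by rw [h2])

/-- A solvable chief factor is an elementary abelian group. -/
theorem chief_elementary [Finite G] {K L : Subgroup G} [K.Normal] [L.Normal] (hLK : L < K)
    (hchief : ∀ M : Subgroup G, M.Normal → L ≤ M → M ≤ K → M = L ∨ M = K)
    (hs : Group.IsSolvable (G ⧸ L)) :
    ⁅K, K⁆ ≤ L ∧ ∃ p : ℕ, p.Prime ∧ (∀ x ∈ K, x ^ p ∈ L) ∧ ∃ k, L.relIndex K = p ^ k := by
  obtain ⟨h1, p, hp, h2⟩ := Solv.minimal_normal_elementary (K.map (QuotientGroup.mk' L))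
    inferInstance (fun h => hLK.not_ge ((Solv.map_mk_eq_bot_iff L).1 h))
    (chief_map_mk hchief hLK.le)
  have := Fact.mk hp
  refine ⟨Subgroup.commutator_le.2 fun a ha b hb => ?_, p, hp, fun x hx => ?_, ?_⟩
  · rw [← QuotientGroup.eq_one_iff]
    exact commutatorElement_eq_one_iff_mul_comm.2
      (Solv.isMulCommutative_iff.1 h1 _ ⟨a, ha, rfl⟩ _ ⟨b, hb, rfl⟩)
  · rw [← QuotientGroup.eq_one_iff]
    exact h2 _ ⟨x, hx, rfl⟩
  · rw [← Solv.card_map_mk_eq_relIndex]
    exact IsPGroup.iff_card.1 (Solv.isPGroup_of_pow_eq_one h2)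

theorem normal_of_commutator_le {K L T : Subgroup G} (hLT : L ≤ T) (hTK : T ≤ K)
    (hab : ⁅K, K⁆ ≤ L) {k t : G} (hk : k ∈ K) (ht : t ∈ T) : k * t * k⁻¹ ∈ T := by
  have h1 : k * t * k⁻¹ = ⁅k, t⁆ * t := by simp [commutatorElement_def]
  rw [h1]
  exact T.mul_mem (hLT (hab (Subgroup.commutator_mem_commutator hk (hTK ht)))) ht

/-- **Going-down theorem**. -/
theorem going_down [Fintype G] {K L : Subgroup G} [hK : K.Normal] [L.Normal] (hLK : L < K)
    (hchief : ∀ M : Subgroup G, M.Normal → L ≤ M → M ≤ K → M = L ∨ M = K) (hab : ⁅K, K⁆ ≤ L)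
    {θ : K → ℂ} (hθ : IsIrrCharacter K θ) (hinv : ∀ g, cj K g θ = θ) :
    IsIrrCharacter L (fun x : L => θ ⟨(x : G), hLK.le x.2⟩) ∨
    (∃ (φ : L → ℂ) (e : ℕ), IsIrrCharacter L φ ∧
      (fun x : L => θ ⟨(x : G), hLK.le x.2⟩) = (e : ℂ) • φ ∧ e ^ 2 = L.relIndex K) ∨
    (∃ F : Finset (L → ℂ), (∀ φ ∈ F, IsIrrCharacter L φ) ∧ F.card = L.relIndex K ∧
      (fun x : L => θ ⟨(x : G), hLK.le x.2⟩) = ∑ φ ∈ F, φ) := by
  classical
  rcases hθ.res_irr_or_vanish (commutator_le_subgroupOf hab) with h | ⟨U, h1, h2, h3⟩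
  · exact Or.inl ((isIrr_subgroupOf_iff hLK.le).1 h)
  right
  have := Fintype.ofFinite L
  have := Fintype.ofFinite K
  have := Fintype.ofFinite (L.subgroupOf K)
  have h4 : (U.map K.subtype).normalCore = L := by
    refine (hchief _ inferInstance (Subgroup.normal_le_normalCore.2 fun x hx =>
      Subgroup.mem_map.2 ⟨⟨x, hLK.le hx⟩, h2 hx, rfl⟩) ((Subgroup.normalCore_le _).trans
        (Subgroup.map_subtype_le _))).resolve_right fun h4 => h1 (top_unique fun x _ => ?_)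
    obtain ⟨y, h5, h6⟩ := Subgroup.normalCore_le _ (h4.ge x.2)
    exact (Subtype.ext h6 : y = x) ▸ h5
  have h5 : ∀ k : K, k ∉ L.subgroupOf K → θ k = 0 := fun k hk => by
    rw [Subgroup.mem_subgroupOf, ← h4] at hk
    obtain ⟨g, hg⟩ := not_forall.1 hk
    rw [← hinv g]
    exact h3 _ fun h => hg ⟨_, h, rfl⟩
  obtain ⟨φ, hφ, h6⟩ := (hθ.isCharacter.res_le hLK.le).exists_irr_constituent
    fun h => hθ.apply_one_ne_zero (congrFun h 1)
  have h7 : ∀ g, cj L g (fun x : L => θ ⟨(x : G), hLK.le x.2⟩) =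
      fun x : L => θ ⟨(x : G), hLK.le x.2⟩ := fun g => funext fun x =>
    congrFun (hinv g) ⟨x, hLK.le x.2⟩
  have hLT : L ≤ inertia L φ ⊓ K := le_inf (le_inertia hφ.isClassFunction) hLK.le
  have h8 : (inertia L φ ⊓ K).Normal := ⟨fun t ht g => ⟨by
    obtain ⟨k, hk, h9⟩ := hθ.exists_cj_of_under hLK.le hφ (hφ.cj g) h6
      (by rwa [← h7 g, classInner_cj])
    have h10 : g * t * g⁻¹ = (g * k⁻¹) * (k * t * k⁻¹) * (g * k⁻¹)⁻¹ := by group
    rw [h10]
    have h11 := cj_eq_cj_iff.1 h9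
    exact (inertia L φ).mul_mem ((inertia L φ).mul_mem h11
      (normal_of_commutator_le hLT inf_le_right hab hk ht).1) ((inertia L φ).inv_mem h11), hK.conj_mem t ht.2 g⟩⟩
  let e := Subgroup.subgroupOfEquivOfLe hLK.le
  rcases hchief _ h8 hLT inf_le_right with h9 | h9
  · right
    have hφ' := hφ.comp_equiv e
    have h10 : inertia (L.subgroupOf K) (fun x => φ (e x)) = L.subgroupOf K := by
      refine le_antisymm (fun k hk => h9.le ⟨?_, k.2⟩) (le_inertia hφ'.isClassFunction)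
      ext x
      exact congrFun hk (e.symm x)
    have h11 : classInner (fun x : L.subgroupOf K => θ x) (fun x => φ (e x)) ≠ 0 := by
      rw [← classInner_comp_equiv e] at h6; exact h6
    have h12 := hθ.clifford hφ' h11
    have h13 := hφ'.ind_of_inertia_le h10.le
    rw [← frobenius_right _ _ hθ.isClassFunction] at h11 h12
    rw [← hθ.eq_of_classInner_ne_zero h13 h11, hθ.classInner_self, one_smul] at h12
    have hinj : Function.Injective fun (ψ : L.subgroupOf K → ℂ) (x : L) => ψ (e.symm x) :=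
      fun ψ ψ' h => funext fun x => by simpa using congrFun h (e x)
    refine ⟨(cjOrbit (L.subgroupOf K) fun x => φ (e x)).image fun ψ x => ψ (e.symm x),
      fun ψ hψ => ?_, ?_, ?_⟩
    · obtain ⟨ψ, h14, rfl⟩ := Finset.mem_image.1 hψ
      exact (hφ'.of_mem_cjOrbit h14).comp_equiv e.symm
    · rw [Finset.card_image_of_injective _ hinj, card_cjOrbit, h10]; rfl
    · rw [Finset.sum_image hinj.injOn]
      ext x
      have := congrFun h12 (e.symm x)
      simp only [Finset.sum_apply] at this ⊢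
      exact this
  · left
    have h10 := hθ.res_le_eq_smul hLK.le hφ (h9.ge.trans inf_le_left) h6
    obtain ⟨m, hm⟩ := (hθ.isCharacter.res_le hLK.le).classInner_eq_nat hφ.isCharacter
    rw [hm] at h10
    exact ⟨φ, m, hφ, h10, (sq_eq_index_iff hθ (hφ.comp_equiv e)
      (funext fun x => congrFun h10 (e x))).2 h5⟩

section Normal

variable {N : Subgroup G} [hN : N.Normal]

/-- Over an abelian factor group, irreducible characters over the same character differ by a
linear character. -/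
theorem _root_.Cfsg.IsIrrCharacter.exists_eq_mul_of_comm [Finite G] [Fintype N] {ψ χ : G → ℂ}
    (hψ : IsIrrCharacter G ψ) (hχ : IsIrrCharacter G χ) (hab : commutator G ≤ N)
    (h : classInner (fun n : N => ψ n) (fun n : N => χ n) ≠ 0) :
    ∃ lam : G →* ℂˣ, (∀ n : N, lam n = 1) ∧ ψ = fun g => lam g * χ g := by
  classical
  have := Fintype.ofFinite G
  have h1 := coset_average (N := N) (hψ.isCharacter.mul hχ.isCharacter.conj).isClassFunction 1
  simp only [mul_one, Pi.mul_apply] at h1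
  obtain ⟨β, h2, h3⟩ := Finset.exists_ne_zero_of_sum_ne_zero (h1.symm.trans_ne h)
  have h4 : N ≤ charKer β.1 := by simpa using h2
  have h5 := β.2.apply_one_eq_one_iff.2 (hab.trans h4)
  obtain ⟨lam, h6⟩ := β.2.isCharacter.exists_units_of_apply_one h5
  refine ⟨lam, fun n => Units.ext ?_, ?_⟩
  · have := β.2.isCharacter.mem_charKer.1 (h4 n.2)
    rwa [h5, h6] at this
  · have h7 := left_ne_zero_of_mul h3
    change classInner (ψ * fun g => conj (χ g)) _ ≠ 0 at h7
    rw [← classInner_mul_right, mul_comm, h6] at h7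
    exact hψ.eq_of_classInner_ne_zero (hχ.mul_units lam) h7

/-- If the inertia quotient is abelian, all characters over `θ` have the same ramification. -/
theorem classInner_eq_of_inertia_comm [Finite G] [Fintype N] {θ : N → ℂ}
    (hθ : IsIrrCharacter N θ) (hab : ⁅inertia N θ, inertia N θ⁆ ≤ N) {ψ χ : G → ℂ}
    (hψ : IsIrrCharacter G ψ) (hχ : IsIrrCharacter G χ)
    (h : classInner (fun n : N => ψ n) θ ≠ 0) (h' : classInner (fun n : N => χ n) θ ≠ 0) :
    classInner (fun n : N => ψ n) θ = classInner (fun n : N => χ n) θ := by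
  have := Fintype.ofFinite G
  have hNT := le_inertia hθ.isClassFunction
  have := Fintype.ofFinite (N.subgroupOf (inertia N θ))
  obtain ⟨ψ', h1, -, h2⟩ := hθ.clifford_surj rfl hNT hψ h
  obtain ⟨χ', h3, -, h4⟩ := hθ.clifford_surj rfl hNT hχ h'
  rw [← h2] at h
  rw [← h4] at h'
  obtain ⟨lam, h5, h6⟩ := h1.exists_eq_mul_of_comm h3 (commutator_le_subgroupOf hab) (by
    have := (h1.isCharacter.res_le hNT).classInner_ne_zero_of_common (h3.isCharacter.res_le hNT)
      hθ h h'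
    rw [← classInner_subgroupOf hNT] at this
    exact this)
  rw [← h2, ← h4, h6]
  congr 1
  ext n
  have := h5 ⟨⟨n, hNT n.2⟩, n.2⟩
  simp only at this
  simp [this]

open Classical in
theorem indFun_eq_smul_sum [Fintype G] [Fintype N] {θ : N → ℂ} (hθ : IsIrrCharacter N θ) {e : ℕ}
    (h : ∀ χ, IsIrrCharacter G χ → classInner (fun n : N => χ n) θ ≠ 0 →
      classInner (fun n : N => χ n) θ = e) :
    ∃ C : Finset (G → ℂ), (∀ χ, χ ∈ C ↔ IsIrrCharacter G χ ∧ classInner (fun n : N => χ n) θ ≠ 0) ∧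
      e ^ 2 * C.card = N.relIndex (inertia N θ) ∧ indFun N θ = (e : ℂ) • ∑ χ ∈ C, χ ∧
      ∀ χ ∈ C, χ 1 = (inertia N θ).index * e * θ 1 := by
  let C : Finset (G → ℂ) := (Finset.univ.filter fun χ : IrrCharacter G =>
    classInner (fun n : N => χ.1 n) θ ≠ 0).image Subtype.val
  have h1 : ∀ χ, χ ∈ C ↔ IsIrrCharacter G χ ∧ classInner (fun n : N => χ n) θ ≠ 0 := fun χ => by
    simp [C, and_comm]
  have h2 : indFun N θ = (e : ℂ) • ∑ χ ∈ C, χ := by
    rw [(isClassFunction_indFun N θ).eq_sum, Finset.sum_image Subtype.val_injective.injOn,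
      Finset.smul_sum, Finset.sum_filter]
    refine Finset.sum_congr rfl fun χ _ => ?_
    rw [frobenius_left _ _ χ.2.isClassFunction,
      hθ.isCharacter.classInner_comm (χ.2.isCharacter.res N)]
    split_ifs with h3
    · rw [h _ χ.2 h3]
    · rw [not_not.1 h3, zero_smul]
  have h3 : ∀ χ ∈ C, χ 1 = (inertia N θ).index * e * θ 1 := fun χ hχ => by
    obtain ⟨h4, h5⟩ := (h1 χ).1 hχ
    rw [h4.clifford_degree hθ h5, h χ h4 h5]; ring
  refine ⟨C, h1, ?_, h2, h3⟩
  have h4 := congrFun h2 1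
  rw [indFun_one, Pi.smul_apply, Finset.sum_apply, Finset.sum_congr rfl h3, Finset.sum_const,
    ← Subgroup.relIndex_mul_index (le_inertia hθ.isClassFunction)] at h4
  have h5 : ((inertia N θ).index : ℂ) * θ 1 ≠ 0 :=
    mul_ne_zero (by exact_mod_cast Subgroup.FiniteIndex.index_ne_zero) hθ.apply_one_ne_zero
  have h6 : ((e ^ 2 * C.card : ℕ) : ℂ) = N.relIndex (inertia N θ) := by
    refine mul_right_cancel₀ h5 ?_
    simp only [smul_eq_mul, nsmul_eq_mul] at h4
    push_cast at h4 ⊢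
    linear_combination -h4
  exact_mod_cast h6

end Normal

/-- An irreducible character restricts irreducibly to a supplement of its centre. -/
theorem _root_.Cfsg.IsIrrCharacter.res_of_sup_charCenter [Finite G] {β : G → ℂ}
    (hβ : IsIrrCharacter G β) {H : Subgroup G}
    (h : ∀ g : G, ∃ z ∈ charCenter β, ∃ x ∈ H, g = z * x) : IsIrrCharacter H fun x : H => β x := by
  obtain ⟨n, ρ, hρ, rfl⟩ := hβ
  obtain ⟨h1, h2⟩ := (isIrreducible_iff ρ).1 hρ
  refine ⟨n, ρ.comp H.subtype, (isIrreducible_iff _).2 ⟨h1, fun U hU => h2 U fun g v hv => ?_⟩, rfl⟩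
  obtain ⟨z, hz, x, hx, rfl⟩ := h g
  rw [(isCharacter_rep ρ).mem_charCenter, Representation.char_one, Complex.norm_natCast,
    norm_character_eq_iff] at hz
  obtain ⟨ω, -, hω⟩ := hz
  rw [map_mul, hω]
  exact U.smul_mem ω (hU ⟨x, hx⟩ v hv)

theorem _root_.Cfsg.IsCharacter.exists_between' [Finite G] {χ : G → ℂ} (hχ : IsCharacter G χ)
    {T U : Subgroup G} [Fintype T] [Fintype U] (hTU : T ≤ U) {θ : T → ℂ}
    (h1 : classInner (fun n : T => χ n) θ ≠ 0) :
    ∃ ψ, IsIrrCharacter U ψ ∧ classInner (fun t : U => χ t) ψ ≠ 0 ∧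
      classInner (fun n : T => ψ ⟨n, hTU n.2⟩) θ ≠ 0 := by
  have h2 : (fun n : T => χ n) = ∑ ψ : IrrCharacter U, classInner (fun t : U => χ t) ψ •
      fun n : T => ψ.1 ⟨n, hTU n.2⟩ := by
    ext n
    simpa using (hχ.res U).isClassFunction.apply_eq_sum ⟨n, hTU n.2⟩
  rw [h2, classInner_sum_left] at h1
  obtain ⟨ψ, -, h3⟩ := Finset.exists_ne_zero_of_sum_ne_zero h1
  rw [classInner_smul_left] at h3
  exact ⟨ψ, ψ.2, left_ne_zero_of_mul h3, right_ne_zero_of_mul h3⟩

theorem _root_.Cfsg.IsCharacter.charCenter_le_of_constituent [Fintype G] {φ χ : G → ℂ}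
    (hφ : IsCharacter G φ) (hχ : IsIrrCharacter G χ) (h : classInner φ χ ≠ 0) :
    charCenter φ ≤ charCenter χ := fun z hz => by
  have h1 := hφ.sub_irr hχ h
  rw [hφ.mem_charCenter] at hz
  rw [hχ.isCharacter.mem_charCenter]
  have h2 := h1.norm_le z
  have h3 := hχ.isCharacter.norm_le z
  obtain ⟨a, ha⟩ := h1.exists_degree
  obtain ⟨b, hb⟩ := hχ.isCharacter.exists_degree
  have h4 : φ 1 = (a + b : ℕ) := by push_cast; rw [← ha, ← hb]; simp
  have h5 : ‖φ z‖ ≤ ‖(φ - χ) z‖ + ‖χ z‖ := by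
    simpa using norm_add_le ((φ - χ) z) (χ z)
  rw [ha] at h2
  rw [hb] at h3 ⊢
  rw [hz, h4] at h5
  simp only [Complex.norm_natCast] at *
  push_cast at h5
  linarith

/-- A character all of whose constituents coincide is homogeneous. -/
theorem _root_.Cfsg.IsCharacter.eq_smul_of_unique [Fintype G] {φ χ : G → ℂ} (hφ : IsCharacter G φ)
    (hχ : IsIrrCharacter G χ) (h : ∀ ψ, IsIrrCharacter G ψ → classInner φ ψ ≠ 0 → ψ = χ) :
    ∃ e : ℕ, φ = (e : ℂ) • χ := by
  obtain ⟨e, he⟩ := hφ.classInner_eq_nat hχ.isCharacter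
  refine ⟨e, hφ.isClassFunction.ext_classInner (hχ.isClassFunction.smul _) fun ψ hψ => ?_⟩
  rw [classInner_smul_left]
  by_cases h1 : ψ = χ
  · rw [h1, he, hχ.classInner_self, mul_one]
  · rw [hχ.classInner_of_ne hψ (Ne.symm h1), mul_zero]
    by_contra h2
    exact h1 (h ψ hψ h2)

theorem eq_of_constituent_of_smul [Fintype G] {χ ψ : G → ℂ} (hχ : IsIrrCharacter G χ)
    (hψ : IsIrrCharacter G ψ) {e : ℂ} (h : classInner (e • χ) ψ ≠ 0) : ψ = χ := by
  rw [classInner_smul_left] at h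
  exact (hχ.eq_of_classInner_ne_zero hψ (right_ne_zero_of_mul h)).symm

/-- A character that is not homogeneous on a normal subgroup is induced from a proper subgroup. -/
theorem _root_.Cfsg.IsIrrCharacter.exists_ind_of_not_homogeneous [Fintype G] {χ : G → ℂ}
    (hχ : IsIrrCharacter G χ) (N : Subgroup G) [N.Normal]
    (h : ¬ ∃ (φ : N → ℂ) (e : ℕ), IsIrrCharacter N φ ∧ (fun n : N => χ n) = (e : ℂ) • φ) :
    ∃ (T : Subgroup G) (ψ : T → ℂ), T ≠ ⊤ ∧ N ≤ T ∧ IsIrrCharacter T ψ ∧ indFun T ψ = χ := by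
  have := Fintype.ofFinite N
  obtain ⟨φ, hφ, h1⟩ := hχ.exists_irr_under N
  obtain ⟨ψ, h2, h3, -⟩ := hφ.clifford_surj rfl (le_inertia hφ.isClassFunction) hχ h1
  refine ⟨_, ψ, fun h4 => h ?_, le_inertia hφ.isClassFunction, h2, h3⟩
  obtain ⟨e, he⟩ := (hχ.isCharacter.res N).classInner_eq_nat hφ.isCharacter
  exact ⟨φ, e, hφ, he ▸ hχ.res_eq_smul_of_invariant hφ (inertia_eq_top_iff.1 h4) h1⟩

/-- Gallagher's theorem inside an intermediate subgroup. -/
theorem gallagher_le [Finite G] {N T : Subgroup G} [N.Normal] [Fintype N] (hNT : N ≤ T)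
    {φ : N → ℂ} {χ : T → ℂ} (hφ : IsIrrCharacter N φ) (hφinv : ∀ g ∈ T, cj N g φ = φ)
    (hχ : IsCharacter T χ) (hprod : IsIrrCharacter N (φ * fun n : N => χ ⟨n, hNT n.2⟩)) :
    Set.BijOn (fun β : T → ℂ => β * χ)
      {β | IsIrrCharacter T β ∧ classInner (fun n : N => β ⟨n, hNT n.2⟩) φ ≠ 0}
      {ψ | IsIrrCharacter T ψ ∧
        classInner (fun n : N => ψ ⟨n, hNT n.2⟩) (φ * fun n : N => χ ⟨n, hNT n.2⟩) ≠ 0} := by
  have := Fintype.ofFinite T
  have := Fintype.ofFinite (N.subgroupOf T)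
  let e := Subgroup.subgroupOfEquivOfLe hNT
  have h := gallagher (N := N.subgroupOf T) (hφ.comp_equiv e)
    (fun g => funext fun n => congrFun (hφinv g g.2) (e n)) hχ (hprod.comp_equiv e)
  convert h using 2
  · ext β
    rw [← classInner_comp_equiv e]; rfl
  · ext β
    rw [← classInner_comp_equiv e]; rfl

theorem index_lt_of_lt [Finite G] {H K : Subgroup G} (h : H < K) : K.index < H.index := by
  have h1 := Solv.card_lt_of_lt h
  have h2 := H.card_mul_index
  have h3 := K.card_mul_index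
  have h4 : 0 < K.index := Nat.pos_of_ne_zero Subgroup.FiniteIndex.index_ne_zero
  by_contra h5
  have := Nat.mul_lt_mul_of_lt_of_le h1 (not_lt.1 h5) (by omega)
  omega

theorem exists_ind_coatom [Fintype G] {H : Subgroup G} (hH : H ≠ ⊤) {θ : H → ℂ}
    (hθ : IsCharacter H θ) : ∃ (M : Subgroup G) (ψ : M → ℂ), IsCoatom M ∧ H ≤ M ∧
      IsCharacter M ψ ∧ indFun M ψ = indFun H θ := by
  obtain ⟨M, h1, h2⟩ := Solv.exists_coatom_ge hH
  have := Fintype.ofFinite M
  exact ⟨M, _, h1, h2, (hθ.comp (Subgroup.subgroupOfEquivOfLe h2).toMonoidHom).ind,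
    indFun_trans h2 θ⟩

end Cfsg.Agent.Char
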