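import Cfsg.Agent.Lib.Char.CycTI
import Cfsg.Agent.Lib.Solv.PGrp

/-!
Translation between self-normalising cyclic pairs of subgroups and the abstract cyclic TI set-up.
-/

set_option autoImplicit false

namespace Cfsg.Agent.Char

open scoped ComplexConjugate

variable {G : Type*} [Group G] {W₁ W₂ : Subgroup G}

/-- The product map of two commuting subgroups. -/
def prodHom (hc : ∀ a ∈ W₁, ∀ b ∈ W₂, a * b = b * a) : W₁ × W₂ →* G :=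
  W₁.subtype.noncommCoprod W₂.subtype fun a b => hc a a.2 b b.2

@[simp] theorem prodHom_apply (hc : ∀ a ∈ W₁, ∀ b ∈ W₂, a * b = b * a) (a : W₁) (b : W₂) :
    prodHom hc (a, b) = a * b := rfl

theorem prodHom_injective (hc : ∀ a ∈ W₁, ∀ b ∈ W₂, a * b = b * a) (hd : W₁ ⊓ W₂ = ⊥) :
    Function.Injective (prodHom hc) := by
  rw [injective_iff_map_eq_one]
  rintro ⟨a, b⟩ h
  rw [prodHom_apply, mul_eq_one_iff_eq_inv] at h
  have h1 : (a : G) = 1 := Subgroup.mem_bot.1 (hd ▸ ⟨a.2, h ▸ W₂.inv_mem b.2⟩)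
  rw [h1, eq_comm, inv_eq_one] at h
  exact Prod.ext (Subtype.ext h1) (Subtype.ext h)

theorem range_prodHom (hc : ∀ a ∈ W₁, ∀ b ∈ W₂, a * b = b * a) : (prodHom hc).range = W₁ ⊔ W₂ := by
  refine le_antisymm ?_ (sup_le (fun a ha => ⟨(⟨a, ha⟩, 1), by simp⟩)
    fun a ha => ⟨(1, ⟨a, ha⟩), by simp⟩)
  rintro _ ⟨⟨a, b⟩, rfl⟩
  exact Subgroup.mul_mem_sup a.2 b.2

/-- The internal direct product as an isomorphism. -/
noncomputable def prodEquiv (hc : ∀ a ∈ W₁, ∀ b ∈ W₂, a * b = b * a) (hd : W₁ ⊓ W₂ = ⊥) :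
    W₁ × W₂ ≃* (W₁ ⊔ W₂ : Subgroup G) :=
  (MonoidHom.ofInjective (prodHom_injective hc hd)).trans (MulEquiv.subgroupCongr (range_prodHom hc))

@[simp] theorem coe_prodEquiv (hc : ∀ a ∈ W₁, ∀ b ∈ W₂, a * b = b * a) (hd : W₁ ⊓ W₂ = ⊥)
    (w : W₁ × W₂) : (prodEquiv hc hd w : G) = prodHom hc w := rfl

theorem mul_mem_left_iff (hd : W₁ ⊓ W₂ = ⊥) (a : W₁) (b : W₂) : (a : G) * b ∈ W₁ ↔ b = 1 := by
  refine ⟨fun h => Subtype.ext (Subgroup.mem_bot.1 (hd ▸ ⟨?_, b.2⟩)), fun h => by simp [h]⟩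
  exact (W₁.mul_mem_cancel_left a.2).1 h

theorem mul_mem_right_iff (hd : W₁ ⊓ W₂ = ⊥) (a : W₁) (b : W₂) : (a : G) * b ∈ W₂ ↔ a = 1 := by
  refine ⟨fun h => Subtype.ext (Subgroup.mem_bot.1 (hd ▸ ⟨a.2, ?_⟩)), fun h => by simp [h]⟩
  exact (W₂.mul_mem_cancel_right b.2).1 h

theorem indFun_sup_eq [Fintype G] (hc : ∀ a ∈ W₁, ∀ b ∈ W₂, a * b = b * a) (hd : W₁ ⊓ W₂ = ⊥)
    (α : (W₁ ⊔ W₂ : Subgroup G) → ℂ) :
    indFun (W₁ ⊔ W₂) α = indHom (prodHom hc) fun w => α (prodEquiv hc hd w) := by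
  rw [← indHom_subtype, ← indHom_equiv (Subgroup.subtype_injective _) (prodEquiv hc hd)]
  rfl

/-- First component of a linear character of `W₁ ⊔ W₂`. -/
def resL (ω : (W₁ ⊔ W₂ : Subgroup G) →* ℂˣ) : W₁ →* ℂˣ := ω.comp (Subgroup.inclusion le_sup_left)

/-- Second component of a linear character of `W₁ ⊔ W₂`. -/
def resR (ω : (W₁ ⊔ W₂ : Subgroup G) →* ℂˣ) : W₂ →* ℂˣ := ω.comp (Subgroup.inclusion le_sup_right)

theorem om_res (hc : ∀ a ∈ W₁, ∀ b ∈ W₂, a * b = b * a) (hd : W₁ ⊓ W₂ = ⊥)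
    (ω : (W₁ ⊔ W₂ : Subgroup G) →* ℂˣ) (w : W₁ × W₂) :
    om (resL ω) (resR ω) w = ω (prodEquiv hc hd w) := by
  rw [om_apply, ← Units.val_mul, resL, resR, MonoidHom.comp_apply, MonoidHom.comp_apply, ← map_mul]
  rfl

/-- Linear characters of an internal direct product. -/
noncomputable def resEquiv (hc : ∀ a ∈ W₁, ∀ b ∈ W₂, a * b = b * a) (hd : W₁ ⊓ W₂ = ⊥) :
    ((W₁ ⊔ W₂ : Subgroup G) →* ℂˣ) ≃ (W₁ →* ℂˣ) × (W₂ →* ℂˣ) :=
  Equiv.ofBijective (fun ω => (resL ω, resR ω)) ⟨fun ω ω' h => by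
    ext w
    obtain ⟨w, rfl⟩ := (prodEquiv hc hd).surjective w
    rw [← om_res hc hd, ← om_res hc hd, (Prod.mk.inj h).1, (Prod.mk.inj h).2],
    fun ⟨i, j⟩ => ⟨(i.coprod j).comp (prodEquiv hc hd).symm.toMonoidHom, by
      refine Prod.ext ?_ ?_
      · ext a
        have : (prodEquiv hc hd).symm (Subgroup.inclusion le_sup_left a) = (a, 1) :=
          (MulEquiv.symm_apply_eq _).2 (Subtype.ext (by simp))
        simp [resL, this]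
      · ext a
        have : (prodEquiv hc hd).symm (Subgroup.inclusion le_sup_right a) = (1, a) :=
          (MulEquiv.symm_apply_eq _).2 (Subtype.ext (by simp))
        simp [resR, this]⟩⟩

theorem res_eq_iff (hc : ∀ a ∈ W₁, ∀ b ∈ W₂, a * b = b * a) (hd : W₁ ⊓ W₂ = ⊥)
    {ω ω' : (W₁ ⊔ W₂ : Subgroup G) →* ℂˣ} : resL ω = resL ω' ∧ resR ω = resR ω' ↔ ω = ω' :=
  Prod.ext_iff.symm.trans (resEquiv hc hd).injective.eq_iff

theorem exists_res (hc : ∀ a ∈ W₁, ∀ b ∈ W₂, a * b = b * a) (hd : W₁ ⊓ W₂ = ⊥)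
    (i : W₁ →* ℂˣ) (j : W₂ →* ℂˣ) :
    ∃ ω : (W₁ ⊔ W₂ : Subgroup G) →* ℂˣ, resL ω = i ∧ resR ω = j := by
  obtain ⟨ω, h⟩ := (resEquiv hc hd).surjective (i, j)
  exact ⟨ω, Prod.ext_iff.1 h⟩

theorem resL_mul (ω ω' : (W₁ ⊔ W₂ : Subgroup G) →* ℂˣ) : resL (ω * ω') = resL ω * resL ω' := rfl

theorem resR_mul (ω ω' : (W₁ ⊔ W₂ : Subgroup G) →* ℂˣ) : resR (ω * ω') = resR ω * resR ω' := rfl

theorem resL_eq_iff {ω ω' : (W₁ ⊔ W₂ : Subgroup G) →* ℂˣ} :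
    resL ω = resL ω' ↔ ∀ w : (W₁ ⊔ W₂ : Subgroup G), (w : G) ∈ W₁ → ω w = ω' w :=
  ⟨fun h w hw => DFunLike.congr_fun h ⟨w, hw⟩, fun h => MonoidHom.ext fun a => h _ a.2⟩

theorem resR_eq_iff {ω ω' : (W₁ ⊔ W₂ : Subgroup G) →* ℂˣ} :
    resR ω = resR ω' ↔ ∀ w : (W₁ ⊔ W₂ : Subgroup G), (w : G) ∈ W₂ → ω w = ω' w :=
  ⟨fun h w hw => DFunLike.congr_fun h ⟨w, hw⟩, fun h => MonoidHom.ext fun a => h _ a.2⟩

theorem coprime_of_isCyclic_sup [Finite G] (h : IsCyclic (W₁ ⊔ W₂ : Subgroup G))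
    (hd : W₁ ⊓ W₂ = ⊥) (hc : ∀ a ∈ W₁, ∀ b ∈ W₂, a * b = b * a) :
    (Nat.card W₁).Coprime (Nat.card W₂) := by
  have : IsCyclic (W₁ × W₂) := (prodEquiv hc hd).symm.isCyclic.1 h
  exact coprime_card_of_isCyclic_prod W₁ W₂

theorem mem_of_conj_mem_sup [Finite G] (hW : IsSelfNormalizingCyclic W₁ W₂) {v : G}
    (hv : v ∈ W₁ ⊔ W₂) (h1 : v ∉ W₁) (h2 : v ∉ W₂) {g : G} (hg : g * v * g⁻¹ ∈ W₁ ⊔ W₂) :
    g ∈ W₁ ⊔ W₂ := by
  obtain ⟨-, -, -, -, hc, hN⟩ := hW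
  have h3 : Subgroup.zpowers (g * v * g⁻¹) = Subgroup.zpowers v := by
    refine Solv.eq_of_isCyclic_of_card_eq hc (Subgroup.zpowers_le.2 hg) (Subgroup.zpowers_le.2 hv) ?_
    rw [Nat.card_zpowers, Nat.card_zpowers]
    exact (MulAut.conj g).orderOf_eq v
  rw [← hN {x | Subgroup.zpowers x = Subgroup.zpowers v} ?_ ⟨v, rfl⟩]
  · have h4 : ∀ x, Subgroup.zpowers (g * x * g⁻¹) =
        (Subgroup.zpowers x).map (MulAut.conj g).toMonoidHom := fun x => by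
      rw [MonoidHom.map_zpowers]; rfl
    rw [Subgroup.mem_set_normalizer_iff]
    intro x
    simp only [Set.mem_setOf_eq]
    conv_rhs => rw [← h3, h4, h4]
    exact (Subgroup.map_injective (MulAut.conj g).injective).eq_iff.symm
  · intro x hx
    have h4 : v ∈ Subgroup.zpowers x := hx ▸ Subgroup.mem_zpowers v
    have h5 : x ∈ Subgroup.zpowers v := hx ▸ Subgroup.mem_zpowers x
    exact ⟨Subgroup.zpowers_le.2 hv h5, fun h => h.elim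
      (fun h => h1 (Subgroup.zpowers_le.2 h h4)) fun h => h2 (Subgroup.zpowers_le.2 h h4)⟩

theorem cycTI_of_selfNormalizing [Finite G] (hW : IsSelfNormalizingCyclic W₁ W₂)
    (hodd : Odd (Nat.card (W₁ ⊔ W₂ : Subgroup G))) : CycTI (prodHom hW.2.2.2.1) where
  inj := prodHom_injective _ hW.2.2.1
  cycA := by
    have := hW.2.2.2.2.1
    exact isCyclic_of_injective (Subgroup.inclusion (le_sup_left : W₁ ≤ W₁ ⊔ W₂))
      (Subgroup.inclusion_injective _)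
  cycB := by
    have := hW.2.2.2.2.1
    exact isCyclic_of_injective (Subgroup.inclusion (le_sup_right : W₂ ≤ W₁ ⊔ W₂))
      (Subgroup.inclusion_injective _)
  oddA := hodd.of_dvd_nat (Subgroup.card_dvd_of_le le_sup_left)
  oddB := hodd.of_dvd_nat (Subgroup.card_dvd_of_le le_sup_right)
  coprime := coprime_of_isCyclic_sup hW.2.2.2.2.1 hW.2.2.1 hW.2.2.2.1
  ntA := (Subgroup.one_lt_card_iff_ne_bot _).2 hW.1
  ntB := (Subgroup.one_lt_card_iff_ne_bot _).2 hW.2.1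
  ti a b ha hb g hg := by
    rw [range_prodHom] at hg ⊢
    exact mem_of_conj_mem_sup hW (Subgroup.mul_mem_sup a.2 b.2)
      (mt (mul_mem_left_iff hW.2.2.1 a b).1 hb) (mt (mul_mem_right_iff hW.2.2.1 a b).1 ha) hg

theorem selfNormalizing_of_TI [Finite G] (h1 : W₁ ≠ ⊥) (h2 : W₂ ≠ ⊥) (hd : W₁ ⊓ W₂ = ⊥)
    (hc : ∀ a ∈ W₁, ∀ b ∈ W₂, a * b = b * a) (hcyc : IsCyclic (W₁ ⊔ W₂ : Subgroup G))
    (hti : ∀ v ∈ W₁ ⊔ W₂, v ∉ W₁ → v ∉ W₂ → ∀ g : G, g * v * g⁻¹ ∈ W₁ ⊔ W₂ → g ∈ W₁ ⊔ W₂) :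
    IsSelfNormalizingCyclic W₁ W₂ := by
  refine ⟨h1, h2, hd, hc, hcyc, fun X hX ⟨v, hv⟩ => le_antisymm (fun g hg => ?_) fun g hg => ?_⟩
  · exact hti v (hX hv).1 (fun h => (hX hv).2 (Or.inl h)) (fun h => (hX hv).2 (Or.inr h)) g
      (hX ((Subgroup.mem_set_normalizer_iff.1 hg v).1 hv)).1
  · have h3 : ∀ x ∈ W₁ ⊔ W₂, g * x * g⁻¹ = x := fun x hx => by
      rw [mul_inv_eq_iff_eq_mul]
      exact congrArg Subtype.val (comm_of_isCyclic hcyc ⟨g, hg⟩ ⟨x, hx⟩)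
    rw [Subgroup.mem_set_normalizer_iff]
    refine fun x => ⟨fun h => by rwa [h3 x (hX h).1], fun h => ?_⟩
    rwa [h3 x (by simpa [mul_assoc] using (W₁ ⊔ W₂).mul_mem ((W₁ ⊔ W₂).mul_mem
      ((W₁ ⊔ W₂).inv_mem hg) (hX h).1) hg)] at h

theorem cycFam_of_family [Fintype G] (hW : IsSelfNormalizingCyclic W₁ W₂)
    (hodd : Odd (Nat.card (W₁ ⊔ W₂ : Subgroup G)))
    {χ : ((W₁ ⊔ W₂ : Subgroup G) →* ℂˣ) → G → ℂ} (hχ : IsCyclicTIFamily W₁ W₂ χ) :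
    ∃ η, CycFam (prodHom hW.2.2.2.1) η ∧ ∀ ω, χ ω = η (resL ω) (resR ω) := by
  obtain ⟨η, h⟩ := (cycTI_of_selfNormalizing hW hodd).exists_fam
  refine ⟨η, h, fun ω => h.eq_of_dirr (hχ.irr_or_neg ω) fun a b ha hb => ?_⟩
  exact (hχ.eq_on ω (prodEquiv hW.2.2.2.1 hW.2.2.1 (a, b)) (mt (mul_mem_left_iff hW.2.2.1 a b).1 hb)
    (mt (mul_mem_right_iff hW.2.2.1 a b).1 ha)).trans (om_res _ _ ω (a, b)).symm

theorem CycFam.family [Fintype G] {hc : ∀ a ∈ W₁, ∀ b ∈ W₂, a * b = b * a} (hd : W₁ ⊓ W₂ = ⊥)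
    {η : (W₁ →* ℂˣ) → (W₂ →* ℂˣ) → G → ℂ} (h : CycFam (prodHom hc) η) :
    IsCyclicTIFamily W₁ W₂ fun ω => η (resL ω) (resR ω) where
  irr_or_neg ω := h.dirr _ _
  orthonormal ω ω' := by
    rw [h.orth]
    exact if_congr (res_eq_iff hc hd) rfl rfl
  map_one := h.one
  eq_on ω w h1 h2 := by
    obtain ⟨⟨a, b⟩, rfl⟩ := (prodEquiv hc hd).surjective w
    rw [← om_res hc hd, coe_prodEquiv]
    exact h.eq_on _ _ a b (mt (mul_mem_right_iff hd a b).2 h2) (mt (mul_mem_left_iff hd a b).2 h1)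
  induced_eq φ ψ _ _ h1 h2 := by
    have h3 : resR φ = 1 := (resR_eq_iff (ω' := 1)).2 h1
    have h4 : resL ψ = 1 := (resL_eq_iff (ω' := 1)).2 h2
    rw [indFun_sup_eq hc hd, resL_mul, resR_mul, h3, h4, lc_mul_one, lc_one_mul]
    refine Eq.trans (congrArg _ (funext fun w => ?_)) (h.ind_alpha (resL φ) (resR ψ))
    simp only [← om_res hc hd, h3, h4]
    simp

end Cfsg.Agent.Char
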