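import Cfsg.Agent.Lib.Char.PermLemma
import Cfsg.Agent.Lib.Char.Elem

/-!
Assorted consequences: kernels of induced characters, counting characters, congruences,
class multiplication coefficients.
-/

set_option autoImplicit false

namespace Cfsg.Agent.Char

open scoped ComplexConjugate

variable {G : Type*} [Group G]

theorem mem_charKer_indFun_iff [Fintype G] {H : Subgroup G} {φ : H → ℂ} (hφ : IsCharacter H φ)
    (h0 : φ ≠ 0) {g : G} :
    g ∈ charKer (indFun H φ) ↔ ∀ x : G, ∃ h : x * g * x⁻¹ ∈ H, φ ⟨_, h⟩ = φ 1 := by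
  rw [hφ.ind.mem_charKer, indFun_apply', indFun_apply', mul_right_inj' (inv_ne_zero (card_ne_zero' H))]
  have h1 : extendByZero H φ 1 = φ 1 := extendByZero_coe H φ 1
  simp only [mul_one, mul_inv_cancel, h1]
  constructor
  · intro h x
    obtain ⟨d, hd⟩ := hφ.exists_degree
    have hd0 : d ≠ 0 := by
      rintro rfl
      exact h0 (hφ.eq_zero_of_apply_one (by simpa using hd))
    have h2 : ∀ y, ‖extendByZero H φ y‖ ≤ d := fun y => by
      rw [extendByZero_eq]
      split_ifs
      · simpa [hd] using hφ.norm_le _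
      · simp
    have h3 := congrArg Complex.re h
    rw [Complex.re_sum, Complex.re_sum] at h3
    have h4 := (Finset.sum_eq_sum_iff_of_le fun y _ => by
      simpa [hd] using (Complex.re_le_norm _).trans (h2 _)).1 h3 x (Finset.mem_univ _)
    rw [hd, Complex.natCast_re] at h4
    have h5 : extendByZero H φ (x * g * x⁻¹) = d := by
      have h6 := Complex.abs_re_eq_norm.1 (le_antisymm (Complex.abs_re_le_norm _)
        ((h2 (x * g * x⁻¹)).trans (h4 ▸ le_abs_self _)))
      exact Complex.ext (by simpa using h4) (by simpa using h6)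
    by_cases hx : x * g * x⁻¹ ∈ H
    · exact ⟨hx, by rw [← extendByZero_of_mem H φ hx, h5, hd]⟩
    · rw [extendByZero_of_not_mem _ _ hx] at h5
      exact absurd (by exact_mod_cast h5.symm) hd0
  · intro h
    refine Finset.sum_congr rfl fun x _ => ?_
    obtain ⟨h1, h2⟩ := h x
    rw [extendByZero_of_mem _ _ h1, h2]

theorem charKer_indFun_le [Fintype G] {H : Subgroup G} {φ : H → ℂ} (hφ : IsCharacter H φ)
    (h0 : φ ≠ 0) : charKer (indFun H φ) ≤ H := fun g hg => by
  simpa using ((mem_charKer_indFun_iff hφ h0).1 hg 1).1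

theorem le_charKer_indFun [Fintype G] {H N : Subgroup G} [hN : N.Normal] (hNH : N ≤ H)
    {φ : H → ℂ} (hφ : IsCharacter H φ) (h : ∀ x : H, (x : G) ∈ N → φ x = φ 1) :
    N ≤ charKer (indFun H φ) := fun g hg => by
  by_cases h0 : φ = 0
  · subst h0; simp [mem_charKer]
  · exact (mem_charKer_indFun_iff hφ h0).2 fun x =>
      ⟨hNH (hN.conj_mem g hg x), h _ (hN.conj_mem g hg x)⟩

theorem _root_.Cfsg.IsIrrCharacter.classInner_res_one_eq_zero [Finite G] {χ : G → ℂ}
    (hχ : IsIrrCharacter G χ) {N : Subgroup G} [N.Normal] [Fintype N] (h : ¬ N ≤ charKer χ) :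
    classInner (fun n : N => χ n) (fun _ => 1) = 0 := by
  have := Fintype.ofFinite G
  by_contra h1
  exact h (hχ.le_charKer_of_over_one h1)

theorem _root_.Cfsg.IsIrrCharacter.sum_mul_eq_zero [Finite G] {χ : G → ℂ}
    (hχ : IsIrrCharacter G χ) {N : Subgroup G} [hN : N.Normal] [Fintype N] (h : ¬ N ≤ charKer χ)
    (x : G) : ∑ n : N, χ (n * x) = 0 := by
  have := Fintype.ofFinite G
  have h1 : IsClassFunction G (extendByZero N fun _ => 1) := fun g y => by
    by_cases hg : g ∈ N
    · rw [extendByZero_of_mem _ _ hg, extendByZero_of_mem _ _ (hN.conj_mem g hg y)]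
    · rw [extendByZero_of_not_mem _ _ hg, extendByZero_of_not_mem _ _
        fun h => hg (by simpa [mul_assoc] using hN.conj_mem _ h y⁻¹)]
  have h2 := hχ.sum_mul_apply_mul h1 x
  rw [sum_extendByZero_mul N _ (fun g => χ (g * x)), sum_extendByZero_mul] at h2
  have h3 := hχ.classInner_res_one_eq_zero h
  rw [classInner_one_right, mul_eq_zero, or_iff_right (inv_ne_zero (card_ne_zero' N))] at h3
  simpa [h3] using h2

/-- The degree of a constituent of the restriction to a normal subgroup divides the degree. -/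
theorem _root_.Cfsg.IsIrrCharacter.degree_dvd_of_under [Finite G] {χ : G → ℂ}
    (hχ : IsIrrCharacter G χ) {N : Subgroup G} [N.Normal] [Fintype N] {θ : N → ℂ}
    (hθ : IsIrrCharacter N θ) (h : classInner (fun n : N => χ n) θ ≠ 0) {c d : ℕ} (hc : χ 1 = c)
    (hd : θ 1 = d) : d ∣ c := by
  have := Fintype.ofFinite G
  have h1 := hχ.clifford_degree hθ h
  obtain ⟨e, he⟩ := (hχ.isCharacter.res N).classInner_eq_nat hθ.isCharacter
  rw [he, hc, hd] at h1
  exact ⟨e * (inertia N θ).index, by rw [mul_comm]; exact_mod_cast h1⟩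

theorem _root_.Cfsg.IsIrrCharacter.degree_le_index_mul [Finite G] {χ : G → ℂ}
    (hχ : IsIrrCharacter G χ) {H : Subgroup G} [Fintype H] {θ : H → ℂ} (hθ : IsCharacter H θ)
    {e c d : ℕ} (h : classInner (fun n : H => χ n) θ = e) (hc : χ 1 = c) (hd : θ 1 = d) :
    e * c ≤ H.index * d := by
  have := Fintype.ofFinite G
  refine hθ.ind.mul_degree_le hχ ?_ hc (by rw [indFun_one, hd]; simp)
  rw [← conj_classInner, frobenius_right _ _ hχ.isClassFunction, h, map_natCast]

theorem card_irr_le_charKer [Finite G] {G' : Type*} [Group G'] (f : G →* G')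
    (hf : Function.Surjective f) :
    Nat.card {χ : IrrCharacter G // f.ker ≤ charKer (χ : G → ℂ)} = Nat.card (IrrCharacter G') := by
  refine (Nat.card_eq_of_bijective (fun ψ : IrrCharacter G' =>
    (⟨⟨fun g => ψ.1 (f g), ψ.2.comp_surjective f hf⟩, fun x hx y => by
      simp [MonoidHom.mem_ker.1 hx]⟩ : {χ : IrrCharacter G // f.ker ≤ charKer (χ : G → ℂ)}))
    ⟨fun a b h => ?_, fun χ => ?_⟩).symm
  · ext x
    obtain ⟨y, rfl⟩ := hf x
    exact congrFun (congrArg (fun z => z.1.1) h) y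
  · obtain ⟨ψ, h1, h2⟩ := χ.1.2.exists_descend f hf χ.2
    exact ⟨⟨ψ, h1⟩, Subtype.ext (Subtype.ext (funext h2))⟩

theorem card_irr_not_le_charKer [Finite G] {N : Subgroup G} [N.Normal]
    (hC : ∀ n ∈ N, n ≠ 1 → Subgroup.centralizer ({n} : Set G) ≤ N) :
    Nat.card {χ : IrrCharacter G // ¬ N ≤ charKer (χ : G → ℂ)} * N.index + 1 =
      Nat.card (IrrCharacter N) := by
  classical
  have := Fintype.ofFinite G
  have := Fintype.ofFinite N
  have h1 : ∀ θ ∈ (Finset.univ : Finset (IrrCharacter N)).erase (irrOne N),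
      θ.1 ≠ fun _ => 1 := fun θ h h' => (Finset.mem_erase.1 h).1 (Subtype.ext h')
  have h2 := Finset.card_eq_sum_card_fiberwise
    (s := (Finset.univ : Finset (IrrCharacter N)).erase (irrOne N))
    (t := (Finset.univ.filter fun χ : IrrCharacter G => ¬ N ≤ charKer (χ : G → ℂ)).map
      (Function.Embedding.subtype _)) (f := fun θ => indFun N θ.1) (fun θ hθ => by
        have h3 := θ.2.ind_of_centralizer_le hC (h1 θ hθ)
        refine Finset.mem_map.2 ⟨⟨_, h3⟩, Finset.mem_filter.2 ⟨Finset.mem_univ _, fun h => ?_⟩, rfl⟩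
        refine h1 θ hθ (θ.2.eq_one_of_forall fun n => ?_)
        simpa using ((mem_charKer_indFun_iff θ.2.isCharacter θ.2.ne_zero).1 (h n.2) 1).2)
  rw [Finset.sum_map, Finset.sum_congr rfl (g := fun _ => N.index), Finset.sum_const, smul_eq_mul,
    Finset.card_erase_of_mem (Finset.mem_univ _)] at h2
  · rw [Nat.card_eq_fintype_card, Fintype.card_subtype, ← h2, Nat.card_eq_fintype_card,
      Finset.card_univ, Nat.sub_add_cancel Fintype.card_pos]
  intro χ hχ
  obtain ⟨θ, hθ, h3, h4⟩ := χ.2.exists_eq_ind_of_centralizer_le hC (Finset.mem_filter.1 hχ).2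
  rw [← congrArg Subgroup.index (le_antisymm (inertia_le_of_centralizer_le hC hθ h3)
    (le_inertia hθ.isClassFunction)), ← card_cjOrbit]
  refine Finset.card_bij (fun φ _ => φ.1) (fun φ hφ => ?_) (fun _ _ _ _ h => Subtype.ext h)
    fun φ hφ => ?_
  · exact hθ.mem_cjOrbit_of_ind_eq φ.2 ((Finset.mem_filter.1 hφ).2.trans h4)
  · obtain ⟨g, rfl⟩ := mem_cjOrbit.1 hφ
    refine ⟨⟨_, hθ.cj g⟩, Finset.mem_filter.2 ⟨Finset.mem_erase.2 ⟨fun h => h3 ?_,
      Finset.mem_univ _⟩, (indFun_cj g θ).trans h4.symm⟩, rfl⟩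
    exact cj_injective g (congrArg Subtype.val h)

theorem index_dvd_card_sub_one [Finite G] {N : Subgroup G} [hN : N.Normal]
    (hC : ∀ n ∈ N, n ≠ 1 → Subgroup.centralizer ({n} : Set G) ≤ N) :
    N.index ∣ Nat.card N - 1 := by
  classical
  have := Fintype.ofFinite G
  have := Fintype.ofFinite (ConjClasses G)
  have h1 : Nat.card N - 1 = ((Finset.univ.filter (· ∈ N)).erase 1).card := by
    rw [Finset.card_erase_of_mem (by simp), Nat.card_eq_fintype_card, Fintype.card_subtype]
  rw [h1, Finset.card_eq_sum_card_fiberwise (t := Finset.univ) (f := ConjClasses.mk)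
    (fun _ _ => Finset.mem_univ _)]
  refine Finset.dvd_sum fun C _ => ?_
  rcases (((Finset.univ.filter (· ∈ N)).erase 1).filter
    fun g => ConjClasses.mk g = C).eq_empty_or_nonempty with h | ⟨x, hx⟩
  · rw [h]; simp
  simp only [Finset.mem_filter, Finset.mem_erase, Finset.mem_univ, true_and] at hx
  obtain ⟨⟨h2, h3⟩, rfl⟩ := hx
  refine (Subgroup.index_dvd_of_le (hC x h3 h2)).trans (dvd_of_eq ?_)
  rw [← card_isConj_eq_index, Nat.card_eq_fintype_card, Fintype.card_subtype]
  refine congrArg Finset.card ?_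
  ext y
  simp only [Finset.mem_filter, Finset.mem_erase, Finset.mem_univ, true_and,
    ConjClasses.mk_eq_mk_iff_isConj]
  refine ⟨fun h => ⟨⟨?_, ?_⟩, h.symm⟩, fun h => h.2.symm⟩
  · rintro rfl; exact h2 (isConj_one_left.1 h)
  · obtain ⟨g, rfl⟩ := isConj_iff.1 h; exact hN.conj_mem x h3 g

theorem coprime_card_index_of_centralizer_le [Finite G] {N : Subgroup G} [N.Normal]
    (hC : ∀ n ∈ N, n ≠ 1 → Subgroup.centralizer ({n} : Set G) ≤ N) :
    (Nat.card N).Coprime N.index := by
  refine Nat.Coprime.coprime_dvd_right (index_dvd_card_sub_one hC) ?_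
  have := Nat.card_pos (α := N)
  rw [Nat.coprime_self_sub_right this]; simp

/-- Congruence of character values modulo `1 - ε`. -/
theorem _root_.Cfsg.IsGeneralizedCharacter.exists_sub_eq_mul [Finite G] {χ : G → ℂ}
    (hχ : IsGeneralizedCharacter G χ) {x y : G} (hxy : Commute x y) {n : ℕ} (hn : x ^ n = 1)
    {ε : ℂ} (hε : IsPrimitiveRoot ε n) (hn0 : n ≠ 0) :
    ∃ ω : ℂ, IsIntegral ℤ ω ∧ χ (x * y) - χ y = (1 - ε) * ω := by
  have key : ∀ χ : G → ℂ, IsCharacter G χ →
      ∃ ω : ℂ, IsIntegral ℤ ω ∧ χ (x * y) - χ y = (1 - ε) * ω := by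
    intro χ hχ
    let A := Subgroup.closure ({x, y} : Set G)
    have hA : IsMulCommutative A := Subgroup.isMulCommutative_closure (by
      rintro a (rfl | rfl) b (rfl | rfl)
      exacts [rfl, hxy.eq, hxy.eq.symm, rfl])
    obtain ⟨s, -, hs⟩ := (hχ.res A).exists_multiset_units hA.1.1
    let x' : A := ⟨x, Subgroup.subset_closure (by simp)⟩
    let y' : A := ⟨y, Subgroup.subset_closure (by simp)⟩
    rw [show χ (x * y) = _ from hs (x' * y'), show χ y = _ from hs y']
    clear hs
    induction s using Multiset.induction_on with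
    | empty => exact ⟨0, isIntegral_zero, by simp⟩
    | cons lam s ih =>
      obtain ⟨ω, h1, h2⟩ := ih
      have : NeZero n := ⟨hn0⟩
      obtain ⟨i, -, hi⟩ := hε.eq_pow_of_pow_eq_one (ξ := (lam x' : ℂ)) (by
        rw [← Units.val_pow_eq_pow_val, ← map_pow, show x' ^ n = 1 from Subtype.ext hn]; simp)
      have h3 : IsIntegral ℤ ε := hε.isIntegral (Nat.pos_of_ne_zero hn0)
      refine ⟨ω - (∑ j ∈ Finset.range i, ε ^ j) * lam y', h1.sub
        ((IsIntegral.sum _ fun j _ => h3.pow j).mul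
          ((isIrrCharacter_units lam).isCharacter.isIntegral _)), ?_⟩
      simp only [Multiset.map_cons, Multiset.sum_cons]
      rw [add_sub_add_comm, h2, map_mul, Units.val_mul, ← hi, mul_sub, ← mul_assoc,
        mul_neg_geom_sum]
      ring
  obtain ⟨a, b, ha, hb, rfl⟩ := hχ
  obtain ⟨ω, h1, h2⟩ := key a ha
  obtain ⟨ω', h1', h2'⟩ := key b hb
  exact ⟨ω - ω', h1.sub h1', by simp only [Pi.sub_apply]; linear_combination h2 - h2'⟩

theorem prime_dvd_of_eq_one_sub_mul {p k : ℕ} (hp : p.Prime) {ε ω : ℂ} (hε : ε ^ p ^ k = 1)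
    (hω : IsIntegral ℤ ω) {n : ℤ} (h : (n : ℂ) = (1 - ε) * ω) : (p : ℤ) ∣ n := by
  have h1 : IsIntegral ℤ ε :=
    IsIntegral.of_pow (pow_pos hp.pos k) (hε ▸ isIntegral_one)
  let e : integralClosure ℤ ℂ := ⟨ε, h1⟩
  obtain ⟨r, hr⟩ := exists_add_pow_prime_pow_eq hp (1 - e) e k
  have h2 := congrArg (fun z : integralClosure ℤ ℂ => (z : ℂ)) hr
  simp only [sub_add_cancel, one_pow, OneMemClass.coe_one, AddMemClass.coe_add,
    SubmonoidClass.coe_pow, AddSubgroupClass.coe_sub, MulMemClass.coe_mul,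
    SubringClass.coe_natCast, e, hε] at h2
  refine (Nat.prime_iff_prime_int.1 hp).dvd_of_dvd_pow (n := p ^ k)
    (int_dvd_of_isIntegral_div (by exact_mod_cast hp.ne_zero) ?_)
  have h3 : ((n ^ p ^ k : ℤ) : ℂ) / (p : ℤ) = -((1 - ε) * ε * r) * ω ^ p ^ k := by
    have : (p : ℂ) ≠ 0 := by exact_mod_cast hp.ne_zero
    push_cast
    rw [h, mul_pow, div_eq_iff this]
    linear_combination (-ω ^ p ^ k) * h2
  rw [h3]
  exact (((isIntegral_one.sub h1).mul h1).mul r.2).neg.mul (hω.pow _)

/-- If `x` is a `p`-element commuting with `y` and `χ (x y) - χ y` is an integer then it is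
divisible by `p`. -/
theorem _root_.Cfsg.IsGeneralizedCharacter.prime_dvd_of_sub_eq [Finite G] {χ : G → ℂ}
    (hχ : IsGeneralizedCharacter G χ) {p k : ℕ} (hp : p.Prime) {x y : G} (hxy : Commute x y)
    (hx : x ^ p ^ k = 1) {n : ℤ} (h : χ (x * y) - χ y = n) : (p : ℤ) ∣ n := by
  have h0 := pow_ne_zero k hp.ne_zero
  obtain ⟨ω, h1, h2⟩ := hχ.exists_sub_eq_mul hxy hx (Complex.isPrimitiveRoot_exp _ h0) h0
  exact prime_dvd_of_eq_one_sub_mul hp (Complex.isPrimitiveRoot_exp _ h0).pow_eq_one h1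
    (h.symm.trans h2)

theorem _root_.Cfsg.IsCharacter.ne_zero_of_not_dvd [Finite G] {χ : G → ℂ}
    (hχ : IsCharacter G χ) {p k d : ℕ} (hp : p.Prime) {x : G} (hx : x ^ p ^ k = 1)
    (hd : χ 1 = d) (h : ¬ p ∣ d) : χ x ≠ 0 := fun h0 => by
  have := hχ.isGen.prime_dvd_of_sub_eq hp (Commute.one_right x) hx (n := -d) (by simp [h0, hd])
  exact h (Int.natCast_dvd_natCast.1 ((Int.dvd_neg).1 this))

theorem sum_classInd_mul_mul [Fintype G] {χ : G → ℂ} (hχ : IsIrrCharacter G χ) (a b : G) :
    ∑ x, ∑ y, classInd a x * classInd b y * χ (x * y) =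
      (Subgroup.centralizer ({a} : Set G)).index * (Subgroup.centralizer ({b} : Set G)).index *
        (χ a * χ b / χ 1) := by
  rw [Finset.sum_comm]
  have : ∀ y, ∑ x, classInd a x * classInd b y * χ (x * y) =
      (Subgroup.centralizer ({a} : Set G)).index * χ a / χ 1 * (classInd b y * χ y) := fun y => by
    simp only [mul_comm (classInd a _) (classInd b y), mul_assoc, ← Finset.mul_sum]
    rw [hχ.sum_mul_apply_mul (isClassFunction_classInd a), sum_classInd_mul a hχ.isClassFunction]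
    ring
  simp only [this, ← Finset.mul_sum, sum_classInd_mul b hχ.isClassFunction]
  ring

open Classical in
theorem sum_card_class_mul [Fintype G] (a b : G) (φ : G → ℂ) :
    ∑ c, (Nat.card {p : G × G // IsConj a p.1 ∧ IsConj b p.2 ∧ p.1 * p.2 = c} : ℂ) * φ c =
      ∑ x, ∑ y, classInd a x * classInd b y * φ (x * y) := by
  simp only [Nat.card_eq_fintype_card, Fintype.card_subtype, Finset.card_filter, Nat.cast_sum,
    Finset.sum_mul, Fintype.sum_prod_type]
  rw [Finset.sum_comm]
  refine Finset.sum_congr rfl fun x _ => ?_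
  rw [Finset.sum_comm]
  refine Finset.sum_congr rfl fun y _ => ?_
  rw [Finset.sum_eq_single (x * y) (fun c _ hc => by simp [hc.symm]) (by simp)]
  by_cases h1 : IsConj a x <;> by_cases h2 : IsConj b y <;> simp [classInd, h1, h2, -isConj_iff]

theorem isClassFunction_card_class_mul (a b : G) : IsClassFunction G
    fun c => (Nat.card {p : G × G // IsConj a p.1 ∧ IsConj b p.2 ∧ p.1 * p.2 = c} : ℂ) := by
  intro c x
  have h : ∀ u v : G, IsConj u v ↔ IsConj u (x * v * x⁻¹) := fun u v =>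
    ⟨fun h => h.trans (isConj_iff.2 ⟨x, rfl⟩), fun h => h.trans (isConj_iff.2 ⟨x, rfl⟩).symm⟩
  refine congrArg Nat.cast (Nat.card_congr (((MulAut.conj x).toEquiv.prodCongr
    (MulAut.conj x).toEquiv).subtypeEquiv fun p => and_congr (h _ _) (and_congr (h _ _) ?_)).symm)
  rw [← (MulAut.conj x).injective.eq_iff, map_mul]; rfl

/-- Class multiplication coefficients. -/
theorem card_class_mul [Finite G] (a b c : G) :
    (Nat.card {p : G × G // IsConj a p.1 ∧ IsConj b p.2 ∧ p.1 * p.2 = c} : ℂ) =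
      (Subgroup.centralizer ({a} : Set G)).index * (Subgroup.centralizer ({b} : Set G)).index /
        Nat.card G * ∑ χ : IrrCharacter G, χ.1 a * χ.1 b * conj (χ.1 c) / χ.1 1 := by
  have := Fintype.ofFinite G
  have h2 := congrArg conj ((isClassFunction_card_class_mul a b).apply_eq_sum c)
  rw [map_natCast, map_sum] at h2
  rw [h2, Finset.mul_sum]
  refine Finset.sum_congr rfl fun χ _ => ?_
  rw [map_mul, conj_classInner, classInner]
  simp only [map_natCast, fun g (z : ℕ) => mul_comm (χ.1 g) z]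
  rw [sum_card_class_mul, sum_classInd_mul_mul χ.2]
  ring

end Cfsg.Agent.Char
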