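import Cfsg.Agent.Lib.Char.Triple
import Cfsg.Agent.Lib.Char.CycBridge
import Cfsg.Agent.Lib.Char.Misc

/-!
The Glauberman correspondence: the cyclic case.
-/

set_option autoImplicit false

namespace Cfsg.Agent.Char

open scoped ComplexConjugate

universe u

theorem isCharacter_classInner_prod {A B : Type*} [Group A] [Group B] [Fintype A] [Finite B]
    {Θ : A × B → ℂ} (hΘ : IsCharacter (A × B) Θ) {β : A → ℂ} (hβ : IsCharacter A β) :
    IsCharacter B fun b => classInner (fun a => Θ (a, b)) β := by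
  have := Fintype.ofFinite B
  refine IsClassFunction.isCharacter_of_nat (fun b h => ?_) fun γ hγ => ?_
  · congr 1
    ext a
    have := hΘ.apply_conj (a, b) (1, h)
    simpa using this
  · obtain ⟨n, hn⟩ := hΘ.classInner_eq_nat
      ((hβ.comp (MonoidHom.fst A B)).mul (hγ.isCharacter.comp (MonoidHom.snd A B)))
    refine ⟨n, hn ▸ ?_⟩
    simp only [classInner, Nat.card_prod, Fintype.sum_prod_type_right, Pi.mul_apply, map_mul,
      MonoidHom.coe_fst, MonoidHom.coe_snd, Finset.mul_sum, Finset.sum_mul, Nat.cast_mul, mul_inv]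
    refine Finset.sum_congr rfl fun b _ => Finset.sum_congr rfl fun a _ => by ring

theorem _root_.Cfsg.IsCharacter.detChar_map_ringHom {G : Type*} [Group G] [Finite G] {χ : G → ℂ}
    (h : IsCharacter G χ) (σ : ℂ →+* ℂ) (g : G) :
    detChar (fun g => σ (χ g)) g = σ (detChar χ g) := by
  obtain ⟨n, ρ, rfl⟩ := h
  let τ : Representation ℂ G (Fin n → ℂ) :=
    (Matrix.toLinAlgEquiv' (R := ℂ) (n := Fin n)).toMonoidHom.comp
      ((σ.mapMatrix (m := Fin n)).toMonoidHom.comp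
        ((LinearMap.toMatrixAlgEquiv' (R := ℂ) (n := Fin n)).toMonoidHom.comp ρ))
  have h1 : ∀ g, τ g = Matrix.toLin' ((LinearMap.toMatrix' (ρ g)).map σ) := fun _ => rfl
  have h2 : τ.character = fun g => σ (ρ.character g) := by
    ext g
    simp only [Representation.character, h1, Matrix.trace_toLin'_eq]
    rw [← AddMonoidHom.map_trace, LinearMap.trace_eq_matrix_trace ℂ (Pi.basisFun ℂ (Fin n))]
    simp
  rw [← h2, detChar_rep, detChar_rep, h1, LinearMap.det_toLin', ← LinearMap.det_toMatrix',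
    RingHom.map_det]
  rfl

theorem _root_.Cfsg.IsCharacter.detOrder_map_dvd {G : Type*} [Group G] [Finite G] {χ : G → ℂ}
    (h : IsCharacter G χ) (σ : ℂ →+* ℂ) : detOrder (fun g => σ (χ g)) ∣ detOrder χ := by
  refine orderOf_dvd_of_pow_eq_one ?_
  ext g
  have := congrFun (pow_orderOf_eq_one (detChar χ)) g
  simp only [Pi.pow_apply, Pi.one_apply] at this ⊢
  rw [h.detChar_map_ringHom, ← map_pow]
  unfold detOrder
  rw [this, map_one]

theorem _root_.Cfsg.IsCharacter.detOrder_comp_dvd {G H : Type*} [Group G] [Finite G] [Group H]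
    [Finite H] {χ : G → ℂ} (h : IsCharacter G χ) (f : H →* G) :
    detOrder (fun x => χ (f x)) ∣ detOrder χ := by
  refine orderOf_dvd_of_pow_eq_one ?_
  ext g
  have := congrFun (pow_orderOf_eq_one (detChar χ)) (f g)
  simp only [Pi.pow_apply, Pi.one_apply] at this ⊢
  rw [h.detChar_comp]
  exact this

variable {Γ : Type u} [Group Γ] {N : Subgroup Γ} [hN : N.Normal]

theorem avg_coset {D : Subgroup Γ} [Fintype N] [Fintype D] (hDN : D ≤ N) {u : Γ}
    (hu : ∀ d ∈ D, u * d * u⁻¹ ∈ D)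
    (h : ∀ g ∈ N, ∀ d ∈ D, ∀ d' ∈ D, g * (d * u) * g⁻¹ = d' * u → g ∈ D) {F : Γ → ℂ}
    (hF : ∀ g ∈ N, ∀ x, F (g * x * g⁻¹) = F x) :
    (Nat.card N : ℂ)⁻¹ * ∑ n : N, F (n * u) = (Nat.card D : ℂ)⁻¹ * ∑ d : D, F (d * u) := by
  classical
  let φ : N × D → N := fun x => ⟨x.1 * x.2 * (u * (x.1 : Γ)⁻¹ * u⁻¹),
    N.mul_mem (N.mul_mem x.1.2 (hDN x.2.2)) (hN.conj_mem _ (N.inv_mem x.1.2) u)⟩
  have hφ : ∀ x, (φ x : Γ) * u = x.1 * (x.2 * u) * (x.1 : Γ)⁻¹ := fun x => by
    simp only [φ]; group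
  have hfib : ∀ b ∈ Finset.univ.image φ,
      (Finset.univ.filter fun a => φ a = b).card = Fintype.card D := by
    intro b hb
    obtain ⟨⟨g, d⟩, -, rfl⟩ := Finset.mem_image.1 hb
    symm
    refine Finset.card_bij (fun k _ => (g * ⟨k, hDN k.2⟩, k⁻¹ * d * ⟨_, hu k k.2⟩)) ?_ ?_ ?_
    · intro k _
      simp only [Finset.mem_filter, Finset.mem_univ, true_and]
      ext; simp only [φ, Subgroup.coe_mul, Subgroup.coe_inv]; group
    · intro k _ k' _ hk
      have := congrArg (fun x : N × D => (x.1 : Γ)) hk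
      simp only [Subgroup.coe_mul, mul_right_inj] at this
      exact Subtype.ext this
    · rintro ⟨g', d'⟩ hb
      simp only [Finset.mem_filter, Finset.mem_univ, true_and] at hb
      have h1 := hφ (g', d')
      rw [hb, hφ] at h1
      have h2 : ((g : Γ)⁻¹ * g') * (d' * u) * ((g : Γ)⁻¹ * g')⁻¹ = d * u := by
        calc _ = (g : Γ)⁻¹ * (g' * (d' * u) * (g' : Γ)⁻¹) * g := by group
          _ = _ := by rw [← h1]; group
      have h3 := h _ (N.mul_mem (N.inv_mem g.2) g'.2) _ d'.2 _ d.2 h2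
      refine ⟨⟨_, h3⟩, Finset.mem_univ _, ?_⟩
      ext
      · simp
      · simp only [Subgroup.coe_mul, Subgroup.coe_inv]
        calc _ = ((g : Γ)⁻¹ * g')⁻¹ * (d * u) * ((g : Γ)⁻¹ * g') * u⁻¹ := by group
          _ = _ := by rw [← h2]; group
  have key : ∀ f : N → ℂ, ∑ a, f (φ a) = ∑ b ∈ Finset.univ.image φ, Fintype.card D * f b := by
    intro f
    rw [Finset.sum_comp]
    exact Finset.sum_congr rfl fun b hb => by rw [hfib b hb, nsmul_eq_mul]
  have hD : (Fintype.card D : ℂ) ≠ 0 := by simp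
  have hNc : (Fintype.card N : ℂ) ≠ 0 := by simp
  have him : Finset.univ.image φ = Finset.univ := by
    apply Finset.eq_univ_of_card
    have := key fun _ => 1
    simp only [Finset.sum_const, Finset.card_univ, Fintype.card_prod, nsmul_eq_mul, mul_one,
      Nat.cast_mul] at this
    exact_mod_cast (mul_right_cancel₀ hD this).symm
  have h1 := key fun n => F (n * u)
  rw [him, ← Finset.mul_sum, Fintype.sum_prod_type] at h1
  simp only [hφ, hF _ (Subtype.prop _), Finset.sum_const, Finset.card_univ, nsmul_eq_mul] at h1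
  simp only [Nat.card_eq_fintype_card]
  field_simp
  rw [h1, mul_comm]

omit hN in
theorem exists_pow_split [Finite Γ] {x : Γ} (hx : (Nat.card N).Coprime (orderOf x)) :
    ∃ n : ℕ, x ^ n = x ∧ ∀ c ∈ N, c ^ n = 1 := by
  obtain ⟨n, h1, h2⟩ := Nat.chineseRemainder hx 0 1
  refine ⟨n, ?_, fun c hc => ?_⟩
  · conv_rhs => rw [← pow_one x]
    exact pow_eq_pow_iff_modEq.2 h2
  · refine orderOf_dvd_iff_pow_eq_one.1 ?_
    exact (N.orderOf_dvd_natCard hc).trans ((Nat.modEq_zero_iff_dvd).1 h1)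

omit hN in
theorem conj_eq_of_split [Finite Γ] {x : Γ} (hx : (Nat.card N).Coprime (orderOf x)) {g c c' : Γ}
    (hc : c ∈ N) (hc' : c' ∈ N) (h1 : c * x = x * c) (h2 : c' * x = x * c')
    (h : g * (c * x) * g⁻¹ = c' * x) : g * x = x * g := by
  obtain ⟨n, hn, hn'⟩ := exists_pow_split hx
  have := congrArg (· ^ n) h
  simp only [conj_pow] at this
  rw [Commute.mul_pow h1, Commute.mul_pow h2, hn, hn' c hc, one_mul] at this
  rw [hn' c' hc', one_mul] at this
  exact mul_inv_eq_iff_eq_mul.1 this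

theorem avg_coset_cent [Finite Γ] {C : Subgroup Γ} [Fintype N] [Fintype C] {x : Γ}
    (hx : (Nat.card N).Coprime (orderOf x)) (hC : ∀ g, g ∈ C ↔ g ∈ N ∧ g * x = x * g) {F : Γ → ℂ}
    (hF : IsClassFunction Γ F) :
    (Nat.card N : ℂ)⁻¹ * ∑ n : N, F (n * x) = (Nat.card C : ℂ)⁻¹ * ∑ d : C, F (d * x) := by
  refine avg_coset (fun g hg => ((hC g).1 hg).1) (fun d hd => ?_) (fun g hg d hd d' hd' h => ?_)
    fun g _ y => hF y g
  · rwa [← ((hC d).1 hd).2, mul_inv_cancel_right]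
  · exact (hC g).2 ⟨hg, conj_eq_of_split hx ((hC d).1 hd).1 ((hC d').1 hd').1 ((hC d).1 hd).2
      ((hC d').1 hd').2 h⟩

/-- A canonical extension. -/
structure IsCan (N : Subgroup Γ) (ξ : Γ → ℂ) : Prop where
  irr : IsIrrCharacter Γ ξ
  res : IsIrrCharacter N fun n : N => ξ n
  cop : N.index.Coprime (detOrder ξ)

theorem exists_isCan [Finite Γ] (hcop : N.index.Coprime (Nat.card N)) {θ : N → ℂ}
    (hθ : IsIrrCharacter N θ) (hinv : ∀ g, cj N g θ = θ) :
    ∃ ξ, (IsCan N ξ ∧ ∀ n : N, ξ n = θ n) ∧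
      ∀ ξ', IsCan N ξ' → (∀ n : N, ξ' n = θ n) → ξ' = ξ := by
  obtain ⟨d, -, hd⟩ := hθ.exists_degree
  have h1 : N.index.Coprime (detOrder θ) :=
    hcop.coprime_dvd_right hθ.isCharacter.detOrder_dvd_card
  obtain ⟨ξ, ⟨h2, h3, h4⟩, h5⟩ := hθ.exists_canonical_ext hinv hd
    (Nat.Coprime.mul_right h1 (hcop.coprime_dvd_right (hθ.degree_dvd_card hd)))
  refine ⟨ξ, ⟨⟨h2, ?_, h4 ▸ h1⟩, h3⟩, fun ξ' h h' => h5 ξ' h.irr h' h.cop⟩
  simpa only [h3] using hθ

theorem IsCan.eq [Finite Γ] (hcop : N.index.Coprime (Nat.card N)) {ξ ξ' : Γ → ℂ} (h : IsCan N ξ)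
    (h' : IsCan N ξ') (he : ∀ n : N, ξ n = ξ' n) : ξ = ξ' := by
  obtain ⟨η, -, hη⟩ := exists_isCan hcop h'.res (cj_res h'.irr.isClassFunction)
  rw [hη ξ h he, hη ξ' h' fun _ => rfl]

theorem IsCan.gal [Finite Γ] (hcop : N.index.Coprime (Nat.card N)) {ξ : Γ → ℂ} (h : IsCan N ξ)
    (σ : ℂ →+* ℂ) (hσ : ∀ z : ℂ, z ^ Nat.card N = 1 → σ z = z) (g : Γ) : σ (ξ g) = ξ g := by
  have he : ∀ n : N, σ (ξ n) = ξ n := fun n => by
    have := h.res.isCharacter.ringHom_apply σ (k := 1) n fun z hz => by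
      rw [pow_one]; exact hσ z (pow_eq_one_of_orderOf_dvd (orderOf_dvd_natCard n) hz)
    simpa using this
  refine congrFun (IsCan.eq hcop ⟨h.irr.map_ringHom σ, ?_, ?_⟩ h he) g
  · exact h.res.map_ringHom σ
  · exact h.cop.coprime_dvd_right (h.irr.isCharacter.detOrder_map_dvd σ)

theorem IsCan.apply_pow [Finite Γ] (hcop : N.index.Coprime (Nat.card N)) {ξ : Γ → ℂ}
    (h : IsCan N ξ) {x c : Γ} (hx : (Nat.card N).Coprime (orderOf x)) (hc : c ∈ N)
    (hcx : c * x = x * c) {k : ℕ} (hk : k.Coprime (orderOf x)) : ξ (c * x ^ k) = ξ (c * x) := by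
  obtain ⟨m, h1, h2⟩ := Nat.chineseRemainder hx 1 k
  have hm : m.Coprime (Nat.card N * orderOf x) := by
    refine Nat.Coprime.mul_right ?_ ?_
    · exact (Nat.coprime_iff_gcd_eq_one.2 (by rw [h1.gcd_eq]; simp))
    · exact (Nat.coprime_iff_gcd_eq_one.2 (by rw [h2.gcd_eq]; exact hk))
  obtain ⟨σ, hσ⟩ := exists_ringEquiv_pow
    (mul_ne_zero Nat.card_pos.ne' (orderOf_pos x).ne') hm
  have h3 := h.gal hcop σ.toRingHom (fun z hz => by
    have := hσ z (by rw [pow_mul, hz, one_pow])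
    refine this.trans ?_
    conv_rhs => rw [← pow_one z]
    rw [← Nat.mod_add_div m (Nat.card N), ← Nat.mod_add_div 1 (Nat.card N), pow_add, pow_add,
      pow_mul, pow_mul, hz, one_pow, one_pow, h1]) (c * x)
  rw [← h3, h.irr.isCharacter.ringHom_apply σ.toRingHom (k := m) (c * x) fun z hz => hσ z
    (pow_eq_one_of_orderOf_dvd ((Commute.orderOf_mul_dvd_mul_orderOf hcx).trans
      (mul_dvd_mul_right (N.orderOf_dvd_natCard hc) _)) hz), Commute.mul_pow hcx]
  congr 2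
  · conv_lhs => rw [← pow_one c]
    exact pow_eq_pow_iff_modEq.2 (h1.symm.of_dvd (N.orderOf_dvd_natCard hc))
  · exact pow_eq_pow_iff_modEq.2 h2.symm

omit hN in
theorem isCharacter_psi [Finite Γ] {C S : Subgroup Γ} [Fintype C]
    (hCS : ∀ a ∈ C, ∀ b ∈ S, a * b = b * a) {Θ : Γ → ℂ} (hΘ : IsCharacter Γ Θ) {β : C → ℂ}
    (hβ : IsCharacter C β) :
    IsCharacter S fun y : S => classInner (fun c : C => Θ (c * y)) β :=
  isCharacter_classInner_prod (hΘ.comp (prodHom hCS)) hβ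

section
variable [Finite Γ] {C : Subgroup Γ} {x : Γ}

omit hN in
theorem comm_zpowers (hC : ∀ g, g ∈ C ↔ g ∈ N ∧ g * x = x * g) :
    ∀ a ∈ C, ∀ b ∈ Subgroup.zpowers x, a * b = b * a := by
  rintro a ha _ ⟨k, rfl⟩
  exact (Commute.zpow_right ((hC a).1 ha).2 k).eq

omit hN in
theorem isClassFunction_mul_cent (hC : ∀ g, g ∈ C ↔ g ∈ N ∧ g * x = x * g) {F : Γ → ℂ}
    (hF : IsClassFunction Γ F) : IsClassFunction C fun c : C => F (c * x) := by
  intro c d
  show F _ = F _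
  rw [← hF (c * x) d]
  congr 1
  have := ((hC d⁻¹).1 (C.inv_mem d.2)).2
  simp only [Subgroup.coe_mul, Subgroup.coe_inv, mul_assoc, this]

theorem IsCan.exists_int [Fintype C] (hcop : N.index.Coprime (Nat.card N)) {ξ : Γ → ℂ}
    (h : IsCan N ξ) (hx : (Nat.card N).Coprime (orderOf x))
    (hC : ∀ g, g ∈ C ↔ g ∈ N ∧ g * x = x * g) {β : C → ℂ} (hβ : IsCharacter C β) :
    ∃ n : ℤ, classInner (fun c : C => ξ (c * x)) β = n := by
  refine (isCharacter_psi (comm_zpowers hC) h.irr.isCharacter hβ).isGen.exists_int_of_forall_pow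
    ⟨x, Subgroup.mem_zpowers x⟩ fun k hk => ?_
  congr 1
  ext c
  rw [Subgroup.orderOf_mk] at hk
  exact h.apply_pow hcop hx ((hC c).1 c.2).1 ((hC c).1 c.2).2 hk

theorem classInner_coset [Fintype C] [Fintype N] (hx : (Nat.card N).Coprime (orderOf x))
    (hC : ∀ g, g ∈ C ↔ g ∈ N ∧ g * x = x * g) {φ ψ : Γ → ℂ} (hφ : IsClassFunction Γ φ)
    (hψ : IsClassFunction Γ ψ) :
    classInner (fun c : C => φ (c * x)) (fun c : C => ψ (c * x)) =
      (Nat.card N : ℂ)⁻¹ * ∑ n : N, φ (n * x) * conj (ψ (n * x)) :=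
  (avg_coset_cent hx hC (hφ.mul (hψ.map conj))).symm

theorem IsCan.exists_corr (hcop : N.index.Coprime (Nat.card N)) {ξ : Γ → ℂ}
    (h : IsCan N ξ) (hx : (Nat.card N).Coprime (orderOf x))
    (hC : ∀ g, g ∈ C ↔ g ∈ N ∧ g * x = x * g) :
    ∃ (β : C → ℂ) (ε : ℤ), IsIrrCharacter C β ∧ (ε = 1 ∨ ε = -1) ∧
      ∀ c : C, ξ (c * x) = ε * β c := by
  have := Fintype.ofFinite C
  have := Fintype.ofFinite N
  have h1 : IsGeneralizedCharacter C fun c : C => ξ (c * x) :=
    (isClassFunction_mul_cent hC h.irr.isClassFunction).isGen_of_int fun β hβ =>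
      h.exists_int hcop hx hC hβ.isCharacter
  have h2 := classInner_coset hx hC h.irr.isClassFunction h.irr.isClassFunction
  rw [coset_average_norm h.irr.isCharacter h.res] at h2
  rcases h1.irr_or_neg h2 with h3 | h3
  · exact ⟨_, 1, h3, .inl rfl, fun c => by simp⟩
  · exact ⟨_, -1, h3, .inr rfl, fun c => by simp⟩

theorem res_eq_of_corr (hx : (Nat.card N).Coprime (orderOf x))
    (hC : ∀ g, g ∈ C ↔ g ∈ N ∧ g * x = x * g) {ξ ξ' : Γ → ℂ} (h : IsIrrCharacter Γ ξ)
    (hr : IsIrrCharacter N fun n : N => ξ n) (h' : IsIrrCharacter Γ ξ')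
    (hr' : IsIrrCharacter N fun n : N => ξ' n) {β : C → ℂ} (hβ : IsIrrCharacter C β) {ε ε' : ℂ}
    (hε : ε ≠ 0) (hε' : ε' ≠ 0) (h1 : ∀ c : C, ξ (c * x) = ε * β c)
    (h2 : ∀ c : C, ξ' (c * x) = ε' * β c) : (fun n : N => ξ n) = fun n : N => ξ' n := by
  have := Fintype.ofFinite C
  have := Fintype.ofFinite N
  by_contra hne
  have h3 := classInner_coset hx hC h.isClassFunction h'.isClassFunction
  rw [coset_average_eq_zero h h'.isCharacter hr' (hr.classInner_of_ne hr' hne)] at h3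
  have e1 : (fun c : C => ξ (c * x)) = ε • β := funext h1
  have e2 : (fun c : C => ξ' (c * x)) = ε' • β := funext h2
  rw [e1, e2, classInner_smul_left, classInner_smul_right, hβ.classInner_self] at h3
  simp [hε, hε'] at h3

theorem exists_isCan_corr (hcop : N.index.Coprime (Nat.card N))
    (hx : (Nat.card N).Coprime (orderOf x)) (htop : N ⊔ Subgroup.zpowers x = ⊤)
    (hC : ∀ g, g ∈ C ↔ g ∈ N ∧ g * x = x * g) {β : C → ℂ} (hβ : IsIrrCharacter C β) :
    ∃ (ξ : Γ → ℂ) (ε : ℤ), IsCan N ξ ∧ (ε = 1 ∨ ε = -1) ∧ ∀ c : C, ξ (c * x) = ε * β c := by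
  classical
  have := Fintype.ofFinite C
  have := Fintype.ofFinite N
  have := Fintype.ofFinite Γ
  have h1 : ∃ ξ : IrrCharacter Γ, classInner β (fun c : C => ξ.1 (c * x)) ≠ 0 := by
    by_contra! h0
    have h2 : ∑ ξ : IrrCharacter Γ, ξ.1 x * classInner β (fun c : C => ξ.1 (c * x)) = 0 := by
      simp [h0]
    have h3 : ∑ ξ : IrrCharacter Γ, ξ.1 x * classInner β (fun c : C => ξ.1 (c * x)) =
        (Nat.card C : ℂ)⁻¹ * ∑ c : C, β c * ∑ ξ : IrrCharacter Γ, ξ.1 x * conj (ξ.1 (c * x)) := by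
      simp only [classInner, Finset.mul_sum]
      rw [Finset.sum_comm]
      exact Finset.sum_congr rfl fun c _ => Finset.sum_congr rfl fun ξ _ => by ring
    rw [h3, Finset.sum_eq_single 1] at h2
    · rw [column_orthogonality, if_pos (by simpa using IsConj.refl x)] at h2
      simp [hβ.apply_one_ne_zero, Nat.card_pos.ne'] at h2
    · intro c _ hc
      rw [column_orthogonality, if_neg, mul_zero]
      rw [isConj_iff]
      rintro ⟨g, hg⟩
      have := conj_eq_of_split (g := g) hx N.one_mem ((hC c).1 c.2).1 (by simp) ((hC c).1 c.2).2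
        (by rwa [one_mul])
      rw [this, mul_inv_cancel_right] at hg
      exact hc (Subtype.ext (by simpa using hg.symm))
    · simp
  obtain ⟨⟨ξ, hξ⟩, h1⟩ := h1
  have hab : commutator Γ ≤ N := by
    have : IsCyclic (Γ ⧸ N) := by
      refine ⟨⟨(x : Γ ⧸ N), fun y => ?_⟩⟩
      have h2 := congrArg (Subgroup.map (QuotientGroup.mk' N)) htop
      rw [Subgroup.map_sup, QuotientGroup.map_mk'_self, bot_sup_eq, MonoidHom.map_zpowers,
        Subgroup.map_top_of_surjective _ (QuotientGroup.mk'_surjective N)] at h2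
      have : y ∈ Subgroup.zpowers (QuotientGroup.mk' N x) := h2 ▸ Subgroup.mem_top y
      exact this
    rw [← Subgroup.Normal.quotient_commutative_iff_commutator_le]
    exact ⟨⟨(IsCyclic.commGroup (α := Γ ⧸ N)).mul_comm⟩⟩
  have hr : IsIrrCharacter N fun n : N => ξ n := by
    refine (hξ.res_irr_or_vanish hab).resolve_right ?_
    rintro ⟨U, hU, hNU, h0⟩
    apply h1
    have : (fun c : C => ξ (c * x)) = 0 := by
      ext c
      refine h0 _ fun hm => hU (top_le_iff.1 (htop ▸ sup_le hNU ?_))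
      rw [Subgroup.zpowers_le]
      exact (U.mul_mem_cancel_left (hNU ((hC c).1 c.2).1)).1 hm
    simp only [this, classInner_zero_right]
  obtain ⟨η, ⟨hη, hη'⟩, -⟩ := exists_isCan hcop hr (cj_res hξ.isClassFunction)
  obtain ⟨γ, ε, hγ, hε, h2⟩ := hη.exists_corr hcop hx hC
  obtain ⟨β₀, -, hk, h3⟩ := hξ.exists_eq_mul_of_over hη.irr.isCharacter hη.res
    (by simp only [hη', hr.classInner_self]; simp)
  refine ⟨η, ε, hη, hε, ?_⟩
  suffices β = γ from this ▸ h2
  refine hβ.eq_of_classInner_ne_zero hγ fun h0 => h1 ?_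
  have : (fun c : C => ξ (c * x)) = (β₀ x * ε) • γ := by
    ext c
    rw [h3, Pi.mul_apply, h2, mem_charKer.1 (hk ((hC c).1 c.2).1)]
    simp [mul_assoc]
  simp only [this, classInner_smul_right, h0, mul_zero]

end

end Cfsg.Agent.Char
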