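import Cfsg.Agent.Lib.Char.Induce

/-!
Kernels and centres of characters, descent to quotient groups.
-/

set_option autoImplicit false

namespace Cfsg

open Agent.Char Module Representation
open scoped ComplexConjugate

variable {G : Type*} [Group G] {G' : Type*} [Group G']

namespace Agent.Char

theorem norm_multiset_sum_le_card (s : Multiset ℂ) (hs : ∀ z ∈ s, ‖z‖ = 1) :
    ‖s.sum‖ ≤ Multiset.card s := by
  refine (norm_multiset_sum_le s).trans (le_of_eq ?_)
  rw [Multiset.map_congr rfl (g := fun _ => (1 : ℝ)) hs]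
  simp

theorem multiset_eq_of_norm_sum (s : Multiset ℂ) (hs : ∀ z ∈ s, ‖z‖ = 1)
    (h : ‖s.sum‖ = Multiset.card s) {z w : ℂ} (hz : z ∈ s) (hw : w ∈ s) : z = w := by
  classical
  by_contra hne
  obtain ⟨t, rfl⟩ := Multiset.exists_cons_of_mem hz
  obtain ⟨u, rfl⟩ := Multiset.exists_cons_of_mem ((Multiset.mem_cons.1 hw).resolve_left (Ne.symm hne))
  have h1 := norm_multiset_sum_le_card u fun x hx => hs x (by simp [hx])
  have h2 := hs z (by simp)
  have h3 := hs w (by simp)
  apply hne
  apply eq_of_norm_eq_of_norm_add_eq (h2.trans h3.symm)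
  apply le_antisymm (norm_add_le _ _)
  have h4 := norm_add_le (z + w) u.sum
  simp only [Multiset.sum_cons, Multiset.card_cons, ← add_assoc] at h
  push_cast at h
  linarith

section Rep

variable {V : Type*} [AddCommGroup V] [Module ℂ V] [FiniteDimensional ℂ V]

theorem rep_eq_smul_of_character_eq [Finite G] (ρ : Representation ℂ G V) (lam : G →* ℂ)
    (h : ∀ g, ρ.character g = finrank ℂ V * lam g) (g : G) : ρ g = lam g • LinearMap.id := by
  obtain ⟨e⟩ := nonempty_equiv_of_character_eq (scalarRep V lam) ρ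
    (by ext g; rw [character_scalarRep, h])
  rw [← e.conj_apply_self g]
  ext v
  simp [scalarRep]

theorem norm_character_eq_iff [Finite G] (ρ : Representation ℂ G V) (g : G) :
    ‖ρ.character g‖ = (finrank ℂ V : ℝ) ↔ ∃ ω : ℂ, ‖ω‖ = 1 ∧ ρ g = ω • LinearMap.id := by
  constructor
  · intro h
    obtain ⟨s, hs, hs'⟩ := ((isCharacter_rep ρ).res (Subgroup.zpowers g)).exists_multiset_units
      (by
        rintro ⟨_, i, rfl⟩ ⟨_, j, rfl⟩
        exact Subtype.ext (zpow_mul_comm g i j))
    let x : Subgroup.zpowers g := ⟨g, Subgroup.mem_zpowers g⟩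
    have hc : Multiset.card s = finrank ℂ V := by
      have : (Multiset.card s : ℂ) = finrank ℂ V := by simpa using hs
      exact_mod_cast this
    by_cases h0 : s = 0
    · have : Subsingleton V := by
        rw [← Module.finrank_zero_iff (R := ℂ), ← hc, h0]; rfl
      exact ⟨1, by simp, Subsingleton.elim _ _⟩
    obtain ⟨lam, hlam⟩ := Multiset.exists_mem_of_ne_zero h0
    have key : ∀ mu ∈ s, mu = lam := by
      intro mu hmu
      have h1 : (mu x : ℂ) = lam x := multiset_eq_of_norm_sum (s.map fun l => (l x : ℂ))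
        (by
          intro z hz
          obtain ⟨l, -, rfl⟩ := Multiset.mem_map.1 hz
          exact norm_units_hom l x)
        (by rw [← hs' x, Multiset.card_map, hc]; exact h)
        (Multiset.mem_map_of_mem _ hmu) (Multiset.mem_map_of_mem _ hlam)
      ext ⟨_, i, rfl⟩
      have : (⟨g ^ i, i, rfl⟩ : Subgroup.zpowers g) = x ^ i := rfl
      simp only [this, map_zpow, Units.val_inj.1 h1]
    refine ⟨lam x, norm_units_hom lam x, ?_⟩
    refine rep_eq_smul_of_character_eq (ρ.comp (Subgroup.zpowers g).subtype)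
      ((Units.coeHom ℂ).comp lam) (fun y => ?_) x
    refine (hs' y).trans ?_
    rw [Multiset.map_congr rfl (g := fun _ => (lam y : ℂ)) (fun mu hmu => by rw [key mu hmu])]
    simp [hc]
  · rintro ⟨ω, hω, h⟩
    simp [Representation.character, h, hω]

omit [FiniteDimensional ℂ V] in
theorem norm_eq_one_of_rep_eq_smul [Finite G] [Nontrivial V] (ρ : Representation ℂ G V) {g : G}
    {ω : ℂ} (h : ρ g = ω • LinearMap.id) : ω ^ orderOf g = 1 := by
  have h1 : ρ (g ^ orderOf g) = ω ^ orderOf g • LinearMap.id := by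
    rw [map_pow, h, ← Module.End.one_eq_id, smul_pow, one_pow]
  rw [pow_orderOf_eq_one, map_one] at h1
  obtain ⟨v, hv⟩ := exists_ne (0 : V)
  have h2 := LinearMap.congr_fun h1 v
  simp only [Module.End.one_apply, LinearMap.smul_apply, LinearMap.id_coe, id_eq] at h2
  have h3 : (ω ^ orderOf g - 1) • v = 0 := by rw [sub_smul, ← h2]; simp
  exact sub_eq_zero.1 ((smul_eq_zero.1 h3).resolve_right hv)

theorem character_eq_iff [Finite G] (ρ : Representation ℂ G V) (g : G) :
    ρ.character g = (finrank ℂ V : ℂ) ↔ ρ g = LinearMap.id := by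
  constructor
  · intro h
    obtain ⟨ω, -, h1⟩ := (norm_character_eq_iff ρ g).1 (by simp [h])
    rcases subsingleton_or_nontrivial V with hV | hV
    · exact Subsingleton.elim _ _
    have h2 : (finrank ℂ V : ℂ) ≠ 0 := by exact_mod_cast Module.finrank_pos.ne'
    rw [Representation.character, h1] at h
    simp only [map_smul, LinearMap.trace_id, smul_eq_mul] at h
    rw [h1, (mul_eq_right₀ h2).1 h, one_smul]
  · intro h
    simp [Representation.character, h]

end Rep

/-- The kernel of a function on a group: the elements whose left translation fixes it. -/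
def charKer (χ : G → ℂ) : Subgroup G where
  carrier := {g | ∀ x, χ (g * x) = χ x}
  mul_mem' {a b} ha hb x := by rw [mul_assoc, ha, hb]
  one_mem' x := by rw [one_mul]
  inv_mem' {a} ha x := by rw [← ha, mul_inv_cancel_left]

theorem mem_charKer {χ : G → ℂ} {g : G} : g ∈ charKer χ ↔ ∀ x, χ (g * x) = χ x := Iff.rfl

/-- The centre of a function on a group: the elements whose left translation scales it. -/
def charCenter (χ : G → ℂ) : Subgroup G where
  carrier := {g | ∃ ω : ℂ, ‖ω‖ = 1 ∧ ∀ x, χ (g * x) = ω * χ x}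
  mul_mem' := by
    rintro a b ⟨ω, h1, h2⟩ ⟨ω', h3, h4⟩
    exact ⟨ω * ω', by simp [h1, h3], fun x => by rw [mul_assoc, h2, h4, mul_assoc]⟩
  one_mem' := ⟨1, by simp, by simp⟩
  inv_mem' := by
    rintro a ⟨ω, h1, h2⟩
    have : ω ≠ 0 := by rintro rfl; simp at h1
    refine ⟨ω⁻¹, by simp [h1], fun x => ?_⟩
    rw [eq_inv_mul_iff_mul_eq₀ this, ← h2, mul_inv_cancel_left]

theorem mem_charCenter {χ : G → ℂ} {g : G} :
    g ∈ charCenter χ ↔ ∃ ω : ℂ, ‖ω‖ = 1 ∧ ∀ x, χ (g * x) = ω * χ x := Iff.rfl

theorem charKer_le_charCenter (χ : G → ℂ) : charKer χ ≤ charCenter χ :=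
  fun _ h => ⟨1, by simp, fun x => by rw [h x, one_mul]⟩

end Agent.Char

theorem IsClassFunction.normal_charKer {χ : G → ℂ} (h : IsClassFunction G χ) :
    (charKer χ).Normal := ⟨fun g hg y x => by
  have h1 := hg (y⁻¹ * x * y)
  rw [h.apply_conj'] at h1
  rw [← h1, ← h.apply_conj' _ y]; congr 1; group⟩

theorem IsClassFunction.normal_charCenter {χ : G → ℂ} (h : IsClassFunction G χ) :
    (charCenter χ).Normal := ⟨by
  rintro g ⟨ω, h1, hg⟩ y
  refine ⟨ω, h1, fun x => ?_⟩
  have h1 := hg (y⁻¹ * x * y)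
  rw [h.apply_conj'] at h1
  rw [← h1, ← h.apply_conj' _ y]; congr 1; group⟩

theorem IsCharacter.normal_charKer {χ : G → ℂ} (h : IsCharacter G χ) : (charKer χ).Normal :=
  h.isClassFunction.normal_charKer

theorem IsCharacter.mem_charKer [Finite G] {χ : G → ℂ} (h : IsCharacter G χ) {g : G} :
    g ∈ charKer χ ↔ χ g = χ 1 := by
  refine ⟨fun h1 => by simpa using h1 1, fun h1 x => ?_⟩
  obtain ⟨n, ρ, rfl⟩ := h
  rw [char_one, character_eq_iff] at h1
  simp [Representation.character, h1, ← Module.End.one_eq_id]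

theorem IsCharacter.mem_charCenter [Finite G] {χ : G → ℂ} (h : IsCharacter G χ) {g : G} :
    g ∈ charCenter χ ↔ ‖χ g‖ = ‖χ 1‖ := by
  refine ⟨?_, fun h1 => ?_⟩
  · rintro ⟨ω, h1, h2⟩
    have := h2 1
    rw [mul_one] at this
    simp [this, h1]
  obtain ⟨n, ρ, rfl⟩ := h
  rw [char_one, Complex.norm_natCast, norm_character_eq_iff] at h1
  obtain ⟨ω, h1, h2⟩ := h1
  refine ⟨ω, h1, fun x => ?_⟩
  simp [Representation.character, h2, ← Module.End.one_eq_id]

theorem IsCharacter.apply_mul_of_apply_eq [Finite G] {χ : G → ℂ} (h : IsCharacter G χ) {g : G}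
    (hg : χ g = χ 1) (x : G) : χ (g * x) = χ x := h.mem_charKer.2 hg x

theorem IsCharacter.apply_mul_of_apply_eq' [Finite G] {χ : G → ℂ} (h : IsCharacter G χ) {g : G}
    (hg : χ g = χ 1) (x : G) : χ (x * g) = χ x := by
  rw [h.isClassFunction.apply_mul_comm, h.apply_mul_of_apply_eq hg]

/-- On its centre a character is multiplicative up to the degree. -/
theorem IsCharacter.apply_mul_of_mem_charCenter {χ : G → ℂ} {g : G}
    (hg : g ∈ charCenter χ) (x : G) : χ (g * x) * χ 1 = χ g * χ x := by
  obtain ⟨ω, -, h2⟩ := hg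
  have := h2 1
  rw [mul_one] at this
  rw [h2, this]; ring

namespace Agent.Char

theorem charKer_rep [Finite G] {V : Type*} [AddCommGroup V] [Module ℂ V] [FiniteDimensional ℂ V]
    (ρ : Representation ℂ G V) : charKer ρ.character = ρ.ker := by
  ext g
  rw [(isCharacter_rep ρ).mem_charKer, char_one, character_eq_iff, MonoidHom.mem_ker]; rfl

end Agent.Char

/-- Central elements lie in the centre of an irreducible character. -/
theorem IsIrrCharacter.center_le_charCenter [Finite G] {χ : G → ℂ} (h : IsIrrCharacter G χ) :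
    Subgroup.center G ≤ charCenter χ := by
  intro z hz
  rw [h.isCharacter.mem_charCenter]
  obtain ⟨n, ρ, hρ, rfl⟩ := h
  obtain ⟨c, hc⟩ := schur_scalar ρ (ρ z) (fun g => by
    rw [← Module.End.mul_eq_comp, ← Module.End.mul_eq_comp, ← map_mul, ← map_mul,
      Subgroup.mem_center_iff.1 hz])
  have := nontrivial_of_isIrreducible ρ
  rw [char_one, Complex.norm_natCast, norm_character_eq_iff]
  exact ⟨c, norm_eq_one_of_pow (orderOf_pos z).ne' (norm_eq_one_of_rep_eq_smul ρ hc), hc⟩

/-- The centre of a character is central modulo the kernel. -/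
theorem IsCharacter.commutator_mem_charKer {χ : G → ℂ} (h : IsCharacter G χ) {z : G}
    (hz : z ∈ charCenter χ) (g : G) : z * g * z⁻¹ * g⁻¹ ∈ charKer χ := by
  obtain ⟨ω, h1, h2⟩ := hz
  have : ω ≠ 0 := by rintro rfl; simp at h1
  intro x
  have h3 := h2 (z⁻¹ * (g⁻¹ * x * g))
  rw [mul_inv_cancel_left, h.isClassFunction.apply_conj'] at h3
  have h4 := h2 (g * z⁻¹ * g⁻¹ * x)
  rw [h3, ← h.isClassFunction.apply_conj' (g * z⁻¹ * g⁻¹ * x) g] at *
  simp only [mul_assoc, inv_mul_cancel_left] at h4 ⊢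
  exact h4

theorem IsIrrCharacter.mem_charCenter_iff [Finite G] {χ : G → ℂ} (h : IsIrrCharacter G χ) {z : G} :
    z ∈ charCenter χ ↔ ∀ g, z * g * z⁻¹ * g⁻¹ ∈ charKer χ := by
  refine ⟨fun hz g => h.isCharacter.commutator_mem_charKer hz g, fun hz => ?_⟩
  rw [h.isCharacter.mem_charCenter]
  obtain ⟨n, ρ, hρ, rfl⟩ := h
  obtain ⟨c, hc⟩ := schur_scalar ρ (ρ z) (fun g => by
    have h1 := hz g
    rw [charKer_rep, MonoidHom.mem_ker] at h1
    rw [← Module.End.mul_eq_comp, ← Module.End.mul_eq_comp, ← map_mul, ← map_mul]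
    have h2 : z * g = (z * g * z⁻¹ * g⁻¹) * (g * z) := by group
    rw [h2, map_mul, h1, one_mul])
  have := nontrivial_of_isIrreducible ρ
  rw [char_one, Complex.norm_natCast, norm_character_eq_iff]
  exact ⟨c, norm_eq_one_of_pow (orderOf_pos z).ne' (norm_eq_one_of_rep_eq_smul ρ hc), hc⟩

theorem IsIrrCharacter.charCenter_eq_center [Finite G] {χ : G → ℂ} (h : IsIrrCharacter G χ)
    (hf : charKer χ = ⊥) : charCenter χ = Subgroup.center G := by
  refine le_antisymm (fun z hz => ?_) h.center_le_charCenter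
  rw [Subgroup.mem_center_iff]
  intro g
  have := h.isCharacter.commutator_mem_charKer hz g
  rw [hf, Subgroup.mem_bot, mul_inv_eq_one, mul_inv_eq_iff_eq_mul] at this
  exact this.symm

/-- On a subgroup of its centre, a character is the degree times a linear character. -/
theorem IsCharacter.exists_units_of_le_charCenter {χ : G → ℂ} (_h : IsCharacter G χ)
    (h0 : χ 1 ≠ 0) {Z : Subgroup G} (hZ : Z ≤ charCenter χ) :
    ∃ lam : Z →* ℂˣ, ∀ z : Z, ∀ x, χ (z * x) = lam z * χ x := by
  let f : Z →* ℂ :=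
    { toFun := fun z => χ z / χ 1
      map_one' := by simp [h0]
      map_mul' := fun a b => by
        have := IsCharacter.apply_mul_of_mem_charCenter (hZ a.2) b
        field_simp
        exact this }
  refine ⟨f.toHomUnits, fun z x => ?_⟩
  have := IsCharacter.apply_mul_of_mem_charCenter (hZ z.2) x
  show _ = χ z / χ 1 * χ x
  field_simp
  exact this

theorem IsCharacter.charKer_add [Finite G] {φ ψ : G → ℂ} (hφ : IsCharacter G φ)
    (hψ : IsCharacter G ψ) : charKer (φ + ψ) = charKer φ ⊓ charKer ψ := by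
  ext g
  rw [Subgroup.mem_inf, (hφ.add hψ).mem_charKer, hφ.mem_charKer, hψ.mem_charKer]
  refine ⟨fun h => ?_, fun h => by simp [h.1, h.2]⟩
  obtain ⟨n, hn⟩ := hφ.exists_degree
  obtain ⟨m, hm⟩ := hψ.exists_degree
  have h1 := hφ.norm_le g
  have h2 := hψ.norm_le g
  simp only [Pi.add_apply, hn, hm, Complex.norm_natCast] at *
  have h3 := congrArg Complex.re h
  simp only [Complex.add_re, Complex.natCast_re] at h3
  have h4 := Complex.re_le_norm (φ g)
  have h5 := Complex.re_le_norm (ψ g)
  have h6 : (φ g).re = n := by linarith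
  have h7 : (ψ g).re = m := by linarith
  constructor
  · rw [← Complex.ofReal_natCast, ← h6]
    exact (Complex.conj_eq_iff_re.1 (Complex.conj_eq_iff_im.2
      (Complex.abs_re_eq_norm.1 (by rw [h6]; simp; linarith)))).symm
  · rw [← Complex.ofReal_natCast, ← h7]
    exact (Complex.conj_eq_iff_re.1 (Complex.conj_eq_iff_im.2
      (Complex.abs_re_eq_norm.1 (by rw [h7]; simp; linarith)))).symm

/-- The kernel of a character lies in the kernel of each constituent. -/
theorem IsCharacter.charKer_le_of_constituent [Fintype G] {φ χ : G → ℂ} (hφ : IsCharacter G φ)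
    (hχ : IsIrrCharacter G χ) (h : classInner φ χ ≠ 0) : charKer φ ≤ charKer χ := by
  have h1 := hχ.isCharacter.charKer_add (hφ.sub_irr hχ h)
  rw [add_sub_cancel] at h1
  rw [h1]; exact inf_le_left

theorem IsCharacter.mem_charKer_of_forall_constituent [Fintype G] {φ : G → ℂ}
    (hφ : IsCharacter G φ) {g : G}
    (h : ∀ χ, IsIrrCharacter G χ → classInner φ χ ≠ 0 → g ∈ charKer χ) : g ∈ charKer φ := by
  intro x
  rw [hφ.isClassFunction.apply_eq_sum, hφ.isClassFunction.apply_eq_sum x]
  refine Finset.sum_congr rfl fun χ _ => ?_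
  by_cases h1 : classInner φ χ = 0
  · simp [h1]
  · rw [h χ χ.2 h1 x]

namespace Agent.Char

theorem exists_irr_apply_ne [Finite G] {g : G} (hg : g ≠ 1) :
    ∃ χ, IsIrrCharacter G χ ∧ χ g ≠ χ 1 := by
  by_contra h
  push Not at h
  exact hg (isConj_one_left.1 ((isConj_iff_forall_irr g 1).2 fun χ => h χ χ.2))

theorem charKer_comp (χ : G → ℂ) (f : G' →* G) (hf : Function.Surjective f) :
    charKer (fun x => χ (f x)) = (charKer χ).comap f := by
  ext g
  simp only [mem_charKer, Subgroup.mem_comap, map_mul]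
  exact ⟨fun h x => by obtain ⟨y, rfl⟩ := hf x; exact h y, fun h x => h _⟩

end Agent.Char

theorem IsCharacter.charKer_comp [Finite G] [Finite G'] {χ : G → ℂ} (h : IsCharacter G χ)
    (f : G' →* G) : charKer (fun x => χ (f x)) = (charKer χ).comap f := by
  ext g
  rw [(h.comp f).mem_charKer, Subgroup.mem_comap, h.mem_charKer, map_one]

/-- A character whose kernel contains the kernel of a surjection descends along it. -/
theorem IsCharacter.exists_descend [Finite G] {χ : G → ℂ} (h : IsCharacter G χ) (f : G →* G')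
    (hf : Function.Surjective f) (hk : f.ker ≤ charKer χ) :
    ∃ ψ : G' → ℂ, IsCharacter G' ψ ∧ ∀ g, ψ (f g) = χ g := by
  obtain ⟨n, ρ, rfl⟩ := h
  rw [charKer_rep] at hk
  let σ : G' →* (Module.End ℂ (Fin n → ℂ))ˣ := f.liftOfSurjective hf ⟨ρ.toHomUnits, fun x hx => by
    have := hk hx
    rw [MonoidHom.mem_ker] at this ⊢
    ext1; simpa using this⟩
  refine ⟨_, ⟨n, (Units.coeHom _).comp σ, rfl⟩, fun g => ?_⟩
  have : σ (f g) = ρ.toHomUnits g := MonoidHom.liftOfRightInverse_comp_apply _ _ _ _ _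
  simp [Representation.character, this]

theorem IsIrrCharacter.exists_descend [Finite G] {χ : G → ℂ} (h : IsIrrCharacter G χ) (f : G →* G')
    (hf : Function.Surjective f) (hk : f.ker ≤ charKer χ) :
    ∃ ψ : G' → ℂ, IsIrrCharacter G' ψ ∧ ∀ g, ψ (f g) = χ g := by
  obtain ⟨ψ, h1, h2⟩ := h.isCharacter.exists_descend f hf hk
  have := Fintype.ofFinite G
  have := Finite.of_surjective f hf
  have := Fintype.ofFinite G'
  refine ⟨ψ, h1.isIrr_of_classInner_self ?_, h2⟩
  rw [← classInner_comp_surjective f hf]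
  simp only [h2]
  exact h.classInner_self

theorem IsIrrCharacter.exists_quotient [Finite G] {χ : G → ℂ} (h : IsIrrCharacter G χ)
    (N : Subgroup G) [N.Normal] (hk : N ≤ charKer χ) :
    ∃ ψ : G ⧸ N → ℂ, IsIrrCharacter (G ⧸ N) ψ ∧ ∀ g : G, ψ g = χ g :=
  h.exists_descend (QuotientGroup.mk' N) (QuotientGroup.mk'_surjective N) (by simpa using hk)

theorem IsCharacter.exists_quotient [Finite G] {χ : G → ℂ} (h : IsCharacter G χ)
    (N : Subgroup G) [N.Normal] (hk : N ≤ charKer χ) :
    ∃ ψ : G ⧸ N → ℂ, IsCharacter (G ⧸ N) ψ ∧ ∀ g : G, ψ g = χ g :=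
  h.exists_descend (QuotientGroup.mk' N) (QuotientGroup.mk'_surjective N) (by simpa using hk)

theorem IsIrrCharacter.inflate {N : Subgroup G} [N.Normal] {ψ : G ⧸ N → ℂ}
    (h : IsIrrCharacter (G ⧸ N) ψ) : IsIrrCharacter G (fun g : G => ψ g) :=
  h.comp_surjective (QuotientGroup.mk' N) (QuotientGroup.mk'_surjective N)

theorem IsCharacter.inflate {N : Subgroup G} [N.Normal] {ψ : G ⧸ N → ℂ}
    (h : IsCharacter (G ⧸ N) ψ) : IsCharacter G (fun g : G => ψ g) :=
  h.comp (QuotientGroup.mk' N)

theorem IsIrrCharacter.of_comp_surjective [Finite G] {ψ : G' → ℂ} (f : G →* G')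
    (hf : Function.Surjective f) (h : IsIrrCharacter G (fun g => ψ (f g))) :
    IsIrrCharacter G' ψ := by
  obtain ⟨ψ', h1, h2⟩ := h.exists_descend f hf (fun x hx y => by
    simp [MonoidHom.mem_ker.1 hx])
  have : ψ' = ψ := by
    ext y; obtain ⟨x, rfl⟩ := hf y; exact h2 x
  rwa [← this]

/-- An irreducible character whose kernel is everything is the principal character. -/
theorem IsIrrCharacter.eq_one_of_forall {χ : G → ℂ} [Finite G] (h : IsIrrCharacter G χ)
    (h1 : ∀ g, χ g = χ 1) : χ = fun _ => 1 := by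
  have := Fintype.ofFinite G
  refine h.eq_of_classInner_ne_zero isIrrCharacter_one ?_
  rw [classInner_one_right]
  simp only [h1, Finset.sum_const, Finset.card_univ, nsmul_eq_mul, Fintype.card_eq_nat_card]
  rw [← mul_assoc, inv_mul_cancel₀ (card_ne_zero' G), one_mul]
  exact h.apply_one_ne_zero

theorem IsIrrCharacter.charKer_ne_top {χ : G → ℂ} [Finite G] (h : IsIrrCharacter G χ)
    (h1 : χ ≠ fun _ => 1) : charKer χ ≠ ⊤ := fun h2 =>
  h1 (h.eq_one_of_forall fun g => h.isCharacter.mem_charKer.1 (h2 ▸ Subgroup.mem_top g))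

/-- An irreducible character has degree one iff its kernel contains the derived subgroup. -/
theorem IsIrrCharacter.apply_one_eq_one_iff {χ : G → ℂ} [Finite G] (h : IsIrrCharacter G χ) :
    χ 1 = 1 ↔ commutator G ≤ charKer χ := by
  constructor
  · intro h1
    obtain ⟨lam, rfl⟩ := h.isCharacter.exists_units_of_apply_one h1
    refine (Abelianization.commutator_subset_ker lam).trans fun g hg x => ?_
    simp [MonoidHom.mem_ker.1 hg]
  · intro h1
    obtain ⟨ψ, h2, h3⟩ := h.exists_descend Abelianization.of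
      (QuotientGroup.mk'_surjective _) (by rwa [Abelianization.ker_of])
    rw [← h3, map_one]
    exact h2.apply_one_of_comm mul_comm

/-- The multiplicity of the principal character in a restriction to a subgroup of the kernel. -/
theorem IsCharacter.le_charKer_iff {χ : G → ℂ} [Finite G] (h : IsCharacter G χ)
    (N : Subgroup G) [Fintype N] :
    N ≤ charKer χ ↔ classInner (fun n : N => χ n) (fun _ => 1) = χ 1 := by
  constructor
  · intro h1
    have : ∀ n : N, χ n = χ 1 := fun n => h.mem_charKer.1 (h1 n.2)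
    rw [classInner_one_right]
    simp only [this, Finset.sum_const, Finset.card_univ, nsmul_eq_mul, Fintype.card_eq_nat_card]
    rw [← mul_assoc, inv_mul_cancel₀ (card_ne_zero' N), one_mul]
  · intro h1 n hn
    have h2 := ((h.res N).sub_smul_irr isIrrCharacter_one).eq_zero_of_apply_one (by simp [h1])
    rw [h.mem_charKer]
    have := congrFun h2 ⟨n, hn⟩
    simpa [h1, sub_eq_zero] using this

end Cfsg
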