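import Cfsg.Agent.Lib.Char.Clifford

/-!
Symmetric and alternating squares; the Frobenius--Schur indicator; products of characters of
direct factors.
-/

set_option autoImplicit false

namespace Cfsg.Agent.Char

open scoped ComplexConjugate
open Matrix

variable {G : Type*} [Group G]

/-- The action `M ↦ A M Aᵀ` on matrices. -/
noncomputable def sqRep {n : ℕ} (ρ : Representation ℂ G (Fin n → ℂ)) :
    Representation ℂ G (Matrix (Fin n) (Fin n) ℂ) where
  toFun g :=
    { toFun := fun M => LinearMap.toMatrix' (ρ g) * M * (LinearMap.toMatrix' (ρ g))ᵀ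
      map_add' := fun M N => by simp [Matrix.mul_add, Matrix.add_mul]
      map_smul' := fun c M => by simp }
  map_one' := by ext M; simp
  map_mul' g h := by
    ext1 M
    simp [LinearMap.toMatrix'_mul, Matrix.mul_assoc]

theorem sqRep_apply {n : ℕ} (ρ : Representation ℂ G (Fin n → ℂ)) (g : G)
    (M : Matrix (Fin n) (Fin n) ℂ) :
    sqRep ρ g M = LinearMap.toMatrix' (ρ g) * M * (LinearMap.toMatrix' (ρ g))ᵀ := rfl

theorem trace_matrix_end {n : ℕ} (f : Matrix (Fin n) (Fin n) ℂ →ₗ[ℂ] Matrix (Fin n) (Fin n) ℂ) :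
    LinearMap.trace ℂ _ f = ∑ i, ∑ j, f (Matrix.single i j 1) i j := by
  rw [LinearMap.trace_eq_matrix_trace ℂ (Matrix.stdBasis ℂ (Fin n) (Fin n)), Matrix.trace,
    Fintype.sum_prod_type]
  refine Finset.sum_congr rfl fun i _ => Finset.sum_congr rfl fun j _ => ?_
  rw [Matrix.diag_apply, LinearMap.toMatrix_apply, Matrix.stdBasis_eq_single]
  simp [Matrix.stdBasis]

theorem character_eq_trace {n : ℕ} (ρ : Representation ℂ G (Fin n → ℂ)) (g : G) :
    ρ.character g = (LinearMap.toMatrix' (ρ g)).trace := by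
  rw [Representation.character, LinearMap.trace_eq_matrix_trace ℂ (Pi.basisFun ℂ (Fin n)),
    LinearMap.toMatrix_eq_toMatrix']

theorem mul_single_mul_apply {n : ℕ} (A B : Matrix (Fin n) (Fin n) ℂ) (i j k l : Fin n) :
    (A * Matrix.single i j (1 : ℂ) * B) k l = A k i * B j l := by
  rw [Matrix.mul_apply, Finset.sum_eq_single j (fun b _ hb => by
    rw [Matrix.mul_single_apply_of_ne _ _ _ _ _ hb, zero_mul]) (by simp),
    Matrix.mul_single_apply_same, mul_one]

/-- The `ε`-symmetric matrices as a subrepresentation. -/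
def symSub {n : ℕ} (ρ : Representation ℂ G (Fin n → ℂ)) (ε : ℂ) : Subrepresentation (sqRep ρ) where
  toSubmodule :=
    { carrier := {M | Mᵀ = ε • M}
      add_mem' := fun {a b} ha hb => by
        simp only [Set.mem_ofPred_eq] at *
        rw [Matrix.transpose_add, ha, hb, smul_add]
      zero_mem' := by simp
      smul_mem' := fun c M hM => by
        simp only [Set.mem_ofPred_eq] at *
        rw [Matrix.transpose_smul, hM, smul_comm] }
  apply_mem_toSubmodule g M hM := by
    change (sqRep ρ g M)ᵀ = ε • sqRep ρ g M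
    have : Mᵀ = ε • M := hM
    simp [sqRep_apply, Matrix.transpose_mul, this, Matrix.mul_assoc]

theorem character_symSub {n : ℕ} (ρ : Representation ℂ G (Fin n → ℂ)) {ε : ℂ} (hε : ε * ε = 1)
    (g : G) : (symSub ρ ε).toRepresentation.character g =
      (ρ.character g ^ 2 + ε * ρ.character (g * g)) / 2 := by
  let P : Matrix (Fin n) (Fin n) ℂ →ₗ[ℂ] Matrix (Fin n) (Fin n) ℂ :=
    (2 : ℂ)⁻¹ • (LinearMap.id + ε • (Matrix.transposeLinearEquiv _ _ ℂ ℂ).toLinearMap)
  have hP : ∀ M, P M = (2 : ℂ)⁻¹ • (M + ε • Mᵀ) := fun _ => rfl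
  rw [character_sub_eq_trace_comp (symSub ρ ε) P ⟨fun M => ?_, fun M hM => ?_⟩, trace_matrix_end]
  · simp only [LinearMap.comp_apply, hP, map_smul, map_add, sqRep_apply, Matrix.transpose_single,
      Matrix.smul_apply, Matrix.add_apply, mul_single_mul_apply]
    simp only [character_eq_trace, map_mul,
      LinearMap.toMatrix'_mul, Matrix.trace, Matrix.diag_apply, Matrix.mul_apply,
      Matrix.transpose_apply, smul_eq_mul, sq, Finset.sum_mul_sum, ← Finset.mul_sum,
      Finset.sum_add_distrib]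
    ring
  · change (P M)ᵀ = ε • P M
    rw [hP, Matrix.transpose_smul, Matrix.transpose_add, Matrix.transpose_smul,
      Matrix.transpose_transpose, smul_comm ε, smul_add ε, smul_smul, hε, one_smul, add_comm]
  · have : Mᵀ = ε • M := hM
    rw [hP, this, smul_smul, hε, one_smul, ← two_smul ℂ M, smul_smul]; simp

theorem _root_.Cfsg.IsCharacter.symSq {χ : G → ℂ} (h : IsCharacter G χ) :
    IsCharacter G (fun g => (χ g ^ 2 + χ (g * g)) / 2) := by
  obtain ⟨n, ρ, rfl⟩ := h
  convert isCharacter_rep (symSub ρ 1).toRepresentation using 2 with g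
  rw [character_symSub ρ (one_mul 1), one_mul]

theorem _root_.Cfsg.IsCharacter.altSq {χ : G → ℂ} (h : IsCharacter G χ) :
    IsCharacter G (fun g => (χ g ^ 2 - χ (g * g)) / 2) := by
  obtain ⟨n, ρ, rfl⟩ := h
  convert isCharacter_rep (symSub ρ (-1)).toRepresentation using 2 with g
  rw [character_symSub ρ (by simp)]; ring

theorem _root_.Cfsg.IsCharacter.isGen_sq {χ : G → ℂ} (h : IsCharacter G χ) :
    IsGeneralizedCharacter G (fun g => χ (g * g)) :=
  ⟨_, _, h.symSq, h.altSq, by ext g; simp; ring⟩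

/-- The Frobenius--Schur indicator. -/
noncomputable def fsInd [Fintype G] (χ : G → ℂ) : ℂ := (Nat.card G : ℂ)⁻¹ * ∑ s : G, χ (s * s)

theorem fsInd_spec [Fintype G] {χ : G → ℂ} (h : IsCharacter G χ) : ∃ a b : ℕ,
    classInner (fun g => (χ g ^ 2 + χ (g * g)) / 2) (fun _ => 1) = a ∧
    classInner (fun g => (χ g ^ 2 - χ (g * g)) / 2) (fun _ => 1) = b ∧
    classInner χ (fun g => conj (χ g)) = a + b ∧ fsInd χ = a - b := by
  obtain ⟨a, ha⟩ := h.symSq.classInner_eq_nat isCharacter_one
  obtain ⟨b, hb⟩ := h.altSq.classInner_eq_nat isCharacter_one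
  refine ⟨a, b, ha, hb, ?_, ?_⟩
  · rw [← ha, ← hb, ← classInner_add_left]
    simp only [classInner, Complex.conj_conj, map_one, mul_one, Pi.add_apply]
    congr 2; ext g; ring
  · rw [← ha, ← hb, ← classInner_sub_left, classInner_one_right, fsInd]
    congr 2; ext g; simp; ring

theorem _root_.Cfsg.IsIrrCharacter.fsInd_eq_zero [Fintype G] {χ : G → ℂ} (h : IsIrrCharacter G χ)
    (h1 : (fun g => conj (χ g)) ≠ χ) : fsInd χ = 0 := by
  obtain ⟨a, b, -, -, h2, h3⟩ := fsInd_spec h.isCharacter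
  rw [h.classInner_of_ne h.conj h1.symm] at h2
  have : a + b = 0 := by exact_mod_cast h2.symm
  rw [h3, show a = 0 by omega, show b = 0 by omega]; simp

theorem _root_.Cfsg.IsIrrCharacter.fsInd_eq_one_or [Fintype G] {χ : G → ℂ}
    (h : IsIrrCharacter G χ) (h1 : (fun g => conj (χ g)) = χ) : fsInd χ = 1 ∨ fsInd χ = -1 := by
  obtain ⟨a, b, -, -, h2, h3⟩ := fsInd_spec h.isCharacter
  rw [h1, h.classInner_self] at h2
  have : a + b = 1 := by exact_mod_cast h2.symm
  rcases Nat.add_eq_one_iff.1 this with ⟨rfl, rfl⟩ | ⟨rfl, rfl⟩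
  · right; simp [h3]
  · left; simp [h3]

theorem _root_.Cfsg.IsIrrCharacter.even_of_fsInd [Fintype G] {χ : G → ℂ}
    (h : IsIrrCharacter G χ) (h1 : fsInd χ = -1) {d : ℕ} (hd : χ 1 = d) : Even d := by
  obtain ⟨a, b, -, h2, -, h3⟩ := fsInd_spec h.isCharacter
  have hb : b ≠ 0 := by
    rintro rfl
    rw [h1] at h3
    have : (-1 : ℤ) = a := by exact_mod_cast (by simpa using h3 : (-1 : ℂ) = a)
    omega
  obtain ⟨n, ρ, hρ, rfl⟩ := h
  obtain rfl : n = d := by simpa [Representation.char_one] using hd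
  have h4 : (fun g => (ρ.character g ^ 2 - ρ.character (g * g)) / 2) =
      (symSub ρ (-1)).toRepresentation.character := by
    ext g; rw [character_symSub ρ (by simp)]; ring
  rw [h4, classInner_rep_one, Nat.cast_inj] at h2
  have : Nontrivial (symSub ρ (-1)).toRepresentation.invariants :=
    Module.nontrivial_of_finrank_pos (R := ℂ) (by omega)
  obtain ⟨⟨⟨M, hM⟩, hM1⟩, hM0⟩ := exists_ne (0 : (symSub ρ (-1)).toRepresentation.invariants)
  have h5 : Mᵀ = (-1 : ℂ) • M := hM
  have h6 : ∀ g, LinearMap.toMatrix' (ρ g) * M * (LinearMap.toMatrix' (ρ g))ᵀ = M := fun g =>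
    congrArg Subtype.val (hM1 g)
  have h7 : LinearMap.range (Matrix.toLin' M) = ⊤ := by
    refine (((isIrreducible_iff ρ).1 hρ).2 _ ?_).resolve_left fun h => hM0 ?_
    · rintro g _ ⟨v, rfl⟩
      refine ⟨Matrix.toLin' (LinearMap.toMatrix' (ρ g⁻¹))ᵀ v, ?_⟩
      conv_lhs => rw [← h6 g]
      rw [← LinearMap.comp_apply, ← Matrix.toLin'_mul, Matrix.mul_assoc, ← Matrix.transpose_mul,
        ← LinearMap.toMatrix'_mul, ← map_mul, inv_mul_cancel, map_one, LinearMap.toMatrix'_one,
        Matrix.transpose_one, Matrix.mul_one, Matrix.toLin'_mul, Matrix.toLin'_toMatrix']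
      rfl
    · rw [LinearMap.range_eq_bot, EmbeddingLike.map_eq_zero_iff] at h
      exact Subtype.ext (Subtype.ext h)
  have h8 : M.det ≠ 0 := by
    rw [← LinearMap.det_toLin']
    exact (LinearMap.isUnit_iff_isUnit_det _).1 ((LinearMap.isUnit_iff_range_eq_top _).2 h7) |>.ne_zero
  have h9 := congrArg Matrix.det h5
  rw [Matrix.det_transpose, Matrix.det_smul, Fintype.card_fin] at h9
  by_contra h10
  rw [(Nat.not_even_iff_odd.1 h10).neg_one_pow] at h9
  exact h8 (by linear_combination h9 / 2)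

open Classical in
/-- The number of square roots of an element in terms of Frobenius--Schur indicators. -/
theorem card_sqrt_eq_sum [Fintype G] (g : G) : (Nat.card {s : G // s * s = g} : ℂ) =
    ∑ χ : IrrCharacter G, fsInd (χ : G → ℂ) * conj ((χ : G → ℂ) g) := by
  have h1 : IsClassFunction G (fun g => (Nat.card {s : G // s * s = g} : ℂ)) := fun g x =>
    congrArg Nat.cast (Nat.card_congr ((MulAut.conj x).toEquiv.subtypeEquiv fun s => by
      rw [← (MulAut.conj x).injective.eq_iff, map_mul]; rfl).symm)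
  have h2 := congrArg conj (h1.apply_eq_sum g)
  rw [map_natCast, map_sum] at h2
  rw [h2]
  refine Finset.sum_congr rfl fun χ _ => ?_
  rw [map_mul, conj_classInner, classInner, fsInd,
    ← Finset.sum_fiberwise' Finset.univ (fun s : G => s * s) (χ : G → ℂ)]
  simp [Fintype.card_subtype, mul_comm]

section Prod

variable {H : Type*} [Group H]

theorem classInner_prod [Fintype G] [Fintype H] (φ φ' : G → ℂ) (ψ ψ' : H → ℂ) :
    classInner (fun x : G × H => φ x.1 * ψ x.2) (fun x => φ' x.1 * ψ' x.2) =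
      classInner φ φ' * classInner ψ ψ' := by
  simp only [classInner, Fintype.sum_prod_type, Nat.card_prod, Nat.cast_mul, map_mul, mul_inv]
  rw [mul_mul_mul_comm, Finset.sum_mul_sum]
  congr 1
  exact Finset.sum_congr rfl fun _ _ => Finset.sum_congr rfl fun _ _ => by ring

theorem _root_.Cfsg.IsCharacter.prod {φ : G → ℂ} {ψ : H → ℂ} (h1 : IsCharacter G φ)
    (h2 : IsCharacter H ψ) : IsCharacter (G × H) (fun x => φ x.1 * ψ x.2) :=
  (h1.comp (MonoidHom.fst G H)).mul (h2.comp (MonoidHom.snd G H))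

theorem _root_.Cfsg.IsIrrCharacter.prod [Finite G] [Finite H] {φ : G → ℂ} {ψ : H → ℂ}
    (h1 : IsIrrCharacter G φ) (h2 : IsIrrCharacter H ψ) :
    IsIrrCharacter (G × H) (fun x => φ x.1 * ψ x.2) := by
  have := Fintype.ofFinite G
  have := Fintype.ofFinite H
  refine (h1.isCharacter.prod h2.isCharacter).isIrr_of_classInner_self ?_
  rw [classInner_prod, h1.classInner_self, h2.classInner_self, one_mul]

theorem _root_.Cfsg.IsIrrCharacter.exists_prod [Finite G] [Finite H] {θ : G × H → ℂ}
    (h : IsIrrCharacter (G × H) θ) : ∃ (φ : G → ℂ) (ψ : H → ℂ), IsIrrCharacter G φ ∧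
      IsIrrCharacter H ψ ∧ θ = fun x => φ x.1 * ψ x.2 := by
  have := Fintype.ofFinite G
  have := Fintype.ofFinite H
  by_contra h1
  push Not at h1
  have h2 : ∀ ψ, IsIrrCharacter H ψ → ∀ g, ∑ y, θ (g, y) * conj (ψ y) = 0 := by
    intro ψ hψ
    have h3 : IsClassFunction G (fun g => ∑ y, θ (g, y) * conj (ψ y)) := fun g x => by
      refine Finset.sum_congr rfl fun y _ => ?_
      rw [← h.isClassFunction (g, y) (x, 1)]; simp
    refine congrFun (h3.eq_zero_of_orthogonal fun φ hφ => ?_)
    have h4 := h.classInner_of_ne (hφ.prod hψ) (h1 φ ψ hφ hψ)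
    simp only [classInner, Fintype.sum_prod_type, map_mul, mul_eq_zero, inv_eq_zero,
      card_ne_zero', false_or] at h4 ⊢
    rw [← h4]
    simp only [Finset.sum_mul]
    exact Finset.sum_congr rfl fun _ _ => Finset.sum_congr rfl fun _ _ => by ring
  have h3 : IsClassFunction H (fun y => θ (1, y)) := fun y x => by
    simpa using h.isClassFunction (1, y) (1, x)
  have h4 := h3.eq_zero_of_orthogonal fun ψ hψ => by rw [classInner, h2 ψ hψ 1, mul_zero]
  exact h.apply_one_ne_zero (congrFun h4 1)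

end Prod

end Cfsg.Agent.Char
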