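import Cfsg.Agent.Lib.Char.Zeros
import Cfsg.Agent.Lib.Char.BrauerApp
import Cfsg.Agent.Lib.Char.Degree
import Cfsg.Agent.Lib.Char.FS

/-!
Codegrees of characters and some congruences.
-/

set_option autoImplicit false

namespace Cfsg.Agent.Char

open scoped ComplexConjugate
open Subgroup Cfsg.Agent.Solv

variable {G : Type*} [Group G]

theorem _root_.Cfsg.IsIrrCharacter.charDegree_pos {χ : G → ℂ} (h : IsIrrCharacter G χ) :
    0 < charDegree χ := Nat.pos_of_ne_zero fun h0 => h.apply_one_ne_zero (by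
  rw [← h.isCharacter.cast_charDegree, h0, Nat.cast_zero])

theorem codeg_mul [Finite G] {χ : G → ℂ} (h : IsIrrCharacter G χ) :
    Nat.card G / (Nat.card {g : G // χ g = χ 1} * charDegree χ) * charDegree χ =
      (charKer χ).index := by
  obtain ⟨c, hc⟩ := h.degree_dvd_index (charKer_le_charCenter χ) h.isCharacter.cast_charDegree.symm
  rw [Nat.card_congr (Equiv.subtypeEquivRight fun g => h.isCharacter.mem_charKer.symm),
    ← (charKer χ).card_mul_index, hc, ← mul_assoc]
  erw [Nat.mul_div_cancel_left _ (Nat.mul_pos Nat.card_pos h.charDegree_pos)]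
  rw [mul_comm]

theorem eq_zero_of_not_dvd_codeg [Finite G] {χ : G → ℂ} (h : IsIrrCharacter G χ) {c q : ℕ}
    (hc : c * charDegree χ = Nat.card G) (hq : q.Prime) (h1 : ¬ q ∣ c) {x : G} (hx : q ∣ orderOf x) :
    χ x = 0 :=
  h.eq_zero_of_defect_zero hq (Nat.pow_succ_factorization_not_dvd Nat.card_pos.ne' hq)
    h.isCharacter.cast_charDegree.symm ((Nat.Coprime.pow_left _ (hq.coprime_iff_not_dvd.2 h1)).dvd_of_dvd_mul_left
      (hc ▸ Nat.ordProj_dvd _ _)) hx

theorem codeg_prime [Finite G] {χ : G → ℂ} (h : IsIrrCharacter G χ) {p : ℕ}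
    (hp : p.Prime) (hc : Nat.card G = p * charDegree χ) :
    ∃ P : Subgroup G, P.Normal ∧ Nat.card P = p ∧ centralizer (P : Set G) ≤ P := by
  classical
  have := Fact.mk hp
  have hd := h.isCharacter.cast_charDegree.symm
  have h0 := h.charDegree_pos
  have h1 : charDegree χ < p := by
    by_cases h2 : χ = fun _ => 1
    · simpa [h2, charDegree] using hp.one_lt
    have h3 := sum_charDegree_sq (G := G)
    rw [← Finset.add_sum_erase _ _ (Finset.mem_univ ⟨χ, h⟩), ← Finset.add_sum_erase _ _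
      (Finset.mem_erase.2 ⟨fun e => h2 (congrArg Subtype.val e).symm, Finset.mem_univ (irrOne G)⟩),
      hc] at h3
    have := (irrOne G).2.charDegree_pos
    by_contra! h4
    have h5 := Nat.mul_le_mul_right (charDegree χ) h4
    have h6 := pow_pos this 2
    simp only [sq] at h3 h6
    omega
  obtain ⟨P⟩ : Nonempty (Sylow p G) := inferInstance
  have h2 : Nat.card P = p := by
    rw [P.card_eq_multiplicity, hc, Nat.factorization_mul hp.ne_zero h0.ne', Finsupp.add_apply,
      hp.factorization_self, Nat.factorization_eq_zero_of_lt h1, pow_one]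
  have h3 : (P : Subgroup G).index = charDegree χ :=
    Nat.eq_of_mul_eq_mul_left hp.pos (by rw [← hc, ← (P : Subgroup G).card_mul_index, h2])
  have h4 : Nat.card (Sylow p G) = 1 := Nat.ModEq.eq_of_lt_of_lt (card_sylow_modEq_one p G)
    ((Nat.le_of_dvd h0 (h3 ▸ P.card_dvd_index)).trans_lt h1) hp.one_lt
  have := (Nat.card_eq_one_iff_unique.1 h4).1
  have hn := P.normal_of_subsingleton
  refine ⟨P, hn, h2, ?_⟩
  let C := centralizer ((P : Subgroup G) : Set G)
  have hPC : (P : Subgroup G) ≤ C := by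
    have : IsCyclic P := isCyclic_of_prime_card h2
    exact fun a ha b hb => congrArg Subtype.val
      ((IsCyclic.commGroup (α := P)).mul_comm ⟨b, hb⟩ ⟨a, ha⟩)
  have := Fintype.ofFinite C
  obtain ⟨θ, h5, h6⟩ := h.exists_irr_under C
  obtain ⟨e, he⟩ := (h.isCharacter.res C).classInner_eq_nat h5.isCharacter
  have h7 := h.degree_le_index_mul h5.isCharacter he hd h5.isCharacter.cast_charDegree.symm
  have h8 := h5.degree_sq_le_index (Z := (P : Subgroup G).subgroupOf C) (le_trans (fun x hx =>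
    mem_center_iff.2 fun y => Subtype.ext (y.2 x hx).symm) h5.center_le_charCenter)
    h5.isCharacter.cast_charDegree.symm
  have h9 := relIndex_mul_index hPC
  have h10 : 0 < e := Nat.pos_of_ne_zero fun h => h6 (by rw [he, h, Nat.cast_zero])
  have h11 : 0 < C.index := Nat.pos_of_ne_zero index_ne_zero_of_finite
  rw [← h3, ← h9] at h7
  have h12 : (P : Subgroup G).relIndex C ≤ charDegree θ :=
    Nat.le_of_mul_le_mul_right (by nlinarith) h11
  have h13 := h5.charDegree_pos
  refine relIndex_eq_one.1 (le_antisymm ?_ (Nat.pos_of_ne_zero index_ne_zero_of_finite))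
  change _ ≤ (P : Subgroup G).relIndex C at h8
  nlinarith

theorem multiset_sum_pow_prime_pow {p : ℕ} (hp : p.Prime) (n : ℕ) (s : Multiset ℂ)
    (hs : ∀ z ∈ s, IsIntegral ℤ z) : IsIntegral ℤ s.sum ∧ ∃ r, IsIntegral ℤ r ∧
      s.sum ^ p ^ n = (s.map (· ^ p ^ n)).sum + p * r := by
  induction s using Multiset.induction_on with
  | empty => exact ⟨isIntegral_zero, 0, isIntegral_zero, by simp [hp.ne_zero]⟩
  | cons a s ih =>
    obtain ⟨h1, r, h2, h3⟩ := ih fun z hz => hs z (Multiset.mem_cons_of_mem hz)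
    have ha := hs a (Multiset.mem_cons_self a s)
    obtain ⟨t, ht⟩ := exists_add_pow_prime_pow_eq hp (⟨a, ha⟩ : integralClosure ℤ ℂ) ⟨_, h1⟩ n
    have := congrArg Subtype.val ht
    push_cast at this
    refine ⟨by simpa using ha.add h1, r + a * s.sum * t, h2.add ((ha.mul h1).mul t.2), ?_⟩
    rw [Multiset.sum_cons, this, h3, Multiset.map_cons, Multiset.sum_cons]
    ring

theorem _root_.Cfsg.IsCharacter.pow_prime_pow [Finite G] {χ : G → ℂ} (h : IsCharacter G χ) {p : ℕ}
    (hp : p.Prime) (n : ℕ) (x : G) :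
    ∃ r, IsIntegral ℤ r ∧ χ x ^ p ^ n = χ (x ^ p ^ n) + p * r := by
  obtain ⟨s, -, h1, h2⟩ := h.exists_eigenvalues x
  obtain ⟨-, r, h3, h4⟩ := multiset_sum_pow_prime_pow hp n s fun z hz =>
    IsIntegral.of_pow (orderOf_pos x) (h1 z hz ▸ isIntegral_one)
  refine ⟨r, h3, ?_⟩
  have e1 := h2 1
  have e2 := h2 (p ^ n : ℕ)
  simp only [zpow_one, Multiset.map_id', zpow_natCast] at e1 e2
  rw [e1, e2, h4]

theorem sum_fsInd_mul [Fintype G] :
    ∑ χ : IrrCharacter G, fsInd χ.1 * χ.1 1 = Nat.card {x : G // orderOf x = 2} + 1 := by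
  classical
  have h1 := card_sqrt_eq_sum (1 : G)
  simp only [IsCharacter.conj_apply_one (IsIrrCharacter.isCharacter (Subtype.prop _))] at h1
  rw [← h1, Nat.card_eq_fintype_card, Nat.card_eq_fintype_card, Fintype.card_subtype,
    Fintype.card_subtype, ← Nat.cast_add_one, ← Finset.card_insert_of_notMem (a := 1) (by simp)]
  congr 2
  ext x
  simp only [Finset.mem_filter, Finset.mem_univ, true_and, Finset.mem_insert]
  refine ⟨fun h => or_iff_not_imp_left.2 fun h1 => orderOf_eq_prime (by rwa [sq]) h1, ?_⟩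
  rintro (rfl | h)
  · simp
  · rw [← sq, ← h, pow_orderOf_eq_one]

open Classical in
theorem sum_irr_quotient [Finite G] {M : Type*} [AddCommMonoid M] (N : Subgroup G) [N.Normal]
    (F : (G → ℂ) → M) : ∑ χ : IrrCharacter G with N ≤ charKer χ.1, F χ.1 =
      ∑ ψ : IrrCharacter (G ⧸ N), F fun g => ψ.1 g := by
  symm
  refine Finset.sum_bij (fun ψ _ => ⟨_, ψ.2.inflate⟩) (fun ψ _ => ?_) (fun ψ _ ψ' _ h => ?_)
    (fun ψ hψ => ?_) fun _ _ => rfl
  · simp only [Finset.mem_filter, Finset.mem_univ, true_and]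
    intro n hn y
    simp [(QuotientGroup.eq_one_iff n).2 hn]
  · ext y
    obtain ⟨y, rfl⟩ := QuotientGroup.mk_surjective y
    exact congrFun (congrArg Subtype.val h) y
  · obtain ⟨φ, h3, h4⟩ := ψ.2.exists_quotient N (Finset.mem_filter.1 hψ).2
    exact ⟨⟨φ, h3⟩, Finset.mem_univ _, Subtype.ext (funext h4)⟩

theorem sum_card_centralizer [Fintype G] : ∑ x : G, Nat.card (centralizer ({x} : Set G)) =
    Nat.card (IrrCharacter G) * Nat.card G := by
  rw [← Nat.cast_inj (R := ℝ)]
  push_cast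
  simp only [← sum_norm_sq_column]
  rw [Finset.sum_comm]
  simp [IsIrrCharacter.sum_norm_sq (Subtype.prop _)]

end Cfsg.Agent.Char
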