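import Cfsg.Agent.Lib.Char.Clifford
import Cfsg.Agent.Lib.Solv.Basic

/-!
Monomial characters; nilpotent groups are M-groups; permutation characters as sums over orbits.
-/

set_option autoImplicit false

universe u

namespace Cfsg

open Agent.Char
open scoped ComplexConjugate

namespace Agent.Char

variable {G : Type*} [Group G]

/-- A function induced from a linear character of a subgroup. -/
def IsMonomialFun (G : Type*) [Group G] [Fintype G] (χ : G → ℂ) : Prop :=
  ∃ (H : Subgroup G) (lam : H →* ℂˣ), χ = indFun H (fun h => (lam h : ℂ))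

theorem IsMonomialFun.ind [Fintype G] {K : Subgroup G} [Fintype K] {ψ : K → ℂ}
    (h : IsMonomialFun K ψ) : IsMonomialFun G (indFun K ψ) := by
  obtain ⟨L, lam, rfl⟩ := h
  exact ⟨L.map K.subtype,
    lam.comp (L.equivMapOfInjective _ K.subtype_injective).symm.toMonoidHom,
    indFun_indFun_map K L _⟩

theorem IsMonomialFun.comp_surjective [Fintype G] {G' : Type*} [Group G'] [Fintype G']
    (f : G →* G') (hf : Function.Surjective f) {ψ : G' → ℂ} (h : IsMonomialFun G' ψ) :
    IsMonomialFun G (fun g => ψ (f g)) := by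
  obtain ⟨L, lam, rfl⟩ := h
  refine ⟨L.comap f, lam.comp (f.subgroupComap L), ?_⟩
  ext g
  exact (indFun_comap f hf L (fun h => (lam h : ℂ)) g).symm

theorem isMonomialFun_units [Fintype G] (lam : G →* ℂˣ) :
    IsMonomialFun G (fun g => (lam g : ℂ)) :=
  ⟨⊤, lam.comp (⊤ : Subgroup G).subtype,
    (indFun_res_of_eq_top rfl (isIrrCharacter_units lam).isClassFunction).symm⟩

end Agent.Char

variable {G : Type*} [Group G]

/-- If a normal abelian subgroup is not contained in the centre of an irreducible character,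
the character is induced from a proper subgroup. -/
theorem IsIrrCharacter.exists_ind_of_comm [Fintype G] {χ : G → ℂ} (hχ : IsIrrCharacter G χ)
    (A : Subgroup G) [A.Normal] (hab : ∀ a ∈ A, ∀ b ∈ A, a * b = b * a)
    (hA : ¬ A ≤ charCenter χ) :
    ∃ (T : Subgroup G) (ψ : T → ℂ), T ≠ ⊤ ∧ A ≤ T ∧ IsIrrCharacter T ψ ∧ indFun T ψ = χ := by
  have := Fintype.ofFinite A
  obtain ⟨θ, hθ, h1⟩ := hχ.exists_irr_under A
  have hNT := le_inertia hθ.isClassFunction
  obtain ⟨ψ, hψ, h2, -⟩ := hθ.clifford_surj rfl hNT hχ h1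
  refine ⟨_, ψ, fun hT => hA fun x hx => ?_, hNT, hψ, h2⟩
  have h3 := hχ.res_eq_smul_of_invariant hθ (inertia_eq_top_iff.1 hT) h1
  obtain ⟨lam, rfl⟩ := hθ.isCharacter.exists_units_of_apply_one
    (hθ.apply_one_of_comm fun a b => Subtype.ext (hab a a.2 b b.2))
  rw [hχ.isCharacter.mem_charCenter]
  have h5 := congrFun h3 ⟨x, hx⟩
  have h6 := congrFun h3 1
  simp only [Pi.smul_apply, smul_eq_mul] at h5 h6
  rw [show χ x = _ from h5, show χ 1 = _ from h6, norm_mul, norm_mul, norm_units_hom,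
    norm_units_hom]

namespace Agent.Char

/-- Groups in a section-closed class whose nonabelian members have noncentral abelian normal
subgroups are M-groups. -/
theorem isMonomialFun_of_class (P : ∀ (G : Type u) [Group G], Prop)
    (hsub : ∀ (G : Type u) [Group G] (H : Subgroup G), P G → P H)
    (hquot : ∀ (G : Type u) [Group G] (N : Subgroup G) [N.Normal], P G → P (G ⧸ N))
    (hab : ∀ (G : Type u) [Group G] [Finite G], P G → Subgroup.center G ≠ ⊤ →
      ∃ A : Subgroup G, A.Normal ∧ (∀ a ∈ A, ∀ b ∈ A, a * b = b * a) ∧ ¬ A ≤ Subgroup.center G)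
    (G : Type u) [Group G] [Fintype G] (hG : P G) {χ : G → ℂ} (hχ : IsIrrCharacter G χ) :
    IsMonomialFun G χ := by
  suffices h : ∀ (n : ℕ) (G : Type u) [Group G] [Fintype G], Nat.card G = n → P G →
      ∀ χ : G → ℂ, IsIrrCharacter G χ → IsMonomialFun G χ from h _ G rfl hG χ hχ
  intro n
  induction n using Nat.strong_induction_on with
  | _ n ih =>
  intro G _ _ hn hG χ hχ
  by_cases hk : charKer χ = ⊥
  · by_cases hc : Subgroup.center G = ⊤
    · obtain ⟨lam, rfl⟩ := hχ.isCharacter.exists_units_of_apply_one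
        (hχ.apply_one_of_comm fun a b =>
          (Subgroup.mem_center_iff.1 (hc ▸ Subgroup.mem_top b : b ∈ Subgroup.center G) a))
      exact isMonomialFun_units lam
    · obtain ⟨A, hA, h1, h2⟩ := hab G hG hc
      obtain ⟨T, ψ, hT, -, hψ, rfl⟩ := hχ.exists_ind_of_comm A h1
        (by rwa [hχ.charCenter_eq_center hk])
      have := Fintype.ofFinite T
      exact (ih _ (hn ▸ Solv.card_lt_of_ne_top hT) T rfl (hsub G T hG) ψ hψ).ind
  · have := hχ.isClassFunction.normal_charKer
    obtain ⟨ψ, hψ, h1⟩ := hχ.exists_quotient (charKer χ) le_rfl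
    have := Fintype.ofFinite (G ⧸ charKer χ)
    have h2 := (ih _ (hn ▸ Solv.card_quotient_lt hk) _ rfl (hquot G _ hG) ψ hψ).comp_surjective
      (QuotientGroup.mk' _) (QuotientGroup.mk'_surjective _)
    simpa [h1] using h2

theorem exists_comm_normal_of_nilpotent (G : Type*) [Group G] [Group.IsNilpotent G]
    (hc : Subgroup.center G ≠ ⊤) :
    ∃ A : Subgroup G, A.Normal ∧ (∀ a ∈ A, ∀ b ∈ A, a * b = b * a) ∧
      ¬ A ≤ Subgroup.center G := by
  have : Nontrivial (G ⧸ Subgroup.center G) := QuotientGroup.nontrivial_iff.2 hc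
  obtain ⟨y, hy, hy1⟩ := Solv.exists_ne_one_of_ne_bot
    (Group.IsNilpotent.center_ne_bot (G ⧸ Subgroup.center G))
  obtain ⟨x, rfl⟩ := QuotientGroup.mk_surjective y
  have hx : ∀ g : G, g * x * g⁻¹ * x⁻¹ ∈ Subgroup.center G := fun g => by
    rw [← QuotientGroup.eq_one_iff]
    simp [Subgroup.mem_center_iff.1 hy g]
  have hm : ∀ a, a ∈ Subgroup.zpowers x ⊔ Subgroup.center G ↔
      ∃ n : ℤ, ∃ z ∈ Subgroup.center G, a = x ^ n * z := fun a => by
    rw [Solv.mem_sup_of_le_normalizer (by simp [Subgroup.normalizer_eq_top])]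
    simp [Subgroup.mem_zpowers_iff]
  refine ⟨Subgroup.zpowers x ⊔ Subgroup.center G, ⟨fun a ha g => ?_⟩, fun a ha b hb => ?_,
    fun h => hy1 ?_⟩
  · obtain ⟨n, z, hz, rfl⟩ := (hm a).1 ha
    have h1 : g * (x ^ n * z) * g⁻¹ = ((g * x * g⁻¹ * x⁻¹) * x) ^ n * (g * z * g⁻¹) := by
      rw [inv_mul_cancel_right, conj_zpow]; group
    rw [h1]
    refine Subgroup.mul_mem _ (Subgroup.zpow_mem _ (Subgroup.mul_mem _
      (Subgroup.mem_sup_right (hx g)) (Subgroup.mem_sup_left (Subgroup.mem_zpowers x))) _)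
      (Subgroup.mem_sup_right (Subgroup.Normal.conj_mem inferInstance z hz g))
  · obtain ⟨n, z, hz, rfl⟩ := (hm a).1 ha
    obtain ⟨m, w, hw, rfl⟩ := (hm b).1 hb
    have h1 : ∀ g, Commute g z := Subgroup.mem_center_iff.1 hz
    have h2 : ∀ g, Commute g w := Subgroup.mem_center_iff.1 hw
    exact Commute.mul_left (Commute.mul_right (Commute.zpow_zpow_self x n m) (h2 _))
      (h1 _).symm
  · exact (QuotientGroup.eq_one_iff x).2 (h (Subgroup.mem_sup_left (Subgroup.mem_zpowers x)))

/-- Nilpotent groups are M-groups. -/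
theorem isMonomialFun_of_nilpotent [Fintype G] [hG : Group.IsNilpotent G] {χ : G → ℂ}
    (hχ : IsIrrCharacter G χ) : IsMonomialFun G χ :=
  isMonomialFun_of_class (fun G _ => Group.IsNilpotent G) (fun _ _ _ _ => inferInstance)
    (fun _ _ _ _ _ => inferInstance) (fun G _ _ _ hc => exists_comm_normal_of_nilpotent G hc)
    G hG hχ

/-- The permutation character is the sum of the characters induced from point stabilizers of
orbit representatives. -/
theorem card_fixedBy_eq_sum_orbits [Fintype G] (X : Type*) [MulAction G X] [Finite X]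
    [Fintype (MulAction.orbitRel.Quotient G X)] (g : G) :
    (Nat.card (MulAction.fixedBy X g) : ℂ) = ∑ ω : MulAction.orbitRel.Quotient G X,
      indFun (MulAction.stabilizer G ω.out) (fun _ => 1) g := by
  classical
  have h1 : ∀ ω : MulAction.orbitRel.Quotient G X,
      indFun (MulAction.stabilizer G ω.out) (fun _ => 1) g =
        Nat.card (MulAction.fixedBy (MulAction.orbit G ω.out) g) := fun ω => by
    rw [← indFun_one_eq_card_fixedBy (MulAction.orbit G ω.out)
      ⟨ω.out, MulAction.mem_orbit_self _⟩ g]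
    have : MulAction.stabilizer G (⟨ω.out, MulAction.mem_orbit_self _⟩ : MulAction.orbit G ω.out)
        = MulAction.stabilizer G ω.out := by
      ext a
      simp [MulAction.mem_stabilizer_iff, Subtype.ext_iff]
    rw [this]
  simp only [h1]
  rw [← Nat.cast_sum, ← Nat.card_sigma]
  congr 1
  symm
  refine Nat.card_eq_of_bijective (fun t => ⟨t.2.1.1, congrArg Subtype.val t.2.2⟩) ⟨?_, ?_⟩
  · rintro ⟨ω, ⟨x, hx⟩, hx'⟩ ⟨ω', ⟨y, hy⟩, hy'⟩ h
    obtain rfl : x = y := congrArg Subtype.val h
    obtain rfl : ω = ω' := by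
      rw [← ω.out_eq, ← ω'.out_eq]
      exact (Quotient.sound (s := MulAction.orbitRel G X) hx).symm.trans
        (Quotient.sound (s := MulAction.orbitRel G X) hy)
    rfl
  · rintro ⟨x, hx⟩
    refine ⟨⟨Quotient.mk _ x, ⟨x, ?_⟩, Subtype.ext hx⟩, rfl⟩
    exact Quotient.exact (s := MulAction.orbitRel G X) (Quotient.out_eq _).symm

end Agent.Char

end Cfsg
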