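import Cfsg.Agent.Lib.Char.Det
import Mathlib.RingTheory.RootsOfUnity.Basic

/-!
Character triples: an invariant irreducible character of a normal subgroup extends, up to a linear
factor, to a finite central extension.  Consequences: degree divisibility and extension theorems.
-/

set_option autoImplicit false

namespace Cfsg.Agent.Char

open Module
open scoped ComplexConjugate

universe u

section Construction

variable {G : Type u} [Group G] {N : Subgroup G} [hN : N.Normal]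
variable {V : Type} [AddCommGroup V] [Module ℂ V] [FiniteDimensional ℂ V]

/-- Pairs of a group element and an intertwiner. -/
def tripleGroup (ρ : Representation ℂ N V) : Subgroup (G × (V →ₗ[ℂ] V)ˣ) where
  carrier := {x | (∀ m : N, (x.2 : V →ₗ[ℂ] V) * ρ m = ρ (MulAut.conjNormal x.1 m) * x.2) ∧
    LinearMap.det (x.2 : V →ₗ[ℂ] V) ^ Nat.card N = 1}
  mul_mem' := by
    rintro a b ⟨h1, h2⟩ ⟨h3, h4⟩
    refine ⟨fun m => ?_, ?_⟩
    · simp only [Prod.snd_mul, Units.val_mul, Prod.fst_mul, map_mul, MulAut.mul_apply]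
      rw [mul_assoc, h3, ← mul_assoc, h1, mul_assoc]
    · simp only [Prod.snd_mul, Units.val_mul, map_mul, mul_pow, h2, h4, mul_one]
  one_mem' := by simp
  inv_mem' := by
    rintro a ⟨h1, h2⟩
    refine ⟨fun m => ?_, ?_⟩
    · have := h1 (MulAut.conjNormal a.1⁻¹ m)
      rw [← MulAut.mul_apply, ← map_mul, mul_inv_cancel, map_one, MulAut.one_apply] at this
      simp only [Prod.snd_inv, Prod.fst_inv]
      rw [Units.inv_mul_eq_iff_eq_mul, ← mul_assoc, this, Units.mul_inv_cancel_right]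
    · have h3 : LinearMap.det ((a.2⁻¹ : (V →ₗ[ℂ] V)ˣ) : V →ₗ[ℂ] V) *
          LinearMap.det (a.2 : V →ₗ[ℂ] V) = 1 := by
        rw [← map_mul]; simp
      have h4 := congrArg (· ^ Nat.card N) h3
      simpa [mul_pow, h2] using h4

theorem tripleGroup_surjective [Finite G] (ρ : Representation ℂ N V) [ρ.IsIrreducible]
    (hinv : ∀ g, cj N g ρ.character = ρ.character) (g : G) :
    ∃ P, (g, P) ∈ tripleGroup ρ := by
  obtain ⟨φ⟩ := nonempty_equiv_of_character_eq ρ
    (ρ.comp (MulAut.conjNormal g : N ≃* N).toMonoidHom) (hinv g).symm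
  let P : (V →ₗ[ℂ] V)ˣ := LinearMap.GeneralLinearGroup.ofLinearEquiv φ.toLinearEquiv
  have hP : ∀ m : N, (P : V →ₗ[ℂ] V) * ρ m = ρ (MulAut.conjNormal g m) * P := fun m =>
    LinearMap.ext fun v => φ.toIntertwiningMap.isIntertwining _ _ m v
  have hd : LinearMap.det (P : V →ₗ[ℂ] V) ≠ 0 := (P.isUnit.map LinearMap.det).ne_zero
  obtain ⟨c, hc⟩ := IsAlgClosed.exists_pow_nat_eq (LinearMap.det (P : V →ₗ[ℂ] V))⁻¹
    (finrank_pos_of_isIrreducible ρ)
  have hc0 : c ≠ 0 := by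
    rintro rfl
    rw [zero_pow (finrank_pos_of_isIrreducible ρ).ne'] at hc
    exact inv_ne_zero hd hc.symm
  refine ⟨Units.mk0 c hc0 • P, fun m => ?_, ?_⟩
  · simp only [Units.val_smul, Units.smul_mk0, smul_mul_assoc, hP, mul_smul_comm]
  · simp only [Units.val_smul, Units.smul_mk0, LinearMap.det_smul, hc, inv_mul_cancel₀ hd,
      one_pow]

theorem tripleGroup_scalar (ρ : Representation ℂ N V) [ρ.IsIrreducible]
    {x : G × (V →ₗ[ℂ] V)ˣ} (hx : x ∈ tripleGroup ρ) (h1 : x.1 ∈ N) :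
    ∃ c : ℂˣ, (x.2 : V →ₗ[ℂ] V) = (c : ℂ) • ρ ⟨x.1, h1⟩ := by
  obtain ⟨c, hc⟩ := schur_scalar ρ ((x.2 : V →ₗ[ℂ] V) * ρ (⟨x.1, h1⟩ : N)⁻¹) fun m => by
    change (x.2 : V →ₗ[ℂ] V) * ρ (⟨x.1, h1⟩ : N)⁻¹ * ρ m = ρ m * (_ * _)
    rw [mul_assoc, ← map_mul, hx.1, hx.1, ← mul_assoc, ← map_mul]
    congr 2
    ext; simp [mul_assoc]
  have h2 : (x.2 : V →ₗ[ℂ] V) = c • ρ ⟨x.1, h1⟩ := by
    have := congrArg (· * ρ (⟨x.1, h1⟩ : N)) hc
    simp only [mul_assoc, ← map_mul, inv_mul_cancel, map_one, mul_one, smul_mul_assoc] at this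
    exact this
  have h3 : c ≠ 0 := by
    rintro rfl
    have := nontrivial_of_isIrreducible ρ
    exact x.2.ne_zero (by rw [h2, zero_smul])
  exact ⟨Units.mk0 c h3, h2⟩

omit hN in
theorem rep_smul_inj (ρ : Representation ℂ N V) [ρ.IsIrreducible] {c c' : ℂ} {m : N}
    (h : c • ρ m = c' • ρ m) : c = c' := by
  have := nontrivial_of_isIrreducible ρ
  refine smul_left_injective ℂ (fun h0 => ?_) h
  exact ((Group.isUnit m).map ρ).ne_zero h0

/-- **Character triples**: reduction to an invariant linear character. -/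
theorem exists_triple [Finite G] {θ : N → ℂ} (hθ : IsIrrCharacter N θ)
    (hinv : ∀ g, cj N g θ = θ) :
    ∃ (Γ : Type u) (_ : Group Γ) (_ : Finite Γ) (π : Γ →* G) (θ' : Γ → ℂ) (ν : N.comap π →* ℂˣ),
      Function.Surjective π ∧ π.ker ≤ Subgroup.center Γ ∧ IsCharacter Γ θ' ∧
      (∀ m : N.comap π, θ' m = ν m * θ ⟨π m, m.2⟩) ∧
      ∀ (g : Γ) (m : N.comap π),
        ν ⟨g * m * g⁻¹, (inferInstance : (N.comap π).Normal).conj_mem m m.2 g⟩ = ν m := by
  obtain ⟨n, ρ, hρ, rfl⟩ := hθ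
  let Γ := tripleGroup ρ
  let π : Γ →* G := (MonoidHom.fst _ _).comp Γ.subtype
  let τ : Representation ℂ Γ (Fin n → ℂ) :=
    (Units.coeHom _).comp ((MonoidHom.snd _ _).comp Γ.subtype)
  choose c hc using fun m : N.comap π => tripleGroup_scalar ρ m.1.2 m.2
  have hc' : ∀ m : N.comap π, τ m = (c m : ℂ) • ρ ⟨π m, m.2⟩ := hc
  let ν : N.comap π →* ℂˣ := MonoidHom.mk' c fun a b => by
    refine Units.ext (rep_smul_inj ρ (m := ⟨π (a * b : N.comap π), (a * b).2⟩) ?_)
    have h1 : τ (a * b : N.comap π) = τ a * τ b := map_mul τ _ _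
    rw [← hc', h1, hc', hc', smul_mul_smul_comm, ← map_mul, Units.val_mul]
    congr 2
  have hker : ∀ x : Γ, x ∈ π.ker → ∃ z : ℂ, τ x = z • LinearMap.id := fun x hx => by
    have h1 : π x = 1 := hx
    have h2 := hc' ⟨x, by simp [h1]⟩
    refine ⟨c ⟨x, by simp [h1]⟩, h2.trans ?_⟩
    congr 1
    simp only [h1]
    exact map_one ρ
  have hfin : Finite Γ := by
    refine (MonoidHom.finite_iff_finite_ker_range π).2 ⟨?_, inferInstance⟩
    choose z hz using hker
    have hk : finrank ℂ (Fin n → ℂ) * Nat.card N ≠ 0 :=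
      mul_ne_zero (finrank_pos_of_isIrreducible ρ).ne' Nat.card_pos.ne'
    have h1 : Finite {w : ℂ | w ^ (finrank ℂ (Fin n → ℂ) * Nat.card N) = 1} := by
      refine Set.Finite.subset (Polynomial.nthRoots (finrank ℂ (Fin n → ℂ) * Nat.card N)
        (1 : ℂ)).toFinset.finite_toSet fun w hw => ?_
      exact Multiset.mem_toFinset.2 ((Polynomial.mem_nthRoots (Nat.pos_of_ne_zero hk)).2 hw)
    refine Finite.of_injective (fun x : π.ker =>
      (⟨z x x.2, ?_⟩ : {w : ℂ | w ^ (finrank ℂ (Fin n → ℂ) * Nat.card N) = 1})) fun x y hxy => ?_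
    · have h2 : LinearMap.det (τ x) ^ Nat.card N = 1 := x.1.2.2
      rw [hz x x.2, LinearMap.det_smul, LinearMap.det_id, mul_one, ← pow_mul] at h2
      exact h2
    · have h2 : z x x.2 = z y y.2 := congrArg Subtype.val hxy
      refine Subtype.ext (Subtype.ext (Prod.ext ?_ (Units.ext ?_)))
      · exact (x.2 : π x = 1).trans (y.2 : π y = 1).symm
      · exact (hz x x.2).trans (h2 ▸ (hz y y.2).symm)
  refine ⟨Γ, inferInstance, hfin, π, τ.character, ν, fun g => ?_, fun x hx => ?_,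
    isCharacter_rep τ, fun m => ?_, fun g m => ?_⟩
  · obtain ⟨P, hP⟩ := tripleGroup_surjective ρ hinv g
    exact ⟨⟨_, hP⟩, rfl⟩
  · obtain ⟨z, hz⟩ := hker x hx
    refine Subgroup.mem_center_iff.2 fun y => Subtype.ext (Prod.ext ?_ (Units.ext ?_))
    · have h1 : π x = 1 := hx
      change π (y * x) = π (x * y)
      simp [h1]
    · change τ (y * x) = τ (x * y)
      rw [map_mul, map_mul, hz]
      ext; simp
  · simp only [Representation.character, hc', map_smul, smul_eq_mul]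
    rfl
  · refine Units.ext (rep_smul_inj ρ (m := ⟨π (g * m * g⁻¹),
      (inferInstance : (N.comap π).Normal).conj_mem m m.2 g⟩) ?_)
    refine (hc' ⟨g * m * g⁻¹, _⟩).symm.trans ?_
    have h1 : τ g * ρ ⟨π m, m.2⟩ = ρ (MulAut.conjNormal (π g) ⟨π m, m.2⟩) * τ g := g.2.1 _
    simp only
    rw [map_mul, map_mul, hc', mul_smul_comm, h1, smul_mul_assoc, mul_assoc, ← map_mul,
      mul_inv_cancel, map_one, mul_one]
    congr 2

end Construction

section Consequences

variable {G : Type u} [Group G] {N : Subgroup G} [hN : N.Normal]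

/-- An irreducible character over an invariant linear character is a multiple of it. -/
theorem _root_.Cfsg.IsIrrCharacter.le_charCenter_of_over_units [Finite G] [Fintype N] {β : G → ℂ}
    (hβ : IsIrrCharacter G β) {ν : N →* ℂˣ} (hinv : ∀ g, cj N g (fun n => (ν n : ℂ)) = fun n => (ν n : ℂ))
    (h : classInner (fun n : N => β n) (fun n => ν n) ≠ 0) :
    N ≤ charCenter β ∧ ∀ n : N, β n = β 1 * ν n := by
  have := Fintype.ofFinite G
  have h1 := hβ.res_eq_smul_of_invariant (isIrrCharacter_units ν) hinv h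
  have h2 := congrFun h1 1
  simp only [OneMemClass.coe_one, Pi.smul_apply, map_one, Units.val_one, smul_eq_mul,
    mul_one] at h2
  have h3 : ∀ n : N, β n = β 1 * ν n := fun n => by rw [h2]; exact congrFun h1 n
  refine ⟨fun n hn => hβ.isCharacter.mem_charCenter.2 ?_, h3⟩
  rw [h3 ⟨n, hn⟩, norm_mul, norm_units_hom, mul_one]

/-- Two characters whose restrictions differ by an invariant linear factor differ by a linear
factor. -/
theorem exists_units_mul_of_res [Finite G] {χ ψ : G → ℂ} (hχ : IsCharacter G χ)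
    (hψ : IsCharacter G ψ) (hψN : IsIrrCharacter N fun n : N => ψ n) {ν : N →* ℂˣ}
    (hinv : ∀ g, cj N g (fun n => (ν n : ℂ)) = fun n => (ν n : ℂ)) (h : ∀ n : N, χ n = ν n * ψ n) :
    ∃ μ : G →* ℂˣ, (∀ n : N, μ n = ν n) ∧ ∀ g, χ g = μ g * ψ g := by
  have := Fintype.ofFinite G
  have := Fintype.ofFinite N
  have h1 : IsIrrCharacter N ((fun n => (ν n : ℂ)) * fun n : N => ψ n) := hψN.mul_units ν
  have h2 : (fun n : N => χ n) = (fun n => (ν n : ℂ)) * fun n : N => ψ n := funext h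
  obtain ⟨β, ⟨h3, h4⟩, h5⟩ := (gallagher (isIrrCharacter_units ν) hinv hψ h1).surjOn
    ⟨hχ.isIrr_of_res N (h2 ▸ h1), by rw [h2, h1.classInner_self]; simp⟩
  have h6 : β 1 = 1 := by
    have h7 := congrFun h5 1
    have h8 := h 1
    simp only [Pi.mul_apply, OneMemClass.coe_one, map_one, Units.val_one, one_mul] at h7 h8
    rw [h8] at h7
    exact (mul_eq_right₀ (by simpa using hψN.apply_one_ne_zero)).1 h7
  obtain ⟨μ, rfl⟩ := h3.isCharacter.exists_units_of_apply_one h6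
  refine ⟨μ, fun n => Units.ext ?_, fun g => (congrFun h5 g).symm⟩
  simpa using (h3.le_charCenter_of_over_units hinv h4).2 n

theorem isIrr_comap {Γ : Type*} [Group Γ] (π : Γ →* G) (hπ : Function.Surjective π)
    {H : Subgroup G} {θ : H → ℂ} (hθ : IsIrrCharacter H θ) :
    IsIrrCharacter (H.comap π) fun m => θ ⟨π m, m.2⟩ :=
  hθ.comp_surjective (π.subgroupComap H) (π.subgroupComap_surjective_of_surjective H hπ)

theorem classInner_comap {Γ : Type*} [Group Γ] (π : Γ →* G) (hπ : Function.Surjective π)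
    {H : Subgroup G} [Fintype H] [Fintype (H.comap π)] (φ ψ : H → ℂ) :
    classInner (fun m : H.comap π => φ ⟨π m, m.2⟩) (fun m => ψ ⟨π m, m.2⟩) = classInner φ ψ :=
  classInner_comp_surjective (π.subgroupComap H) (π.subgroupComap_surjective_of_surjective H hπ)
    φ ψ

theorem cj_units_inv {ν : N →* ℂˣ} (hinv : ∀ g, cj N g (fun n => (ν n : ℂ)) = fun n => (ν n : ℂ))
    (g : G) : cj N g (fun n => (ν⁻¹ n : ℂ)) = fun n => (ν⁻¹ n : ℂ) := by
  ext n
  have := congrFun (hinv g) n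
  simp only [cj_apply, MonoidHom.inv_apply, Units.val_inv_eq_inv_val] at this ⊢
  rw [this]

/-- In the situation of `exists_triple`, characters over `θ` factor through characters over the
linear character `ν⁻¹`. -/
theorem triple_factor [Finite G] [Fintype N] {θ : N → ℂ} (hθ : IsIrrCharacter N θ)
    {Γ : Type u} [Group Γ] [Finite Γ] {π : Γ →* G} [Fintype (N.comap π)] {θ' : Γ → ℂ}
    {ν : N.comap π →* ℂˣ} (hπ : Function.Surjective π) (hθ' : IsCharacter Γ θ')
    (h1 : ∀ m : N.comap π, θ' m = ν m * θ ⟨π m, m.2⟩)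
    (h2 : ∀ g, cj (N.comap π) g (fun n => (ν n : ℂ)) = fun n => (ν n : ℂ)) {χ : G → ℂ}
    (hχ : IsIrrCharacter G χ) (h : classInner (fun n : N => χ n) θ ≠ 0) :
    ∃ β : Γ → ℂ, IsIrrCharacter Γ β ∧ classInner (fun m : N.comap π => β m) (fun m => ν⁻¹ m) ≠ 0 ∧
      ∀ x, χ (π x) = β x * θ' x := by
  have := Fintype.ofFinite Γ
  have h3 : ((fun m => (ν⁻¹ m : ℂ)) * fun m : N.comap π => θ' m) =
      fun m : N.comap π => θ ⟨π m, m.2⟩ := by
    ext m; simp [h1]
  obtain ⟨β, ⟨h4, h5⟩, h6⟩ := (gallagher (isIrrCharacter_units ν⁻¹) (cj_units_inv h2) hθ'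
    (h3 ▸ isIrr_comap π hπ hθ)).surjOn ⟨hχ.comp_surjective π hπ, by
      rw [h3]; exact (classInner_comap π hπ (fun n : N => χ n) θ).trans_ne h⟩
  exact ⟨β, h4, h5, fun x => (congrFun h6 x).symm⟩

theorem _root_.Cfsg.IsIrrCharacter.multiplicity_dvd_index [Finite G] {χ : G → ℂ}
    (hχ : IsIrrCharacter G χ) {θ : N → ℂ} (hθ : IsIrrCharacter N θ) {e : ℕ}
    (h : (fun n : N => χ n) = (e : ℂ) • θ) : e ∣ N.index := by
  have := Fintype.ofFinite N
  have he0 : (e : ℂ) ≠ 0 := by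
    rintro h0
    have := congrFun h 1
    rw [h0, zero_smul] at this
    exact hχ.apply_one_ne_zero this
  obtain ⟨Γ, _, _, π, θ', ν, h1, -, h2, h3, h4⟩ :=
    exists_triple hθ (invariant_of_res_eq_smul hχ.isClassFunction he0 h)
  have := Fintype.ofFinite (N.comap π)
  have h5 : ∀ g, cj (N.comap π) g (fun n => (ν n : ℂ)) = fun n => (ν n : ℂ) := fun g =>
    funext fun m => congrArg Units.val (h4 g m)
  obtain ⟨β, h6, h7, h8⟩ := triple_factor hθ h1 h2 h3 h5 hχ (by
    rw [h, classInner_smul_left, hθ.classInner_self]; simpa using he0)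
  rw [← N.index_comap_of_surjective h1]
  refine h6.degree_dvd_index (h6.le_charCenter_of_over_units (cj_units_inv h5) h7).1 ?_
  have h9 := h8 1
  have h10 := h3 1
  have h11 := congrFun h 1
  simp only [map_one, OneMemClass.coe_one, Units.val_one, one_mul, Pi.smul_apply,
    smul_eq_mul] at h9 h10 h11
  rw [h10, h11] at h9
  exact (mul_right_cancel₀ hθ.apply_one_ne_zero h9).symm

theorem _root_.Cfsg.IsIrrCharacter.multiplicity_dvd_relIndex [Finite G] {T : Subgroup G}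
    (hNT : N ≤ T) {χ : T → ℂ} (hχ : IsIrrCharacter T χ) {θ : N → ℂ} (hθ : IsIrrCharacter N θ)
    {e : ℕ} (h : (fun n : N => χ ⟨n, hNT n.2⟩) = (e : ℂ) • θ) : e ∣ N.relIndex T :=
  hχ.multiplicity_dvd_index (N := N.subgroupOf T) ((isIrr_subgroupOf_iff hNT).2 hθ)
    (funext fun n => congrFun h ⟨(n : T), Subgroup.mem_subgroupOf.mp n.2⟩)

/-- The ramification index divides the index of `N` in the inertia group. -/
theorem _root_.Cfsg.IsIrrCharacter.classInner_dvd_relIndex [Finite G] [Fintype N] {χ : G → ℂ}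
    (hχ : IsIrrCharacter G χ) {θ : N → ℂ} (hθ : IsIrrCharacter N θ) {e : ℕ} (he : e ≠ 0)
    (h : classInner (fun n : N => χ n) θ = e) : e ∣ N.relIndex (inertia N θ) := by
  have := Fintype.ofFinite G
  have hNT := le_inertia hθ.isClassFunction
  obtain ⟨ψ, h1, -, h3⟩ := hθ.clifford_surj rfl hNT hχ (by rw [h]; simpa using he)
  have h4 := h1.res_le_eq_smul hNT hθ le_rfl (by rw [h3, h]; simpa using he)
  rw [h3, h] at h4
  exact h1.multiplicity_dvd_relIndex hNT hθ h4

/-- The ratio of the degrees divides the index. -/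
theorem _root_.Cfsg.IsIrrCharacter.exists_degree_eq_mul [Finite G] [Fintype N] {χ : G → ℂ}
    (hχ : IsIrrCharacter G χ) {θ : N → ℂ} (hθ : IsIrrCharacter N θ)
    (h : classInner (fun n : N => χ n) θ ≠ 0) : ∃ k : ℕ, k ∣ N.index ∧ χ 1 = k * θ 1 := by
  have := Fintype.ofFinite G
  obtain ⟨e, he⟩ := (hχ.isCharacter.res N).classInner_eq_nat hθ.isCharacter
  have he0 : e ≠ 0 := by rintro rfl; exact h (by simpa using he)
  refine ⟨e * (inertia N θ).index, ?_, by rw [hχ.clifford_degree hθ h, he]; simp⟩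
  rw [← Subgroup.relIndex_mul_index (le_inertia hθ.isClassFunction)]
  exact Nat.mul_dvd_mul_right (hχ.classInner_dvd_relIndex hθ he0 he) _

/-- If the degree of `χ` is prime to the index of `N` then `χ` restricts irreducibly. -/
theorem _root_.Cfsg.IsIrrCharacter.res_irr_of_coprime [Finite G] {χ : G → ℂ}
    (hχ : IsIrrCharacter G χ) {d : ℕ} (hd : χ 1 = d) (hcop : N.index.Coprime d) :
    IsIrrCharacter N fun n : N => χ n := by
  have := Fintype.ofFinite N
  obtain ⟨θ, hθ, h⟩ := hχ.exists_irr_under N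
  obtain ⟨k, h1, h2⟩ := hχ.exists_degree_eq_mul hθ h
  obtain ⟨c, -, hc⟩ := hθ.exists_degree
  have h3 : d = k * c := by rw [hd, hc] at h2; exact_mod_cast h2
  have h4 : k = 1 := Nat.eq_one_of_dvd_coprimes hcop h1 ⟨c, h3⟩
  rw [(hχ.isCharacter.res N).eq_of_constituent_of_apply_one hθ h (by simpa [h4] using h2)]
  exact hθ

/-- In the situation of `exists_triple`, if `ν` extends then so does `θ`. -/
theorem triple_ext [Finite G] {θ : N → ℂ} (hθ : IsIrrCharacter N θ)
    {Γ : Type u} [Group Γ] [Finite Γ] {π : Γ →* G} {θ' : Γ → ℂ}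
    {ν : N.comap π →* ℂˣ} (hπ : Function.Surjective π) (hθ' : IsCharacter Γ θ')
    (h1 : ∀ m : N.comap π, θ' m = ν m * θ ⟨π m, m.2⟩) {μ : Γ →* ℂˣ}
    (hμ : ∀ m : N.comap π, μ m = ν m) : ∃ χ, IsIrrCharacter G χ ∧ ∀ n : N, χ n = θ n := by
  have h2 : IsCharacter Γ fun x => (μ⁻¹ x : ℂ) * θ' x :=
    (isIrrCharacter_units μ⁻¹).isCharacter.mul hθ'
  have h3 : ∀ m : N.comap π, (μ⁻¹ m : ℂ) * θ' m = θ ⟨π m, m.2⟩ := fun m => by
    simp [h1, hμ]
  obtain ⟨χ, h4, h5⟩ := h2.exists_descend π hπ fun x hx => h2.mem_charKer.2 (by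
    have h6 : π x = 1 := hx
    have h7 := h3 ⟨x, by simp [h6]⟩
    have h8 := h3 1
    simp only [h6, OneMemClass.coe_one, map_one] at h7 h8
    simp only [map_one]
    rw [h7, h8])
  have h6 : ∀ n : N, χ n = θ n := fun n => by
    obtain ⟨x, hx⟩ := hπ n
    have := h3 ⟨x, by simp [hx]⟩
    rw [← hx, h5, this]
    simp [hx]
  exact ⟨χ, h4.isIrr_of_res N (by rwa [funext h6]), h6⟩

/-- In the situation of `exists_triple`, if `θ` extends to `H` then `ν` extends to its preimage. -/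
theorem triple_ext_units [Finite G] {θ : N → ℂ} (hθ : IsIrrCharacter N θ)
    {Γ : Type u} [Group Γ] [Finite Γ] {π : Γ →* G} {θ' : Γ → ℂ}
    {ν : N.comap π →* ℂˣ} (hπ : Function.Surjective π) (hθ' : IsCharacter Γ θ')
    (h1 : ∀ m : N.comap π, θ' m = ν m * θ ⟨π m, m.2⟩)
    (h2 : ∀ g, cj (N.comap π) g (fun n => (ν n : ℂ)) = fun n => (ν n : ℂ))
    {H : Subgroup G} (hNH : N ≤ H) {η : H → ℂ} (hη : IsCharacter H η)
    (h3 : ∀ n : N, η ⟨n, hNH n.2⟩ = θ n) :
    ∃ μ : H.comap π →* ℂˣ, ∀ m : N.comap π, μ ⟨m, Subgroup.comap_mono hNH m.2⟩ = ν m := by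
  have hle : N.comap π ≤ H.comap π := Subgroup.comap_mono hNH
  let e := Subgroup.subgroupOfEquivOfLe hle
  obtain ⟨μ, h4, -⟩ := exists_units_mul_of_res (N := (N.comap π).subgroupOf (H.comap π))
    (hθ'.res (H.comap π)) (hη.comp (π.subgroupComap H)) (ν := ν.comp e.toMonoidHom)
    (by
      have := (isIrr_subgroupOf_iff hle).2 (isIrr_comap π hπ hθ)
      convert this using 2 with m
      exact h3 ⟨π m, m.2⟩)
    (fun g => funext fun m => congrFun (h2 g) (e m))
    (fun m => (h1 (e m)).trans (congrArg _ (h3 ⟨π m, m.2⟩).symm))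
  exact ⟨μ, fun m => h4 (e.symm m)⟩

/-- Extension from subgroups of index prime to each prime. -/
theorem _root_.Cfsg.IsIrrCharacter.exists_ext_of_forall_prime [Finite G] {θ : N → ℂ}
    (hθ : IsIrrCharacter N θ) (hinv : ∀ g, cj N g θ = θ)
    (h : ∀ p : ℕ, p.Prime → p ∣ N.index → ∃ (H : Subgroup G) (hNH : N ≤ H) (η : H → ℂ),
      ¬ p ∣ H.index ∧ IsCharacter H η ∧ ∀ n : N, η ⟨n, hNH n.2⟩ = θ n) :
    ∃ χ, IsIrrCharacter G χ ∧ ∀ n : N, χ n = θ n := by
  obtain ⟨Γ, _, _, π, θ', ν, h1, -, h2, h3, h4⟩ := exists_triple hθ hinv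
  have h5 : ∀ g, cj (N.comap π) g (fun n => (ν n : ℂ)) = fun n => (ν n : ℂ) := fun g =>
    funext fun m => congrArg Units.val (h4 g m)
  obtain ⟨μ, hμ⟩ := Char.exists_ext_of_forall_prime h4 fun p hp h6 _ => by
    rw [N.index_comap_of_surjective h1] at h6
    obtain ⟨H, hNH, η, h7, h8, h9⟩ := h p hp h6
    obtain ⟨μ, hμ⟩ := triple_ext_units hθ h1 h2 h3 h5 hNH h8 h9
    exact ⟨H.comap π, Subgroup.comap_mono hNH, μ, by rwa [H.index_comap_of_surjective h1], hμ⟩
  exact triple_ext hθ h1 h2 h3 hμ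

/-- Extension of an invariant character of degree prime to the index whose determinant extends. -/
theorem _root_.Cfsg.IsIrrCharacter.exists_ext_of_det [Finite G] {θ : N → ℂ}
    (hθ : IsIrrCharacter N θ) (hinv : ∀ g, cj N g θ = θ) {d : ℕ} (hd : θ 1 = d)
    (hcop : N.index.Coprime d) {μ : G →* ℂˣ} (hμ : ∀ n : N, (μ n : ℂ) = detChar θ n) :
    ∃ χ, IsIrrCharacter G χ ∧ ∀ n : N, χ n = θ n := by
  obtain ⟨Γ, _, _, π, θ', ν, h1, -, h2, h3, h4⟩ := exists_triple hθ hinv
  obtain ⟨δ, hδ⟩ := h2.exists_detChar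
  obtain ⟨μ', hμ'⟩ := exists_ext_of_powExtends h4 (d := d)
    (by rwa [N.index_comap_of_surjective h1]) ⟨δ / μ.comp π, fun m => Units.ext (by
      have h5 := h2.detChar_res (N.comap π) m
      have h6 := (hθ.isCharacter.comp (π.subgroupComap N)).detChar_units_mul ν (d := d)
        (by simpa using hd) m
      rw [hθ.isCharacter.detChar_comp] at h6
      rw [funext h3, hδ] at h5
      have h7 : (δ m : ℂ) = (ν m : ℂ) ^ d * μ (π m) :=
        h5.symm.trans (h6.trans (congrArg _ (hμ ⟨π m, m.2⟩).symm))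
      simp [h7])⟩
  exact triple_ext hθ h1 h2 h3 hμ'

theorem apply_one_of_cyclic_quotient [Finite G] {β : G → ℂ} (hβ : IsIrrCharacter G β)
    (hZ : N ≤ charCenter β) (hcyc : IsCyclic (G ⧸ N)) : β 1 = 1 := by
  have := hβ.isClassFunction.normal_charKer
  obtain ⟨γ, h1, h2⟩ := hβ.exists_quotient (charKer β) le_rfl
  rw [← h2, QuotientGroup.mk_one]
  refine h1.apply_one_of_comm fun a b => ?_
  obtain ⟨x, hx⟩ := hcyc.exists_generator
  obtain ⟨x, rfl⟩ := QuotientGroup.mk_surjective x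
  have h3 : ∀ z ∈ N, ∀ g : G, Commute (z : G ⧸ charKer β) g := fun z hz g => by
    have := hβ.isCharacter.commutator_mem_charKer (hZ hz) g
    rw [← QuotientGroup.eq_one_iff] at this
    rw [← commutatorElement_eq_one_iff_commute]
    exact this
  have h4 : ∀ a : G, ∃ z ∈ N, ∃ k : ℤ, a = x ^ k * z := fun a => by
    obtain ⟨k, hk⟩ := Subgroup.mem_zpowers_iff.1 (hx a)
    exact ⟨(x ^ k)⁻¹ * a, QuotientGroup.eq.1 hk, k, by simp⟩
  obtain ⟨a, rfl⟩ := QuotientGroup.mk_surjective a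
  obtain ⟨b, rfl⟩ := QuotientGroup.mk_surjective b
  obtain ⟨z, hz, k, rfl⟩ := h4 a
  rw [QuotientGroup.mk_mul]
  refine Commute.mul_left ?_ (h3 z hz b)
  obtain ⟨w, hw, j, rfl⟩ := h4 b
  rw [QuotientGroup.mk_mul]
  exact Commute.mul_right ((Commute.zpow_zpow_self x k j).map (QuotientGroup.mk' _))
    (h3 w hw _).symm

/-- Over a cyclic quotient, every irreducible character over an invariant `θ` extends `θ`. -/
theorem _root_.Cfsg.IsIrrCharacter.res_eq_of_cyclic [Finite G] [Fintype N] {θ : N → ℂ}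
    (hθ : IsIrrCharacter N θ) (hinv : ∀ g, cj N g θ = θ) (hcyc : IsCyclic (G ⧸ N)) {χ : G → ℂ}
    (hχ : IsIrrCharacter G χ) (h : classInner (fun n : N => χ n) θ ≠ 0) :
    (fun n : N => χ n) = θ := by
  obtain ⟨Γ, _, _, π, θ', ν, h1, -, h2, h3, h4⟩ := exists_triple hθ hinv
  have := Fintype.ofFinite (N.comap π)
  have h5 : ∀ g, cj (N.comap π) g (fun n => (ν n : ℂ)) = fun n => (ν n : ℂ) := fun g =>
    funext fun m => congrArg Units.val (h4 g m)
  obtain ⟨β, h6, h7, h8⟩ := triple_factor hθ h1 h2 h3 h5 hχ h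
  have h9 := apply_one_of_cyclic_quotient h6
    (h6.le_charCenter_of_over_units (cj_units_inv h5) h7).1 (by
      let f := QuotientGroup.map (N.comap π) N π le_rfl
      refine isCyclic_of_injective f ((injective_iff_map_eq_one f).2 fun x hx => ?_)
      obtain ⟨x, rfl⟩ := QuotientGroup.mk_surjective x
      exact (QuotientGroup.eq_one_iff _).2 ((QuotientGroup.eq_one_iff (π x)).1 hx))
  refine (hχ.isCharacter.res N).eq_of_constituent_of_apply_one hθ h ?_
  have h10 := h8 1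
  have h11 := h3 1
  simp only [map_one, OneMemClass.coe_one, Units.val_one, one_mul, h9] at h10 h11
  exact h10.trans h11

theorem _root_.Cfsg.IsIrrCharacter.exists_ext_of_cyclic [Finite G] {θ : N → ℂ}
    (hθ : IsIrrCharacter N θ) (hinv : ∀ g, cj N g θ = θ) (hcyc : IsCyclic (G ⧸ N)) :
    ∃ χ, IsIrrCharacter G χ ∧ ∀ n : N, χ n = θ n := by
  have := Fintype.ofFinite G
  have := Fintype.ofFinite N
  obtain ⟨χ, hχ, h⟩ := hθ.exists_irr_over
  exact ⟨χ, hχ, congrFun (hθ.res_eq_of_cyclic hinv hcyc hχ h)⟩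

/-- Existence and uniqueness of the extension with prescribed determinant. -/
theorem existsUnique_ext_det [Finite G] {η : G → ℂ} (hη : IsCharacter G η)
    (hηN : IsIrrCharacter N fun n : N => η n) {d : ℕ} (hd : η 1 = d) (hcop : N.index.Coprime d)
    {μ : G →* ℂˣ} (hμ : ∀ n : N, (μ n : ℂ) = detChar η n) :
    ∃! χ, IsIrrCharacter G χ ∧ (∀ n : N, χ n = η n) ∧ detChar χ = fun g => (μ g : ℂ) := by
  obtain ⟨δ, hδ⟩ := hη.exists_detChar
  have h1 : ∀ n : N, (μ / δ) n = 1 := fun n => by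
    rw [MonoidHom.div_apply, div_eq_one]
    exact Units.ext (by rw [hμ, hδ])
  have key : ∀ β : G →* ℂˣ, detChar (fun g => (β g : ℂ) * η g) = fun g => ((β ^ d * δ) g : ℂ) :=
    fun β => funext fun g => by rw [hη.detChar_units_mul β hd, hδ]; simp
  have hinj : ∀ β : G →* ℂˣ, (∀ n : N, β n = 1) → ∀ g,
      (β g ^ d) ^ Nat.gcdB N.index d = β g := fun β hβ g => by
    have h2 : β g ^ (N.index : ℤ) = 1 := by
      rw [zpow_natCast]; exact pow_index_eq_one_of_trivial β hβ g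
    have h3 := Nat.gcd_eq_gcd_ab N.index d
    rw [hcop] at h3
    rw [← zpow_natCast, ← zpow_mul, eq_sub_of_add_eq' h3.symm, zpow_sub, zpow_mul, h2]
    simp
  let β := (μ / δ) ^ Nat.gcdB N.index d
  have hβ : ∀ n : N, β n = 1 := fun n => by rw [MonoidHom.zpow_apply, h1, one_zpow]
  have hβd : ∀ g, β g ^ d = μ g / δ g := fun g => by
    rw [MonoidHom.zpow_apply, ← zpow_natCast, ← zpow_mul, mul_comm, zpow_mul, zpow_natCast,
      hinj _ h1, MonoidHom.div_apply]
  refine ⟨fun g => (β g : ℂ) * η g, ⟨(hη.isIrr_of_res N hηN).mul_units β, fun n => by simp [hβ],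
    by rw [key]; ext g; simp [hβd]⟩, fun χ ⟨h2, h3, h4⟩ => ?_⟩
  obtain ⟨γ, h5, h6⟩ := exists_units_mul_of_res h2.isCharacter hη hηN (ν := 1)
    (fun g => cj_const g 1) (fun n => by simp [h3])
  rw [funext h6, key] at h4
  ext g
  have h7 : γ g ^ d = (μ / δ) g :=
    eq_div_iff_mul_eq'.2 (DFunLike.congr_fun (units_fun_injective h4) g)
  rw [h6, ← hinj γ h5, h7, MonoidHom.zpow_apply]

theorem detChar_invariant [Finite G] {θ : N → ℂ} (hθ : IsCharacter N θ)
    (hinv : ∀ g, cj N g θ = θ) (g : G) (n : N) :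
    detChar θ ⟨g * n * g⁻¹, hN.conj_mem n n.2 g⟩ = detChar θ n := by
  conv_rhs => rw [← hinv g]
  exact (hθ.detChar_comp (MulAut.conjNormal g : N ≃* N).toMonoidHom n).symm

/-- The canonical extension. -/
theorem _root_.Cfsg.IsIrrCharacter.exists_canonical_ext [Finite G] {θ : N → ℂ}
    (hθ : IsIrrCharacter N θ) (hinv : ∀ g, cj N g θ = θ) {d : ℕ} (hd : θ 1 = d)
    (hcop : N.index.Coprime (detOrder θ * d)) :
    ∃ χ, (IsIrrCharacter G χ ∧ (∀ n : N, χ n = θ n) ∧ detOrder χ = detOrder θ) ∧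
      ∀ χ', IsIrrCharacter G χ' → (∀ n : N, χ' n = θ n) → N.index.Coprime (detOrder χ') →
        χ' = χ := by
  obtain ⟨lam, hlam⟩ := hθ.isCharacter.exists_detChar
  have h1 : detOrder θ = orderOf lam := by rw [detOrder, hlam, orderOf_units_fun]
  rw [h1] at hcop ⊢
  obtain ⟨μ, h2, h3⟩ := exists_ext_orderOf_eq (lam := lam) (fun g n => Units.ext (by
    have := detChar_invariant hθ.isCharacter hinv g n
    rwa [hlam] at this)) hcop.coprime_mul_right_right
  obtain ⟨η, h4, h5⟩ := hθ.exists_ext_of_det hinv hd hcop.coprime_mul_left_right (μ := μ)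
    fun n => by rw [h2, hlam]
  obtain ⟨χ, ⟨h6, h7, h8⟩, h9⟩ := existsUnique_ext_det (N := N) h4.isCharacter
    (by rwa [funext h5]) (d := d) ((h5 1).trans hd) hcop.coprime_mul_left_right (μ := μ)
    fun n => by rw [← h4.isCharacter.detChar_res, funext h5, h2, hlam]
  refine ⟨χ, ⟨h6, fun n => (h7 n).trans (h5 n), by rw [detOrder, h8, orderOf_units_fun, h3]⟩,
    fun χ' h10 h11 h12 => h9 χ' ⟨h10, fun n => (h11 n).trans (h5 n).symm, ?_⟩⟩
  obtain ⟨δ, hδ⟩ := h10.isCharacter.exists_detChar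
  rw [detOrder, hδ, orderOf_units_fun] at h12
  rw [hδ, eq_of_eq_on_of_coprime (μ := δ) (μ' := μ) (fun n => Units.ext ?_) h12
    (h3 ▸ hcop.coprime_mul_right_right)]
  have := h10.isCharacter.detChar_res N n
  rw [funext h11, hlam, hδ] at this
  rw [h2]; exact this.symm

theorem _root_.Cfsg.IsCharacter.detOrder_dvd_card [Finite G] {θ : G → ℂ} (hθ : IsCharacter G θ) :
    detOrder θ ∣ Nat.card G := by
  obtain ⟨lam, hlam⟩ := hθ.exists_detChar
  rw [detOrder, hlam, orderOf_units_fun]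
  refine orderOf_dvd_of_pow_eq_one (MonoidHom.ext fun g => ?_)
  rw [MonoidHom.pow_apply, ← map_pow, pow_card_eq_one', map_one]; rfl

/-- An invariant character of a normal Hall subgroup extends. -/
theorem _root_.Cfsg.IsIrrCharacter.exists_ext_of_coprime [Finite G] {θ : N → ℂ}
    (hθ : IsIrrCharacter N θ) (hinv : ∀ g, cj N g θ = θ) (hcop : N.index.Coprime (Nat.card N)) :
    ∃ χ, IsIrrCharacter G χ ∧ ∀ n : N, χ n = θ n := by
  obtain ⟨d, -, hd⟩ := hθ.exists_degree
  obtain ⟨χ, ⟨h1, h2, -⟩, -⟩ := hθ.exists_canonical_ext hinv hd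
    ((hcop.coprime_dvd_right hθ.isCharacter.detOrder_dvd_card).mul_right
      (hcop.coprime_dvd_right (hθ.degree_dvd_card hd)))
  exact ⟨χ, h1, h2⟩

end Consequences

end Cfsg.Agent.Char
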