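import Cfsg.Agent.Lib.Char.Integral

/-!
Clifford theory: conjugate characters, inertia groups, Clifford's theorem and the Clifford
correspondence.
-/

set_option autoImplicit false

namespace Cfsg

open Agent.Char
open scoped ComplexConjugate

variable {G : Type*} [Group G]

/-- Two characters with a common irreducible constituent are not orthogonal. -/
theorem IsCharacter.classInner_ne_zero_of_common [Fintype G] {φ ψ χ : G → ℂ}
    (hφ : IsCharacter G φ) (hψ : IsCharacter G ψ) (hχ : IsIrrCharacter G χ)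
    (h1 : classInner φ χ ≠ 0) (h2 : classInner ψ χ ≠ 0) : classInner φ ψ ≠ 0 := by
  have h3 : classInner φ ψ = classInner φ χ + classInner φ (ψ - χ) := by
    rw [← classInner_add_right]; simp
  obtain ⟨a, ha⟩ := hφ.classInner_eq_nat hχ.isCharacter
  obtain ⟨b, hb⟩ := hφ.classInner_eq_nat (hψ.sub_irr hχ h2)
  rw [h3, ha, hb]
  rw [ha] at h1
  norm_cast at *
  omega

theorem IsCharacter.exists_common_constituent [Fintype G] {φ ψ : G → ℂ}
    (hφ : IsCharacter G φ) (h : classInner φ ψ ≠ 0) :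
    ∃ χ, IsIrrCharacter G χ ∧ classInner φ χ ≠ 0 ∧ classInner ψ χ ≠ 0 := by
  rw [hφ.isClassFunction.classInner_eq_sum] at h
  obtain ⟨χ, -, h1⟩ := Finset.exists_ne_zero_of_sum_ne_zero h
  exact ⟨χ, χ.2, left_ne_zero_of_mul h1, by simpa using right_ne_zero_of_mul h1⟩

theorem IsCharacter.classInner_add_ne_zero [Fintype G] {φ ψ χ : G → ℂ}
    (hφ : IsCharacter G φ) (hψ : IsCharacter G ψ) (hχ : IsCharacter G χ)
    (h : classInner φ χ ≠ 0) : classInner (φ + ψ) χ ≠ 0 := by
  obtain ⟨a, ha⟩ := hφ.classInner_eq_nat hχ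
  obtain ⟨b, hb⟩ := hψ.classInner_eq_nat hχ
  rw [classInner_add_left, ha, hb]
  rw [ha] at h
  norm_cast at *
  omega

namespace Agent.Char

/-- Frobenius reciprocity inside an intermediate subgroup. -/
theorem frobenius_subgroupOf {H T : Subgroup G} [Fintype H] [Fintype T] (hHT : H ≤ T) (θ : H → ℂ)
    {ψ : T → ℂ} (hψ : IsClassFunction T ψ) :
    classInner (indFun (H.subgroupOf T) (fun x => θ ⟨(x : T), Subgroup.mem_subgroupOf.mp x.2⟩)) ψ =
      classInner θ (fun h : H => ψ ⟨h, hHT h.2⟩) := by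
  have := Fintype.ofFinite (H.subgroupOf T)
  rw [frobenius_left _ _ hψ, ← classInner_comp_equiv (Subgroup.subgroupOfEquivOfLe hHT)]
  rfl

theorem classInner_subgroupOf {H T : Subgroup G} [Fintype H] [Fintype (H.subgroupOf T)]
    (hHT : H ≤ T) (φ ψ : H → ℂ) :
    classInner (fun x : H.subgroupOf T => φ ⟨(x : T), Subgroup.mem_subgroupOf.mp x.2⟩)
      (fun x => ψ ⟨(x : T), Subgroup.mem_subgroupOf.mp x.2⟩) = classInner φ ψ :=
  classInner_comp_equiv (Subgroup.subgroupOfEquivOfLe hHT) φ ψ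

section Conj

variable (N : Subgroup G) [hN : N.Normal]

/-- The conjugate of a function on a normal subgroup. -/
def cj (g : G) (θ : N → ℂ) : N → ℂ := fun n => θ ⟨g * n * g⁻¹, hN.conj_mem n n.2 g⟩

variable {N}

theorem cj_apply (g : G) (θ : N → ℂ) (n : N) :
    cj N g θ n = θ ⟨g * n * g⁻¹, hN.conj_mem n n.2 g⟩ := rfl

theorem cj_eq_comp (g : G) (θ : N → ℂ) : cj N g θ = fun n => θ (MulAut.conjNormal g n) := rfl

@[simp] theorem cj_one (θ : N → ℂ) : cj N 1 θ = θ := by ext n; simp [cj]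

theorem cj_mul (g h : G) (θ : N → ℂ) : cj N (g * h) θ = cj N h (cj N g θ) := by
  ext n; simp [cj, mul_assoc]

@[simp] theorem cj_inv_cj (g : G) (θ : N → ℂ) : cj N g⁻¹ (cj N g θ) = θ := by
  rw [← cj_mul]; simp

@[simp] theorem cj_cj_inv (g : G) (θ : N → ℂ) : cj N g (cj N g⁻¹ θ) = θ := by
  rw [← cj_mul]; simp

theorem cj_injective (g : G) : Function.Injective (cj N g) :=
  Function.LeftInverse.injective (cj_inv_cj g)

@[simp] theorem cj_apply_one (g : G) (θ : N → ℂ) : cj N g θ 1 = θ 1 := by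
  simp [cj_eq_comp]

theorem cj_of_mem {θ : N → ℂ} (hθ : IsClassFunction N θ) {g : G} (hg : g ∈ N) : cj N g θ = θ := by
  ext n; exact hθ n ⟨g, hg⟩

theorem cj_res {χ : G → ℂ} (hχ : IsClassFunction G χ) (g : G) :
    cj N g (fun n : N => χ n) = fun n : N => χ n := by
  ext n; exact hχ n g

theorem cj_const (g : G) (c : ℂ) : cj N g (fun _ => c) = fun _ => c := rfl

theorem cj_smul (g : G) (c : ℂ) (θ : N → ℂ) : cj N g (c • θ) = c • cj N g θ := rfl

theorem cj_mul_fun (g : G) (θ φ : N → ℂ) : cj N g (θ * φ) = cj N g θ * cj N g φ := rfl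

theorem classInner_cj [Fintype N] (g : G) (φ ψ : N → ℂ) :
    classInner (cj N g φ) (cj N g ψ) = classInner φ ψ :=
  classInner_comp_equiv (MulAut.conjNormal g) φ ψ

theorem classInner_res_cj [Fintype N] {χ : G → ℂ} (hχ : IsClassFunction G χ) (g : G) (θ : N → ℂ) :
    classInner (fun n : N => χ n) (cj N g θ) = classInner (fun n : N => χ n) θ := by
  conv_lhs => rw [← cj_res hχ g]
  exact classInner_cj g _ _

variable (N) in
/-- The inertia group of a function on a normal subgroup. -/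
def inertia (θ : N → ℂ) : Subgroup G where
  carrier := {g | cj N g θ = θ}
  mul_mem' {a b} ha hb := by
    simp only [Set.mem_ofPred_eq] at *
    rw [cj_mul, ha, hb]
  one_mem' := cj_one θ
  inv_mem' {a} ha := by
    simp only [Set.mem_ofPred_eq] at *
    conv_lhs => rw [← ha]
    exact cj_inv_cj a θ

theorem mem_inertia {θ : N → ℂ} {g : G} : g ∈ inertia N θ ↔ cj N g θ = θ := Iff.rfl

theorem mem_inertia' {θ : N → ℂ} {g : G} :
    g ∈ inertia N θ ↔ ∀ n : N, θ ⟨g * n * g⁻¹, hN.conj_mem n n.2 g⟩ = θ n := funext_iff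

theorem eq_inertia {θ : N → ℂ} {T : Subgroup G}
    (hT : ∀ g : G, g ∈ T ↔ ∀ n : N, θ ⟨g * n * g⁻¹, hN.conj_mem n n.2 g⟩ = θ n) :
    T = inertia N θ := by
  ext g; rw [hT, mem_inertia']

theorem inertia_eq_top_iff {θ : N → ℂ} : inertia N θ = ⊤ ↔ ∀ g, cj N g θ = θ := by
  simp [Subgroup.eq_top_iff', mem_inertia]

theorem le_inertia {θ : N → ℂ} (hθ : IsClassFunction N θ) : N ≤ inertia N θ :=
  fun _ hg => cj_of_mem hθ hg

theorem cj_eq_cj_iff {θ : N → ℂ} {g h : G} : cj N g θ = cj N h θ ↔ g * h⁻¹ ∈ inertia N θ := by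
  rw [mem_inertia, cj_mul]
  exact ⟨fun h1 => by rw [h1, cj_inv_cj], fun h1 => by
    have := congrArg (cj N h) h1
    rwa [cj_cj_inv] at this⟩

open Classical in
variable (N) in
/-- The set of conjugates of a function on a normal subgroup. -/
noncomputable def cjOrbit [Fintype G] (θ : N → ℂ) : Finset (N → ℂ) :=
  Finset.univ.image fun g => cj N g θ

theorem mem_cjOrbit [Fintype G] {θ ψ : N → ℂ} : ψ ∈ cjOrbit N θ ↔ ∃ g, ψ = cj N g θ := by
  simp [cjOrbit, eq_comm]

theorem self_mem_cjOrbit [Fintype G] (θ : N → ℂ) : θ ∈ cjOrbit N θ :=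
  mem_cjOrbit.2 ⟨1, (cj_one θ).symm⟩

theorem finsum_mem_cjOrbit [Fintype G] (θ : N → ℂ) :
    ∑ᶠ ψ ∈ {ψ : N → ℂ | ∃ g : G, ψ = fun n : N => θ ⟨g * n * g⁻¹, hN.conj_mem n n.2 g⟩}, ψ =
      ∑ ψ ∈ cjOrbit N θ, ψ := by
  rw [← finsum_mem_coe_finset]
  congr! 3 with ψ
  rw [Finset.mem_coe, mem_cjOrbit]; rfl

theorem sum_cj_eq [Fintype G] {M : Type*} [AddCommMonoid M] (θ : N → ℂ) (F : (N → ℂ) → M) :
    ∑ g, F (cj N g θ) = Nat.card (inertia N θ) • ∑ ψ ∈ cjOrbit N θ, F ψ := by
  classical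
  rw [cjOrbit, Finset.sum_comp F (fun g => cj N g θ), Finset.smul_sum]
  refine Finset.sum_congr (by congr) fun ψ hψ => ?_
  obtain ⟨h, -, rfl⟩ := Finset.mem_image.1 hψ
  congr 1
  rw [← Fintype.card_subtype, Fintype.card_eq_nat_card]
  exact Nat.card_congr ⟨fun a => ⟨a.1 * h⁻¹, cj_eq_cj_iff.1 a.2⟩,
    fun a => ⟨a.1 * h, cj_eq_cj_iff.2 (by simp)⟩, fun a => by simp, fun a => by simp⟩

theorem card_cjOrbit [Fintype G] (θ : N → ℂ) : (cjOrbit N θ).card = (inertia N θ).index := by
  have h := sum_cj_eq θ (fun _ => (1 : ℕ))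
  simp only [Finset.sum_const, Finset.card_univ, smul_eq_mul, mul_one,
    Fintype.card_eq_nat_card] at h
  rw [← (inertia N θ).card_mul_index] at h
  exact (Nat.eq_of_mul_eq_mul_left Nat.card_pos h).symm

theorem cjOrbit_of_invariant [Fintype G] {θ : N → ℂ} (h : ∀ g, cj N g θ = θ) :
    cjOrbit N θ = {θ} := by
  ext ψ; simp [mem_cjOrbit, h]

variable [Fintype G]

theorem indFun_normal_apply (θ : N → ℂ) (n : N) :
    indFun N θ n = (Nat.card N : ℂ)⁻¹ * ∑ g, cj N g θ n := by
  rw [indFun_apply']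
  congr 1
  exact Finset.sum_congr rfl fun g _ => extendByZero_of_mem _ _ _

theorem indFun_normal_of_not_mem (θ : N → ℂ) {g : G} (hg : g ∉ N) : indFun N θ g = 0 :=
  indFun_eq_zero _ _ _ fun x hx => absurd (by simpa [mul_assoc] using hN.conj_mem _ hx x⁻¹) hg

theorem res_indFun_normal (θ : N → ℂ) :
    (fun n : N => indFun N θ n) =
      ((Nat.card (inertia N θ) : ℂ) / Nat.card N) • ∑ ψ ∈ cjOrbit N θ, ψ := by
  ext n
  rw [indFun_normal_apply, sum_cj_eq θ (fun ψ => ψ n)]
  simp only [nsmul_eq_mul, Pi.smul_apply, Finset.sum_apply, smul_eq_mul]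
  ring

theorem res_indFun_of_invariant {θ : N → ℂ} (h : ∀ g, cj N g θ = θ) (n : N) :
    indFun N θ n = N.index * θ n := by
  rw [indFun_normal_apply]
  have := card_ne_zero' N
  simp only [h, Finset.sum_const, Finset.card_univ, nsmul_eq_mul, Fintype.card_eq_nat_card,
    ← N.card_mul_index]
  push_cast
  field_simp

theorem indFun_cj (g : G) (θ : N → ℂ) : indFun N (cj N g θ) = indFun N θ :=
  indFun_comp_equiv (MulAut.conjNormal g) (fun _ => isConj_iff.2 ⟨g, rfl⟩) θ

theorem classInner_indFun_normal [Fintype N] (φ θ : N → ℂ) :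
    classInner (indFun N φ) (indFun N θ) = (Nat.card N : ℂ)⁻¹ * ∑ g, classInner φ (cj N g θ) := by
  rw [frobenius_left _ _ (isClassFunction_indFun _ _)]
  have : (fun n : N => indFun N θ n) = (Nat.card N : ℂ)⁻¹ • ∑ g, cj N g θ := by
    ext n; simp [indFun_normal_apply]
  rw [this, classInner_smul_right, classInner_sum_right]
  simp

end Conj

end Agent.Char

section Clifford

variable {N : Subgroup G} [hN : N.Normal]

theorem IsCharacter.cj {θ : N → ℂ} (h : IsCharacter N θ) (g : G) : IsCharacter N (cj N g θ) :=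
  h.comp (MulAut.conjNormal g).toMonoidHom

theorem IsIrrCharacter.cj {θ : N → ℂ} (h : IsIrrCharacter N θ) (g : G) :
    IsIrrCharacter N (cj N g θ) := h.comp_equiv (MulAut.conjNormal g)

theorem IsIrrCharacter.of_mem_cjOrbit [Fintype G] {θ ψ : N → ℂ} (h : IsIrrCharacter N θ)
    (hψ : ψ ∈ cjOrbit N θ) : IsIrrCharacter N ψ := by
  obtain ⟨g, rfl⟩ := mem_cjOrbit.1 hψ
  exact h.cj g

variable [Fintype G]

theorem IsIrrCharacter.card_mul_classInner_ind {θ : N → ℂ} (h : IsIrrCharacter N θ) :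
    (Nat.card N : ℂ) * classInner (indFun N θ) (indFun N θ) = Nat.card (inertia N θ) := by
  classical
  have := Fintype.ofFinite N
  rw [classInner_indFun_normal, ← mul_assoc, mul_inv_cancel₀ (card_ne_zero' N), one_mul,
    sum_cj_eq θ (fun ψ => classInner θ ψ), Finset.sum_eq_single_of_mem θ (self_mem_cjOrbit θ)
      (fun ψ hψ hne => h.classInner_of_ne (h.of_mem_cjOrbit hψ) hne.symm), h.classInner_self]
  simp

theorem IsIrrCharacter.classInner_ind_self {θ : N → ℂ} (h : IsIrrCharacter N θ) :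
    classInner (indFun N θ) (indFun N θ) = N.relIndex (inertia N θ) := by
  have h1 := h.card_mul_classInner_ind
  rw [← Subgroup.relIndex_bot_left, ← Subgroup.relIndex_bot_left,
    ← Subgroup.relIndex_mul_relIndex ⊥ N _ bot_le (le_inertia h.isClassFunction)] at h1
  push_cast at h1
  refine mul_left_cancel₀ ?_ h1
  rw [Subgroup.relIndex_bot_left]; exact card_ne_zero' N

theorem IsIrrCharacter.ind_of_inertia_le {θ : N → ℂ} (h : IsIrrCharacter N θ)
    (hT : inertia N θ ≤ N) : IsIrrCharacter G (indFun N θ) := by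
  refine h.isCharacter.ind.isIrr_of_classInner_self ?_
  rw [h.classInner_ind_self, Subgroup.relIndex_eq_one.2 hT, Nat.cast_one]

theorem IsIrrCharacter.inertia_le_of_ind {θ : N → ℂ} (h : IsIrrCharacter N θ)
    (hT : IsIrrCharacter G (indFun N θ)) : inertia N θ ≤ N := by
  have := hT.classInner_self
  rw [h.classInner_ind_self] at this
  exact Subgroup.relIndex_eq_one.1 (by exact_mod_cast this)

theorem IsIrrCharacter.classInner_ind_of_not_mem {θ φ : N → ℂ} (h : IsIrrCharacter N θ)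
    (h' : IsIrrCharacter N φ) (hne : φ ∉ cjOrbit N θ) :
    classInner (indFun N φ) (indFun N θ) = 0 := by
  have := Fintype.ofFinite N
  rw [classInner_indFun_normal, Finset.sum_eq_zero, mul_zero]
  exact fun g _ => h'.classInner_of_ne (h.cj g) fun h1 => hne (mem_cjOrbit.2 ⟨g, h1⟩)

theorem IsIrrCharacter.mem_cjOrbit_of_ind_eq {θ φ : N → ℂ} (h : IsIrrCharacter N θ)
    (h' : IsIrrCharacter N φ) (he : indFun N φ = indFun N θ) : φ ∈ cjOrbit N θ := by
  by_contra hne
  have h1 := h.classInner_ind_of_not_mem h' hne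
  rw [he, h.classInner_ind_self] at h1
  exact Subgroup.FiniteIndex.index_ne_zero (H := N.subgroupOf (inertia N θ)) (by exact_mod_cast h1)

variable [Fintype N]

/-- Two constituents of the restriction of an irreducible character are conjugate. -/
theorem IsIrrCharacter.mem_cjOrbit_of_under {χ : G → ℂ} (hχ : IsIrrCharacter G χ) {θ φ : N → ℂ}
    (h : IsIrrCharacter N θ) (h' : IsIrrCharacter N φ)
    (h1 : classInner (fun n : N => χ n) θ ≠ 0) (h2 : classInner (fun n : N => χ n) φ ≠ 0) :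
    φ ∈ cjOrbit N θ := by
  by_contra hne
  refine h'.isCharacter.ind.classInner_ne_zero_of_common h.isCharacter.ind hχ ?_ ?_
    (h.classInner_ind_of_not_mem h' hne)
  · rwa [frobenius_left _ _ hχ.isClassFunction, Ne, classInner_eq_zero_comm]
  · rwa [frobenius_left _ _ hχ.isClassFunction, Ne, classInner_eq_zero_comm]

/-- Clifford's theorem. -/
theorem IsIrrCharacter.clifford {χ : G → ℂ} (hχ : IsIrrCharacter G χ) {θ : N → ℂ}
    (h : IsIrrCharacter N θ) (h1 : classInner (fun n : N => χ n) θ ≠ 0) :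
    (fun n : N => χ n) = classInner (fun n : N => χ n) θ • ∑ ψ ∈ cjOrbit N θ, ψ := by
  classical
  refine (hχ.isClassFunction.res N).ext_classInner ((IsClassFunction.sum fun ψ hψ =>
    (h.of_mem_cjOrbit hψ).isClassFunction).smul _) fun φ hφ => ?_
  rw [classInner_smul_left, classInner_sum_left]
  by_cases h2 : φ ∈ cjOrbit N θ
  · rw [Finset.sum_eq_single_of_mem φ h2
      (fun ψ hψ hne => (h.of_mem_cjOrbit hψ).classInner_of_ne hφ hne), hφ.classInner_self, mul_one]
    obtain ⟨g, rfl⟩ := mem_cjOrbit.1 h2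
    exact classInner_res_cj hχ.isClassFunction g θ
  · rw [Finset.sum_eq_zero fun ψ hψ => (h.of_mem_cjOrbit hψ).classInner_of_ne hφ
      (by rintro rfl; exact h2 hψ), mul_zero]
    by_contra h3
    exact h2 (hχ.mem_cjOrbit_of_under h hφ h1 h3)

theorem IsIrrCharacter.clifford_degree {χ : G → ℂ} (hχ : IsIrrCharacter G χ) {θ : N → ℂ}
    (h : IsIrrCharacter N θ) (h1 : classInner (fun n : N => χ n) θ ≠ 0) :
    χ 1 = classInner (fun n : N => χ n) θ * (inertia N θ).index * θ 1 := by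
  have := congrFun (hχ.clifford h h1) 1
  simp only [OneMemClass.coe_one, Pi.smul_apply, Finset.sum_apply, smul_eq_mul] at this
  rw [this, Finset.sum_congr rfl (g := fun _ => θ 1) fun ψ hψ => by
    obtain ⟨g, rfl⟩ := mem_cjOrbit.1 hψ; simp]
  simp [card_cjOrbit, mul_assoc]

/-- Restriction over an invariant character is homogeneous. -/
theorem IsIrrCharacter.res_eq_smul_of_invariant {χ : G → ℂ} (hχ : IsIrrCharacter G χ) {θ : N → ℂ}
    (h : IsIrrCharacter N θ) (hinv : ∀ g, Agent.Char.cj N g θ = θ)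
    (h1 : classInner (fun n : N => χ n) θ ≠ 0) :
    (fun n : N => χ n) = classInner (fun n : N => χ n) θ • θ := by
  have := hχ.clifford h h1
  rwa [cjOrbit_of_invariant hinv, Finset.sum_singleton] at this

omit [Fintype G] in
/-- Restriction from a subgroup of the inertia group is homogeneous. -/
theorem IsIrrCharacter.res_le_eq_smul [Finite G] {T : Subgroup G} (hNT : N ≤ T) {ψ : T → ℂ}
    (hψ : IsIrrCharacter T ψ) {θ : N → ℂ} (h : IsIrrCharacter N θ) (hT : T ≤ inertia N θ)
    (h1 : classInner (fun n : N => ψ ⟨n, hNT n.2⟩) θ ≠ 0) :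
    (fun n : N => ψ ⟨n, hNT n.2⟩) = classInner (fun n : N => ψ ⟨n, hNT n.2⟩) θ • θ := by
  have := Fintype.ofFinite T
  have := Fintype.ofFinite (N.subgroupOf T)
  let e := Subgroup.subgroupOfEquivOfLe hNT
  have h2 : classInner (fun n : N.subgroupOf T => ψ n) (fun n => θ (e n)) =
      classInner (fun n : N => ψ ⟨n, hNT n.2⟩) θ := by
    rw [← classInner_comp_equiv e]; rfl
  have h3 := hψ.res_eq_smul_of_invariant (N := N.subgroupOf T) (h.comp_equiv e)
    (fun g => by ext n; exact congrFun (hT g.2) (e n)) (by rwa [h2])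
  rw [h2] at h3
  ext n
  exact congrFun h3 (e.symm n)

/-- Clifford correspondence: induction from the inertia group is irreducible. -/
theorem IsIrrCharacter.clifford_ind {θ : N → ℂ} (h : IsIrrCharacter N θ) {T : Subgroup G}
    (hT : T = inertia N θ) (hNT : N ≤ T) {ψ : T → ℂ} (hψ : IsIrrCharacter T ψ)
    (h1 : classInner (fun n : N => ψ ⟨n, hNT n.2⟩) θ ≠ 0) :
    IsIrrCharacter G (indFun T ψ) ∧ classInner (fun n : N => indFun T ψ n) θ =
      classInner (fun n : N => ψ ⟨n, hNT n.2⟩) θ := by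
  have := Fintype.ofFinite T
  obtain ⟨χ, hχ, h2⟩ := hψ.exists_irr_over
  have h3 := (hχ.isCharacter.res T).sub_irr hψ h2
  obtain ⟨f, hf⟩ := (hψ.isCharacter.res_le hNT).classInner_eq_nat h.isCharacter
  obtain ⟨a, ha⟩ := (h3.res_le hNT).classInner_eq_nat h.isCharacter
  have h4 : classInner (fun n : N => χ n) θ = (f + a : ℕ) := by
    push_cast
    rw [← hf, ← ha, ← classInner_add_left]
    congr 1; ext n; simp
  have hf0 : f ≠ 0 := by rintro rfl; exact h1 (by simpa using hf)
  have h5 := hχ.clifford_degree h (by rw [h4]; norm_cast; omega)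
  have h6 := congrFun (hψ.res_le_eq_smul hNT h hT.le h1) 1
  obtain ⟨d, hd0, hd⟩ := h.exists_degree
  have h7 : ψ 1 = (f * d : ℕ) := by
    rw [hf, Pi.smul_apply, hd] at h6
    push_cast
    exact h6
  rw [h4, hd, ← hT] at h5
  have h8 : classInner (indFun T ψ) χ ≠ 0 := by
    rwa [frobenius_left _ _ hχ.isClassFunction, Ne, classInner_eq_zero_comm]
  obtain ⟨m, hm⟩ := hψ.isCharacter.ind.classInner_eq_nat hχ.isCharacter
  have hm0 : m ≠ 0 := by rintro rfl; exact h8 (by simpa using hm)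
  have h9 := hψ.isCharacter.ind.mul_degree_le hχ (d := (f + a) * T.index * d)
    (n := T.index * (f * d)) hm (by rw [h5]; simp) (by rw [indFun_one, h7]; simp)
  have hi : 0 < T.index := Nat.pos_of_ne_zero Subgroup.FiniteIndex.index_ne_zero
  have ha0 : a = 0 := by
    by_contra ha0
    have h10 : 0 < a * T.index * d := by positivity
    have h11 : (f + a) * T.index * d ≤ m * ((f + a) * T.index * d) :=
      Nat.le_mul_of_pos_left _ (Nat.pos_of_ne_zero hm0)
    nlinarith
  subst ha0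
  have h12 : indFun T ψ = χ := hψ.isCharacter.ind.eq_of_constituent_of_apply_one hχ h8
    (by rw [indFun_one, h7, h5]; push_cast; ring)
  rw [h12, h4, hf]
  exact ⟨hχ, by simp⟩

/-- Clifford correspondence: the correspondent is the only constituent over `θ`. -/
theorem IsIrrCharacter.clifford_unique {θ : N → ℂ} (h : IsIrrCharacter N θ) {T : Subgroup G}
    [Fintype T] (hT : T = inertia N θ) (hNT : N ≤ T) {ψ ψ' : T → ℂ} (hψ : IsIrrCharacter T ψ)
    (hψ' : IsIrrCharacter T ψ') (h1 : classInner (fun n : N => ψ ⟨n, hNT n.2⟩) θ ≠ 0)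
    (h1' : classInner (fun n : N => ψ' ⟨n, hNT n.2⟩) θ ≠ 0)
    (h2 : classInner (fun t : T => indFun T ψ t) ψ' ≠ 0) : ψ = ψ' := by
  by_contra hne
  obtain ⟨hχ, h3⟩ := h.clifford_ind hT hNT hψ h1
  have h4 : classInner (fun t : T => indFun T ψ t) ψ ≠ 0 := by
    rw [← frobenius_right _ _ hχ.isClassFunction, hχ.classInner_self]; simp
  have h5 := (hχ.isCharacter.res T).sub_irr hψ h4
  have h6 : classInner ((fun t : T => indFun T ψ t) - ψ) ψ' ≠ 0 := by
    rwa [classInner_sub_left, hψ.classInner_of_ne hψ' hne, sub_zero]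
  have h7 := h5.sub_irr hψ' h6
  have h8 := (hψ'.isCharacter.res_le hNT).classInner_add_ne_zero (h7.res_le hNT) h.isCharacter h1'
  apply h8
  rw [← sub_eq_zero, ← classInner_sub_left] at h3
  rw [← h3]
  congr 1; ext n; simp

theorem IsIrrCharacter.clifford_inj {θ : N → ℂ} (h : IsIrrCharacter N θ) {T : Subgroup G}
    (hT : T = inertia N θ) (hNT : N ≤ T) {ψ ψ' : T → ℂ} (hψ : IsIrrCharacter T ψ)
    (hψ' : IsIrrCharacter T ψ') (h1 : classInner (fun n : N => ψ ⟨n, hNT n.2⟩) θ ≠ 0)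
    (h1' : classInner (fun n : N => ψ' ⟨n, hNT n.2⟩) θ ≠ 0)
    (h2 : indFun T ψ = indFun T ψ') : ψ = ψ' := by
  have := Fintype.ofFinite T
  refine h.clifford_unique hT hNT hψ hψ' h1 h1' ?_
  have hχ := (h.clifford_ind hT hNT hψ' h1').1
  rw [h2, ← frobenius_right _ _ hχ.isClassFunction, hχ.classInner_self]; simp

omit hN [Fintype G] in
/-- A constituent of a restriction lies under a constituent of an intermediate restriction. -/
theorem IsCharacter.exists_between {χ : G → ℂ} (hχ : IsCharacter G χ) {θ : N → ℂ}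
    {T : Subgroup G} [Fintype T] (hNT : N ≤ T) (h1 : classInner (fun n : N => χ n) θ ≠ 0) :
    ∃ ψ, IsIrrCharacter T ψ ∧ classInner (fun t : T => χ t) ψ ≠ 0 ∧
      classInner (fun n : N => ψ ⟨n, hNT n.2⟩) θ ≠ 0 := by
  rw [Ne, classInner_eq_zero_comm] at h1
  have h2 := frobenius_subgroupOf hNT θ (hχ.res T).isClassFunction
  rw [← show _ = classInner θ (fun n : N => χ n) from h2, classInner_eq_zero_comm] at h1
  obtain ⟨ψ, hψ, h3, h4⟩ := (hχ.res T).exists_common_constituent h1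
  rw [frobenius_subgroupOf hNT θ hψ.isClassFunction, Ne, classInner_eq_zero_comm] at h4
  exact ⟨ψ, hψ, h3, h4⟩

/-- Clifford correspondence: every character over `θ` is induced from the inertia group. -/
theorem IsIrrCharacter.clifford_surj {θ : N → ℂ} (h : IsIrrCharacter N θ) {T : Subgroup G}
    (hT : T = inertia N θ) (hNT : N ≤ T) {χ : G → ℂ} (hχ : IsIrrCharacter G χ)
    (h1 : classInner (fun n : N => χ n) θ ≠ 0) :
    ∃ ψ : T → ℂ, IsIrrCharacter T ψ ∧ indFun T ψ = χ ∧
      classInner (fun n : N => ψ ⟨n, hNT n.2⟩) θ = classInner (fun n : N => χ n) θ := by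
  have := Fintype.ofFinite T
  obtain ⟨ψ, hψ, h2, h3⟩ := hχ.isCharacter.exists_between hNT h1
  obtain ⟨h4, h5⟩ := h.clifford_ind hT hNT hψ h3
  have h6 : indFun T ψ = χ := h4.eq_of_classInner_ne_zero hχ (by
    rwa [frobenius_left _ _ hχ.isClassFunction, Ne, classInner_eq_zero_comm])
  exact ⟨ψ, hψ, h6, by rw [← h5, h6]⟩

/-- An irreducible character lying over the principal character of `N` has `N` in its kernel. -/
theorem IsIrrCharacter.le_charKer_of_over_one {χ : G → ℂ} (hχ : IsIrrCharacter G χ)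
    (h1 : classInner (fun n : N => χ n) (fun _ => 1) ≠ 0) : N ≤ charKer χ := by
  have h2 := hχ.res_eq_smul_of_invariant isIrrCharacter_one (fun _ => rfl) h1
  rw [hχ.isCharacter.le_charKer_iff]
  simpa using (congrFun h2 1).symm

omit [Fintype N] in
/-- Itô's theorem. -/
theorem IsIrrCharacter.degree_dvd_index_of_comm {χ : G → ℂ} (hχ : IsIrrCharacter G χ)
    (hab : ∀ a ∈ N, ∀ b ∈ N, a * b = b * a) {d : ℕ} (hd : χ 1 = d) : d ∣ N.index := by
  have := Fintype.ofFinite N
  obtain ⟨θ, hθ, h1⟩ := hχ.exists_irr_under N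
  have hNT := le_inertia hθ.isClassFunction
  obtain ⟨ψ, hψ, rfl, h2⟩ := hθ.clifford_surj rfl hNT hχ h1
  have h3 := hψ.res_le_eq_smul hNT hθ le_rfl (h2 ▸ h1)
  obtain ⟨lam, rfl⟩ := hθ.isCharacter.exists_units_of_apply_one
    (hθ.apply_one_of_comm fun a b => Subtype.ext (hab a a.2 b b.2))
  obtain ⟨e, -, he⟩ := hψ.exists_degree
  have h4 := hψ.degree_dvd_index (Z := N.subgroupOf _) (fun x hx => by
    rw [hψ.isCharacter.mem_charCenter]
    have h5 := congrFun h3 ⟨x, hx⟩
    have h6 := congrFun h3 1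
    simp only [Pi.smul_apply, smul_eq_mul] at h5 h6
    rw [show ψ x = _ from h5, show ψ 1 = _ from h6, norm_mul, norm_mul, norm_units_hom,
      norm_units_hom]) he
  rw [indFun_one, he] at hd
  have h5 : d = (inertia N fun g => (lam g : ℂ)).index * e := by exact_mod_cast hd.symm
  rw [h5, ← Subgroup.relIndex_mul_index hNT, mul_comm]
  exact Nat.mul_dvd_mul_right h4 _

end Clifford

end Cfsg
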