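import Cfsg.Agent.Lib.Char.Down

/-!
Berger's theorem: over a solvable quotient, quasi-primitive characters are primitive.
-/

set_option autoImplicit false

namespace Cfsg.Agent.Char

open scoped ComplexConjugate commutatorElement

universe u

section

variable {G : Type*} [Group G]

/-- `χ` is homogeneous on every normal subgroup containing `L`. -/
def IsHomogAbove (χ : G → ℂ) (L : Subgroup G) : Prop :=
  ∀ M : Subgroup G, M.Normal → L ≤ M →
    ∃ (φ : M → ℂ) (e : ℕ), IsIrrCharacter M φ ∧ (fun m : M => χ m) = (e : ℂ) • φ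

theorem IsHomogAbove.mono {χ : G → ℂ} {L K : Subgroup G} (h : IsHomogAbove χ L) (hLK : L ≤ K) :
    IsHomogAbove χ K := fun M h1 h2 => h M h1 (hLK.trans h2)

theorem IsHomogAbove.comap {χ : G → ℂ} {L : Subgroup G} (h : IsHomogAbove χ L) {Γ : Type*}
    [Group Γ] {π : Γ →* G} (hπ : Function.Surjective π) :
    IsHomogAbove (fun x => χ (π x)) (L.comap π) := fun M h1 h2 => by
  obtain ⟨M, h3, h4, rfl⟩ : ∃ M' : Subgroup G, M'.Normal ∧ L ≤ M' ∧ M = M'.comap π :=
    ⟨M.map π, h1.map π hπ,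
      (Subgroup.map_comap_eq_self_of_surjective hπ L).ge.trans (Subgroup.map_mono h2),
      (Subgroup.comap_map_eq_self ((Subgroup.ker_le_comap π L).trans h2)).symm⟩
  obtain ⟨φ, e, h5, h6⟩ := h M h3 h4
  exact ⟨_, e, isIrr_comap π hπ h5, funext fun m => congrFun h6 ⟨π m, m.2⟩⟩

theorem _root_.Cfsg.IsCharacter.classInner_res_le_ne_zero {χ : G → ℂ} (hχ : IsCharacter G χ)
    {T U : Subgroup G} [Fintype T] [Fintype U] (hTU : T ≤ U) {ξ : U → ℂ} (hξ : IsIrrCharacter U ξ)
    (h : classInner (fun u : U => χ u) ξ ≠ 0) {θ : T → ℂ} (hθ : IsCharacter T θ)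
    (h1 : classInner (fun t : T => ξ ⟨t, hTU t.2⟩) θ ≠ 0) : classInner (fun t : T => χ t) θ ≠ 0 := by
  have h2 := ((hχ.res U).sub_irr hξ h).res_le hTU
  have := (hξ.isCharacter.res_le hTU).classInner_add_ne_zero h2 hθ h1
  convert this using 2
  ext; simp

theorem over_of_res_eq_smul {χ : G → ℂ} (hχ : IsCharacter G χ)
    {T U : Subgroup G} [Fintype T] [Fintype U] (hTU : T ≤ U) {ξ : U → ℂ} (hξ : IsIrrCharacter U ξ)
    (h : classInner (fun u : U => χ u) ξ ≠ 0) {θ : T → ℂ} (hθ : IsIrrCharacter T θ) {c : ℂ}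
    (h1 : (fun t : T => χ t) = c • θ) : classInner (fun t : T => ξ ⟨t, hTU t.2⟩) θ ≠ 0 := by
  obtain ⟨δ, h2, h3⟩ := (hξ.isCharacter.res_le hTU).exists_irr_constituent
    fun h => hξ.apply_one_ne_zero (congrFun h 1)
  have h4 := hχ.classInner_res_le_ne_zero hTU hξ h h2.isCharacter h3
  rw [h1] at h4
  rwa [← eq_of_constituent_of_smul hθ h2 h4]

theorem IsHomogAbove.of_mul [Finite G] {L : Subgroup G} [L.Normal] {β φ : G → ℂ}
    (hβ : IsCharacter G β) (h0 : β ≠ 0) (hφ : IsCharacter G φ) {ν : L → ℂ}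
    (hν : IsIrrCharacter L ν) (hinv : ∀ g, cj L g ν = ν) {c : ℂ}
    (h1 : (fun x : L => β x) = c • ν) (h2 : IsIrrCharacter L (ν * fun x : L => φ x))
    (h : IsHomogAbove (β * φ) L) : IsHomogAbove β L := fun M h3 hLM => by
  have := Fintype.ofFinite M
  have := Fintype.ofFinite L
  obtain ⟨ξ, e, h4, h5⟩ := h M h3 hLM
  have hG := gallagher_le hLM hν (fun g _ => hinv g) (hφ.res M) h2
  have h6 : ∀ γ, IsIrrCharacter M γ → classInner (fun m : M => β m) γ ≠ 0 →
      γ * (fun m : M => φ m) = ξ := fun γ hγ h6 => by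
    have h7 := (hG.mapsTo ⟨hγ, over_of_res_eq_smul hβ hLM hγ h6 hν h1⟩).1
    refine eq_of_constituent_of_smul h4 h7 (e := e) ?_
    rw [← h5]
    have := h7.isCharacter.classInner_add_ne_zero (((hβ.res M).sub_irr hγ h6).mul (hφ.res M))
      h7.isCharacter (by rw [h7.classInner_self]; simp)
    convert this using 2
    ext; simp; ring
  obtain ⟨γ, h7, h8⟩ := (hβ.res M).exists_irr_constituent
    fun h => h0 (hβ.eq_zero_of_apply_one (congrFun h 1))
  obtain ⟨f, hf⟩ := (hβ.res M).eq_smul_of_unique h7 fun γ' h9 h10 =>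
    hG.injOn ⟨h9, over_of_res_eq_smul hβ hLM h9 h10 hν h1⟩
      ⟨h7, over_of_res_eq_smul hβ hLM h7 h8 hν h1⟩ ((h6 _ h9 h10).trans (h6 _ h7 h8).symm)
  exact ⟨γ, f, h7, hf⟩

theorem isSolvable_quotient_comap {L : Subgroup G} [L.Normal] (h : Group.IsSolvable (G ⧸ L))
    {Γ : Type*} [Group Γ] (π : Γ →* G) : Group.IsSolvable (Γ ⧸ L.comap π) := by
  let f := QuotientGroup.map (L.comap π) L π le_rfl
  refine solvable_of_solvable_injective (f := f) ((injective_iff_map_eq_one f).2 fun x hx => ?_)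
  obtain ⟨x, rfl⟩ := QuotientGroup.mk_surjective x
  exact (QuotientGroup.eq_one_iff _).2 ((QuotientGroup.eq_one_iff (π x)).1 hx)

/-- If `β` restricts to `H` as a character induced from `T`, with `G = K H` and `K` in the centre
of `β`, then `β` is induced from `K T`. -/
theorem exists_ind_sup [Fintype G] {K H T : Subgroup G} [K.Normal] [Fintype H] {β : G → ℂ}
    (hβ : IsIrrCharacter G β) (hK : K ≤ charCenter β) (hKH : K ⊔ H = ⊤) (hTH : T ≤ H)
    (hKT : K ⊓ H ≤ T) {σ : T.subgroupOf H → ℂ} (hσ : IsCharacter _ σ)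
    (h : indFun (T.subgroupOf H) σ = fun x : H => β x) :
    ∃ ξ : (K ⊔ T : Subgroup G) → ℂ, IsCharacter _ ξ ∧ indFun (K ⊔ T) ξ = β := by
  have := Fintype.ofFinite T
  have := Fintype.ofFinite (T.subgroupOf H)
  have := Fintype.ofFinite (K ⊔ T : Subgroup G)
  let e := Subgroup.subgroupOfEquivOfLe hTH
  have hmul : ∀ {U : Subgroup G} {g : G}, g ∈ K ⊔ U → ∃ k ∈ K, ∃ x ∈ U, g = k * x := fun hg =>
    (Solv.mem_sup_of_le_normalizer' Subgroup.le_normalizer_of_normal).1 hg
  have h1 : IsIrrCharacter H fun x : H => β x := hβ.res_of_sup_charCenter fun g => by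
    obtain ⟨k, h1, x, h2, h3⟩ := hmul (hKH.ge (Subgroup.mem_top g))
    exact ⟨k, hK h1, x, h2, h3⟩
  have h2 := (hσ.isIrr_of_ind (h ▸ h1)).comp_equiv e.symm
  have h3 : classInner (fun t : T => β t) (fun t => σ (e.symm t)) ≠ 0 := by
    have := frobenius_right (T.subgroupOf H) σ h1.isClassFunction
    rw [h, h1.classInner_self, ← classInner_comp_equiv e.symm] at this
    exact this.symm.trans_ne one_ne_zero
  obtain ⟨ξ, h4, h5, h6⟩ := hβ.isCharacter.exists_between' (le_sup_right : T ≤ K ⊔ T) h3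
  have h7 := h4.res_of_sup_charCenter (H := T.subgroupOf (K ⊔ T)) fun g => by
    obtain ⟨k, h1, x, h2, h3⟩ := hmul g.2
    refine ⟨⟨k, Subgroup.mem_sup_left h1⟩, ?_, ⟨x, Subgroup.mem_sup_right h2⟩, h2,
      Subtype.ext h3⟩
    refine (hβ.isCharacter.res _).charCenter_le_of_constituent h4 h5 ?_
    exact (hβ.isCharacter.res _).mem_charCenter.2 (hβ.isCharacter.mem_charCenter.1 (hK h1))
  have h8 := ((isIrr_subgroupOf_iff (le_sup_right : T ≤ K ⊔ T)
    (φ := fun t => ξ ⟨t, Subgroup.mem_sup_right t.2⟩)).1 h7).eq_of_classInner_ne_zero h2 h6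
  refine ⟨ξ, h4.isCharacter, h4.isCharacter.ind.eq_of_constituent_of_apply_one hβ ?_ ?_⟩
  · rwa [frobenius_left _ _ hβ.isClassFunction, Ne, classInner_eq_zero_comm]
  · have h9 := congrFun h 1
    have h10 := congrFun h8 1
    rw [map_one] at h10
    rw [indFun_one] at h9 ⊢
    have h11 : (K ⊔ T).index = (T.subgroupOf H).index := by
      have h12 : (K ⊔ T) ⊓ H = T := by
        rw [sup_comm, Solv.dedekind' hTH Subgroup.le_normalizer_of_normal, sup_eq_left.2 hKT]
      have h13 := Subgroup.relIndex_mul_index (le_sup_left : K ≤ K ⊔ T)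
      have h14 := Subgroup.relIndex_mul_relIndex (K ⊓ H) T H hKT hTH
      rw [Subgroup.inf_relIndex_right, ← Subgroup.relIndex_sup_left H K, hKH,
        Subgroup.relIndex_top_right, ← h13, Subgroup.relIndex_sup_left,
        ← Subgroup.inf_relIndex_right K T, ← Subgroup.inf_relIndex_right (K ⊓ H) T, inf_assoc,
        inf_eq_right.2 hTH] at h14
      exact (Nat.eq_of_mul_eq_mul_left (Nat.pos_of_ne_zero Subgroup.FiniteIndex.index_ne_zero)
        h14).symm
    rw [h11]
    exact (congrArg _ h10).trans h9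

end

/-- The statement of the relative form of Berger's theorem for a pair `(G, L)`. -/
def BergerProp (G : Type u) [Group G] [Fintype G] (L : Subgroup G) : Prop :=
  ∀ χ, IsIrrCharacter G χ → IsHomogAbove χ L → ∀ (H : Subgroup G) (θ : H → ℂ), L ≤ H → H ≠ ⊤ →
    IsCharacter H θ → indFun H θ ≠ χ

theorem berger_linear {G : Type u} [Group G] [Fintype G] (L : Subgroup G) [L.Normal]
    (hs : Group.IsSolvable (G ⧸ L))
    (ih : ∀ (Γ : Type u) [Group Γ] [Fintype Γ] (K : Subgroup Γ) [K.Normal], K.index < L.index →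
      Group.IsSolvable (Γ ⧸ K) → BergerProp Γ K)
    {χ : G → ℂ} (hχ : IsIrrCharacter G χ) (hhom : IsHomogAbove χ L) (hZ : L ≤ charCenter χ)
    (H : Subgroup G) (θ : H → ℂ) (hLH : L ≤ H) (hH : H ≠ ⊤) (hθ : IsCharacter H θ) :
    indFun H θ ≠ χ := by
  intro hind
  obtain ⟨H, θ, hH, hLH', hθ, h1⟩ := exists_ind_coatom hH hθ
  replace hLH := hLH.trans hLH'
  replace hind := h1.trans hind
  clear h1 hLH'
  have hcore : ∀ M : Subgroup G, M.Normal → L ≤ M → M ≤ H → M = L := fun M _ h1 h2 => by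
    by_contra h3
    exact ih G M (index_lt_of_lt (lt_of_le_of_ne h1 (Ne.symm h3)))
      (Solv.isSolvable_quotient_of_le h1 hs) χ hχ (hhom.mono h1) H θ h2 hH.1 hθ hind
  obtain ⟨K, _, hLK, -, hchief⟩ := exists_chief_above (hLH.trans_lt hH.1.lt_top)
  obtain ⟨hab, p, hp, -, a, ha⟩ := chief_elementary hLK hchief hs
  have hKH : K ⊔ H = ⊤ := hH.2 _ (right_lt_sup.2 fun h => hLK.ne' (hcore K ‹_› hLK.le h))
  have hmul : ∀ g : G, ∃ k ∈ K, ∃ x ∈ H, g = k * x := fun g =>
    (Solv.mem_sup_of_le_normalizer' Subgroup.le_normalizer_of_normal).1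
      (hKH.ge (Subgroup.mem_top g))
  have hKH' : K ⊓ H = L := by
    refine hcore _ ⟨fun t ht g => ?_⟩ (le_inf hLK.le hLH) inf_le_right
    obtain ⟨k, hk, x, hx, rfl⟩ := hmul g
    have : k * x * t * (k * x)⁻¹ = k * (x * t * x⁻¹) * k⁻¹ := by group
    rw [this]
    exact normal_of_commutator_le (le_inf hLK.le hLH) inf_le_left hab hk
      ⟨‹K.Normal›.conj_mem t ht.1 x, H.mul_mem (H.mul_mem hx ht.2) (H.inv_mem hx)⟩
  obtain ⟨ψ, e, hψ, he⟩ := hhom K ‹_› hLK.le
  have he0 : (e : ℂ) ≠ 0 := by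
    rintro h0
    have := congrFun he 1
    rw [h0, zero_smul] at this
    exact hχ.apply_one_ne_zero this
  have hvan : ∀ k : K, k ∉ L.subgroupOf K → ψ k = 0 := fun k hk => by
    have h1 : χ k = 0 := by
      rw [← hind]
      refine indFun_eq_zero _ _ _ fun x hx => absurd ?_ hk
      have h2 : x * k * x⁻¹ ∈ L := hKH'.le ⟨‹K.Normal›.conj_mem _ k.2 x, hx⟩
      simpa [mul_assoc, Subgroup.mem_subgroupOf] using ‹L.Normal›.conj_mem _ h2 x⁻¹
    have h2 := congrFun he k
    simp only [h1, Pi.smul_apply, smul_eq_mul] at h2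
    exact (mul_eq_zero.1 h2.symm).resolve_left he0
  obtain ⟨d, hd0, hd⟩ := hψ.exists_degree
  have hψZ : ∀ k : K, (k : G) ∈ L → ‖ψ k‖ = ‖ψ 1‖ := fun k hk => by
    have h1 := hχ.isCharacter.mem_charCenter.1 (hZ hk)
    have h2 := congrFun he k
    have h3 := congrFun he 1
    simp only [Pi.smul_apply, smul_eq_mul, OneMemClass.coe_one] at h2 h3
    rw [h2, h3, norm_mul, norm_mul] at h1
    exact mul_left_cancel₀ (norm_ne_zero_iff.2 he0) h1
  have hdeg : d ^ 2 = L.relIndex K := by
    obtain ⟨lam, hlam⟩ := hψ.isCharacter.exists_units_of_le_charCenter hψ.apply_one_ne_zero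
      (Z := L.subgroupOf K) fun k hk => hψ.isCharacter.mem_charCenter.2 (hψZ k hk)
    refine (sq_eq_index_iff hψ (isIrrCharacter_units lam) (funext fun x => ?_)).2 hvan
    have := hlam x 1
    rw [mul_one, hd] at this
    simp [this, mul_comm]
  have := Fintype.ofFinite K
  obtain ⟨Γ, _, _, π, ψ', ν, hπ, -, hψ', h2, h3⟩ :=
    exists_triple hψ (invariant_of_res_eq_smul hχ.isClassFunction he0 he)
  have := Fintype.ofFinite Γ
  have := Fintype.ofFinite (K.comap π)
  have := Fintype.ofFinite (H.comap π)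
  have h4 : ∀ g, cj (K.comap π) g (fun n => (ν n : ℂ)) = fun n => (ν n : ℂ) := fun g =>
    funext fun m => congrArg Units.val (h3 g m)
  obtain ⟨β, hβ, h5, h6⟩ := triple_factor hψ hπ hψ' h2 h4 hχ (by
    rw [he, classInner_smul_left, hψ.classInner_self]; simpa using he0)
  have h7 := (hβ.le_charCenter_of_over_units (cj_units_inv h4) h5).1
  have hKH2 : K.comap π ⊔ H.comap π = ⊤ := by
    rw [Subgroup.comap_sup_eq π K H hπ, hKH, Subgroup.comap_top]
  have h8 : IsIrrCharacter (H.comap π) fun x : H.comap π => β x :=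
    hβ.res_of_sup_charCenter fun g => by
      obtain ⟨k, h1, x, h2, h3⟩ := (Solv.mem_sup_of_le_normalizer'
        Subgroup.le_normalizer_of_normal).1 (hKH2.ge (Subgroup.mem_top g))
      exact ⟨k, h7 h1, x, h2, h3⟩
  have hθ' : IsCharacter (H.comap π) fun x => θ ⟨π x, x.2⟩ := hθ.comp (π.subgroupComap H)
  have hind' : indFun (H.comap π) (fun x => θ ⟨π x, x.2⟩) = β * ψ' := funext fun x => by
    rw [indFun_comap π hπ, hind, h6, Pi.mul_apply]
  have hψ1 : ψ' 1 = d := by rw [← hd]; simpa using! h2 1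
  have h9 : ((fun x : H.comap π => conj (ψ' x)) * fun x : H.comap π => θ ⟨π x, x.2⟩) =
      fun x : H.comap π => β x := by
    refine ((hψ'.conj.res _).mul hθ').eq_of_constituent_of_apply_one h8 ?_ ?_
    · have h10 := indFun_mul_res (H.comap π) (fun x => θ ⟨π x, x.2⟩) hψ'.conj.isClassFunction
      rw [← frobenius_left _ _ hβ.isClassFunction, mul_comm]
      refine (congrArg (classInner · β) h10).trans_ne ?_
      have h11 : β * ψ' = fun x => χ (π x) := (funext h6).symm
      rw [← classInner_mul_right, hind', mul_comm ψ', h11,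
        (hχ.comp_surjective π hπ).classInner_self]
      simp
    · have h10 := congrFun hind' 1
      have h11 : H.index = d ^ 2 := by
        have h12 := Subgroup.relIndex_mul_index hLK.le
        have h13 := Subgroup.relIndex_mul_index hLH
        rw [← hKH', Subgroup.inf_relIndex_right, ← Subgroup.relIndex_sup_left H K, hKH,
          Subgroup.relIndex_top_right, hKH', ← h12, mul_comm] at h13
        rw [hdeg]
        exact Nat.eq_of_mul_eq_mul_right (Nat.pos_of_ne_zero Subgroup.FiniteIndex.index_ne_zero)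
          h13
      rw [indFun_one, H.index_comap_of_surjective hπ, h11, Pi.mul_apply, hψ1] at h10
      simp only [Pi.mul_apply, OneMemClass.coe_one, hψ1, map_natCast]
      refine mul_right_cancel₀ (b := (d : ℂ)) (by exact_mod_cast hd0.ne') ?_
      rw [← h10]; push_cast; ring
  have h10 : IsIrrCharacter (H.comap π) fun x : H.comap π => ψ' x := by
    simpa using ((hψ'.conj.res _).isIrr_of_mul hθ' (h9 ▸ h8)).conj
  -- a subgroup `R` on which `ψ'` is not homogeneous
  have hR : ∃ R : Subgroup H, R.Normal ∧ L.subgroupOf H ≤ R ∧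
      ¬ ∃ (φ : R.comap (π.subgroupComap H) → ℂ) (e : ℕ), IsIrrCharacter _ φ ∧
        (fun n : R.comap (π.subgroupComap H) => ψ' n) = (e : ℂ) • φ := by
    have hsur := π.subgroupComap_surjective_of_surjective H hπ
    have hLZ : (L.subgroupOf H).comap (π.subgroupComap H) ≤
        charCenter fun x : H.comap π => ψ' x := fun x hx => by
      refine h10.isCharacter.mem_charCenter.2 ?_
      have h11 := h2 ⟨x, hLK.le hx⟩
      simp only at h11
      rw [h11, norm_mul, norm_units_hom, one_mul, hψZ ⟨π x, hLK.le hx⟩ hx, OneMemClass.coe_one, hψ1,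
        hd]
    have hd1 : d ≠ 1 := by
      rintro rfl
      exact hLK.not_ge (Subgroup.relIndex_eq_one.1 (by rw [← hdeg]; simp))
    have hLH2 : L.subgroupOf H < ⊤ := by
      refine lt_top_iff_ne_top.2 fun h11 => hd1 (Nat.dvd_one.1 ?_)
      have := h10.degree_dvd_index hLZ hψ1
      rwa [h11, Subgroup.comap_top, Subgroup.index_top] at this
    obtain ⟨R, _, h11, -, h12⟩ := exists_chief_above hLH2
    obtain ⟨-, q, hq, h13, b, hb⟩ := chief_elementary h11 h12
      (Solv.isSolvable_quotient_subgroupOf hs H)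
    refine ⟨R, ‹_›, h11.le, fun ⟨γ, f, hγ, hf⟩ => ?_⟩
    have h14 : ∀ r ∈ R, ∀ k ∈ K, ⁅(r : G), k⁆ ∈ L := by
      by_cases hpq : q = p
      · subst hpq
        have := Fact.mk hq
        have h14 : (K ⊔ R.map H.subtype).Normal := ⟨fun t ht g => by
          obtain ⟨k, hk, x, hx, rfl⟩ := hmul g
          have : k * x * t * (k * x)⁻¹ = k * (x * t * x⁻¹) * k⁻¹ := by group
          rw [this]
          refine Subgroup.mul_mem _ (Subgroup.mul_mem _ (Subgroup.mem_sup_left hk) ?_)
            (Subgroup.mem_sup_left (K.inv_mem hk))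
          obtain ⟨k', hk', _, ⟨r, hr, rfl⟩, rfl⟩ := (Solv.mem_sup_of_le_normalizer'
            Subgroup.le_normalizer_of_normal).1 ht
          have : x * (k' * H.subtype r) * x⁻¹ = (x * k' * x⁻¹) * H.subtype (⟨x, hx⟩ * r * ⟨x, hx⟩⁻¹) := by
            simp [mul_assoc]
          rw [this]
          exact Subgroup.mul_mem_sup (‹K.Normal›.conj_mem _ hk' x)
            ⟨_, ‹R.Normal›.conj_mem _ hr _, rfl⟩⟩
        have h15 : IsPGroup q ((K ⊔ R.map H.subtype).map (QuotientGroup.mk' L)) := by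
          rw [Subgroup.map_sup]
          refine IsPGroup.to_sup_of_normal_left ?_ (Solv.isPGroup_of_pow_eq_one ?_)
          · exact IsPGroup.of_card (by rw [Solv.card_map_mk_eq_relIndex, ha])
          · rintro _ ⟨_, ⟨r, hr, rfl⟩, rfl⟩
            exact (QuotientGroup.eq_one_iff _).2 (h13 r hr)
        intro r hr k hk
        have h16 := Solv.fitting_le_centralizer_of_minimal_normal _ (chief_map_mk hchief hLK.le)
          (Solv.le_fitting h15.isNilpotent ⟨r, Subgroup.mem_sup_right ⟨r, hr, rfl⟩, rfl⟩)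
          k ⟨k, hk, rfl⟩
        rw [← QuotientGroup.eq_one_iff]
        exact commutatorElement_eq_one_iff_mul_comm.2 h16.symm
      · obtain ⟨c, -, hc⟩ := hγ.exists_degree
        have hf0 : (f : ℂ) ≠ 0 := by
          rintro h0
          have := congrFun hf 1
          rw [h0, zero_smul] at this
          exact h10.apply_one_ne_zero this
        have h14 : ∀ x : R.comap (π.subgroupComap H), ψ' x = f * γ x := congrFun hf
        have h15 := h14 1
        simp only [OneMemClass.coe_one] at h15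
        have h16 := hγ.degree_dvd_index (Z := ((L.subgroupOf H).comap
          (π.subgroupComap H)).subgroupOf _) (fun x hx => hγ.isCharacter.mem_charCenter.2 (by
            have := h10.isCharacter.mem_charCenter.1 (hLZ hx)
            simp only [OneMemClass.coe_one, Subgroup.coe_subtype] at this
            rw [h14, h15, norm_mul, norm_mul] at this
            exact mul_left_cancel₀ (norm_ne_zero_iff.2 hf0) this)) hc
        change c ∣ Subgroup.relIndex _ _ at h16
        rw [Subgroup.relIndex_comap, Subgroup.map_comap_eq_self_of_surjective hsur, hb] at h16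
        have h17 : c ∣ p ^ a := by
          rw [← ha, ← hdeg]
          refine Dvd.dvd.trans (Dvd.intro_left f ?_) (dvd_pow_self d two_ne_zero)
          rw [hψ1, hc] at h15
          exact_mod_cast h15.symm
        have h18 : c = 1 := Nat.eq_one_of_dvd_coprimes
          (Nat.Coprime.pow b a ((Nat.coprime_primes hq hp).2 hpq)) h16 h17
        intro r hr k hk
        obtain ⟨r', rfl⟩ := hsur r
        obtain ⟨k', rfl⟩ := hπ k
        have h19 : (r' : Γ) ∈ charCenter ψ' := hψ'.mem_charCenter.2 (by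
          obtain ⟨mu, hmu⟩ := hγ.isCharacter.exists_units_of_apply_one (by rw [hc, h18]; simp)
          have := h14 ⟨r', hr⟩
          simp only at this
          rw [this, h15, hmu, norm_mul, norm_mul, norm_units_hom, norm_units_hom])
        have h20 := hψ'.mem_charKer.1 (hψ'.commutator_mem_charKer h19 k')
        have h21 : (r' : Γ) * k' * (r' : Γ)⁻¹ * k'⁻¹ ∈ K.comap π :=
          (K.comap π).mul_mem ((inferInstance : (K.comap π).Normal).conj_mem _ hk _)
            ((K.comap π).inv_mem hk)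
        by_contra h22
        have h23 := h2 ⟨_, h21⟩
        rw [hvan _ (by simpa [Subgroup.mem_subgroupOf, commutatorElement_def] using! h22),
          mul_zero] at h23
        simp only at h23
        rw [h20, hψ1] at h23
        exact hd0.ne' (by exact_mod_cast h23)
    have h15 : R.map H.subtype = L := by
      have h16 : L ≤ R.map H.subtype := fun x hx => ⟨⟨x, hLH hx⟩, h11.le hx, rfl⟩
      refine hcore _ ⟨fun t ht g => ?_⟩ h16 (Subgroup.map_subtype_le _)
      obtain ⟨k, hk, x, hx, rfl⟩ := hmul g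
      obtain ⟨r, hr, rfl⟩ := ht
      have h17 := ‹R.Normal›.conj_mem _ hr ⟨x, hx⟩
      have : k * x * H.subtype r * (k * x)⁻¹ = H.subtype (⟨x, hx⟩ * r * ⟨x, hx⟩⁻¹) *
          ⁅(((⟨x, hx⟩ * r * ⟨x, hx⟩⁻¹ : H)⁻¹ : H) : G), k⁆ := by
        simp [commutatorElement_def]; group
      rw [this]
      exact Subgroup.mul_mem _ ⟨_, h17, rfl⟩ (h16 (h14 _ (R.inv_mem h17) k hk))
    exact h11.not_ge fun r hr => h15.le ⟨r, hr, rfl⟩
  obtain ⟨R, _, h11, h12⟩ := hR
  obtain ⟨T, γ, h13, h14, h15, h16⟩ := h10.exists_ind_of_not_homogeneous _ h12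
  obtain ⟨T, hTH, rfl⟩ : ∃ T' : Subgroup Γ, T' ≤ H.comap π ∧ T = T'.subgroupOf (H.comap π) :=
    ⟨T.map (H.comap π).subtype, Subgroup.map_subtype_le _, (Solv.map_subtype_subgroupOf _ _).symm⟩
  have h17 : K.comap π ⊓ H.comap π ≤ T := fun x hx =>
    h14 (x := ⟨x, hx.2⟩) (h11 (x := ⟨π x, hx.2⟩) (hKH'.le hx))
  obtain ⟨ξ, h18, h19⟩ := exists_ind_sup hβ h7 hKH2 hTH h17
    (h15.isCharacter.conj.mul (hθ'.res _)) (by
      refine (indFun_mul_res _ _ hθ'.isClassFunction).trans (Eq.trans ?_ h9)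
      rw [indFun_conj, h16])
  refine ih Γ (K.comap π) (by rw [K.index_comap_of_surjective hπ]; exact index_lt_of_lt hLK)
    (isSolvable_quotient_comap (Solv.isSolvable_quotient_of_le hLK.le hs) π) _
    (hχ.comp_surjective π hπ) ((hhom.mono hLK.le).comap hπ) (K.comap π ⊔ T)
    (fun x => ξ x * ψ' x) le_sup_left (fun h20 => h13 ?_) (h18.mul (hψ'.res _)) ?_
  · have h21 : (K.comap π ⊔ T) ⊓ H.comap π = T := by
      rw [sup_comm, Solv.dedekind' hTH Subgroup.le_normalizer_of_normal, sup_eq_left.2 h17]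
    rw [h20, top_inf_eq] at h21
    rw [← h21, Subgroup.subgroupOf_self]
  · rw [indFun_mul_res _ _ hψ'.isClassFunction, h19]
    exact (funext h6).symm

theorem berger_aux (n : ℕ) : ∀ (G : Type u) [Group G] [Fintype G] (L : Subgroup G) [L.Normal],
    L.index = n → Group.IsSolvable (G ⧸ L) → BergerProp G L := by
  induction n using Nat.strong_induction_on with
  | _ n ih =>
  intro G _ _ L _ hn hs χ hχ hhom H θ hLH hH hθ hind
  obtain ⟨φ, e, hφ, he⟩ := hhom L ‹_› le_rfl
  have he0 : (e : ℂ) ≠ 0 := by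
    rintro h0
    have := congrFun he 1
    rw [h0, zero_smul] at this
    exact hχ.apply_one_ne_zero this
  obtain ⟨Γ, _, _, π, φ', ν, hπ, -, hφ', h2, h3⟩ :=
    exists_triple hφ (invariant_of_res_eq_smul hχ.isClassFunction he0 he)
  have := Fintype.ofFinite Γ
  have := Fintype.ofFinite L
  have := Fintype.ofFinite H
  have := Fintype.ofFinite (L.comap π)
  have := Fintype.ofFinite (H.comap π)
  have h4 : ∀ g, cj (L.comap π) g (fun n => (ν n : ℂ)) = fun n => (ν n : ℂ) := fun g =>
    funext fun m => congrArg Units.val (h3 g m)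
  have hle : L.comap π ≤ H.comap π := Subgroup.comap_mono hLH
  have h5 : ((fun m => (ν⁻¹ m : ℂ)) * fun m : L.comap π => φ' m) =
      fun m : L.comap π => φ ⟨π m, m.2⟩ := by
    ext m; simp [h2]
  have h6 := hθ.isIrr_of_ind (hind ▸ hχ)
  have h7 : classInner (fun h : H => χ h) θ ≠ 0 := by
    rw [← frobenius_right _ _ hχ.isClassFunction, hind, hχ.classInner_self]; simp
  obtain ⟨θ₀, ⟨h8, h9⟩, h10⟩ := (gallagher_le hle (isIrrCharacter_units ν⁻¹)
    (fun g _ => cj_units_inv h4 g) (hφ'.res _) (h5 ▸ isIrr_comap π hπ hφ)).surjOn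
    ⟨isIrr_comap π hπ h6, by
      refine (congrArg _ h5).trans_ne ((classInner_comap π hπ (fun x : L => θ ⟨x, hLH x.2⟩)
        φ).trans_ne (over_of_res_eq_smul hχ.isCharacter hLH h6 h7 hφ he))⟩
  have h11 : indFun (H.comap π) θ₀ * φ' = fun x => χ (π x) := by
    rw [← indFun_mul_res _ _ hφ'.isClassFunction]
    ext x
    rw [← hind, ← indFun_comap π hπ, ← h10]; rfl
  have h12 := h8.isCharacter.ind.isIrr_of_mul hφ' (h11 ▸ hχ.comp_surjective π hπ)
  have h13 := h12.le_charCenter_of_over_units (cj_units_inv h4)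
    (h12.isCharacter.classInner_res_le_ne_zero hle h8 (by
      rw [← frobenius_right _ _ h12.isClassFunction, h12.classInner_self]; simp)
      (isIrrCharacter_units ν⁻¹).isCharacter h9)
  refine berger_linear (L.comap π) (isSolvable_quotient_comap hs π)
    (fun Γ' _ _ K _ h14 => ih _ (by rwa [L.index_comap_of_surjective hπ, hn] at h14) Γ' K rfl)
    h12 (IsHomogAbove.of_mul h12.isCharacter h12.ne_zero hφ' (isIrrCharacter_units ν⁻¹)
      (cj_units_inv h4) (funext h13.2) (h5 ▸ isIrr_comap π hπ hφ) (h11 ▸ hhom.comap hπ))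
    h13.1 (H.comap π) θ₀ hle (fun h14 => hH ?_) h8.isCharacter rfl
  rw [← Subgroup.map_comap_eq_self_of_surjective hπ H, h14, Subgroup.map_top_of_surjective π hπ]

/-- **Berger's theorem** (relative form). -/
theorem berger {G : Type u} [Group G] [Fintype G] (L : Subgroup G) [L.Normal]
    (hs : Group.IsSolvable (G ⧸ L)) : BergerProp G L := berger_aux _ G L rfl hs

end Cfsg.Agent.Char
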