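import Cfsg.Agent.Lib.Char.Glaub3
import Cfsg.Agent.Lib.Char.Berger
import Cfsg.Agent.Lib.Char.Elem
import Cfsg.Agent.Lib.FT.Cor

/-!
Applications of the Glauberman correspondence.
-/

set_option autoImplicit false

namespace Cfsg.Agent.Char

open scoped ComplexConjugate
open Subgroup Cfsg.Agent.Solv

universe u

theorem exists_sign_mod_reg {A : Type*} [Group A] [Finite A] [Nontrivial A]
    (hA : ∀ a b : A, a * b = b * a) {ψ : A → ℂ} (hψ : IsGeneralizedCharacter A ψ)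
    (h : ∀ x, x ≠ 1 → ψ x * conj (ψ x) = 1) : ∃ (a ε : ℤ) (μ : A →* ℂˣ), (ε = 1 ∨ ε = -1) ∧
      ψ = (a : ℂ) • regChar A + (ε : ℂ) • lc μ := by
  classical
  have := Fintype.ofFinite A
  obtain ⟨d₀, hd₀⟩ := hψ.exists_degree
  have hn : 1 < Nat.card A := Finite.one_lt_card
  obtain ⟨a, d, h1, h2, h3⟩ : ∃ a d : ℤ, d₀ = a * Nat.card A + d ∧ 2 * d ≤ Nat.card A ∧
      -(Nat.card A : ℤ) ≤ 2 * d := by
    have h1 := Int.emod_add_mul_ediv d₀ (Nat.card A)
    have h2 := Int.emod_nonneg d₀ (b := Nat.card A) (by omega)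
    have h3 := Int.emod_lt_of_pos d₀ (b := Nat.card A) (by omega)
    by_cases h4 : 2 * (d₀ % Nat.card A) ≤ Nat.card A
    · exact ⟨d₀ / Nat.card A, d₀ % Nat.card A, by linarith, h4, by omega⟩
    · exact ⟨d₀ / Nat.card A + 1, d₀ % Nat.card A - Nat.card A, by linarith, by omega, by omega⟩
  have hφ := hψ.sub (isCharacter_regChar.isGen.intCast_smul a)
  obtain ⟨c, hc, hc'⟩ := hφ.exists_coeff
  have e1 : (ψ - (a : ℂ) • regChar A) 1 = d := by
    simp [hd₀, regChar_one, h1]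
  have e2 : d = ∑ χ, c χ := by
    have := congrFun hc' 1
    rw [e1] at this
    simp only [Finset.sum_apply, Pi.smul_apply, IsIrrCharacter.apply_one_of_comm (Subtype.prop _)
      hA, smul_eq_mul, mul_one] at this
    exact_mod_cast this
  have e3 := hφ.classInner_self_eq_sum hc
  have e4 : (Nat.card A : ℤ) * ∑ χ, c χ ^ 2 = d ^ 2 + Nat.card A - 1 := by
    have : (Nat.card A : ℂ) * ((∑ χ, c χ ^ 2 : ℤ) : ℂ) = d ^ 2 + Nat.card A - 1 := by
      rw [← e3, classInner, mul_inv_cancel_left₀ (card_ne_zero' A),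
        ← Finset.add_sum_erase _ _ (Finset.mem_univ 1), e1, Finset.sum_congr rfl (g := fun _ => 1)]
      · simp [Finset.card_erase_of_mem, Nat.cast_sub Fintype.card_pos, sq]; ring
      · intro x hx
        simp [regChar_of_ne (Finset.ne_of_mem_erase hx), h x (Finset.ne_of_mem_erase hx)]
    exact_mod_cast this
  have e5 : d ≤ ∑ χ, c χ ^ 2 := e2 ▸ Finset.sum_le_sum fun χ _ => by nlinarith [sq_nonneg (2 * c χ - 1)]
  have e6 : -d ≤ ∑ χ, c χ ^ 2 := by
    rw [e2, ← Finset.sum_neg_distrib]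
    exact Finset.sum_le_sum fun χ _ => by nlinarith [sq_nonneg (2 * c χ + 1)]
  have e7 : ∑ χ, c χ ^ 2 = 1 := by
    generalize ∑ χ, c χ ^ 2 = M at e4 e5 e6
    have hn' : (1 : ℤ) < Nat.card A := by exact_mod_cast hn
    generalize (Nat.card A : ℤ) = n at *
    have h4 : d ≤ 1 := by by_contra! h; nlinarith
    have h5 : -1 ≤ d := by by_contra! h; nlinarith
    have h6 : 0 < M := by by_contra! h; nlinarith
    nlinarith
  rw [e7] at e3
  rcases hφ.irr_or_neg (by simpa using e3) with h4 | h4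
  · obtain ⟨μ, hμ⟩ := h4.isCharacter.exists_units_of_apply_one (h4.apply_one_of_comm hA)
    exact ⟨a, 1, μ, .inl rfl, by rw [show lc μ = _ from hμ.symm]; simp⟩
  · obtain ⟨μ, hμ⟩ := h4.isCharacter.exists_units_of_apply_one (h4.apply_one_of_comm hA)
    exact ⟨a, -1, μ, .inr rfl, by rw [show lc μ = _ from hμ.symm]; simp⟩

theorem exists_eq_mul_of_res_smul {U : Type*} [Group U] [Finite U] {N : Subgroup U} [N.Normal]
    {Φ η : U → ℂ} (hΦ : IsCharacter U Φ) (hη : IsCharacter U η)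
    (hηN : IsIrrCharacter N fun n : N => η n) {c : ℂ} (h : ∀ n : N, Φ n = c * η n) :
    ∃ ψ, IsCharacter U ψ ∧ N ≤ charKer ψ ∧ Φ = ψ * η := by
  classical
  have := Fintype.ofFinite U
  have := Fintype.ofFinite N
  obtain ⟨a, ha, ha'⟩ := hΦ.exists_coeff
  have h1 : ∀ χ : IrrCharacter U, ∃ β, IsCharacter U β ∧ N ≤ charKer β ∧
      (a χ : ℂ) • χ.1 = (a χ : ℂ) • (β * η) := fun χ => by
    by_cases h0 : a χ = 0
    · exact ⟨0, IsCharacter.zero, fun _ _ _ => rfl, by simp [h0]⟩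
    obtain ⟨θ, h2, h3⟩ := χ.2.exists_irr_under N
    have h4 := hΦ.classInner_res_ne_zero χ.2 (by rw [ha]; exact_mod_cast h0) N h2.isCharacter h3
    rw [show (fun n : N => Φ n) = c • fun n : N => η n from funext h] at h4
    obtain rfl := eq_of_constituent_of_smul hηN h2 h4
    obtain ⟨β, h5, h6, h7⟩ := χ.2.exists_eq_mul_of_over hη hηN h3
    exact ⟨β, h5.isCharacter, h6, by rw [← h7]⟩
  choose β h2 h3 h4 using h1
  refine ⟨∑ χ, (a χ : ℂ) • β χ, IsCharacter.sum fun χ _ => (h2 χ).natCast_smul _,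
    fun n hn x => ?_, ?_⟩
  · simp only [Finset.sum_apply, Pi.smul_apply, mem_charKer.1 (h3 _ hn)]
  · rw [ha', Finset.sum_mul]
    exact Finset.sum_congr rfl fun χ _ => by rw [h4, smul_mul_assoc]

variable {Γ : Type u} [Group Γ] [Finite Γ]

theorem index_dvd_of_fullyRamified {G N : Subgroup Γ} [hG : G.Normal] [hN : N.Normal] (hNG : N ≤ G)
    (hGlt : G ≠ ⊤) (hcyc : IsCyclic (Γ ⧸ G))
    (hfrob : ∀ x : Γ, x ∉ G → ∀ g : Γ, g ∈ G → x * g * x⁻¹ * g⁻¹ ∈ N → g ∈ N) {θ : N → ℂ}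
    (hθ : IsIrrCharacter N θ) (hinv : ∀ g, cj N g θ = θ) {χ : G → ℂ} (hχ : IsIrrCharacter G χ)
    (hχinv : ∀ g, cj G g χ = χ) {e : ℕ} (he : ∀ n : N, χ ⟨n, hNG n.2⟩ = e * θ n) :
    (G.index : ℤ) ∣ (e : ℤ) - 1 ∨ (G.index : ℤ) ∣ (e : ℤ) + 1 := by
  have := Fintype.ofFinite G
  have := Fintype.ofFinite N
  obtain ⟨ξ, hξ, h1⟩ := hχ.exists_ext_of_cyclic hχinv hcyc
  obtain ⟨u', hu⟩ := hcyc.exists_generator
  obtain ⟨u, rfl⟩ := QuotientGroup.mk_surjective u'
  have hu1 : u ∉ G := fun h => hGlt (eq_top_iff.2 fun g _ => by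
    obtain ⟨k, hk⟩ := hu g
    simp only [(QuotientGroup.eq_one_iff u).2 h, one_zpow] at hk
    exact (QuotientGroup.eq_one_iff g).1 hk.symm)
  let U := N ⊔ zpowers u
  have hNU : N ≤ U := le_sup_left
  have hUG : ∀ x ∈ U, x ∈ G → x ∈ N := fun x hx hxG => by
    obtain ⟨n, hn, _, ⟨k, rfl⟩, rfl⟩ := (mem_sup_of_le_normalizer' le_normalizer_of_normal).1 hx
    refine N.mul_mem hn (hfrob u hu1 _ ((G.mul_mem_cancel_left (hNG hn)).1 hxG) ?_)
    simp only [(Commute.zpow_right (Commute.refl u) k).eq, mul_inv_cancel_right, mul_inv_cancel]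
    exact N.one_mem
  have hi : N.relIndex U = G.index := by
    have h2 : G ⊔ U = ⊤ := eq_top_iff.2 fun g _ => by
      obtain ⟨k, hk⟩ := hu g
      have h3 : (u ^ k)⁻¹ * g ∈ G := QuotientGroup.eq.1 hk
      rw [← mul_inv_cancel_left (u ^ k) g]
      exact mul_mem (mem_sup_right (mem_sup_right (zpow_mem_zpowers u k))) (mem_sup_left h3)
    rw [← relIndex_top_right, ← h2, relIndex_sup_left U G, ← inf_relIndex_right G U,
      le_antisymm (fun x (hx : x ∈ G ⊓ U) => hUG x hx.2 hx.1) (le_inf hNG hNU)]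
  have := Fintype.ofFinite (N.subgroupOf U)
  have hc : IsCyclic (U ⧸ N.subgroupOf U) := by
    refine ⟨⟨(⟨u, mem_sup_right (mem_zpowers u)⟩ : U), fun y => ?_⟩⟩
    obtain ⟨⟨y, hy⟩, rfl⟩ := QuotientGroup.mk_surjective y
    obtain ⟨_, ⟨k, rfl⟩, n, hn, rfl⟩ := (mem_sup_of_le_normalizer le_normalizer_of_normal).1
      (sup_comm N _ ▸ hy : y ∈ zpowers u ⊔ N)
    exact ⟨k, QuotientGroup.eq.2 (by simpa [mem_subgroupOf] using hn)⟩
  obtain ⟨η, hη, h2⟩ := (hθ.comp_equiv (subgroupOfEquivOfLe hNU)).exists_ext_of_cyclic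
    (fun g => funext fun n => congrFun (hinv g) ⟨n, n.2⟩) hc
  have hηN : IsIrrCharacter (N.subgroupOf U) fun n => η n := by
    simpa only [h2] using hθ.comp_equiv (subgroupOfEquivOfLe hNU)
  obtain ⟨ψ, h3, h4, h5⟩ := exists_eq_mul_of_res_smul (hξ.isCharacter.res U) hη.isCharacter hηN
    (c := e) fun n => by rw [h2]; exact (h1 ⟨n, hNG n.2⟩).trans (he ⟨n, n.2⟩)
  obtain ⟨φ, h6, h7⟩ := h3.exists_quotient _ h4
  have hcard : Nat.card (U ⧸ N.subgroupOf U) = G.index := hi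
  have : Nontrivial (U ⧸ N.subgroupOf U) := by
    rw [← Finite.one_lt_card_iff_nontrivial, hcard]
    exact one_lt_index_of_ne_top hGlt
  obtain ⟨a, ε, μ, hε, h8⟩ := exists_sign_mod_reg (IsCyclic.commGroup.mul_comm) h6.isGen (by
    intro x hx
    obtain ⟨x, rfl⟩ := QuotientGroup.mk_surjective x
    have hxG : (x : Γ) ∉ G := fun h => hx ((QuotientGroup.eq_one_iff x).2 (hUG x x.2 h))
    have h9 := coset_average_norm (N := G) hξ.isCharacter (by simpa only [h1] using hχ) (x : Γ)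
    rw [avg_coset hNG (u := x) (fun d hd => hN.conj_mem d hd _) (fun g hg d hd d' hd' h => ?_)
      (F := fun y => ξ y * conj (ξ y)) fun g _ y => by simp only [hξ.isClassFunction y g]] at h9
    · have h10 := coset_average_norm hη.isCharacter hηN x
      rw [card_subgroupOf_of_le hNU] at h10
      rw [← Equiv.sum_comp (subgroupOfEquivOfLe hNU).toEquiv] at h9
      have h11 : ∀ n : N.subgroupOf U, ξ ((subgroupOfEquivOfLe hNU).toEquiv n * x) =
          ψ x * η (n * x) := fun n => by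
        rw [← mem_charKer.1 (h4 n.2) x]; exact congrFun h5 (n * x)
      simp only [h11, map_mul, mul_mul_mul_comm (ψ x) (η _), ← Finset.mul_sum] at h9
      rw [h7, ← h9, mul_left_comm, h10, mul_one]
    · refine (N.inv_mem_iff).1 (hfrob x hxG g⁻¹ (G.inv_mem hg) ?_)
      have : x * g⁻¹ * (x : Γ)⁻¹ * g⁻¹⁻¹ = d⁻¹ * (g⁻¹ * d' * g⁻¹⁻¹) := by
        rw [show d' = g * (d * x) * g⁻¹ * (x : Γ)⁻¹ by rw [h]; group]; group
      rw [this]
      exact N.mul_mem (N.inv_mem hd) (hN.conj_mem _ hd' _))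
  have h9 := congrFun h8 1
  have h10 : ψ 1 = e := by
    have h11 := congrFun h5 1
    have h12 := h2 1
    have h13 := (h1 1).trans (he 1)
    simp only [OneMemClass.coe_one, Pi.mul_apply, map_one] at h11 h12 h13
    rw [h13, h12] at h11
    exact (mul_right_cancel₀ hθ.apply_one_ne_zero h11).symm
  rw [← QuotientGroup.mk_one, h7, h10] at h9
  simp only [QuotientGroup.mk_one, Pi.add_apply, Pi.smul_apply, regChar_one, hcard, lc_apply,
    map_one, Units.val_one, smul_eq_mul, mul_one] at h9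
  have h11 : (e : ℤ) = a * G.index + ε := by exact_mod_cast h9
  rcases hε with rfl | rfl
  · exact .inl ⟨a, by rw [h11]; ring⟩
  · exact .inr ⟨a, by rw [h11]; ring⟩

/-- Transport of irreducible characters along an isomorphism. -/
def irrCongr {A B : Type*} [Group A] [Group B] (e : A ≃* B) : IrrCharacter B ≃ IrrCharacter A where
  toFun χ := ⟨fun a => χ.1 (e a), χ.2.comp_equiv e⟩
  invFun χ := ⟨fun a => χ.1 (e.symm a), χ.2.comp_equiv e.symm⟩
  left_inv χ := by ext; simp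
  right_inv χ := by ext; simp

theorem card_coprime_degree {K H : Subgroup Γ} [K.Normal] (hKH : K ⊔ H = ⊤)
    (hcop : (Nat.card K).Coprime (Nat.card H)) (hs : Group.IsSolvable H) :
    Nat.card {χ : IrrCharacter Γ // (charDegree χ.1).Coprime (Nat.card H)} =
      Nat.card (IrrCharacter (K ⊓ centralizer (H : Set Γ) : Subgroup Γ)) * Nat.card (H →* ℂˣ) := by
  have := Fintype.ofFinite K
  have hc := isComplement'_of_inf_eq_bot_of_sup_eq_top (inf_eq_bot_of_coprime' hcop) hKH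
  have hi := IsComplement'.card_eq_index hc
  have hinv : ∀ θ : IrrCharacter K, InvS K H θ.1 → ∀ g, cj K g θ.1 = θ.1 := fun θ h =>
    invS_of_normal.1 ((invS_iff le_normalizer_of_normal).2 (hKH ▸ sup_le
      (le_invSub θ.2.isClassFunction) ((invS_iff le_normalizer_of_normal).1 h)))
  choose ξ h1 h2 using fun θ : {θ : IrrCharacter K // InvS K H θ.1} =>
    θ.1.2.exists_ext_of_coprime (hinv θ.1 θ.2) (hi ▸ hcop.symm)
  have h3 : ∀ θ, IsIrrCharacter K fun n : K => ξ θ n := fun θ => by simpa only [h2] using θ.1.2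
  rw [← card_invS hs K le_normalizer_of_normal hcop, ← Nat.card_congr
    (MulEquiv.monoidHomCongrLeftEquiv (N := ℂˣ) hc.symm.QuotientMulEquiv), ← Nat.card_prod]
  symm
  refine Nat.card_eq_of_bijective (fun x => ⟨⟨_, (h1 x.1).mul_units
    (x.2.comp (QuotientGroup.mk' K))⟩, ?_⟩) ⟨?_, ?_⟩
  · obtain ⟨d, -, hd⟩ := x.1.1.2.exists_degree
    have : charDegree (fun g => (x.2.comp (QuotientGroup.mk' K) g : ℂ) * ξ x.1 g) = d := by
      have := h2 x.1 1
      simp only [OneMemClass.coe_one] at this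
      simp [charDegree, this, hd]
    rw [this]
    exact hcop.coprime_dvd_left (x.1.1.2.degree_dvd_card hd)
  · rintro ⟨θ, lam⟩ ⟨θ', lam'⟩ h
    have h4 := congrArg (·.1.1) h
    obtain rfl : θ = θ' := Subtype.ext (Subtype.ext (funext fun n => by
      simpa [(QuotientGroup.eq_one_iff (n : Γ)).2 n.2, h2] using congrFun h4 n))
    have hk : ∀ lam : Γ ⧸ K →* ℂˣ, K ≤ charKer (lc (lam.comp (QuotientGroup.mk' K))) :=
      fun lam n hn x => by simp [(QuotientGroup.eq_one_iff n).2 hn]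
    have := eq_of_mul_eq_of_le_charKer (isIrr_lc _) (hk lam) (isIrr_lc _) (hk lam')
      (h1 θ).isCharacter (h3 θ) h4
    rw [QuotientGroup.monoidHom_ext K (lc_injective this)]
  · rintro ⟨χ, hχ⟩
    have h4 := χ.2.res_irr_of_coprime (N := K) χ.2.isCharacter.cast_charDegree.symm (hi ▸ hχ.symm)
    let θ : {θ : IrrCharacter K // InvS K H θ.1} := ⟨⟨_, h4⟩, fun s _ g g' hg => by
      show χ.1 _ = χ.1 _
      rw [hg, χ.2.isClassFunction]⟩
    obtain ⟨β, h5, h6, h7⟩ := χ.2.exists_eq_mul_of_over (h1 θ).isCharacter (h3 θ) (by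
      simp only [h2]; exact h4.classInner_self ▸ one_ne_zero)
    have h8 : β 1 = 1 := by
      have e1 := congrFun h7 1
      have e2 : ξ θ 1 = χ.1 1 := h2 θ 1
      rw [Pi.mul_apply, e2] at e1
      exact (mul_eq_right₀ χ.2.apply_one_ne_zero).1 e1.symm
    obtain ⟨lam, rfl⟩ := h5.isCharacter.exists_units_of_apply_one h8
    refine ⟨⟨θ, QuotientGroup.lift K lam fun n hn => ?_⟩, Subtype.ext (Subtype.ext h7.symm)⟩
    simpa using mem_charKer.1 (h6 hn) 1

theorem exists_inv_over_of_ker {G N K : Subgroup Γ} [G.Normal] [N.Normal] [K.Normal]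
    (hNG : N ≤ G) (hKN : K ≤ N) (hcop : G.index.Coprime (K.relIndex G)) {θ : N → ℂ}
    (hθ : IsIrrCharacter N θ) (hk : ∀ n : N, (n : Γ) ∈ K → θ n = θ 1) (hinv : InvS N ⊤ θ) :
    ∃ χ, IsIrrCharacter G χ ∧ Ovr (inclusion hNG) χ θ ∧ InvS G ⊤ χ := by
  let f := QuotientGroup.mk' K
  have hf : Function.Surjective f := QuotientGroup.mk'_surjective K
  have hc : (Nat.card (G.map f)).Coprime (G.map f).index := by
    rw [card_map_mk_eq_relIndex, index_map_mk, sup_eq_left.2 (hKN.trans hNG)]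
    exact hcop.symm
  obtain ⟨S, hS⟩ := exists_right_complement'_of_coprime hc
  have hc' : (Nat.card (G.map f)).Coprime (Nat.card S) := IsComplement'.card_eq_index hS ▸ hc
  obtain ⟨θ', h1, h2⟩ := hθ.exists_descend (f.subgroupMap N) (f.subgroupMap_surjective N)
    fun n hn => hθ.isCharacter.mem_charKer.2 (hk n
      ((QuotientGroup.eq_one_iff _).1 (congrArg Subtype.val hn)))
  have h3 : InvS (N.map f) S θ' := fun s _ g g' hg => by
    obtain ⟨s, rfl⟩ := hf s
    obtain ⟨g, rfl⟩ := f.subgroupMap_surjective N g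
    rw [h2, ← hinv s trivial g (cjE (le_normalizer_of_normal (mem_top s)) g) rfl, ← h2]
    exact congrArg θ' (Subtype.ext hg)
  have h4 : ∃ χ, IsIrrCharacter (G.map f) χ ∧ Ovr (inclusion (map_mono hNG)) χ θ' ∧
      InvS (G.map f) S χ := by
    rcases FTC.solv_or hc' with hs | hs
    · exact exists_invS_over_of_solvable _ le_normalizer_of_normal le_normalizer_of_normal
        (hc'.coprime_dvd_left (relIndex_dvd_card _ _)) inferInstance h1 h3
    · exact exists_invS_over hs _ _ le_normalizer_of_normal le_normalizer_of_normal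
        le_normalizer_of_normal hc' h1 h3
  obtain ⟨χ, h5, h6, h7⟩ := h4
  have h8 : InvS (G.map f) ⊤ χ := (invS_iff le_normalizer_of_normal).2 (hS.sup_eq_top ▸ sup_le
    (le_invSub h5.isClassFunction) ((invS_iff le_normalizer_of_normal).1 h7))
  refine ⟨_, h5.comp_surjective (f.subgroupMap G) (f.subgroupMap_surjective G), ?_,
    fun s _ g g' hg => h8 (f s) trivial _ _ (by simp [hg])⟩
  have := Fintype.ofFinite N
  have := Fintype.ofFinite (N.map f)
  rw [ovr_iff, ← classInner_comp_surjective (f.subgroupMap N) (f.subgroupMap_surjective N)] at h6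
  simp only [h2] at h6
  exact ovr_iff.2 h6

theorem exists_inv_over_units {G N : Subgroup Γ} [G.Normal] [hN : N.Normal] (hNG : N ≤ G)
    (hcop : G.index.Coprime (N.relIndex G)) {ν : N →* ℂˣ} (hinv : InvS N ⊤ (lc ν)) :
    ∃ χ, IsIrrCharacter G χ ∧ Ovr (inclusion hNG) χ (lc ν) ∧ InvS G ⊤ χ := by
  obtain ⟨a, b, h1, ha, hb, h2, h3⟩ := exists_piDecomp {q | q ∣ G.index} ν
  have hz : ∀ c ∈ zpowers ν, ∀ (g : Γ) (n n' : N), (n' : Γ) = g * n * g⁻¹ → c n' = c n := by
    rintro _ ⟨k, rfl⟩ g n n' h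
    have : ν n' = ν n := Units.ext (hinv g trivial n n' h)
    simp [this]
  -- the part of order prime to `[G : N]` extends canonically
  have h4 : (N.relIndex G).Coprime (orderOf a) := Nat.coprime_of_dvd fun q hq h h' =>
    hq.not_dvd_one (hcop ▸ Nat.dvd_gcd (h2 q hq h') h)
  let a' := a.comp (subgroupOfEquivOfLe hNG).toMonoidHom
  have h5 : (N.subgroupOf G).index.Coprime (orderOf a') := h4.coprime_dvd_right
    (orderOf_dvd_of_pow_eq_one (MonoidHom.ext fun x =>
      DFunLike.congr_fun (pow_orderOf_eq_one a) (subgroupOfEquivOfLe hNG x)))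
  obtain ⟨μ, h6, h7⟩ := exists_ext_orderOf_eq (lam := a') (fun g n => hz a ha g _ _ rfl) h5
  have h8 : InvS G ⊤ (lc μ) := fun s _ => (invBy_iff (le_normalizer_of_normal (mem_top s))).2 (by
    have := eq_of_eq_on_of_coprime (N := N.subgroupOf G)
      (μ := μ.comp (cjE (le_normalizer_of_normal (mem_top s))).toMonoidHom) (μ' := μ) (fun n => by
        rw [h6]
        exact (h6 ⟨cjE (le_normalizer_of_normal (mem_top s)) n, hN.conj_mem _ n.2 s⟩).trans
          (hz a ha s _ _ rfl))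
      ((h7 ▸ h5).coprime_dvd_right (orderOf_dvd_of_pow_eq_one (MonoidHom.ext fun x =>
        DFunLike.congr_fun (pow_orderOf_eq_one μ) _))) (h7 ▸ h5)
    exact congrArg lc this)
  have : (b.ker.map N.subtype).Normal := ⟨by
    rintro _ ⟨n, hn, rfl⟩ g
    exact ⟨⟨_, hN.conj_mem n n.2 g⟩, (hz b hb g n _ rfl).trans hn, rfl⟩⟩
  obtain ⟨β, h9, h10, h11⟩ := exists_inv_over_of_ker hNG (map_subtype_le b.ker) (by
      rw [← relIndex_mul_relIndex _ N G (map_subtype_le _) hNG]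
      refine Nat.Coprime.mul_right ?_ hcop
      rw [relIndex, subgroupOf, comap_map_eq_self_of_injective N.subtype_injective, index_ker]
      refine Nat.coprime_of_dvd fun q hq h h' => h3 q hq ?_ h
      have := Fact.mk hq
      have : Finite b.range := Finite.of_surjective _ b.rangeRestrict_surjective
      obtain ⟨⟨_, x, rfl⟩, hx⟩ := exists_prime_orderOf_dvd_card' q h'
      rw [← hx, ← orderOf_coe]
      exact orderOf_dvd_of_pow_eq_one (DFunLike.congr_fun (pow_orderOf_eq_one b) x))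
    (isIrr_lc b) (by
      rintro n ⟨m, hm, h⟩
      obtain rfl : m = n := Subtype.ext h
      simpa using hm) fun s _ n n' h => congrArg Units.val (hz b hb s n n' h)
  refine ⟨_, h9.mul_units μ, ?_, fun s _ g g' h => by
    show _ * β g' = _ * β g
    rw [h11 s trivial g g' h]; exact congrArg (· * β g) (h8 s trivial g g' h)⟩
  have := Fintype.ofFinite N
  rw [ovr_iff] at h10 ⊢
  convert h10 using 1
  unfold classInner
  congr 1
  refine Finset.sum_congr rfl fun n _ => ?_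
  have e1 : μ (inclusion hNG n) = a n := h6 ⟨inclusion hNG n, n.2⟩
  simp only [e1, h1, lc_apply, MonoidHom.mul_apply, Units.val_mul, map_mul, conj_units_hom a]
  simp only [Units.val_inv_eq_inv_val]
  field_simp

theorem exists_inv_over {G N : Subgroup Γ} [G.Normal] [hN : N.Normal] (hNG : N ≤ G)
    (hcop : G.index.Coprime (N.relIndex G)) {θ : N → ℂ} (hθ : IsIrrCharacter N θ)
    (hinv : ∀ g, cj N g θ = θ) :
    ∃ χ, IsIrrCharacter G χ ∧ Ovr (inclusion hNG) χ θ ∧ InvS G ⊤ χ := by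
  obtain ⟨Δ, _, _, π, θ', ν, hπ, -, h1, h2, h3⟩ := exists_triple hθ hinv
  have := Fintype.ofFinite (N.comap π)
  have := Fintype.ofFinite N
  have hle : N.comap π ≤ G.comap π := comap_mono hNG
  have hi : ∀ g, cj (N.comap π) g (lc ν⁻¹) = lc ν⁻¹ :=
    cj_units_inv fun g => funext fun m => congrArg Units.val (h3 g m)
  obtain ⟨β, h4, h5, h6⟩ := exists_inv_over_units hle (ν := ν⁻¹) (by
    rwa [index_comap_of_surjective _ hπ, relIndex_comap, map_comap_eq_self_of_surjective hπ])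
    (invS_of_normal.2 hi)
  have e1 : (lc ν⁻¹ * fun n : N.comap π => θ' n) = fun m : N.comap π => θ ⟨π m, m.2⟩ := by
    ext m; simp [h2]
  have h7 := (gallagher_le hle (isIrr_lc ν⁻¹) (fun g _ => hi g) (h1.res (G.comap π))
    (e1 ▸ isIrr_comap π hπ hθ)).1 ⟨h4, ovr_incl.1 h5⟩
  obtain ⟨h7, h8⟩ := h7
  rw [e1] at h8
  have h9 := h7.res_le_eq_smul hle (isIrr_comap π hπ hθ) (fun g _ => funext fun m =>
    (congrArg θ (Subtype.ext (by simp))).trans (congrFun (hinv (π g)) ⟨π m, m.2⟩)) h8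
  have hs : Function.Surjective (π.subgroupComap G) := π.subgroupComap_surjective_of_surjective G hπ
  obtain ⟨χ, h10, h11⟩ := h7.exists_descend (π.subgroupComap G) hs fun z hz => by
    have hz' : π z = 1 := congrArg Subtype.val hz
    have hzN : (z : Δ) ∈ N.comap π := by simp [hz']
    refine h7.isCharacter.mem_charKer.2 ((congrFun h9 ⟨z, hzN⟩).trans
      (Eq.trans ?_ (congrFun h9 1).symm))
    simp only [Pi.smul_apply, hz', OneMemClass.coe_one, map_one]
  refine ⟨χ, h10, ?_, fun s _ g g' h => ?_⟩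
  · rw [ovr_incl, ← classInner_comap π hπ]
    convert h8 using 2
    exact funext fun m => h11 ⟨m, hle m.2⟩
  · obtain ⟨s, rfl⟩ := hπ s
    obtain ⟨g, rfl⟩ := hs g
    rw [h11, show g' = π.subgroupComap G (cjE (le_normalizer_of_normal (mem_top s)) g) from
      Subtype.ext (h.trans (by
        show π s * π g * (π s)⁻¹ = π (s * g * s⁻¹)
        simp)), h11]
    simp only [Pi.mul_apply, coe_cjE, h1.apply_conj]
    rw [h6 s trivial g _ rfl]

theorem IsCan.corr_of_fpf {G S C : Subgroup Γ} [G.Normal] (hcop : G.index.Coprime (Nat.card G))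
    (hcop' : (Nat.card G).Coprime (Nat.card S)) (hS : ∀ a ∈ S, ∀ b ∈ S, a * b = b * a)
    (hC : ∀ x ∈ S, x ≠ 1 → ∀ g, g ∈ C ↔ g ∈ G ∧ g * x = x * g) {ξ : Γ → ℂ} (hξ : IsCan G ξ)
    {β : C → ℂ} (hβ : IsIrrCharacter C β) {s : Γ} (hs : s ∈ S) (hs1 : s ≠ 1)
    (h : ∃ ε : ℤ, (ε = 1 ∨ ε = -1) ∧ ∀ c : C, ξ (c * s) = ε * β c) {x : Γ} (hx : x ∈ S)
    (hx1 : x ≠ 1) : ∃ ε : ℤ, (ε = 1 ∨ ε = -1) ∧ ∀ c : C, ξ (c * x) = ε * β c := by
  have := Fintype.ofFinite C
  have hCS : ∀ a ∈ C, ∀ b ∈ S, a * b = b * a := fun a ha b hb => by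
    by_cases h1 : b = 1
    · simp [h1]
    · exact ((hC b hb h1 a).1 ha).2
  let Q : Γ → Prop := fun x => ∃ ε : ℤ, (ε = 1 ∨ ε = -1) ∧ ∀ c : C, ξ (c * x) = ε * β c
  have step : ∀ y ∈ S, y ≠ 1 → ∀ z ∈ S, ∀ p, p.Prime → IsPiElt {p} z → Q (z * y) → Q y := by
    rintro y hy hy1 z hz p hp hz' ⟨ε, hε, h1⟩
    obtain ⟨γ, δ, h2, h3, h4⟩ := hξ.exists_corr hcop
      (hcop'.coprime_dvd_right (S.orderOf_dvd_natCard hy)) (hC y hy hy1)
    suffices γ = β from ⟨δ, h3, this ▸ h4⟩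
    by_contra hne
    obtain ⟨k, hk⟩ := (isPiElt_singleton_iff hp).1 hz'
    have h5 := (isCharacter_psi hCS hξ.irr.isCharacter hβ.isCharacter).isGen.prime_dvd_of_sub_eq
      hp (x := ⟨z, hz⟩) (y := ⟨y, hy⟩) (Subtype.ext (hS z hz y hy)) (k := k)
      (Subtype.ext (by simp [← hk])) (n := ε) (by
        have e1 : (fun c : C => ξ (c * (z * y))) = (ε : ℂ) • β := funext h1
        have e2 : (fun c : C => ξ (c * y)) = (δ : ℂ) • γ := funext h4
        simp [e1, e2, classInner_smul_left, hβ.classInner_self, h2.classInner_of_ne hβ hne])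
    rcases hε with rfl | rfl
    · exact hp.not_dvd_one (by exact_mod_cast h5)
    · exact hp.not_dvd_one (by exact_mod_cast (dvd_neg.1 h5))
  obtain ⟨q, hq, hqx⟩ := Nat.exists_prime_and_dvd (mt orderOf_eq_one_iff.1 hx1)
  have ne : ∀ w, ¬ q ∣ orderOf w → w * x ≠ 1 := fun w hw h => hw (by
    rwa [eq_inv_of_mul_eq_one_left h, orderOf_inv])
  have chain : ∀ n, ∀ w ∈ S, orderOf w = n → ¬ q ∣ orderOf w → Q (w * x) → Q x := by
    intro n
    induction n using Nat.strong_induction_on with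
    | _ n ih =>
    rintro w hw rfl h1 h2
    by_cases h0 : w = 1
    · simpa [h0] using h2
    obtain ⟨r, hr, hrw⟩ := Nat.exists_prime_and_dvd (mt orderOf_eq_one_iff.1 h0)
    obtain ⟨u, v, rfl, hu, hv, h3, h4⟩ := exists_piDecomp {r} w
    have h5 := orderOf_dvd_of_mem_zpowers hv
    have h6 : ¬ q ∣ orderOf v := fun h => h1 (h.trans h5)
    have hv' := zpowers_le.2 hw hv
    refine ih _ (lt_of_le_of_ne (Nat.le_of_dvd (orderOf_pos _) h5) fun h => ?_) v hv' rfl h6
      (step _ (S.mul_mem hv' hx) (ne v h6) u (zpowers_le.2 hw hu) r hr h3 (by rwa [← mul_assoc]))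
    exact (isPiElt_compl_singleton_iff hr).1 h4 (h ▸ hrw)
  obtain ⟨u, v, h1, hu, hv, h3, h4⟩ := exists_piDecomp {q} (s * x⁻¹)
  have hw := S.mul_mem hs (S.inv_mem hx)
  have h5 := (isPiElt_compl_singleton_iff hq).1 h4
  have hv' := zpowers_le.2 hw hv
  exact chain _ v hv' rfl h5 (step _ (S.mul_mem hv' hx) (ne v h5) u (zpowers_le.2 hw hu) q hq h3
    (by rwa [← mul_assoc, ← h1, inv_mul_cancel_right]))

end Cfsg.Agent.Char
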