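import Cfsg.Agent.Lib.Char.Kernel

/-!
Automorphisms of the complex numbers acting on characters.
-/

set_option autoImplicit false

namespace Cfsg

open Agent.Char Module Representation Polynomial
open scoped ComplexConjugate

variable {G : Type*} [Group G]

namespace Agent.Char

/-- An automorphism of a subfield extends to the complex numbers. -/
theorem exists_ringEquiv_extend {K : Type*} [Field K] [Algebra K ℂ] (φ : K ≃+* K) :
    ∃ σ : ℂ ≃+* ℂ, ∀ x : K, σ (algebraMap K ℂ x) = algebraMap K ℂ (φ x) := by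
  obtain ⟨ι, v, hv⟩ := exists_isTranscendenceBasis' K ℂ
  let := IsAlgClosed.isAlgClosure_of_transcendence_basis v hv
  let e : Algebra.adjoin K (Set.range v) ≃+* Algebra.adjoin K (Set.range v) :=
    (hv.1.aevalEquiv.symm.toRingEquiv.trans (MvPolynomial.mapEquiv ι φ)).trans
      hv.1.aevalEquiv.toRingEquiv
  refine ⟨IsAlgClosure.equivOfEquiv ℂ ℂ e, fun x => ?_⟩
  rw [IsScalarTower.algebraMap_apply K (Algebra.adjoin K (Set.range v)) ℂ,
    IsAlgClosure.equivOfEquiv_algebraMap,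
    IsScalarTower.algebraMap_apply K (Algebra.adjoin K (Set.range v)) ℂ]
  congr 1
  have h1 : hv.1.aevalEquiv.symm (algebraMap K _ x) = MvPolynomial.C x :=
    hv.1.aevalEquiv.symm.commutes x
  show hv.1.aevalEquiv (MvPolynomial.mapEquiv ι φ (hv.1.aevalEquiv.symm (algebraMap K _ x))) = _
  rw [h1, MvPolynomial.mapEquiv_apply, MvPolynomial.map_C]
  exact hv.1.aevalEquiv.commutes _

/-- Conjugate algebraic numbers are exchanged by an automorphism of the complex numbers. -/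
theorem exists_ringEquiv_of_root {z w : ℂ} (hz : IsAlgebraic ℚ z)
    (hw : aeval w (minpoly ℚ z) = 0) : ∃ σ : ℂ ≃+* ℂ, σ z = w := by
  have hw' : IsAlgebraic ℚ w := ⟨_, minpoly.ne_zero hz.isIntegral, hw⟩
  let K := algebraicClosure ℚ ℂ
  have : IsAlgClosure ℚ K := algebraicClosure.isAlgClosure ℚ ℂ
  let z' : K := ⟨z, (mem_algebraicClosure_iff).2 hz⟩
  let w' : K := ⟨w, (mem_algebraicClosure_iff).2 hw'⟩
  have hm : minpoly ℚ z' = minpoly ℚ z := (minpoly.algebraMap_eq (algebraMap K ℂ).injective z').symm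
  have h1 : aeval w' (minpoly ℚ z') = 0 := by
    apply (algebraMap K ℂ).injective
    rw [hm, ← aeval_algebraMap_apply, map_zero]; exact hw
  obtain ⟨φ, hφ⟩ := minpoly.exists_algEquiv_of_root' (K := ℚ) (L := K) (x := w') (y := z')
    (Algebra.IsAlgebraic.isAlgebraic z') h1
  obtain ⟨σ, hσ⟩ := exists_ringEquiv_extend φ.toRingEquiv
  refine ⟨σ, ?_⟩
  have := hσ z'
  simpa [hφ] using this

/-- An algebraic number fixed by all automorphisms of the complex numbers is rational. -/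
theorem exists_rat_of_forall_ringEquiv {z : ℂ} (hz : IsAlgebraic ℚ z)
    (h : ∀ σ : ℂ ≃+* ℂ, σ z = z) : ∃ q : ℚ, z = q := by
  let K := algebraicClosure ℚ ℂ
  let z' : K := ⟨z, (mem_algebraicClosure_iff).2 hz⟩
  have : IsAlgClosure ℚ K := algebraicClosure.isAlgClosure ℚ ℂ
  have : IsGalois ℚ K := inferInstance
  have h1 : z' ∈ (⊥ : IntermediateField ℚ K) := by
    rw [InfiniteGalois.mem_bot_iff_fixed]
    intro φ
    obtain ⟨σ, hσ⟩ := exists_ringEquiv_extend φ.toRingEquiv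
    apply (algebraMap K ℂ).injective
    exact (hσ z').symm.trans (h σ)
  obtain ⟨q, hq⟩ := IntermediateField.mem_bot.1 h1
  exact ⟨q, by simpa using (congrArg (algebraMap K ℂ) hq).symm⟩

theorem exists_int_of_isIntegral_of_rat {z : ℂ} (hz : IsIntegral ℤ z) {q : ℚ} (h : z = q) :
    ∃ n : ℤ, z = n := by
  subst h
  have h1 : IsIntegral ℤ q := by
    rwa [← isIntegral_algebraMap_iff (algebraMap ℚ ℂ).injective]
  obtain ⟨n, hn⟩ := (IsIntegrallyClosed.isIntegral_iff (R := ℤ) (K := ℚ)).1 h1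
  exact ⟨n, by rw [← hn]; simp⟩

theorem isAlgebraic_of_isIntegral_int {z : ℂ} (hz : IsIntegral ℤ z) : IsAlgebraic ℚ z :=
  (hz.tower_top (A := ℚ)).isAlgebraic

/-- An algebraic integer fixed by all automorphisms of the complex numbers is an integer. -/
theorem exists_int_of_forall_ringEquiv {z : ℂ} (hz : IsIntegral ℤ z)
    (h : ∀ σ : ℂ ≃+* ℂ, σ z = z) : ∃ n : ℤ, z = n := by
  obtain ⟨q, hq⟩ := exists_rat_of_forall_ringEquiv (isAlgebraic_of_isIntegral_int hz) h
  exact exists_int_of_isIntegral_of_rat hz hq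

/-- An integer quotient that is an algebraic integer gives a divisibility. -/
theorem int_dvd_of_isIntegral_div {a b : ℤ} (hb : b ≠ 0) (h : IsIntegral ℤ ((a : ℂ) / b)) :
    b ∣ a := by
  obtain ⟨n, hn⟩ := exists_int_of_isIntegral_of_rat h (q := a / b) (by simp)
  rw [div_eq_iff (by exact_mod_cast hb)] at hn
  exact ⟨n, by rw [mul_comm]; exact_mod_cast hn⟩

theorem nat_dvd_of_isIntegral_div {a b : ℕ} (hb : b ≠ 0) (h : IsIntegral ℤ ((a : ℂ) / b)) :
    b ∣ a := by
  have := int_dvd_of_isIntegral_div (a := a) (b := b) (by exact_mod_cast hb) (by simpa using h)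
  exact_mod_cast this

/-- Each power map coprime to `n` on the `n`-th roots of unity comes from an automorphism. -/
theorem exists_ringEquiv_pow {n k : ℕ} (hn : n ≠ 0) (hk : k.Coprime n) :
    ∃ σ : ℂ ≃+* ℂ, ∀ z : ℂ, z ^ n = 1 → σ z = z ^ k := by
  have hζ := Complex.isPrimitiveRoot_exp n hn
  set ζ := Complex.exp (2 * Real.pi * Complex.I / n)
  have hζk := hζ.pow_of_coprime k hk
  have hpos := Nat.pos_of_ne_zero hn
  obtain ⟨σ, hσ⟩ := exists_ringEquiv_of_root (z := ζ) (w := ζ ^ k)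
    (isAlgebraic_of_isIntegral_int (hζ.isIntegral hpos)) (by
      rw [← cyclotomic_eq_minpoly_rat hζ hpos, cyclotomic_eq_minpoly_rat hζk hpos]
      exact minpoly.aeval ℚ _)
  refine ⟨σ, fun z hz => ?_⟩
  have : NeZero n := ⟨hn⟩
  obtain ⟨i, -, rfl⟩ := hζ.eq_pow_of_pow_eq_one hz
  rw [map_pow, hσ, ← pow_mul, ← pow_mul, mul_comm]

/-- A ring endomorphism acts on the `n`-th roots of unity as a power map. -/
theorem exists_pow_of_ringHom {n : ℕ} (hn : n ≠ 0) (σ : ℂ →+* ℂ) :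
    ∃ k : ℕ, k.Coprime n ∧ ∀ z : ℂ, z ^ n = 1 → σ z = z ^ k := by
  have hζ := Complex.isPrimitiveRoot_exp n hn
  set ζ := Complex.exp (2 * Real.pi * Complex.I / n)
  have : NeZero n := ⟨hn⟩
  have h1 : IsPrimitiveRoot (σ ζ) n := hζ.map_of_injective σ.injective
  obtain ⟨k, -, hk, h2⟩ := (hζ.isPrimitiveRoot_iff).1 h1
  refine ⟨k, hk, fun z hz => ?_⟩
  obtain ⟨i, -, rfl⟩ := hζ.eq_pow_of_pow_eq_one hz
  rw [map_pow, ← h2, ← pow_mul, ← pow_mul, mul_comm]

end Agent.Char

theorem IsCharacter.map_ringHom {χ : G → ℂ} (h : IsCharacter G χ) (σ : ℂ →+* ℂ) :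
    IsCharacter G (fun g => σ (χ g)) := by
  obtain ⟨n, ρ, rfl⟩ := h
  let τ : Representation ℂ G (Fin n → ℂ) :=
    (Matrix.toLinAlgEquiv' (R := ℂ) (n := Fin n)).toMonoidHom.comp
      ((σ.mapMatrix (m := Fin n)).toMonoidHom.comp
        ((LinearMap.toMatrixAlgEquiv' (R := ℂ) (n := Fin n)).toMonoidHom.comp ρ))
  refine ⟨n, τ, ?_⟩
  ext g
  have h1 : τ g = Matrix.toLin' ((LinearMap.toMatrix' (ρ g)).map σ) := rfl
  simp only [Representation.character, h1, Matrix.trace_toLin'_eq]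
  rw [← AddMonoidHom.map_trace, LinearMap.trace_eq_matrix_trace ℂ (Pi.basisFun ℂ (Fin n))]
  simp

theorem IsGeneralizedCharacter.map_ringHom {χ : G → ℂ} (h : IsGeneralizedCharacter G χ)
    (σ : ℂ →+* ℂ) : IsGeneralizedCharacter G (fun g => σ (χ g)) := by
  obtain ⟨a, b, ha, hb, rfl⟩ := h
  exact ⟨_, _, ha.map_ringHom σ, hb.map_ringHom σ, by ext; simp⟩

theorem IsGeneralizedCharacter.classInner_map_ringHom [Fintype G] (φ : G → ℂ) {χ : G → ℂ}
    (h : IsGeneralizedCharacter G χ) (σ : ℂ →+* ℂ) :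
    classInner (fun g => σ (φ g)) (fun g => σ (χ g)) = σ (classInner φ χ) := by
  simp only [classInner, ← h.apply_inv, ← (h.map_ringHom σ).apply_inv]
  simp

theorem IsIrrCharacter.map_ringHom [Finite G] {χ : G → ℂ} (h : IsIrrCharacter G χ) (σ : ℂ →+* ℂ) :
    IsIrrCharacter G (fun g => σ (χ g)) := by
  have := Fintype.ofFinite G
  refine (h.isCharacter.map_ringHom σ).isIrr_of_classInner_self ?_
  rw [h.isGen.classInner_map_ringHom, h.classInner_self, map_one]

theorem IsCharacter.ringHom_apply [Finite G] {χ : G → ℂ} (h : IsCharacter G χ) (σ : ℂ →+* ℂ)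
    {k : ℕ} (g : G) (hσ : ∀ z : ℂ, z ^ orderOf g = 1 → σ z = z ^ k) : σ (χ g) = χ (g ^ k) := by
  obtain ⟨s, -, hs, hs'⟩ := h.exists_eigenvalues g
  have h1 := hs' 1
  have h2 := hs' k
  simp only [zpow_one, zpow_natCast] at h1 h2
  rw [h1, h2, map_multiset_sum, Multiset.map_map]
  congr 1
  exact Multiset.map_congr rfl fun z hz => hσ z (hs z hz)

theorem IsGeneralizedCharacter.ringHom_apply [Finite G] {χ : G → ℂ}
    (h : IsGeneralizedCharacter G χ) (σ : ℂ →+* ℂ)
    {k : ℕ} (g : G) (hσ : ∀ z : ℂ, z ^ orderOf g = 1 → σ z = z ^ k) : σ (χ g) = χ (g ^ k) := by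
  obtain ⟨a, b, ha, hb, rfl⟩ := h
  simp [ha.ringHom_apply σ g hσ, hb.ringHom_apply σ g hσ]

namespace Agent.Char

theorem pow_eq_one_of_orderOf_dvd {g : G} {n : ℕ} (h : orderOf g ∣ n) {z : ℂ}
    (hz : z ^ orderOf g = 1) : z ^ n = 1 := by
  obtain ⟨m, rfl⟩ := h
  rw [pow_mul, hz, one_pow]

/-- For `k` coprime to the group order, some automorphism acts on character values as the
`k`-th power map. -/
theorem exists_ringEquiv_char_pow (G : Type*) [Group G] [Finite G] {k : ℕ}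
    (hk : k.Coprime (Nat.card G)) :
    ∃ σ : ℂ ≃+* ℂ, ∀ χ : G → ℂ, IsGeneralizedCharacter G χ → ∀ g, σ (χ g) = χ (g ^ k) := by
  obtain ⟨σ, hσ⟩ := exists_ringEquiv_pow Nat.card_pos.ne' hk
  exact ⟨σ, fun χ hχ g => hχ.ringHom_apply σ.toRingHom g fun z hz =>
    hσ z (pow_eq_one_of_orderOf_dvd (orderOf_dvd_natCard g) hz)⟩

theorem exists_pow_of_ringHom_char (G : Type*) [Group G] [Finite G] (σ : ℂ →+* ℂ) :
    ∃ k : ℕ, k.Coprime (Nat.card G) ∧
      ∀ χ : G → ℂ, IsGeneralizedCharacter G χ → ∀ g, σ (χ g) = χ (g ^ k) := by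
  obtain ⟨k, hk, hσ⟩ := exists_pow_of_ringHom (n := Nat.card G) Nat.card_pos.ne' σ
  exact ⟨k, hk, fun χ hχ g => hχ.ringHom_apply σ g fun z hz =>
    hσ z (pow_eq_one_of_orderOf_dvd (orderOf_dvd_natCard g) hz)⟩

end Agent.Char

theorem IsCharacter.comp_pow [Finite G] {χ : G → ℂ} (h : IsCharacter G χ) {k : ℕ}
    (hk : k.Coprime (Nat.card G)) : IsCharacter G (fun g => χ (g ^ k)) := by
  obtain ⟨σ, hσ⟩ := exists_ringEquiv_char_pow G hk
  simp only [← hσ χ h.isGen]
  exact h.map_ringHom σ.toRingHom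

theorem IsIrrCharacter.comp_pow [Finite G] {χ : G → ℂ} (h : IsIrrCharacter G χ) {k : ℕ}
    (hk : k.Coprime (Nat.card G)) : IsIrrCharacter G (fun g => χ (g ^ k)) := by
  obtain ⟨σ, hσ⟩ := exists_ringEquiv_char_pow G hk
  simp only [← hσ χ h.isGen]
  exact h.map_ringHom σ.toRingHom

/-- A character value that is unchanged under the power maps coprime to the order is an integer. -/
theorem IsGeneralizedCharacter.exists_int_of_forall_pow [Finite G] {χ : G → ℂ}
    (h : IsGeneralizedCharacter G χ) (g : G)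
    (hg : ∀ k : ℕ, k.Coprime (orderOf g) → χ (g ^ k) = χ g) : ∃ n : ℤ, χ g = n := by
  refine exists_int_of_forall_ringEquiv (h.isIntegral g) fun σ => ?_
  obtain ⟨k, hk, hσ⟩ := exists_pow_of_ringHom (orderOf_pos g).ne' σ.toRingHom
  exact (h.ringHom_apply σ.toRingHom g hσ).trans (hg k hk)

end Cfsg
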