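import Cfsg.Agent.Lib.Char.Forms
import Cfsg.Agent.Lib.Char.Galois
import Cfsg.Agent.Lib.Perm.Prim
import Cfsg.Prelude.Def_Perm

/-!
Permutation characters and the centraliser ring.
-/

set_option autoImplicit false

namespace Cfsg.Agent.Char

open scoped ComplexConjugate
open Module MulAction

variable {G : Type*} [Group G]

theorem exists_eigen_chars {V : Type*} [AddCommGroup V] [Module ℂ V] [FiniteDimensional ℂ V]
    (ρ : Representation ℂ G V) (B : End ℂ V) (hB : ∀ g, Commute B (ρ g)) :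
    ∃ (s : Finset ℂ) (θ : ℂ → G → ℂ), (∀ l, IsCharacter G (θ l)) ∧ (∀ l ∈ s, B.HasEigenvalue l) ∧
      ∀ (j : ℕ) g, LinearMap.trace ℂ V (ρ g * B ^ j) = ∑ l ∈ s, l ^ j * θ l g := by
  classical
  have hds := DirectSum.isInternal_submodule_of_iSupIndep_of_iSup_eq_top
    B.independent_maxGenEigenspace B.iSup_maxGenEigenspace_eq_top
  have hf : {μ | B.maxGenEigenspace μ ≠ ⊥}.Finite :=
    WellFoundedGT.finite_ne_bot_of_iSupIndep B.independent_maxGenEigenspace
  let U : ℂ → Subrepresentation ρ := fun l => ⟨B.maxGenEigenspace l, fun g _ h =>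
    B.mapsTo_maxGenEigenspace_of_comm (hB g) l h⟩
  refine ⟨hf.toFinset, fun l => (U l).toRepresentation.character, fun l => isCharacter_rep _,
    fun l hl => End.hasUnifEigenvalue_iff_hasUnifEigenvalue_one ENat.top_pos |>.1
      (hf.mem_toFinset.1 hl), fun j g => ?_⟩
  have hc : ∀ j, Commute B (ρ g * B ^ j) := fun j => (hB g).mul_right (Commute.self_pow _ _)
  rw [LinearMap.trace_eq_sum_trace_restrict' hds hf
    (B.mapsTo_maxGenEigenspace_of_comm (hc j))]
  refine Finset.sum_congr rfl fun l _ => ?_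
  induction j with
  | zero => simp only [pow_zero, one_mul, mul_one]; rfl
  | succ j ih =>
    have := LinearMap.trace_comp_eq_mul_of_commute_of_isNilpotent l (LinearMap.restrict_commute
      (hc j).symm (B.mapsTo_maxGenEigenspace_of_comm (hc j) l)
      (B.mapsTo_maxGenEigenspace_of_comm rfl l)) (B.isNilpotent_restrict_maxGenEigenspace_sub_algebraMap l)
    rw [ih, ← mul_assoc, ← pow_succ'] at this
    rw [← this]
    congr 1

theorem exists_commutant_fun [Fintype G] {V : Type*} [AddCommGroup V] [Module ℂ V]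
    [FiniteDimensional ℂ V] (ρ : Representation ℂ G V) (B : End ℂ V) (hB : ∀ g, Commute B (ρ g))
    (hi : IsIntegral ℤ B) {F : ℕ → G → ℂ} (hF : ∀ j g, F j g = LinearMap.trace ℂ V (ρ g * B ^ j)) :
    (∀ j, IsClassFunction G (F j)) ∧ ∀ χ, IsIrrCharacter G χ →
      IsIntegral ℤ (classInner (F 1) χ) ∧ ∀ j, (classInner ρ.character χ = 0 →
        classInner (F j) χ = 0) ∧ (classInner ρ.character χ = 1 →
        classInner (F j) χ = classInner (F 1) χ ^ j) := by
  obtain ⟨s, θ, h1, h2, h3⟩ := exists_eigen_chars ρ B hB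
  have h4 : ∀ j, F j = ∑ l ∈ s, l ^ j • θ l := fun j => funext fun g => by simp [hF, h3]
  refine ⟨fun j g x => by simp [h4, (h1 _).isClassFunction g x], fun χ hχ => ?_⟩
  choose m hm using fun l => (h1 l).classInner_eq_nat hχ.isCharacter
  have h5 : ∀ j, classInner (F j) χ = ∑ l ∈ s, l ^ j * m l := fun j => by
    simp [h4, classInner_sum_left, classInner_smul_left, hm]
  have h6 : classInner ρ.character χ = (∑ l ∈ s, m l : ℕ) := by
    rw [← show F 0 = ρ.character from funext fun g => by rw [hF, pow_zero, mul_one]; rfl, h5]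
    simp
  refine ⟨h5 1 ▸ IsIntegral.sum _ fun l hl => .mul (.pow ?_ _) (isIntegral_natCast _), fun j =>
    ⟨fun h => ?_, fun h => ?_⟩⟩
  · obtain ⟨p, hp, hp0⟩ := hi
    obtain ⟨v, hv⟩ := (h2 l hl).exists_hasEigenvector
    have := End.aeval_apply_of_hasEigenvector (p := p.map (algebraMap ℤ ℂ)) hv
    rw [Polynomial.aeval_map_algebraMap, Polynomial.aeval_def, hp0, Polynomial.eval_map] at this
    exact ⟨p, hp, (smul_eq_zero.1 this.symm).resolve_right hv.2⟩
  · rw [h6, Nat.cast_eq_zero, Finset.sum_eq_zero_iff] at h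
    exact (h5 j).trans (Finset.sum_eq_zero fun l hl => by simp [h l hl])
  · rw [h6, Nat.cast_eq_one] at h
    obtain ⟨l, hl, h7⟩ := Finset.exists_ne_zero_of_sum_ne_zero (h ▸ one_ne_zero)
    classical
    rw [← Finset.add_sum_erase _ _ hl] at h
    have h8 := Finset.sum_eq_zero_iff.1 (show ∑ x ∈ s.erase l, m x = 0 by omega)
    have : ∀ j, classInner (F j) χ = l ^ j := fun j => by
      rw [h5, Finset.sum_eq_single_of_mem l hl fun b hb h => by
        simp [h8 b (Finset.mem_erase.2 ⟨h, hb⟩)], show m l = 1 by omega]; simp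
    rw [this, this, pow_one]

open Representation in
theorem multFree_iff [Fintype G] {V : Type*} [AddCommGroup V] [Module ℂ V]
    [FiniteDimensional ℂ V] (ρ : Representation ℂ G V) :
    (∀ χ, IsIrrCharacter G χ → classInner ρ.character χ = 0 ∨ classInner ρ.character χ = 1) ↔
      ∀ S T : V →ₗ[ℂ] V, (∀ g, S ∘ₗ ρ g = ρ g ∘ₗ S) → (∀ g, T ∘ₗ ρ g = ρ g ∘ₗ T) →
        S ∘ₗ T = T ∘ₗ S := by
  refine ⟨fun h S T hS hT => ?_, fun h χ ⟨n, σ, _, hσ⟩ => ?_⟩
  · let S' : IntertwiningMap ρ ρ := ⟨S, hS⟩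
    let T' : IntertwiningMap ρ ρ := ⟨T, hT⟩
    obtain ⟨K, hK⟩ := exists_compl (S'.comp T' - T'.comp S').ker
    rcases subsingleton_or_nontrivial K.toSubmodule with h0 | h0
    · rw [Submodule.subsingleton_iff_eq_bot.1 h0] at hK
      exact LinearMap.ext fun v => sub_eq_zero.1 ((eq_top_of_isCompl_bot hK).ge (Submodule.mem_top (x := v)))
    obtain ⟨U, hU⟩ := exists_irreducible_sub K.toRepresentation
    have := nontrivial_of_isIrreducible U.toRepresentation
    obtain ⟨u, hu⟩ := exists_ne (0 : U.toSubmodule)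
    let ι : IntertwiningMap U.toRepresentation ρ :=
      ⟨K.toSubmodule.subtype ∘ₗ U.toSubmodule.subtype, fun _ => rfl⟩
    have h1 : ι ≠ 0 := fun h => hu (Subtype.ext (Subtype.ext (DFunLike.congr_fun h u)))
    have h2 := h _ (isIrrCharacter_rep U.toRepresentation)
    rw [classInner_rep, Nat.cast_eq_zero, Nat.cast_eq_one] at h2
    have h3 := (finrank_eq_one_iff_of_nonzero' ι h1).1 (h2.resolve_left
      (finrank_pos_iff_exists_ne_zero.2 ⟨ι, h1⟩).ne')
    obtain ⟨c, hc⟩ := h3 (S'.comp ι)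
    obtain ⟨d, hd⟩ := h3 (T'.comp ι)
    have hc' : S u = c • (u : V) := (DFunLike.congr_fun hc u).symm
    have hd' : T u = d • (u : V) := (DFunLike.congr_fun hd u).symm
    refine absurd (Subtype.ext (Subtype.ext ((Submodule.mem_bot ℂ).1
      (hK.disjoint.le_bot ⟨?_, u.1.2⟩)))) hu
    change S (T u) - T (S u) = 0
    rw [hc', hd', map_smul, map_smul, hc', hd', smul_comm, sub_self]
  rw [← hσ, classInner_rep, Nat.cast_eq_zero, Nat.cast_eq_one, ← Nat.le_one_iff_eq_zero_or_eq_one]
  rcases subsingleton_or_nontrivial (IntertwiningMap σ ρ) with h0 | h0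
  · simp [finrank_zero_of_subsingleton]
  obtain ⟨f, hf⟩ := exists_ne (0 : IntertwiningMap σ ρ)
  obtain ⟨p, hp⟩ := MonoidAlgebra.exists_leftInverse_of_injective
    (IntertwiningMap.equivLinearMapAsModule σ ρ f) (LinearMap.ker_eq_bot.2
      ((IsIrreducible.injective_or_eq_zero f).resolve_right hf))
  let q := (IntertwiningMap.equivLinearMapAsModule ρ σ).symm p
  have hq : ∀ u, q (f u) = u := fun u => DFunLike.congr_fun hp u
  refine finrank_le_one f fun k => ?_
  obtain ⟨c, hc⟩ := schur_scalar σ _ (q.comp k).2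
  refine ⟨c, DFunLike.ext _ _ fun u => ?_⟩
  have h1 : f (q (k (q (f u)))) = k (q (f (q (f u)))) :=
    DFunLike.congr_fun (h _ _ (f.comp q).2 (k.comp q).2) (f u)
  rw [hq, hq, show q (k u) = c • u from DFunLike.congr_fun hc u, map_smul] at h1
  exact h1

variable {Ω : Type*} [MulAction G Ω]

variable (G Ω) in
/-- The permutation character. -/
noncomputable abbrev pc : G → ℂ := fun g => Nat.card (fixedBy Ω g)

theorem trace_permRep_mul [Fintype Ω] [DecidableEq Ω] (A : Matrix Ω Ω ℂ) (g : G) :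
    LinearMap.trace ℂ _ (permRep ℂ G Ω g * Matrix.toLin' A) = ∑ x, A x (g • x) := by
  rw [LinearMap.trace_eq_matrix_trace ℂ (Pi.basisFun ℂ Ω), Matrix.trace,
    ← Equiv.sum_comp (MulAction.toPerm g)]
  simp [LinearMap.toMatrix_apply, permRep]

theorem character_permRep [Finite Ω] : (permRep ℂ G Ω).character = pc G Ω := by
  classical
  have := Fintype.ofFinite Ω
  ext g
  have := trace_permRep_mul (1 : Matrix Ω Ω ℂ) g
  rw [Matrix.toLin'_one, ← End.one_eq_id, mul_one] at this
  rw [Representation.character, this, pc, Nat.card_eq_fintype_card, Fintype.card_subtype]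
  simp [Matrix.one_apply, eq_comm]

theorem card_filter_smul_eq [Fintype G] (g : G) (x : Ω) [DecidablePred fun h : G => h • x = g • x] :
    (Finset.univ.filter fun h : G => h • x = g • x).card = Nat.card (stabilizer G x) := by
  classical
  rw [Nat.subtype_card (Finset.univ.filter fun h : G => h • x = x) (by simp)]
  exact (Finset.card_bij (fun h _ => g * h) (by simp +contextual [mul_smul]) (by simp)
    fun h hh => ⟨g⁻¹ * h, by simp_all [mul_smul], by simp⟩).symm

theorem sum_smul_eq [Fintype G] [Fintype Ω] [IsPretransitive G Ω] (x : Ω) (f : Ω → ℂ) :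
    Nat.card Ω * ∑ g : G, f (g • x) = Nat.card G * ∑ y, f y := by
  classical
  rw [← Finset.sum_fiberwise (s := Finset.univ) (g := fun g : G => g • x), Finset.mul_sum,
    Finset.mul_sum]
  refine Finset.sum_congr rfl fun y _ => ?_
  obtain ⟨g, rfl⟩ := exists_smul_eq G x y
  rw [Finset.sum_congr rfl fun h hh => by rw [(Finset.mem_filter.1 hh).2], Finset.sum_const,
    card_filter_smul_eq, ← (stabilizer G x).index_mul_card, index_stabilizer_of_transitive]
  simp [mul_assoc]

theorem exists_orbital_fun [Fintype G] [Finite Ω] [IsPretransitive G Ω] (R : Ω → Ω → Prop)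
    (hR : ∀ (g : G) a b, R (g • a) (g • b) ↔ R a b) (a : Ω) : ∃ F : ℕ → G → ℂ,
    (∀ g, F 1 g = Nat.card {x // R x (g • x)}) ∧
    F 2 1 = Nat.card Ω * Nat.card {y // R a y ∧ R y a} ∧
    classInner (F 1) (fun _ => 1) = Nat.card {y // R a y} ∧
    (∀ j, IsClassFunction G (F j)) ∧ ∀ χ, IsIrrCharacter G χ →
      IsIntegral ℤ (classInner (F 1) χ) ∧ ∀ j, (classInner (pc G Ω) χ = 0 →
        classInner (F j) χ = 0) ∧ (classInner (pc G Ω) χ = 1 →
        classInner (F j) χ = classInner (F 1) χ ^ j) := by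
  classical
  have := Fintype.ofFinite Ω
  let A : Matrix Ω Ω ℤ := Matrix.of fun x y => if R x y then 1 else 0
  let φ : Matrix Ω Ω ℤ →+* End ℂ (Ω → ℂ) :=
    (Matrix.toLinAlgEquiv' (R := ℂ)).toRingEquiv.toRingHom.comp (Int.castRingHom ℂ).mapMatrix
  have hφ : ∀ M, φ M = Matrix.toLin' (M.map (↑)) := fun _ => rfl
  have hc : ∀ P : Ω → Prop, ∑ x, (if P x then 1 else 0 : ℂ) = Nat.card {x // P x} := fun P => by
    simp [Nat.card_eq_fintype_card, Fintype.card_subtype]
  have h1 : ∀ g : G, LinearMap.trace ℂ _ (permRep ℂ G Ω g * φ A ^ 1) =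
      ∑ x, if R x (g • x) then 1 else 0 := fun g => by
    simp [hφ, trace_permRep_mul, A]
  have hn : (Nat.card Ω : ℂ) ≠ 0 := Nat.cast_ne_zero.2 (Nat.card_ne_zero.2 ⟨⟨a⟩, inferInstance⟩)
  have h2 : ∀ (P : Ω → Ω → Prop), (∀ (g : G) a b, P (g • a) (g • b) ↔ P a b) → ∀ x,
      ∑ y, (if P x y then 1 else 0 : ℂ) = Nat.card {y // P a y} := fun P hP x => by
    obtain ⟨g, rfl⟩ := exists_smul_eq G a x
    rw [← hc, ← Equiv.sum_comp (MulAction.toPerm g)]
    simp [hP]
  refine ⟨fun j g => LinearMap.trace ℂ _ (permRep ℂ G Ω g * φ A ^ j), fun g => (h1 g).trans (hc _),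
    ?_, ?_, character_permRep (G := G) (Ω := Ω) ▸ exists_commutant_fun _ (φ A) (fun g => ?_)
      ((Matrix.isIntegral A).map φ.toIntAlgHom) fun _ _ => rfl⟩
  · simp only [← map_pow]
    simp only [hφ, trace_permRep_mul, sq, one_smul, Matrix.map_apply, Matrix.mul_apply]
    rw [Finset.sum_congr rfl fun x _ => (show _ = _ from ?_).trans
      (h2 (fun x y => R x y ∧ R y x) (by simp [hR]) x)]
    · simp
    · push_cast
      exact Finset.sum_congr rfl fun y _ => by by_cases R x y <;> by_cases R y x <;> simp [A, *]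
  · rw [classInner_one_right, inv_mul_eq_iff_eq_mul₀ (NeZero.ne _), ← mul_right_inj' hn]
    simp only [h1]
    rw [Finset.sum_comm, Finset.mul_sum, Finset.sum_congr rfl fun x _ =>
      (sum_smul_eq x fun y => if R x y then 1 else 0).trans (by rw [h2 R hR])]
    simp
  · refine LinearMap.ext fun f => funext fun x => ?_
    change ∑ y, _ * f (g⁻¹ • y) = ∑ y, _ * f y
    rw [← Equiv.sum_comp (MulAction.toPerm g)]
    simp [A, ← hR g (g⁻¹ • x)]

theorem classInner_pc_one [Fintype G] [Finite Ω] :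
    classInner (pc G Ω) (fun _ => 1) = Nat.card (orbitRel.Quotient G Ω) := by
  rw [classInner_one_right, inv_mul_eq_iff_eq_mul₀ (NeZero.ne _), ← Nat.cast_sum,
    Perm.sum_card_fixedBy, Nat.cast_mul, mul_comm]

theorem classInner_pc_left [Fintype G] [Finite Ω] [IsPretransitive G Ω] (a : Ω)
    [Fintype (stabilizer G a)] {χ : G → ℂ} (hχ : IsClassFunction G χ) :
    classInner (pc G Ω) χ = classInner (fun _ => 1) fun h : stabilizer G a => χ h := by
  rw [← frobenius_left _ _ hχ, show indFun _ _ = pc G Ω from funext (indFun_one_eq_card_fixedBy Ω a)]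

theorem classInner_pc_self [Fintype G] [Finite Ω] [IsPretransitive G Ω] (a : Ω) :
    classInner (pc G Ω) (pc G Ω) = Nat.card (orbitRel.Quotient (stabilizer G a) Ω) := by
  have := Fintype.ofFinite (stabilizer G a)
  rw [classInner_pc_left a (isCharacter_perm Ω).isClassFunction, isCharacter_one.classInner_comm
    ((isCharacter_perm Ω).res _)]
  exact classInner_pc_one

theorem classInner_pc_one' [Fintype G] [Finite Ω] [IsPretransitive G Ω] (a : Ω) :
    classInner (pc G Ω) (fun _ => 1) = 1 := by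
  have := Fintype.ofFinite (stabilizer G a)
  rw [classInner_pc_left a isCharacter_one.isClassFunction, isIrrCharacter_one.classInner_self]

theorem fsInd_eq_sum [Fintype G] {φ : G → ℂ} (hφ : IsClassFunction G φ) :
    fsInd φ = ∑ χ : IrrCharacter G, classInner φ χ * fsInd χ.1 := by
  simp only [fsInd, hφ.apply_eq_sum (_ * _), Finset.mul_sum]
  rw [Finset.sum_comm]
  simp only [mul_left_comm]

theorem fsInd_one [Fintype G] : fsInd (fun _ : G => (1 : ℂ)) = 1 := by
  rw [fsInd, Finset.sum_const, Finset.card_univ, ← Nat.card_eq_fintype_card, nsmul_one,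
    inv_mul_cancel₀ (NeZero.ne _)]

theorem fsInd_eq_one_of_odd_pc [Fintype G] [Finite Ω] [IsPretransitive G Ω] (a : Ω) {χ : G → ℂ}
    (hχ : IsIrrCharacter G χ) (h : (fun g => conj (χ g)) = χ) {m : ℕ} (hm : Odd m)
    (h1 : classInner (pc G Ω) χ = m) : fsInd χ = 1 := by
  have := Fintype.ofFinite (stabilizer G a)
  rw [classInner_pc_left a hχ.isClassFunction, isCharacter_one.classInner_comm
    (hχ.isCharacter.res _)] at h1
  rw [fsInd_eq_of_odd (stabilizer G a).subtype hχ isIrrCharacter_one h (by simp) hm h1, fsInd_one]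

theorem norm_fsInd_le [Fintype G] {χ : G → ℂ} (hχ : IsIrrCharacter G χ) :
    fsInd χ = 1 ∨ fsInd χ = 0 ∨ fsInd χ = -1 := by
  by_cases h : (fun g => conj (χ g)) = χ
  · exact (hχ.fsInd_eq_one_or h).imp_right .inr
  · exact .inr (.inl (hχ.fsInd_eq_zero h))

theorem fsInd_pc_eq_iff [Fintype G] [Finite Ω] :
    fsInd (pc G Ω) = classInner (pc G Ω) (pc G Ω) ↔ ∀ a b : Ω, ∃ g : G, g • a = b ∧ g • b = a := by
  classical
  have := Fintype.ofFinite Ω
  have h1 : ∑ g : G, Nat.card (fixedBy Ω (g * g)) =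
      ∑ x : Ω × Ω, (Finset.univ.filter fun g : G => g • x.1 = x.2 ∧ g • x.2 = x.1).card := by
    simp only [Finset.card_filter, Nat.card_eq_fintype_card, Fintype.card_subtype]
    rw [Finset.sum_comm (s := (Finset.univ : Finset (Ω × Ω)))]
    simp [Fintype.sum_prod_type, ite_and, mul_smul, -Finset.sum_boole]
  have h2 : ∑ g : G, Nat.card (fixedBy Ω g) * Nat.card (fixedBy Ω g) =
      ∑ x : Ω × Ω, (Finset.univ.filter fun g : G => g • x.1 = x.1 ∧ g • x.2 = x.2).card := by
    simp only [Finset.card_filter, Nat.card_eq_fintype_card, Fintype.card_subtype]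
    rw [Finset.sum_comm (s := (Finset.univ : Finset (Ω × Ω)))]
    simp only [Fintype.sum_prod_type, Finset.sum_mul_sum, ite_and, mem_fixedBy, ite_mul, one_mul,
      zero_mul]
  have h3 : ∀ x : Ω × Ω, (∃ g : G, g • x.1 = x.2 ∧ g • x.2 = x.1) →
      (Finset.univ.filter fun g : G => g • x.1 = x.2 ∧ g • x.2 = x.1).card =
      (Finset.univ.filter fun g : G => g • x.1 = x.1 ∧ g • x.2 = x.2).card := fun x ⟨t, h, h'⟩ =>
    Finset.card_bij (fun g _ => t * g) (by simp +contextual [mul_smul, h, h']) (by simp)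
      fun g hg => ⟨t⁻¹ * g, by simp_all [mul_smul, inv_smul_eq_iff], by simp⟩
  have h4 : ∀ x : Ω × Ω, ¬ (∃ g : G, g • x.1 = x.2 ∧ g • x.2 = x.1) →
      (Finset.univ.filter fun g : G => g • x.1 = x.2 ∧ g • x.2 = x.1).card <
      (Finset.univ.filter fun g : G => g • x.1 = x.1 ∧ g • x.2 = x.2).card := fun x h => by
    rw [Finset.filter_eq_empty_iff.2 fun g _ hg => h ⟨g, hg⟩]
    exact Finset.card_pos.2 ⟨1, by simp⟩
  rw [fsInd, classInner, mul_right_inj' (inv_ne_zero (NeZero.ne _))]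
  simp only [pc, map_natCast]
  norm_cast
  rw [h1, h2]
  refine ⟨fun h a b => by_contra fun h5 => (Finset.sum_lt_sum (fun x _ => ?_)
    ⟨(a, b), Finset.mem_univ _, h4 _ h5⟩).ne h, fun h => Finset.sum_congr rfl fun x _ => h3 x (h _ _)⟩
  exact (em _).elim (fun h => (h3 x h).le) fun h => (h4 x h).le

theorem sum_card_orbit (H : Type*) [Group H] [MulAction H Ω] [Finite Ω]
    [Fintype (orbitRel.Quotient H Ω)] :
    ∑ ω : orbitRel.Quotient H Ω, Nat.card (orbit H ω.out) = Nat.card Ω := by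
  rw [Nat.card_congr (selfEquivSigmaOrbits H Ω), Nat.card_sigma]

end Cfsg.Agent.Char
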