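import Cfsg.Agent.Lib.Char.Clifford
import Cfsg.Agent.Lib.Solv.Basic

/-!
Brauer's permutation lemma, real characters, characters of Frobenius groups.
-/

set_option autoImplicit false

namespace Cfsg.Agent.Char

open scoped ComplexConjugate

variable {G : Type*} [Group G]

open Classical in
theorem sum_ite_card_centralizer [Fintype G] (P : ConjClasses G → Prop) :
    ∑ g : G, (if P (ConjClasses.mk g) then Nat.card (Subgroup.centralizer ({g} : Set G)) else 0) =
      Nat.card G * Nat.card {C // P C} := by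
  have := Fintype.ofFinite (ConjClasses G)
  rw [← Finset.sum_fiberwise Finset.univ ConjClasses.mk, Nat.card_eq_fintype_card (α := {C // P C}),
    Fintype.card_subtype, Finset.card_filter, Finset.mul_sum]
  refine Finset.sum_congr rfl fun C _ => ?_
  obtain ⟨x, rfl⟩ := ConjClasses.mk_surjective C
  have h1 : ∀ g ∈ Finset.univ.filter (fun g => ConjClasses.mk g = ConjClasses.mk x),
      (if P (ConjClasses.mk g) then Nat.card (Subgroup.centralizer ({g} : Set G)) else 0) =
      if P (ConjClasses.mk x) then Nat.card (Subgroup.centralizer ({x} : Set G)) else 0 := by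
    intro g hg
    have h2 := (Finset.mem_filter.1 hg).2
    rw [h2]
    congr 1
    have h3 := ConjClasses.mk_eq_mk_iff_isConj.1 h2
    have h4 : Nat.card {y : G // IsConj g y} = Nat.card {y : G // IsConj x y} :=
      Nat.card_congr (Equiv.subtypeEquivRight fun y => ⟨h3.symm.trans, h3.trans⟩)
    have h5 := card_isConj_mul_card_centralizer g
    rw [← card_isConj_mul_card_centralizer x, h4] at h5
    have : Nonempty {y : G // IsConj x y} := ⟨⟨x, IsConj.refl x⟩⟩
    exact Nat.eq_of_mul_eq_mul_left Nat.card_pos h5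
  rw [Finset.sum_congr rfl h1, Finset.sum_const, smul_eq_mul]
  split_ifs
  · rw [mul_one, ← card_isConj_mul_card_centralizer x]
    congr 1
    rw [Nat.card_eq_fintype_card, Fintype.card_subtype]
    refine congrArg Finset.card ?_
    ext y
    simp only [Finset.mem_filter, ConjClasses.mk_eq_mk_iff_isConj, isConj_comm (g := y)]
  · simp

/-- Brauer's permutation lemma. -/
theorem card_fixed_irr [Finite G] (t : G → G) (F : IrrCharacter G → IrrCharacter G)
    (h : ∀ χ g, (F χ : G → ℂ) g = (χ : G → ℂ) (t g)) (P : ConjClasses G → Prop)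
    (hP : ∀ g, P (ConjClasses.mk g) ↔ IsConj (t g) g) :
    Nat.card {χ // F χ = χ} = Nat.card {C // P C} := by
  classical
  have := Fintype.ofFinite G
  have h1 : ((Nat.card {χ // F χ = χ} : ℕ) : ℂ) =
      ∑ χ : IrrCharacter G, classInner (F χ : G → ℂ) χ := by
    rw [Nat.card_eq_fintype_card, Fintype.card_subtype, Finset.card_filter]
    push_cast
    exact Finset.sum_congr rfl fun χ _ => (classInner_irr _ _).symm
  have h2 := congrArg (Nat.cast : ℕ → ℂ) (sum_ite_card_centralizer P)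
  simp only [classInner, h, ← Finset.mul_sum] at h1
  rw [Finset.sum_comm] at h1
  have h3 : ∀ g, ∑ χ : IrrCharacter G, (χ : G → ℂ) (t g) * conj ((χ : G → ℂ) g) =
      if P (ConjClasses.mk g) then (Nat.card (Subgroup.centralizer ({g} : Set G)) : ℂ) else 0 := by
    intro g
    rw [hP, isConj_comm, ← Complex.conj_conj (∑ χ : IrrCharacter G, _), map_sum]
    simp only [map_mul, Complex.conj_conj, mul_comm (conj _), column_orthogonality]
    split_ifs <;> simp
  simp only [h3] at h1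
  push_cast at h2
  rw [h2, inv_mul_cancel_left₀ (card_ne_zero' G)] at h1
  exact_mod_cast h1

theorem card_fixed_irr_equiv [Finite G] (α : G ≃* G) :
    Nat.card {χ : IrrCharacter G // (χ : G → ℂ) ∘ α = χ} =
      Nat.card {C : ConjClasses G // ConjClasses.map α.toMonoidHom C = C} := by
  rw [← card_fixed_irr α (fun χ => ⟨_, χ.2.comp_equiv α⟩) (fun _ _ => rfl) _
    fun g => ConjClasses.mk_eq_mk_iff_isConj]
  exact Nat.card_congr (Equiv.subtypeEquivRight fun χ => ⟨fun h => Subtype.ext h,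
    fun h => congrArg Subtype.val h⟩)

theorem card_real_irr [Finite G] :
    Nat.card {χ : IrrCharacter G // (fun g => conj ((χ : G → ℂ) g)) = χ} =
      Nat.card {C : ConjClasses G // ∀ g : G, ConjClasses.mk g = C → IsConj g g⁻¹} := by
  rw [← card_fixed_irr (fun g => g⁻¹) (fun χ => ⟨_, χ.2.conj⟩)
    (fun χ g => (χ.2.isCharacter.apply_inv g).symm) _ fun g => ?_]
  · exact Nat.card_congr (Equiv.subtypeEquivRight fun χ => ⟨fun h => Subtype.ext h,
    fun h => congrArg Subtype.val h⟩)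
  · refine ⟨fun h => (h g rfl).symm, fun h x hx => ?_⟩
    have h1 := ConjClasses.mk_eq_mk_iff_isConj.1 hx
    obtain ⟨c, rfl⟩ := isConj_iff.1 h1
    exact h1.trans (h.symm.trans (isConj_iff.2 ⟨c⁻¹, by simp [mul_assoc]⟩))

/-- If an automorphism fixes no nonidentity class then it fixes no nonprincipal character. -/
theorem eq_one_of_comp_equiv_eq [Finite G] (α : G ≃* G) (h : ∀ g, IsConj (α g) g → g = 1)
    {χ : G → ℂ} (hχ : IsIrrCharacter G χ) (h1 : ∀ g, χ (α g) = χ g) : χ = fun _ => 1 := by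
  have h2 := card_fixed_irr_equiv α
  have : Subsingleton {C : ConjClasses G // ConjClasses.map α.toMonoidHom C = C} := ⟨by
    rintro ⟨C, hC⟩ ⟨D, hD⟩
    obtain ⟨x, rfl⟩ := ConjClasses.mk_surjective C
    obtain ⟨y, rfl⟩ := ConjClasses.mk_surjective D
    rw [Subtype.mk_eq_mk, h x (ConjClasses.mk_eq_mk_iff_isConj.1 hC),
      h y (ConjClasses.mk_eq_mk_iff_isConj.1 hD)]⟩
  have h3 : Subsingleton {χ : IrrCharacter G // (χ : G → ℂ) ∘ α = χ} :=
    Finite.card_le_one_iff_subsingleton.1 (h2 ▸ Finite.card_le_one_iff_subsingleton.2 this)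
  exact congrArg (fun x => x.1.1) (h3.elim ⟨⟨χ, hχ⟩, funext h1⟩ ⟨⟨_, isIrrCharacter_one⟩, rfl⟩)

/-- If an automorphism fixes no nonprincipal character then it fixes no nonidentity class. -/
theorem eq_one_of_isConj_equiv [Finite G] (α : G ≃* G)
    (h : ∀ χ, IsIrrCharacter G χ → (∀ g, χ (α g) = χ g) → χ = fun _ => 1) {g : G}
    (h1 : IsConj (α g) g) : g = 1 := by
  have h2 := card_fixed_irr_equiv α
  have : Subsingleton {χ : IrrCharacter G // (χ : G → ℂ) ∘ α = χ} := ⟨fun a b =>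
    Subtype.ext (Subtype.ext ((h _ a.1.2 (congrFun a.2)).trans (h _ b.1.2 (congrFun b.2)).symm))⟩
  have h3 : Subsingleton {C : ConjClasses G // ConjClasses.map α.toMonoidHom C = C} :=
    Finite.card_le_one_iff_subsingleton.1 (h2 ▸ Finite.card_le_one_iff_subsingleton.2 this)
  exact isConj_one_left.1 (ConjClasses.mk_eq_mk_iff_isConj.1 (congrArg Subtype.val
    (h3.elim ⟨ConjClasses.mk g, ConjClasses.mk_eq_mk_iff_isConj.2 h1⟩ ⟨ConjClasses.mk 1,
      ConjClasses.mk_eq_mk_iff_isConj.2 (by simp)⟩)))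

theorem eq_one_of_isConj_inv_of_odd [Finite G] (hodd : Odd (Nat.card G)) {g : G}
    (h : IsConj g g⁻¹) : g = 1 := by
  obtain ⟨c, hc⟩ := isConj_iff.1 h
  have h1 : Commute (c ^ 2) g := by
    have : c * g⁻¹ * c⁻¹ = g := by rw [← conj_inv, hc, inv_inv]
    rw [← hc] at this
    rw [Commute, SemiconjBy]
    conv_rhs => rw [← this]
    simp [sq, mul_assoc]
  obtain ⟨k, hk⟩ := hodd
  have h2 : c = (c ^ 2) ^ (k + 1) := by
    rw [← pow_mul, show 2 * (k + 1) = Nat.card G + 1 by omega, pow_succ, pow_card_eq_one', one_mul]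
  have h3 : Commute c g := h2 ▸ h1.pow_left _
  rw [h3.eq, mul_inv_cancel_right, eq_inv_iff_mul_eq_one, ← sq] at hc
  calc g = (g ^ 2) ^ (k + 1) := by
        rw [← pow_mul, show 2 * (k + 1) = Nat.card G + 1 by omega, pow_succ, pow_card_eq_one',
          one_mul]
    _ = 1 := by rw [hc, one_pow]

/-- Burnside: in a group of odd order only the principal character is real. -/
theorem _root_.Cfsg.IsIrrCharacter.eq_one_of_conj_eq [Finite G] (hodd : Odd (Nat.card G))
    {χ : G → ℂ} (hχ : IsIrrCharacter G χ) (h : (fun g => conj (χ g)) = χ) : χ = fun _ => 1 := by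
  have h2 := card_real_irr (G := G)
  have : Subsingleton {C : ConjClasses G // ∀ g : G, ConjClasses.mk g = C → IsConj g g⁻¹} := ⟨by
    rintro ⟨C, hC⟩ ⟨D, hD⟩
    obtain ⟨x, rfl⟩ := ConjClasses.mk_surjective C
    obtain ⟨y, rfl⟩ := ConjClasses.mk_surjective D
    rw [Subtype.mk_eq_mk, eq_one_of_isConj_inv_of_odd hodd (hC x rfl),
      eq_one_of_isConj_inv_of_odd hodd (hD y rfl)]⟩
  have h3 : Subsingleton {χ : IrrCharacter G // (fun g => conj ((χ : G → ℂ) g)) = χ} :=
    Finite.card_le_one_iff_subsingleton.1 (h2 ▸ Finite.card_le_one_iff_subsingleton.2 this)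
  exact congrArg (fun x => x.1.1) (h3.elim ⟨⟨χ, hχ⟩, h⟩ ⟨⟨_, isIrrCharacter_one⟩, by simp⟩)

section Frobenius

variable {N : Subgroup G} [hN : N.Normal]

/-- The stabilizer of a nonprincipal character of a Frobenius kernel is the kernel. -/
theorem inertia_le_of_centralizer_le [Finite G]
    (hC : ∀ n ∈ N, n ≠ 1 → Subgroup.centralizer ({n} : Set G) ≤ N) {θ : N → ℂ}
    (hθ : IsIrrCharacter N θ) (h1 : θ ≠ fun _ => 1) : inertia N θ ≤ N := by
  intro g hg
  by_contra h
  refine h1 (eq_one_of_comp_equiv_eq (MulAut.conjNormal g) (fun n hn => ?_) hθ (congrFun hg))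
  by_contra h2
  obtain ⟨c, hc⟩ := isConj_iff.1 hn
  have h3 : (c : G) * g ∈ N := hC n n.2 (by simpa using h2) (by
    rw [Subgroup.mem_centralizer_singleton_iff]
    have := congrArg Subtype.val hc
    simp only [Subgroup.coe_mul, MulAut.conjNormal_apply, Subgroup.coe_inv] at this
    conv_rhs => rw [← this]
    group)
  exact h ((N.mul_mem_cancel_left c.2).1 h3)

theorem _root_.Cfsg.IsIrrCharacter.ind_of_centralizer_le [Fintype G]
    (hC : ∀ n ∈ N, n ≠ 1 → Subgroup.centralizer ({n} : Set G) ≤ N) {θ : N → ℂ}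
    (hθ : IsIrrCharacter N θ) (h1 : θ ≠ fun _ => 1) : IsIrrCharacter G (indFun N θ) :=
  hθ.ind_of_inertia_le (inertia_le_of_centralizer_le hC hθ h1)

theorem _root_.Cfsg.IsIrrCharacter.exists_eq_ind_of_centralizer_le [Fintype G]
    (hC : ∀ n ∈ N, n ≠ 1 → Subgroup.centralizer ({n} : Set G) ≤ N) {χ : G → ℂ}
    (hχ : IsIrrCharacter G χ) (h : ¬ N ≤ charKer χ) :
    ∃ θ : N → ℂ, IsIrrCharacter N θ ∧ θ ≠ (fun _ => 1) ∧ χ = indFun N θ := by
  have := Fintype.ofFinite N
  obtain ⟨θ, hθ, h1⟩ := hχ.exists_irr_under N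
  have h2 : θ ≠ fun _ => 1 := by
    rintro rfl
    exact h (hχ.le_charKer_of_over_one h1)
  refine ⟨θ, hθ, h2, hχ.eq_of_classInner_ne_zero (hθ.ind_of_centralizer_le hC h2) ?_⟩
  rwa [frobenius_right _ _ hχ.isClassFunction]

/-- If `h` acts fixed-point-freely on `N` then the coset `N h` is a single `N`-class. -/
theorem exists_conj_eq_mul_of_fpf [Finite G] {h : G} (hfpf : ∀ k ∈ N, h * k = k * h → k = 1)
    {x : G} (hx : x ∈ N) : ∃ y ∈ N, y * h * y⁻¹ = x * h := by
  let f : N → N := fun y => ⟨y * (h * y⁻¹ * h⁻¹), N.mul_mem y.2 (hN.conj_mem _ (N.inv_mem y.2) h)⟩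
  have hf : Function.Injective f := fun a b hab => by
    have h1 : (a : G) * (h * a⁻¹ * h⁻¹) = b * (h * b⁻¹ * h⁻¹) := congrArg Subtype.val hab
    have h2 := hfpf (b⁻¹ * a) (N.mul_mem (N.inv_mem b.2) a.2) (by
      calc h * (b⁻¹ * a : G) = b⁻¹ * (b * (h * b⁻¹ * h⁻¹)) * h * a := by simp [mul_assoc]
        _ = _ := by rw [← h1]; simp [mul_assoc])
    exact Subtype.ext (inv_mul_eq_one.1 h2).symm
  obtain ⟨y, hy⟩ := (Finite.injective_iff_surjective.1 hf) ⟨x, hx⟩
  refine ⟨y, y.2, ?_⟩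
  rw [← show (y : G) * (h * y⁻¹ * h⁻¹) = x from congrArg Subtype.val hy]
  simp [mul_assoc]

theorem centralizer_le_of_fpf [Finite G] {H : Subgroup G} (hNH : N ⊔ H = ⊤)
    (hfpf : ∀ h ∈ H, h ≠ 1 → ∀ k ∈ N, h * k = k * h → k = 1) :
    ∀ n ∈ N, n ≠ 1 → Subgroup.centralizer ({n} : Set G) ≤ N := by
  intro n hn h1 g hg
  obtain ⟨x, hx, h, hh, rfl⟩ := (Solv.mem_sup_of_le_normalizer' (H := H) (N := N)
    Subgroup.le_normalizer_of_normal).1 (hNH ▸ Subgroup.mem_top g)
  by_cases h2 : h = 1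
  · simpa [h2] using hx
  obtain ⟨y, hy, h3⟩ := exists_conj_eq_mul_of_fpf (hfpf h hh h2) hx
  rw [Subgroup.mem_centralizer_singleton_iff, ← h3] at hg
  have h4 := hfpf h hh h2 (y⁻¹ * n * y) (by simpa using hN.conj_mem n hn y⁻¹) (by
    calc h * (y⁻¹ * n * y) = y⁻¹ * (y * h * y⁻¹ * n) * y := by group
      _ = _ := by rw [hg]; group)
  exact absurd (by simpa [mul_assoc] using congrArg (fun z => y * z * y⁻¹) h4) h1

theorem mem_of_sq_mem_of_odd [Finite G] (hodd : Odd (Nat.card G)) {T : Subgroup G} {g : G}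
    (h : g * g ∈ T) : g ∈ T := by
  obtain ⟨k, hk⟩ := hodd
  have h2 : g = (g * g) ^ (k + 1) := by
    rw [← sq, ← pow_mul, show 2 * (k + 1) = Nat.card G + 1 by omega, pow_succ, pow_card_eq_one',
      one_mul]
  rw [h2]; exact T.pow_mem h _

theorem _root_.Cfsg.IsIrrCharacter.conj_not_mem_cjOrbit [Fintype G] (hodd : Odd (Nat.card G))
    {θ : N → ℂ} (hθ : IsIrrCharacter N θ) (h1 : θ ≠ fun _ => 1) :
    (fun n => conj (θ n)) ∉ cjOrbit N θ := by
  intro h
  obtain ⟨g, hg⟩ := mem_cjOrbit.1 h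
  have h2 : g ∈ inertia N θ := mem_of_sq_mem_of_odd hodd (by
    rw [mem_inertia, cj_mul, ← hg]
    ext n
    change conj (cj N g θ n) = _
    rw [← hg]; simp)
  rw [h2] at hg
  exact h1 (hθ.eq_one_of_conj_eq (hodd.of_dvd_nat N.card_subgroup_dvd_card) hg)

theorem _root_.Cfsg.IsIrrCharacter.classInner_conj_ind [Fintype G] (hodd : Odd (Nat.card G))
    {θ : N → ℂ} (hθ : IsIrrCharacter N θ) (h1 : θ ≠ fun _ => 1) :
    classInner (fun g => conj (indFun N θ g)) (indFun N θ) = 0 := by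
  rw [← indFun_conj]
  exact hθ.classInner_ind_of_not_mem hθ.conj (hθ.conj_not_mem_cjOrbit hodd h1)

end Frobenius

end Cfsg.Agent.Char
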