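import Cfsg.Agent.Lib.Char.Degree
import Cfsg.Agent.Lib.Char.BrauerApp

/-!
Artin's induction theorem, Dade's lemma on invariant characters over a `p`-quotient.
-/

set_option autoImplicit false

namespace Cfsg.Agent.Char

open scoped ComplexConjugate Pointwise

universe u

variable {G : Type u} [Group G]

open Classical in
theorem isGen_generators {A : Type*} [Group A] [Finite A] [IsCyclic A] :
    IsGeneralizedCharacter A fun a => if Subgroup.zpowers a = ⊤ then (Nat.card A : ℂ) else 0 := by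
  have := Fintype.ofFinite A
  have hc : ∀ a b : A, a * b = b * a := fun a b => (IsCyclic.commGroup (α := A)).mul_comm a b
  refine IsClassFunction.isGen_of_int (fun g h => by rw [hc h g, mul_inv_cancel_right])
    fun χ hχ => ?_
  have h1 : classInner (fun a => if Subgroup.zpowers a = ⊤ then (Nat.card A : ℂ) else 0) χ =
      ∑ a with Subgroup.zpowers a = ⊤, conj (χ a) := by
    rw [classInner, Finset.mul_sum, Finset.sum_filter]
    refine Finset.sum_congr rfl fun a _ => ?_
    have := card_ne_zero' A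
    split_ifs
    · field_simp
    · simp
  rw [h1]
  refine exists_int_of_forall_ringEquiv (IsIntegral.sum _ fun a _ => hχ.isCharacter.conj.isIntegral a)
    fun σ => ?_
  obtain ⟨k, hk, hσ⟩ := exists_pow_of_ringHom_char A σ.toRingHom
  rw [map_sum]
  refine Finset.sum_equiv (powCoprime hk.symm) (fun a => ?_) fun a _ => hσ _ hχ.isGen.conj a
  simp only [Finset.mem_filter, Finset.mem_univ, true_and, powCoprime_apply]
  rw [← Subgroup.card_eq_iff_eq_top, ← Subgroup.card_eq_iff_eq_top, Nat.card_zpowers,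
    Nat.card_zpowers, (hk.symm.coprime_dvd_left (orderOf_dvd_natCard a)).orderOf_pow]

open Classical in
theorem sum_indFun_generators [Fintype G] [Fintype (Subgroup G)] :
    ∑ A : Subgroup G, indFun A (fun a => if Subgroup.zpowers a = ⊤ then (Nat.card A : ℂ) else 0) =
      fun _ => (Nat.card G : ℂ) := by
  ext g
  have h1 : ∀ (A : Subgroup G) (y : G), (Nat.card A : ℂ)⁻¹ * extendByZero A
      (fun a => if Subgroup.zpowers a = ⊤ then (Nat.card A : ℂ) else 0) y =
      if Subgroup.zpowers y = A then 1 else 0 := fun A y => by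
    by_cases hy : y ∈ A
    · have h2 : Subgroup.zpowers (⟨y, hy⟩ : A) = ⊤ ↔ Subgroup.zpowers y = A := by
        rw [← (Subgroup.map_injective A.subtype_injective).eq_iff, MonoidHom.map_zpowers,
          ← MonoidHom.range_eq_map, Subgroup.range_subtype]; rfl
      rw [extendByZero_of_mem _ _ hy, h2]
      split_ifs
      · exact inv_mul_cancel₀ (card_ne_zero' A)
      · simp
    · rw [extendByZero_of_not_mem _ _ hy, if_neg, mul_zero]
      rintro rfl
      exact hy (Subgroup.mem_zpowers y)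
  simp only [Finset.sum_apply, indFun_apply, Finset.mul_sum, h1]
  rw [Finset.sum_comm]
  simp

theorem indFun_mem_indSpan_of_isGen [Fintype G] {P : Subgroup G → Prop} {H : Subgroup G}
    (hH : P H) {φ : H → ℂ} (hφ : IsGeneralizedCharacter H φ) : indFun H φ ∈ indSpan P := by
  obtain ⟨a, b, ha, hb, rfl⟩ := hφ
  rw [indFun_sub]
  exact sub_mem (AddSubgroup.subset_closure ⟨H, hH, a, ha, rfl⟩)
    (AddSubgroup.subset_closure ⟨H, hH, b, hb, rfl⟩)

/-- **Artin's induction theorem**. -/
theorem artin [Fintype G] {χ : G → ℂ} (hχ : IsCharacter G χ) :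
    (Nat.card G : ℂ) • χ ∈ linSpan (fun A : Subgroup G => IsCyclic A) := by
  classical
  have := Fintype.ofFinite (Subgroup G)
  refine indSpan_le_linSpan (P := fun A : Subgroup G => IsCyclic A)
    (fun H h => (isElementary_of_isCyclic (G := H) Nat.prime_two).isNilpotent Nat.prime_two)
    (fun H K h1 (h2 : IsCyclic H) => Subgroup.isCyclic_of_le h1) ?_
  have h1 : (Nat.card G : ℂ) • χ = (fun _ => (Nat.card G : ℂ)) * χ := by ext; simp
  rw [h1, ← sum_indFun_generators]
  refine mul_mem_indSpan (sum_mem fun A _ => ?_) hχ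
  by_cases h : IsCyclic A
  · exact indFun_mem_indSpan_of_isGen h isGen_generators
  · have : (fun a : A => if Subgroup.zpowers a = ⊤ then (Nat.card A : ℂ) else 0) = 0 := by
      ext a
      exact if_neg fun h2 => h ⟨a, fun x => h2.ge (Subgroup.mem_top x)⟩
    rw [this, indFun_zero]
    exact zero_mem _

/-- Dade's lemma. -/
theorem dade_elementary [Fintype G] {p : ℕ} (hp : p.Prime) {N : Subgroup G} [hN : N.Normal] {k : ℕ}
    (hk : N.index = p ^ k) {θ : N → ℂ} (hθ : IsIrrCharacter N θ) (hinv : ∀ g, cj N g θ = θ) :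
    ∃ (E : Subgroup G) (φ : ↥(E ⊓ N) → ℂ), IsElementary p E ∧ E ⊔ N = ⊤ ∧
      IsIrrCharacter ↥(E ⊓ N) φ ∧ (∀ (g : G) (hg : g ∈ E) (x : ↥(E ⊓ N)),
        φ ⟨g * x * g⁻¹, ⟨(E.mul_mem (E.mul_mem hg x.2.1) (E.inv_mem hg)),
          hN.conj_mem (x : G) x.2.2 g⟩⟩ = φ x) ∧
      ∃ m : ℕ, ¬ p ∣ m ∧ ∀ [Fintype ↥(E ⊓ N)], classInner (fun x : ↥(E ⊓ N) => θ ⟨x, x.2.2⟩) φ = m := by
  have := Fintype.ofFinite N
  obtain ⟨m, hm, h1⟩ := brauer_prime (G := G) hp
  have hF := hθ.isCharacter.conj.mul hθ.isCharacter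
  have hF' : ∀ g, cj N g ((fun g => conj (θ g)) * θ) = (fun g => conj (θ g)) * θ := fun g => by
    conv_rhs => rw [← hinv g]
    rfl
  obtain ⟨E, hE, ψ, hψ, h2⟩ : ∃ E : Subgroup G, IsElementary p E ∧ ∃ ψ, IsCharacter E ψ ∧
      ∀ c : ℤ, classInner (fun n : N => indFun E ψ n) ((fun g => conj (θ g)) * θ) ≠ p * c := by
    by_contra h2
    push Not at h2
    have h3 : ∀ f ∈ indSpan (fun E : Subgroup G => IsElementary p E), ∃ c : ℤ,
        classInner (fun n : N => f n) ((fun g => conj (θ g)) * θ) = p * c := fun f hf => by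
      induction hf using AddSubgroup.closure_induction with
      | mem x hx =>
        obtain ⟨E, hE, ψ, hψ, rfl⟩ := hx
        exact h2 E hE ψ hψ
      | zero => exact ⟨0, (classInner_zero_left _).trans (by simp)⟩
      | add x y _ _ h1 h2 =>
        obtain ⟨a, ha⟩ := h1
        obtain ⟨b, hb⟩ := h2
        exact ⟨a + b, by push_cast; rw [mul_add, ← ha, ← hb, ← classInner_add_left]; rfl⟩
      | neg x _ h =>
        obtain ⟨a, ha⟩ := h
        exact ⟨-a, by push_cast; rw [mul_neg, ← ha, ← classInner_neg_left]; rfl⟩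
    obtain ⟨c, hc⟩ := h3 _ h1
    rw [← classInner_mul_left] at hc
    have h4 : (fun _ : N => (m : ℂ)) * θ = (m : ℂ) • θ := rfl
    rw [h4, classInner_smul_left, hθ.classInner_self, mul_one] at hc
    exact hm ⟨c, by exact_mod_cast hc⟩
  have := Fintype.ofFinite ↥(E ⊓ N)
  have := Fintype.ofFinite E
  have := Fintype.ofFinite ((E ⊓ N).subgroupOf E)
  rw [classInner_res_indFun ψ hF'] at h2
  have hψ' := hψ.res_le (inf_le_left : E ⊓ N ≤ E)
  have hθ' := hθ.isCharacter.res_le (inf_le_right : E ⊓ N ≤ N)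
  obtain ⟨b, hb⟩ := hψ'.classInner_eq_nat (hF.res_le (inf_le_right : E ⊓ N ≤ N))
  rw [hb] at h2
  have h3 : ¬ p ∣ (E ⊔ N).index * b := by
    rintro ⟨c, hc⟩
    exact h2 c (by exact_mod_cast hc)
  have h4 : E ⊔ N = ⊤ := by
    obtain ⟨j, -, hj⟩ := (Nat.dvd_prime_pow hp).1
      (hk ▸ Subgroup.index_dvd_of_le (le_sup_right : N ≤ E ⊔ N))
    rw [← Subgroup.index_eq_one, hj]
    rcases j with _ | j
    · simp
    · exact absurd (Dvd.dvd.mul_right (hj ▸ dvd_pow_self p (by simp)) b) h3
  have : ((E ⊓ N).subgroupOf E).Normal := by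
    rw [Subgroup.inf_subgroupOf_left]; infer_instance
  let e := Subgroup.subgroupOfEquivOfLe (inf_le_left : E ⊓ N ≤ E)
  obtain ⟨c, hc, -⟩ := ((hψ'.mul hθ').comp e.toMonoidHom).exists_coeff
  obtain ⟨d, hd, -⟩ := (hθ'.comp e.toMonoidHom).exists_coeff
  have h5 : ∀ g : E, cj ((E ⊓ N).subgroupOf E) g (fun x => θ ⟨e x, (e x).2.2⟩) =
      fun x => θ ⟨e x, (e x).2.2⟩ := fun g => funext fun x => congrFun (hinv g) ⟨e x, (e x).2.2⟩
  obtain ⟨φ, h6, h7⟩ := exists_invariant_not_dvd (Q := (E ⊓ N).subgroupOf E) (k := k) hp (by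
      change (E ⊓ N).relIndex E = _
      rw [Subgroup.inf_relIndex_left, ← Subgroup.relIndex_sup_right, h4,
        Subgroup.relIndex_top_right, hk]) (fun φ => c φ * d φ) (fun g φ => by
      have h6 : (c ⟨cj _ g φ.1, φ.2.cj g⟩ : ℂ) = c φ := by
        rw [← hc, ← hc, ← classInner_cj g _ φ.1]
        congr 1
        ext x
        exact congrArg₂ (· * ·) (hψ.apply_conj x g).symm (congrFun (h5 g) x).symm
      have h7 : (d ⟨cj _ g φ.1, φ.2.cj g⟩ : ℂ) = d φ := by
        rw [← hd, ← hd, ← classInner_cj g _ φ.1]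
        congr 1
        exact (h5 g).symm
      rw [Nat.cast_injective h6, Nat.cast_injective h7]) (by
      intro h6
      have h7 := ((hψ'.mul hθ').comp e.toMonoidHom).isClassFunction.classInner_eq_sum
        (fun x => θ ⟨e x, (e x).2.2⟩)
      have h8 : ((∑ φ, (c φ : ℤ) * d φ : ℤ) : ℂ) = b := by
        rw [← hb, ← classInner_comp_equiv e]
        refine Eq.trans ?_ (h7.symm.trans (classInner_mul_left _ _ _))
        push_cast
        refine Finset.sum_congr rfl fun φ _ => ?_
        rw [hc]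
        exact congrArg _ (by rw [← map_natCast (starRingEnd ℂ), ← hd]; rfl)
      have h9 : (∑ φ, (c φ : ℤ) * d φ : ℤ) = b := by exact_mod_cast h8
      rw [h9, Int.natCast_dvd_natCast] at h6
      exact h3 (h6.mul_left _))
  refine ⟨E, fun x => φ.1 (e.symm x), hE, h4, φ.2.comp_equiv e.symm,
    fun g hg x => congrFun (h6 ⟨g, hg⟩) (e.symm x), d φ,
    fun h => h7 (Dvd.dvd.mul_left (Int.natCast_dvd_natCast.2 h) _), ?_⟩
  intro _
  rw [← hd, ← classInner_comp_equiv e.symm]
  convert rfl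
  exact e.apply_symm_apply _

/-- Linear characters extend along homomorphisms into abelian groups. -/
theorem exists_units_ext_of_comm {X A : Type*} [Group X] [Finite X] [Group A] [Finite A]
    (hA : ∀ a b : A, a * b = b * a) (f : X →* A) (φ : X →* ℂˣ) (h : ∀ x, f x = 1 → φ x = 1) :
    ∃ lam : A →* ℂˣ, ∀ x, lam (f x) = φ x := by
  have := Fintype.ofFinite A
  have := Fintype.ofFinite f.range
  obtain ⟨ψ, h1, h2⟩ := (isIrrCharacter_units φ).exists_descend f.rangeRestrict
    f.rangeRestrict_surjective fun x hx => (isIrrCharacter_units φ).isCharacter.mem_charKer.2 (by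
      simp [h x (congrArg Subtype.val hx)])
  obtain ⟨χ, h3, h4⟩ := h1.exists_irr_over
  have h5 := h3.apply_one_of_comm hA
  have h6 := ((h3.isCharacter.res _).isIrr_of_apply_one h5).eq_of_classInner_ne_zero h1 h4
  obtain ⟨lam, rfl⟩ := h3.isCharacter.exists_units_of_apply_one h5
  exact ⟨lam, fun x => Units.ext ((congrFun h6 (f.rangeRestrict x)).trans (h2 x))⟩

/-- An invariant character extends if some character over it has multiplicity prime to the
index. -/
theorem exists_ext_of_not_dvd [Finite G] {p : ℕ} (hp : p.Prime) {N : Subgroup G} [N.Normal]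
    [Fintype N] {k : ℕ} (hk : N.index = p ^ k) {θ : N → ℂ} (hθ : IsIrrCharacter N θ)
    (hinv : ∀ g, cj N g θ = θ) {ψ : G → ℂ} (hψ : IsCharacter G ψ) {m : ℕ} (hm : ¬ p ∣ m)
    (h : classInner (fun n : N => ψ n) θ = m) : ∃ χ, IsIrrCharacter G χ ∧ ∀ n : N, χ n = θ n := by
  have := Fintype.ofFinite G
  obtain ⟨c, -, hc⟩ := hψ.exists_coeff
  choose f hf using fun χ : IrrCharacter G => (χ.2.isCharacter.res N).classInner_eq_nat
    hθ.isCharacter
  have h1 : (fun n : N => ψ n) = ∑ χ : IrrCharacter G, (c χ : ℂ) • fun n : N => χ.1 n := by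
    ext n; rw [hc]; simp
  rw [h1, classInner_sum_left] at h
  simp only [classInner_smul_left, hf] at h
  have h2 : ∑ χ, c χ * f χ = m := by exact_mod_cast h
  obtain ⟨χ, hχ⟩ : ∃ χ, ¬ p ∣ f χ := by
    by_contra h3
    push Not at h3
    exact hm (h2 ▸ Finset.dvd_sum fun χ _ => (h3 χ).mul_left _)
  have h3 := χ.2.res_eq_smul_of_invariant hθ hinv (by
    rw [hf, Nat.cast_ne_zero]; rintro h; simp [h] at hχ)
  rw [hf] at h3
  obtain ⟨j, -, hj⟩ := (Nat.dvd_prime_pow hp).1 (hk ▸ χ.2.multiplicity_dvd_index hθ h3)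
  rcases j with _ | j
  · exact ⟨χ, χ.2, fun n => by simpa [hj] using congrFun h3 n⟩
  · exact absurd (hj ▸ dvd_pow_self p (by simp)) hχ

end Cfsg.Agent.Char
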