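import Cfsg.Agent.Lib.Char.Rep
import Cfsg.Prelude.Def_Blocks

/-!
Function-level basics on characters: closure properties, linear characters, eigenvalues,
the inner product.
-/

set_option autoImplicit false

namespace Cfsg

open Representation Module Agent.Char
open scoped ComplexConjugate

variable {G : Type*} [Group G] {H : Type*} [Group H]

theorem IsIrrCharacter.isCharacter {χ : G → ℂ} (h : IsIrrCharacter G χ) : IsCharacter G χ := by
  obtain ⟨n, ρ, -, h⟩ := h
  exact ⟨n, ρ, h⟩

theorem IsCharacter.isClassFunction {χ : G → ℂ} (h : IsCharacter G χ) : IsClassFunction G χ := by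
  obtain ⟨n, ρ, rfl⟩ := h
  exact fun g h => char_conj ρ g h

theorem IsIrrCharacter.isClassFunction {χ : G → ℂ} (h : IsIrrCharacter G χ) :
    IsClassFunction G χ := h.isCharacter.isClassFunction

theorem IsCharacter.zero : IsCharacter G 0 := by
  refine ⟨0, Representation.trivial ℂ G _, ?_⟩
  ext g
  simp [Representation.character, Subsingleton.elim (Representation.trivial ℂ G (Fin 0 → ℂ) g) 0]

theorem IsCharacter.add {χ ψ : G → ℂ} (h : IsCharacter G χ) (h' : IsCharacter G ψ) :
    IsCharacter G (χ + ψ) := by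
  obtain ⟨n, ρ, rfl⟩ := h
  obtain ⟨m, σ, rfl⟩ := h'
  rw [← character_prod]
  exact isCharacter_rep _

theorem IsCharacter.mul {χ ψ : G → ℂ} (h : IsCharacter G χ) (h' : IsCharacter G ψ) :
    IsCharacter G (χ * ψ) := by
  obtain ⟨n, ρ, rfl⟩ := h
  obtain ⟨m, σ, rfl⟩ := h'
  rw [← char_tensor]
  exact isCharacter_rep _

theorem IsCharacter.sum {ι : Type*} {s : Finset ι} {f : ι → G → ℂ}
    (h : ∀ i ∈ s, IsCharacter G (f i)) : IsCharacter G (∑ i ∈ s, f i) :=
  Finset.sum_induction f _ (fun _ _ => IsCharacter.add) IsCharacter.zero h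

theorem IsCharacter.multiset_sum {s : Multiset (G → ℂ)}
    (h : ∀ χ ∈ s, IsCharacter G χ) : IsCharacter G s.sum :=
  Multiset.sum_induction _ s (fun _ _ => IsCharacter.add) IsCharacter.zero h

theorem IsCharacter.nsmul {χ : G → ℂ} (h : IsCharacter G χ) (n : ℕ) : IsCharacter G (n • χ) := by
  induction n with
  | zero => simpa using IsCharacter.zero
  | succ n ih => rw [succ_nsmul]; exact ih.add h

theorem IsCharacter.natCast_smul {χ : G → ℂ} (h : IsCharacter G χ) (n : ℕ) :
    IsCharacter G ((n : ℂ) • χ) := by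
  rw [Nat.cast_smul_eq_nsmul]; exact h.nsmul n

theorem IsCharacter.comp {χ : G → ℂ} (h : IsCharacter G χ) (f : H →* G) :
    IsCharacter H (fun x => χ (f x)) := by
  obtain ⟨n, ρ, rfl⟩ := h
  exact ⟨n, ρ.comp f, rfl⟩

theorem IsCharacter.res {χ : G → ℂ} (h : IsCharacter G χ) (K : Subgroup G) :
    IsCharacter K (fun x : K => χ x) := h.comp K.subtype

theorem IsCharacter.res_le {K L : Subgroup G} {χ : K → ℂ} (h : IsCharacter K χ) (hLK : L ≤ K) :
    IsCharacter L (fun x : L => χ ⟨x, hLK x.2⟩) := h.comp (Subgroup.inclusion hLK)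

theorem IsCharacter.comp_inv {χ : G → ℂ} (h : IsCharacter G χ) :
    IsCharacter G (fun x => χ x⁻¹) := by
  obtain ⟨n, ρ, rfl⟩ := h
  have : (fun x => ρ.character x⁻¹) = ρ.dual.character := by ext; simp
  rw [this]
  exact isCharacter_rep _

theorem IsIrrCharacter.comp_surjective {χ : G → ℂ} (h : IsIrrCharacter G χ) (f : H →* G)
    (hf : Function.Surjective f) : IsIrrCharacter H (fun x => χ (f x)) := by
  obtain ⟨n, ρ, hρ, rfl⟩ := h
  refine ⟨n, ρ.comp f, ?_, rfl⟩
  rw [isIrreducible_iff] at hρ ⊢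
  refine ⟨hρ.1, fun U hU => hρ.2 U fun g v hv => ?_⟩
  obtain ⟨x, rfl⟩ := hf g
  exact hU x v hv

theorem IsIrrCharacter.comp_equiv {χ : G → ℂ} (h : IsIrrCharacter G χ) (f : H ≃* G) :
    IsIrrCharacter H (fun x => χ (f x)) := h.comp_surjective f.toMonoidHom f.surjective

theorem IsCharacter.apply_conj {χ : G → ℂ} (h : IsCharacter G χ) (g x : G) :
    χ (x * g * x⁻¹) = χ g := h.isClassFunction g x

theorem IsClassFunction.apply_conj {χ : G → ℂ} (h : IsClassFunction G χ) (g x : G) :
    χ (x * g * x⁻¹) = χ g := h g x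

theorem IsClassFunction.apply_conj' {χ : G → ℂ} (h : IsClassFunction G χ) (g x : G) :
    χ (x⁻¹ * g * x) = χ g := by simpa using h g x⁻¹

theorem IsClassFunction.apply_mul_comm {χ : G → ℂ} (h : IsClassFunction G χ) (a b : G) :
    χ (a * b) = χ (b * a) := by
  have := h (a * b) b
  rw [← this]; congr 1; group

theorem IsClassFunction.eq_of_isConj {χ : G → ℂ} (h : IsClassFunction G χ) {a b : G}
    (hab : IsConj a b) : χ a = χ b := by
  obtain ⟨c, rfl⟩ := isConj_iff.1 hab
  exact (h a c).symm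

theorem IsClassFunction.zero : IsClassFunction G 0 := fun _ _ => rfl

theorem IsClassFunction.const (c : ℂ) : IsClassFunction G (fun _ => c) := fun _ _ => rfl

theorem IsClassFunction.add {φ ψ : G → ℂ} (h : IsClassFunction G φ) (h' : IsClassFunction G ψ) :
    IsClassFunction G (φ + ψ) := fun g x => by simp [h g x, h' g x]

theorem IsClassFunction.sub {φ ψ : G → ℂ} (h : IsClassFunction G φ) (h' : IsClassFunction G ψ) :
    IsClassFunction G (φ - ψ) := fun g x => by simp [h g x, h' g x]

theorem IsClassFunction.mul {φ ψ : G → ℂ} (h : IsClassFunction G φ) (h' : IsClassFunction G ψ) :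
    IsClassFunction G (φ * ψ) := fun g x => by simp [h g x, h' g x]

theorem IsClassFunction.neg {φ : G → ℂ} (h : IsClassFunction G φ) :
    IsClassFunction G (-φ) := fun g x => by simp [h g x]

theorem IsClassFunction.smul {φ : G → ℂ} (h : IsClassFunction G φ) (c : ℂ) :
    IsClassFunction G (c • φ) := fun g x => by simp [h g x]

theorem IsClassFunction.zsmul {φ : G → ℂ} (h : IsClassFunction G φ) (c : ℤ) :
    IsClassFunction G (c • φ) := fun g x => by simp [h g x]

theorem IsClassFunction.sum {ι : Type*} {s : Finset ι} {f : ι → G → ℂ}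
    (h : ∀ i ∈ s, IsClassFunction G (f i)) : IsClassFunction G (∑ i ∈ s, f i) :=
  Finset.sum_induction f _ (fun _ _ => IsClassFunction.add) IsClassFunction.zero h

theorem IsClassFunction.comp {φ : G → ℂ} (h : IsClassFunction G φ) (f : H →* G) :
    IsClassFunction H (fun x => φ (f x)) := fun g x => by
  simp only [map_mul, map_inv, h (f g) (f x)]

theorem IsClassFunction.res {φ : G → ℂ} (h : IsClassFunction G φ) (K : Subgroup G) :
    IsClassFunction K (fun x : K => φ x) := h.comp K.subtype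

theorem IsClassFunction.map {φ : G → ℂ} (h : IsClassFunction G φ) (f : ℂ → ℂ) :
    IsClassFunction G (fun x => f (φ x)) := fun g x => by simp only [h g x]

theorem IsClassFunction.comp_inv {φ : G → ℂ} (h : IsClassFunction G φ) :
    IsClassFunction G (fun x => φ x⁻¹) := fun g x => by
  have := h g⁻¹ x
  show φ _ = φ _
  rw [← this]; congr 1; group

theorem IsClassFunction.comp_pow {φ : G → ℂ} (h : IsClassFunction G φ) (k : ℕ) :
    IsClassFunction G (fun x => φ (x ^ k)) := fun g x => by
  simp only [conj_pow, h (g ^ k) x]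

theorem IsCharacter.exists_degree {χ : G → ℂ} (h : IsCharacter G χ) : ∃ n : ℕ, χ 1 = n := by
  obtain ⟨n, ρ, rfl⟩ := h
  exact ⟨_, char_one ρ⟩

theorem IsCharacter.cast_charDegree {χ : G → ℂ} (h : IsCharacter G χ) :
    (charDegree χ : ℂ) = χ 1 := by
  obtain ⟨n, hn⟩ := h.exists_degree
  simp [charDegree, hn]

theorem IsIrrCharacter.exists_degree {χ : G → ℂ} (h : IsIrrCharacter G χ) :
    ∃ n : ℕ, 0 < n ∧ χ 1 = n := by
  obtain ⟨n, ρ, hρ, rfl⟩ := h
  exact ⟨_, finrank_pos_of_isIrreducible ρ, char_one ρ⟩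

theorem IsIrrCharacter.apply_one_ne_zero {χ : G → ℂ} (h : IsIrrCharacter G χ) : χ 1 ≠ 0 := by
  obtain ⟨n, hn, h1⟩ := h.exists_degree
  rw [h1]; exact_mod_cast hn.ne'

theorem IsIrrCharacter.ne_zero {χ : G → ℂ} (h : IsIrrCharacter G χ) : χ ≠ 0 := by
  rintro rfl
  exact h.apply_one_ne_zero rfl

theorem IsCharacter.eq_zero_of_apply_one {χ : G → ℂ} (h : IsCharacter G χ) (h1 : χ 1 = 0) :
    χ = 0 := by
  obtain ⟨n, ρ, rfl⟩ := h
  have : n = 0 := by simpa using h1
  subst this
  ext g
  simp [Representation.character, Subsingleton.elim (ρ g) 0]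

namespace Agent.Char

/-- The one-dimensional representation attached to a multiplicative function. -/
noncomputable def scalarRep (V : Type*) [AddCommGroup V] [Module ℂ V] (lam : G →* ℂ) :
    Representation ℂ G V where
  toFun g := lam g • LinearMap.id
  map_one' := by ext; simp
  map_mul' x y := by ext; simp [smul_smul, mul_comm]

theorem character_scalarRep (V : Type*) [AddCommGroup V] [Module ℂ V] [FiniteDimensional ℂ V]
    (lam : G →* ℂ) (g : G) : (scalarRep V lam).character g = finrank ℂ V * lam g := by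
  simp [scalarRep, Representation.character, mul_comm]

theorem isIrrCharacter_monoidHom (lam : G →* ℂ) : IsIrrCharacter G lam := by
  have h1 : (scalarRep ℂ lam).character = lam := by ext g; simp [character_scalarRep]
  have := isIrreducible_of_finrank_eq_one (scalarRep ℂ lam) (by simp)
  rw [← h1]
  exact isIrrCharacter_rep _

theorem isIrrCharacter_units (lam : G →* ℂˣ) : IsIrrCharacter G (fun g => (lam g : ℂ)) :=
  isIrrCharacter_monoidHom ((Units.coeHom ℂ).comp lam)

theorem isIrrCharacter_one : IsIrrCharacter G (fun _ => 1) :=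
  isIrrCharacter_monoidHom (1 : G →* ℂ)

theorem isCharacter_one : IsCharacter G (fun _ => 1) := isIrrCharacter_one.isCharacter

end Agent.Char

theorem IsCharacter.pow {χ : G → ℂ} (h : IsCharacter G χ) (n : ℕ) : IsCharacter G (χ ^ n) := by
  induction n with
  | zero => exact isCharacter_one
  | succ n ih => rw [pow_succ]; exact ih.mul h

/-- A character of degree one is multiplicative. -/
theorem IsCharacter.map_mul_of_apply_one {χ : G → ℂ} (h : IsCharacter G χ) (h1 : χ 1 = 1)
    (a b : G) : χ (a * b) = χ a * χ b := by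
  obtain ⟨n, ρ, rfl⟩ := h
  have hn : n = 1 := by
    have : (n : ℂ) = 1 := by simpa using h1
    exact_mod_cast this
  subst hn
  have key : ∀ f : (Fin 1 → ℂ) →ₗ[ℂ] (Fin 1 → ℂ),
      LinearMap.trace ℂ _ f = LinearMap.toMatrix' f 0 0 := by
    intro f
    rw [LinearMap.trace_eq_matrix_trace ℂ (Pi.basisFun ℂ (Fin 1)), Matrix.trace_fin_one]
    simp
  simp only [Representation.character, key, map_mul]
  rw [LinearMap.toMatrix'_mul, Matrix.mul_apply]; simp

/-- A character of degree one as a homomorphism to `ℂ`. -/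
def IsCharacter.toMonoidHom {χ : G → ℂ} (h : IsCharacter G χ) (h1 : χ 1 = 1) : G →* ℂ where
  toFun := χ
  map_one' := h1
  map_mul' := h.map_mul_of_apply_one h1

theorem IsCharacter.exists_units_of_apply_one {χ : G → ℂ} (h : IsCharacter G χ) (h1 : χ 1 = 1) :
    ∃ lam : G →* ℂˣ, χ = fun g => (lam g : ℂ) :=
  ⟨(h.toMonoidHom h1).toHomUnits, by ext g; rfl⟩

theorem IsCharacter.isIrr_of_apply_one {χ : G → ℂ} (h : IsCharacter G χ) (h1 : χ 1 = 1) :
    IsIrrCharacter G χ := isIrrCharacter_monoidHom (h.toMonoidHom h1)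

theorem IsIrrCharacter.apply_one_of_comm {χ : G → ℂ} (h : IsIrrCharacter G χ)
    (hG : ∀ a b : G, a * b = b * a) : χ 1 = 1 := by
  obtain ⟨n, ρ, hρ, rfl⟩ := h
  have : IsMulCommutative G := ⟨⟨hG⟩⟩
  rw [char_one, IsIrreducible.finrank_eq_one_of_isMulCommutative ρ]; simp

theorem IsCharacter.exists_multiset [Finite G] {χ : G → ℂ} (h : IsCharacter G χ) :
    ∃ s : Multiset (G → ℂ), (∀ ψ ∈ s, IsIrrCharacter G ψ) ∧ χ = s.sum := by
  obtain ⟨n, ρ, rfl⟩ := h
  exact rep_exists_multiset ρ

/-- A character of a finite commutative group is a sum of linear characters. -/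
theorem IsCharacter.exists_multiset_units [Finite G] {χ : G → ℂ} (h : IsCharacter G χ)
    (hG : ∀ a b : G, a * b = b * a) :
    ∃ s : Multiset (G →* ℂˣ), (Multiset.card s : ℂ) = χ 1 ∧
      ∀ g, χ g = (s.map fun lam => (lam g : ℂ)).sum := by
  obtain ⟨s, hs, rfl⟩ := h.exists_multiset
  clear h
  induction s using Multiset.induction_on with
  | empty => exact ⟨0, by simp, by simp⟩
  | cons a s ih =>
    obtain ⟨t, ht, ht'⟩ := ih (fun ψ hψ => hs ψ (Multiset.mem_cons_of_mem hψ))
    have ha := hs a (Multiset.mem_cons_self _ _)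
    obtain ⟨lam, rfl⟩ := ha.isCharacter.exists_units_of_apply_one (ha.apply_one_of_comm hG)
    refine ⟨lam ::ₘ t, ?_, fun g => ?_⟩
    · simp [ht, add_comm]
    · simp [ht' g]

/-- The eigenvalues of an element: roots of unity whose power sums are the character values. -/
theorem IsCharacter.exists_eigenvalues [Finite G] {χ : G → ℂ} (h : IsCharacter G χ) (g : G) :
    ∃ s : Multiset ℂ, (Multiset.card s : ℂ) = χ 1 ∧ (∀ z ∈ s, z ^ orderOf g = 1) ∧
      ∀ k : ℤ, χ (g ^ k) = (s.map fun z => z ^ k).sum := by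
  obtain ⟨s, hs, hs'⟩ := (h.res (Subgroup.zpowers g)).exists_multiset_units
    (by
      rintro ⟨_, i, rfl⟩ ⟨_, j, rfl⟩
      exact Subtype.ext (zpow_mul_comm g i j))
  let x : Subgroup.zpowers g := ⟨g, Subgroup.mem_zpowers g⟩
  refine ⟨s.map fun lam => (lam x : ℂ), by simpa using hs, ?_, fun k => ?_⟩
  · intro z hz
    obtain ⟨lam, -, rfl⟩ := Multiset.mem_map.1 hz
    have : x ^ orderOf g = 1 := Subtype.ext (pow_orderOf_eq_one g)
    rw [← Units.val_pow_eq_pow_val, ← map_pow, this]; simp
  · have := hs' (x ^ k)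
    simp only [Multiset.map_map, Function.comp_def]
    simpa using this

namespace Agent.Char

theorem norm_eq_one_of_pow {z : ℂ} {n : ℕ} (hn : n ≠ 0) (h : z ^ n = 1) : ‖z‖ = 1 :=
  Complex.norm_eq_one_of_pow_eq_one h hn

theorem norm_units_hom [Finite G] (lam : G →* ℂˣ) (g : G) : ‖(lam g : ℂ)‖ = 1 := by
  apply norm_eq_one_of_pow (orderOf_pos g).ne'
  rw [← Units.val_pow_eq_pow_val, ← map_pow, pow_orderOf_eq_one]; simp

theorem conj_units_hom [Finite G] (lam : G →* ℂˣ) (g : G) :
    conj (lam g : ℂ) = ((lam g)⁻¹ : ℂˣ) := by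
  rw [Units.val_inv_eq_inv_val, Complex.inv_eq_conj (norm_units_hom lam g)]

end Agent.Char

theorem IsCharacter.apply_inv [Finite G] {χ : G → ℂ} (h : IsCharacter G χ) (g : G) :
    χ g⁻¹ = conj (χ g) := by
  obtain ⟨s, -, hs, hs'⟩ := h.exists_eigenvalues g
  have h1 := hs' 1
  have h2 := hs' (-1)
  simp only [zpow_one, zpow_neg] at h1 h2
  rw [h1, h2, map_multiset_sum, Multiset.map_map]
  congr 1
  refine Multiset.map_congr rfl fun z hz => ?_
  exact Complex.inv_eq_conj (norm_eq_one_of_pow (orderOf_pos g).ne' (hs z hz))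

theorem IsCharacter.conj [Finite G] {χ : G → ℂ} (h : IsCharacter G χ) :
    IsCharacter G (fun g => conj (χ g)) := by
  simpa only [h.apply_inv] using h.comp_inv

theorem IsCharacter.conj_apply_one {χ : G → ℂ} (h : IsCharacter G χ) : conj (χ 1) = χ 1 := by
  obtain ⟨n, hn⟩ := h.exists_degree
  simp [hn]

theorem IsCharacter.isIntegral [Finite G] {χ : G → ℂ} (h : IsCharacter G χ) (g : G) :
    IsIntegral ℤ (χ g) := by
  obtain ⟨s, -, hs, hs'⟩ := h.exists_eigenvalues g
  have h1 := hs' 1
  simp only [zpow_one, Multiset.map_id'] at h1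
  rw [h1]
  refine IsIntegral.multiset_sum fun z hz => ?_
  exact IsIntegral.of_pow (orderOf_pos g) (by rw [hs z hz]; exact isIntegral_one)

theorem IsCharacter.norm_le [Finite G] {χ : G → ℂ} (h : IsCharacter G χ) (g : G) :
    ‖χ g‖ ≤ ‖χ 1‖ := by
  obtain ⟨s, hc, hs, hs'⟩ := h.exists_eigenvalues g
  have h1 := hs' 1
  simp only [zpow_one, Multiset.map_id'] at h1
  rw [h1, ← hc, Complex.norm_natCast]
  refine (norm_multiset_sum_le s).trans (le_of_eq ?_)
  rw [Multiset.map_congr rfl (g := fun _ => (1 : ℝ))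
    (fun z hz => norm_eq_one_of_pow (orderOf_pos g).ne' (hs z hz))]
  simp

/-! Generalized characters -/

theorem IsCharacter.isGen {χ : G → ℂ} (h : IsCharacter G χ) : IsGeneralizedCharacter G χ :=
  ⟨χ, 0, h, IsCharacter.zero, by simp⟩

theorem IsIrrCharacter.isGen {χ : G → ℂ} (h : IsIrrCharacter G χ) : IsGeneralizedCharacter G χ :=
  h.isCharacter.isGen

theorem IsGeneralizedCharacter.isClassFunction {χ : G → ℂ} (h : IsGeneralizedCharacter G χ) :
    IsClassFunction G χ := by
  obtain ⟨a, b, ha, hb, rfl⟩ := h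
  exact ha.isClassFunction.sub hb.isClassFunction

theorem IsGeneralizedCharacter.zero : IsGeneralizedCharacter G 0 := IsCharacter.zero.isGen

theorem IsGeneralizedCharacter.add {φ ψ : G → ℂ} (h : IsGeneralizedCharacter G φ)
    (h' : IsGeneralizedCharacter G ψ) : IsGeneralizedCharacter G (φ + ψ) := by
  obtain ⟨a, b, ha, hb, rfl⟩ := h
  obtain ⟨c, d, hc, hd, rfl⟩ := h'
  exact ⟨a + c, b + d, ha.add hc, hb.add hd, by ring⟩

theorem IsGeneralizedCharacter.neg {φ : G → ℂ} (h : IsGeneralizedCharacter G φ) :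
    IsGeneralizedCharacter G (-φ) := by
  obtain ⟨a, b, ha, hb, rfl⟩ := h
  exact ⟨b, a, hb, ha, by ring⟩

theorem IsGeneralizedCharacter.sub {φ ψ : G → ℂ} (h : IsGeneralizedCharacter G φ)
    (h' : IsGeneralizedCharacter G ψ) : IsGeneralizedCharacter G (φ - ψ) := by
  rw [sub_eq_add_neg]; exact h.add h'.neg

theorem IsGeneralizedCharacter.mul {φ ψ : G → ℂ} (h : IsGeneralizedCharacter G φ)
    (h' : IsGeneralizedCharacter G ψ) : IsGeneralizedCharacter G (φ * ψ) := by
  obtain ⟨a, b, ha, hb, rfl⟩ := h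
  obtain ⟨c, d, hc, hd, rfl⟩ := h'
  exact ⟨a * c + b * d, a * d + b * c, (ha.mul hc).add (hb.mul hd), (ha.mul hd).add (hb.mul hc),
    by ring⟩

theorem IsGeneralizedCharacter.nsmul {φ : G → ℂ} (h : IsGeneralizedCharacter G φ) (n : ℕ) :
    IsGeneralizedCharacter G (n • φ) := by
  obtain ⟨a, b, ha, hb, rfl⟩ := h
  exact ⟨n • a, n • b, ha.nsmul n, hb.nsmul n, smul_sub _ _ _⟩

theorem IsGeneralizedCharacter.zsmul {φ : G → ℂ} (h : IsGeneralizedCharacter G φ) (n : ℤ) :
    IsGeneralizedCharacter G (n • φ) := by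
  cases n with
  | ofNat n => simpa using h.nsmul n
  | negSucc n => rw [negSucc_zsmul]; exact (h.nsmul _).neg

theorem IsGeneralizedCharacter.intCast_smul {φ : G → ℂ} (h : IsGeneralizedCharacter G φ) (n : ℤ) :
    IsGeneralizedCharacter G ((n : ℂ) • φ) := by
  rw [Int.cast_smul_eq_zsmul]; exact h.zsmul n

theorem IsGeneralizedCharacter.natCast_smul {φ : G → ℂ} (h : IsGeneralizedCharacter G φ) (n : ℕ) :
    IsGeneralizedCharacter G ((n : ℂ) • φ) := by
  rw [Nat.cast_smul_eq_nsmul]; exact h.nsmul n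

theorem IsGeneralizedCharacter.sum {ι : Type*} {s : Finset ι} {f : ι → G → ℂ}
    (h : ∀ i ∈ s, IsGeneralizedCharacter G (f i)) : IsGeneralizedCharacter G (∑ i ∈ s, f i) :=
  Finset.sum_induction f _ (fun _ _ => IsGeneralizedCharacter.add) IsGeneralizedCharacter.zero h

theorem IsGeneralizedCharacter.comp {φ : G → ℂ} (h : IsGeneralizedCharacter G φ) (f : H →* G) :
    IsGeneralizedCharacter H (fun x => φ (f x)) := by
  obtain ⟨a, b, ha, hb, rfl⟩ := h
  exact ⟨_, _, ha.comp f, hb.comp f, rfl⟩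

theorem IsGeneralizedCharacter.res {φ : G → ℂ} (h : IsGeneralizedCharacter G φ) (K : Subgroup G) :
    IsGeneralizedCharacter K (fun x : K => φ x) := h.comp K.subtype

theorem IsGeneralizedCharacter.apply_inv [Finite G] {φ : G → ℂ} (h : IsGeneralizedCharacter G φ)
    (g : G) : φ g⁻¹ = conj (φ g) := by
  obtain ⟨a, b, ha, hb, rfl⟩ := h
  simp [ha.apply_inv, hb.apply_inv]

theorem IsGeneralizedCharacter.conj [Finite G] {φ : G → ℂ} (h : IsGeneralizedCharacter G φ) :
    IsGeneralizedCharacter G (fun g => conj (φ g)) := by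
  obtain ⟨a, b, ha, hb, rfl⟩ := h
  exact ⟨_, _, ha.conj, hb.conj, by ext; simp⟩

theorem IsGeneralizedCharacter.isIntegral [Finite G] {φ : G → ℂ} (h : IsGeneralizedCharacter G φ)
    (g : G) : IsIntegral ℤ (φ g) := by
  obtain ⟨a, b, ha, hb, rfl⟩ := h
  exact (ha.isIntegral g).sub (hb.isIntegral g)

theorem IsGeneralizedCharacter.exists_degree {φ : G → ℂ} (h : IsGeneralizedCharacter G φ) :
    ∃ n : ℤ, φ 1 = n := by
  obtain ⟨a, b, ha, hb, rfl⟩ := h
  obtain ⟨n, hn⟩ := ha.exists_degree
  obtain ⟨m, hm⟩ := hb.exists_degree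
  exact ⟨n - m, by simp [hn, hm]⟩

/-! The inner product -/

namespace Agent.Char

variable [Fintype G]

theorem card_ne_zero' (X : Type*) [Group X] [Finite X] : (Nat.card X : ℂ) ≠ 0 := NeZero.ne _

theorem classInner_add_left (φ ψ χ : G → ℂ) :
    classInner (φ + ψ) χ = classInner φ χ + classInner ψ χ := by
  simp [classInner, add_mul, Finset.sum_add_distrib, mul_add]

theorem classInner_add_right (φ ψ χ : G → ℂ) :
    classInner φ (ψ + χ) = classInner φ ψ + classInner φ χ := by
  simp [classInner, Finset.sum_add_distrib, mul_add]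

theorem classInner_sub_left (φ ψ χ : G → ℂ) :
    classInner (φ - ψ) χ = classInner φ χ - classInner ψ χ := by
  simp [classInner, sub_mul, Finset.sum_sub_distrib, mul_sub]

theorem classInner_sub_right (φ ψ χ : G → ℂ) :
    classInner φ (ψ - χ) = classInner φ ψ - classInner φ χ := by
  simp [classInner, Finset.sum_sub_distrib, mul_sub]

theorem classInner_neg_left (φ ψ : G → ℂ) : classInner (-φ) ψ = -classInner φ ψ := by
  simp [classInner]

theorem classInner_neg_right (φ ψ : G → ℂ) : classInner φ (-ψ) = -classInner φ ψ := by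
  simp [classInner]

theorem classInner_smul_left (c : ℂ) (φ ψ : G → ℂ) :
    classInner (c • φ) ψ = c * classInner φ ψ := by
  simp only [classInner, Pi.smul_apply, smul_eq_mul, mul_assoc, ← Finset.mul_sum]; ring

theorem classInner_smul_right (c : ℂ) (φ ψ : G → ℂ) :
    classInner φ (c • ψ) = conj c * classInner φ ψ := by
  simp only [classInner, Pi.smul_apply, smul_eq_mul, map_mul, Finset.mul_sum]
  exact Finset.sum_congr rfl fun _ _ => by ring

theorem classInner_zsmul_left (c : ℤ) (φ ψ : G → ℂ) :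
    classInner (c • φ) ψ = c * classInner φ ψ := by
  rw [← Int.cast_smul_eq_zsmul ℂ, classInner_smul_left]

theorem classInner_zsmul_right (c : ℤ) (φ ψ : G → ℂ) :
    classInner φ (c • ψ) = c * classInner φ ψ := by
  rw [← Int.cast_smul_eq_zsmul ℂ, classInner_smul_right]; simp

theorem classInner_nsmul_left (c : ℕ) (φ ψ : G → ℂ) :
    classInner (c • φ) ψ = c * classInner φ ψ := by
  rw [← Nat.cast_smul_eq_nsmul ℂ, classInner_smul_left]

theorem classInner_nsmul_right (c : ℕ) (φ ψ : G → ℂ) :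
    classInner φ (c • ψ) = c * classInner φ ψ := by
  rw [← Nat.cast_smul_eq_nsmul ℂ, classInner_smul_right]; simp

@[simp] theorem classInner_zero_left (ψ : G → ℂ) : classInner 0 ψ = 0 := by simp [classInner]

@[simp] theorem classInner_zero_right (ψ : G → ℂ) : classInner ψ 0 = 0 := by simp [classInner]

theorem classInner_sum_left {ι : Type*} (s : Finset ι) (f : ι → G → ℂ) (ψ : G → ℂ) :
    classInner (∑ i ∈ s, f i) ψ = ∑ i ∈ s, classInner (f i) ψ := by
  classical
  induction s using Finset.induction_on with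
  | empty => simp
  | insert a s ha ih => rw [Finset.sum_insert ha, Finset.sum_insert ha, classInner_add_left, ih]

theorem classInner_sum_right {ι : Type*} (s : Finset ι) (f : ι → G → ℂ) (ψ : G → ℂ) :
    classInner ψ (∑ i ∈ s, f i) = ∑ i ∈ s, classInner ψ (f i) := by
  classical
  induction s using Finset.induction_on with
  | empty => simp
  | insert a s ha ih => rw [Finset.sum_insert ha, Finset.sum_insert ha, classInner_add_right, ih]

theorem conj_classInner (φ ψ : G → ℂ) : conj (classInner φ ψ) = classInner ψ φ := by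
  simp [classInner, mul_comm]

theorem classInner_eq_zero_comm {φ ψ : G → ℂ} : classInner φ ψ = 0 ↔ classInner ψ φ = 0 := by
  rw [← conj_classInner, map_eq_zero]

theorem classInner_conj_conj (φ ψ : G → ℂ) :
    classInner (fun g => conj (φ g)) (fun g => conj (ψ g)) = classInner ψ φ := by
  simp [classInner, mul_comm]

theorem classInner_mul_left (φ ψ χ : G → ℂ) :
    classInner (φ * ψ) χ = classInner φ ((fun g => conj (ψ g)) * χ) := by
  simp [classInner, mul_assoc]

theorem classInner_mul_right (φ ψ χ : G → ℂ) :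
    classInner φ (ψ * χ) = classInner (φ * fun g => conj (ψ g)) χ := by
  simp [classInner, mul_assoc]

theorem classInner_one_right (φ : G → ℂ) :
    classInner φ (fun _ => 1) = (Nat.card G : ℂ)⁻¹ * ∑ g, φ g := by
  simp [classInner]

theorem classInner_self (φ : G → ℂ) :
    classInner φ φ = (((Nat.card G : ℝ)⁻¹ * ∑ g, ‖φ g‖ ^ 2 : ℝ) : ℂ) := by
  simp [classInner, Complex.mul_conj, Complex.normSq_eq_norm_sq]

theorem classInner_self_re (φ : G → ℂ) :
    (classInner φ φ).re = (Nat.card G : ℝ)⁻¹ * ∑ g, ‖φ g‖ ^ 2 := by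
  rw [classInner_self, Complex.ofReal_re]

theorem classInner_self_im (φ : G → ℂ) : (classInner φ φ).im = 0 := by
  rw [classInner_self, Complex.ofReal_im]

theorem classInner_self_re_nonneg (φ : G → ℂ) : 0 ≤ (classInner φ φ).re := by
  rw [classInner_self_re]; positivity

theorem classInner_self_eq_zero {φ : G → ℂ} : classInner φ φ = 0 ↔ φ = 0 := by
  refine ⟨fun h => ?_, fun h => by simp [h]⟩
  rw [classInner_self, Complex.ofReal_eq_zero, mul_eq_zero] at h
  rcases h with h | h
  · exact absurd (inv_eq_zero.1 h) (by exact_mod_cast Nat.card_pos.ne')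
  · rw [Finset.sum_eq_zero_iff_of_nonneg (fun _ _ => by positivity)] at h
    ext g
    simpa using h g (Finset.mem_univ g)

theorem classInner_comp_equiv [Fintype H] (e : H ≃* G) (φ ψ : G → ℂ) :
    classInner (fun x => φ (e x)) (fun x => ψ (e x)) = classInner φ ψ := by
  simp only [classInner, Nat.card_congr e.toEquiv]
  congr 1
  exact Fintype.sum_equiv e.toEquiv _ _ fun _ => rfl

theorem classInner_congr_fintype (i j : Fintype H) (φ ψ : H → ℂ) :
    @classInner H _ i φ ψ = @classInner H _ j φ ψ := by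
  rw [Subsingleton.elim i j]

end Agent.Char

end Cfsg
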