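import Cfsg.Agent.Lib.Char.Vchar

/-!
Coherence (Peterfalvi, Section 5), with complex-linear maps.
-/

set_option autoImplicit false

namespace Cfsg.Agent.Char

open scoped ComplexConjugate

variable {L : Type*} [Group L] {G : Type*} [Group G]

/-- The real degree. -/
noncomputable def deg (χ : L → ℂ) : ℝ := (χ 1).re

theorem _root_.Cfsg.IsGeneralizedCharacter.coe_deg {χ : L → ℂ} (h : IsGeneralizedCharacter L χ) :
    (deg χ : ℂ) = χ 1 := by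
  obtain ⟨n, hn⟩ := h.exists_degree
  simp [deg, hn]

theorem _root_.Cfsg.IsCharacter.coe_deg {χ : L → ℂ} (h : IsCharacter L χ) : (deg χ : ℂ) = χ 1 :=
  h.isGen.coe_deg

theorem deg_eq_of {χ : L → ℂ} {r : ℝ} (h : χ 1 = r) : deg χ = r := by simp [deg, h]

theorem deg_eq_nat {χ : L → ℂ} {r : ℕ} (h : χ 1 = r) : deg χ = r := by simp [deg, h]

theorem _root_.Cfsg.IsCharacter.deg_pos {χ : L → ℂ} (h : IsCharacter L χ) (h0 : χ ≠ 0) :
    0 < deg χ := by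
  obtain ⟨n, hn⟩ := h.exists_degree
  rw [deg_eq_nat hn, Nat.cast_pos, Nat.pos_iff_ne_zero]
  rintro rfl
  exact h0 (h.eq_zero_of_apply_one (by simpa using hn))

theorem _root_.Cfsg.IsIrrCharacter.deg_pos {χ : L → ℂ} (h : IsIrrCharacter L χ) : 0 < deg χ :=
  h.isCharacter.deg_pos h.ne_zero

theorem _root_.Cfsg.IsCharacter.conjFun_one {χ : L → ℂ} (h : IsCharacter L χ) :
    conjFun χ 1 = χ 1 := h.conj_apply_one

theorem conjFun_injective {X : Type*} : Function.Injective (conjFun : (X → ℂ) → _) :=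
  fun a b h => by rw [← conjFun_conjFun a, h, conjFun_conjFun]

theorem conjFun_sub {X : Type*} (a b : X → ℂ) : conjFun (a - b) = conjFun a - conjFun b := by
  ext x; simp [conjFun]

theorem conjFun_add {X : Type*} (a b : X → ℂ) : conjFun (a + b) = conjFun a + conjFun b := by
  ext x; simp [conjFun]

theorem conjFun_neg {X : Type*} (a : X → ℂ) : conjFun (-a) = -conjFun a := by
  ext x; simp [conjFun]

theorem conjFun_smul {X : Type*} (c : ℂ) (a : X → ℂ) : conjFun (c • a) = conj c • conjFun a := by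
  ext x; simp [conjFun]

theorem conjFun_sum {X ι : Type*} (s : Finset ι) (f : ι → X → ℂ) :
    conjFun (∑ i ∈ s, f i) = ∑ i ∈ s, conjFun (f i) := by
  ext x; simp [conjFun, Finset.sum_apply]

theorem rip_conjFun [Fintype L] (a b : L → ℂ) : rip (conjFun a) (conjFun b) = rip a b :=
  rip_conj_conj a b

theorem rip_conjFun_left [Fintype L] (a b : L → ℂ) : rip (conjFun a) b = rip a (conjFun b) := by
  rw [← rip_conjFun, conjFun_conjFun]

theorem mem_span_of_vanish {S : Set (L → ℂ)} (h : ∀ χ ∈ S, ∃ n : ℤ, χ 1 = n) {α : L → ℂ}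
    (hα : α ∈ Submodule.span ℂ S) (h1 : α 1 = 0) : α ∈ Submodule.span ℂ (zspanOn S {1}ᶜ) := by
  by_cases e : ∀ χ ∈ S, χ 1 = 0
  · exact Submodule.span_mono
      (fun χ hχ => mem_zspanOn_one.2 ⟨Submodule.subset_span hχ, e χ hχ⟩) hα
  push Not at e
  obtain ⟨χ₀, h₀, h₁⟩ := e
  let P : (L → ℂ) →ₗ[ℂ] (L → ℂ) := χ₀ 1 • LinearMap.id - (LinearMap.proj 1).smulRight χ₀
  have hP : ∀ β, P β = χ₀ 1 • β - β 1 • χ₀ := fun β => rfl
  have : P α ∈ Submodule.span ℂ (zspanOn S {1}ᶜ) := by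
    refine (Submodule.span_le (p := (Submodule.span ℂ (zspanOn S {1}ᶜ)).comap P)).2 ?_ hα
    intro χ hχ
    refine Submodule.subset_span (mem_zspanOn_one.2 ⟨?_, by simp [hP, mul_comm]⟩)
    obtain ⟨m, hm⟩ := h χ hχ
    obtain ⟨n, hn⟩ := h χ₀ h₀
    rw [hP, hm, hn, Int.cast_smul_eq_zsmul, Int.cast_smul_eq_zsmul]
    exact Submodule.sub_mem _ (Submodule.smul_mem _ _ (Submodule.subset_span hχ))
      (Submodule.smul_mem _ _ (Submodule.subset_span h₀))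
  rw [hP, h1, zero_smul, sub_zero] at this
  exact (Submodule.smul_mem_iff _ h₁).1 this

section proj

variable [Fintype G]

/-- An orthonormal finite set of signed irreducible characters. -/
structure ON (R : Finset (G → ℂ)) : Prop where
  dirr : ∀ α ∈ R, IsDirr G α
  orth : ∀ α ∈ R, ∀ β ∈ R, α ≠ β → classInner α β = 0

open Classical in
theorem ON.ite {R : Finset (G → ℂ)} (h : ON R) :
    ∀ α ∈ R, ∀ β ∈ R, classInner (id α) (id β) =
      @_root_.ite _ (α = β) (Classical.propDecidable _) 1 0 := fun α hα β hβ => by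
  split_ifs with e
  · rw [← e]; exact (h.dirr α hα).classInner_self
  · exact h.orth α hα β hβ e

theorem ON.mono {R E : Finset (G → ℂ)} (h : ON R) (hE : E ⊆ R) : ON E :=
  ⟨fun α hα => h.dirr α (hE hα), fun α hα β hβ => h.orth α (hE hα) β (hE hβ)⟩

theorem ON.rip_sum {R : Finset (G → ℂ)} (h : ON R) : rip (∑ α ∈ R, α) (∑ α ∈ R, α) = R.card :=
  rip_sum_orthonormal R id h.ite

theorem ON.classInner_sum {R : Finset (G → ℂ)} (h : ON R) {β : G → ℂ} (hβ : β ∈ R) :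
    classInner (∑ α ∈ R, α) β = 1 := by
  simpa using classInner_sum_orthonormal R id h.ite (fun _ => 1) hβ

theorem ON.rip_sum_subset {R E : Finset (G → ℂ)} (h : ON R) (hE : E ⊆ R) :
    rip (∑ α ∈ R, α) (∑ α ∈ E, α) = E.card := by
  rw [rip_sum_right, Finset.sum_congr rfl fun β hβ => rip_eq_one (h.classInner_sum (hE hβ))]
  simp

theorem ON.isGen_sum {R : Finset (G → ℂ)} (h : ON R) : IsGeneralizedCharacter G (∑ α ∈ R, α) :=
  .sum fun α hα => (h.dirr α hα).isGen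

theorem ON.orth_of_sum {R : Finset (G → ℂ)} (h : ON R) {β : G → ℂ} (hβ : IsDirr G β)
    (h0 : classInner (∑ α ∈ R, α) β = 0) {α : G → ℂ} (hα : α ∈ R) : classInner α β = 0 := by
  rcases (h.dirr α hα).trichotomy hβ with rfl | rfl | e
  · rw [h.classInner_sum hα] at h0; exact (one_ne_zero h0).elim
  · have := h.classInner_sum hα
    rw [classInner_neg_right, h0] at this; simp at this
  · exact e

/-- Orthogonal projection on the span of an orthonormal set. -/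
noncomputable def proj (R : Finset (G → ℂ)) (Z : G → ℂ) : G → ℂ := ∑ α ∈ R, classInner Z α • α

theorem proj_orth {R : Finset (G → ℂ)} (Z : G → ℂ) {β : G → ℂ}
    (h : ∀ α ∈ R, classInner α β = 0) : classInner (proj R Z) β = 0 := by
  rw [proj, classInner_sum_left]
  exact Finset.sum_eq_zero fun α hα => by rw [classInner_smul_left, h α hα, mul_zero]

theorem orth_proj {R : Finset (G → ℂ)} (Z : G → ℂ) {β : G → ℂ}
    (h : ∀ α ∈ R, classInner β α = 0) : classInner β (proj R Z) = 0 :=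
  classInner_eq_zero_comm.1 (proj_orth Z fun α hα => classInner_eq_zero_comm.1 (h α hα))

theorem orth_sum_left {R : Finset (G → ℂ)} {β : G → ℂ} (h : ∀ α ∈ R, classInner α β = 0) :
    classInner (∑ α ∈ R, α) β = 0 := by
  rw [classInner_sum_left]; exact Finset.sum_eq_zero h

theorem orth_sum_right {R : Finset (G → ℂ)} {β : G → ℂ} (h : ∀ α ∈ R, classInner β α = 0) :
    classInner β (∑ α ∈ R, α) = 0 := by
  rw [classInner_sum_right]; exact Finset.sum_eq_zero h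

namespace ON

variable {R : Finset (G → ℂ)} (h : ON R) {Z : G → ℂ}
include h

theorem classInner_proj (Z : G → ℂ) {β : G → ℂ} (hβ : β ∈ R) :
    classInner (proj R Z) β = classInner Z β :=
  classInner_sum_orthonormal R id h.ite _ hβ

theorem sub_proj_orth (Z : G → ℂ) {β : G → ℂ} (hβ : β ∈ R) : classInner (Z - proj R Z) β = 0 := by
  rw [classInner_sub_left, h.classInner_proj Z hβ, sub_self]

theorem rip_proj (Z : G → ℂ) : rip Z (proj R Z) = rip (proj R Z) (proj R Z) := by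
  rw [← sub_eq_zero, ← rip_sub_left]
  exact rip_eq_zero (orth_proj Z fun _ => h.sub_proj_orth Z)

theorem rip_proj_self (Z : G → ℂ) :
    rip (proj R Z) (proj R Z) = ∑ α ∈ R, ‖classInner Z α‖ ^ 2 := by
  have h1 := rip_sub_sum_orthonormal R id h.ite Z
  change rip (Z - proj R Z) (Z - proj R Z) = _ at h1
  simp only [rip_sub_left, rip_sub_right, rip_comm (proj R Z) Z, h.rip_proj, id] at h1
  linarith

theorem rip_proj_le (Z : G → ℂ) : rip (proj R Z) (proj R Z) ≤ rip Z Z := by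
  rw [h.rip_proj_self]; exact bessel R id h.ite Z

theorem eq_proj (h1 : rip Z Z ≤ rip (proj R Z) (proj R Z)) : Z = proj R Z :=
  eq_sum_of_bessel R id h.ite Z (by rwa [h.rip_proj_self] at h1)

theorem isGen_proj (hZ : IsGeneralizedCharacter G Z) : IsGeneralizedCharacter G (proj R Z) :=
  .sum fun α hα => by
    obtain ⟨n, hn⟩ := hZ.classInner_eq_int (h.dirr α hα).isGen
    rw [hn]; exact (h.dirr α hα).isGen.intCast_smul n

theorem exists_coeff (hZ : IsGeneralizedCharacter G Z) : ∃ c : (G → ℂ) → ℤ,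
    (∀ α ∈ R, classInner Z α = c α) ∧ rip (proj R Z) (proj R Z) = ∑ α ∈ R, (c α : ℝ) ^ 2 ∧
    rip Z (∑ α ∈ R, α) = ∑ α ∈ R, (c α : ℝ) := by
  have : ∀ α, ∃ n : ℤ, α ∈ R → classInner Z α = n := fun α => by
    by_cases hα : α ∈ R
    · obtain ⟨n, hn⟩ := hZ.classInner_eq_int (h.dirr α hα).isGen
      exact ⟨n, fun _ => hn⟩
    · exact ⟨0, fun h => (hα h).elim⟩
  choose c hc using this
  refine ⟨c, hc, ?_, ?_⟩
  · rw [h.rip_proj_self]
    exact Finset.sum_congr rfl fun α hα => by rw [hc α hα, Complex.norm_intCast, sq_abs]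
  · rw [rip_sum_right]
    exact Finset.sum_congr rfl fun α hα => by rw [rip, hc α hα, Complex.intCast_re]

theorem le_rip_proj (hZ : IsGeneralizedCharacter G Z) :
    rip Z (∑ α ∈ R, α) ≤ rip (proj R Z) (proj R Z) := by
  obtain ⟨c, -, h1, h2⟩ := h.exists_coeff hZ
  rw [h1, h2]
  exact Finset.sum_le_sum fun α _ => int_le_sq _

theorem coeff_of_le (hZ : IsGeneralizedCharacter G Z)
    (hle : rip (proj R Z) (proj R Z) ≤ rip Z (∑ α ∈ R, α)) :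
    ∀ α ∈ R, classInner Z α = 0 ∨ classInner Z α = 1 := by
  obtain ⟨c, h0, h1, h2⟩ := h.exists_coeff hZ
  rw [h1, h2] at hle
  intro α hα
  have := (Finset.sum_eq_sum_iff_of_le fun α _ => int_le_sq (c α)).1
    (le_antisymm (Finset.sum_le_sum fun α _ => int_le_sq _) hle) α hα
  have h3 : c α * (c α - 1) = 0 := by
    have : (c α : ℝ) * (c α - 1) = 0 := by linear_combination -this
    exact_mod_cast this
  rw [h0 α hα]
  rcases mul_eq_zero.1 h3 with e | e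
  · simp [e]
  · simp [sub_eq_zero.1 e]

theorem exists_subset (hZ : IsGeneralizedCharacter G Z)
    (hle : rip (proj R Z) (proj R Z) ≤ rip Z (∑ α ∈ R, α)) :
    ∃ E ⊆ R, proj R Z = ∑ α ∈ E, α ∧ (E.card : ℝ) = rip Z (∑ α ∈ R, α) := by
  classical
  have e : proj R Z = ∑ α ∈ R with classInner Z α = 1, α := by
    rw [proj, Finset.sum_filter]
    exact Finset.sum_congr rfl fun α hα => by rcases h.coeff_of_le hZ hle α hα with e | e <;> simp [e]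
  refine ⟨_, Finset.filter_subset _ _, e, ?_⟩
  rw [← (h.mono (Finset.filter_subset _ _)).rip_sum, ← e]
  exact le_antisymm hle (h.le_rip_proj hZ)

end ON

theorem rip_add_le_of_orth {N X P : G → ℂ} (h1 : rip N X = rip X X) (h2 : rip N P = rip P P)
    (h3 : rip X P = 0) : rip X X + rip P P ≤ rip N N := by
  have := rip_self_nonneg (N - X - P)
  simp only [rip_sub_left, rip_sub_right, rip_comm X N, rip_comm P N, rip_comm P X] at this
  linarith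

theorem eq_add_of_orth {N X P : G → ℂ} (h1 : rip N X = rip X X) (h2 : rip N P = rip P P)
    (h3 : rip X P = 0) (h4 : rip N N ≤ rip X X + rip P P) : N = X + P := by
  have := eq_zero_of_rip_self_nonpos (φ := N - X - P) (by
    simp only [rip_sub_left, rip_sub_right, rip_comm X N, rip_comm P N, rip_comm P X]
    linarith)
  linear_combination this

theorem eq_of_rip_eq {X Y : G → ℂ} {r : ℝ} (h1 : rip X X ≤ r) (h2 : rip Y Y ≤ r) (h3 : r ≤ rip X Y) :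
    X = Y := by
  refine sub_eq_zero.1 (eq_zero_of_rip_self_nonpos ?_)
  simp only [rip_sub_left, rip_sub_right, rip_comm Y X]
  linarith

end proj

variable [Fintype L] [Fintype G]

/-- `ν` agrees with `τ` on the functions vanishing at `1`. -/
def IsExt (τ ν : (L → ℂ) →ₗ[ℂ] (G → ℂ)) : Prop := ∀ α, α 1 = 0 → ν α = τ α

omit [Fintype L] [Fintype G] [Group G] in
theorem exists_isExt (τ : (L → ℂ) →ₗ[ℂ] (G → ℂ)) {χ : L → ℂ} (h : χ 1 ≠ 0) (X : G → ℂ) :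
    ∃ ν, IsExt τ ν ∧ ν χ = X :=
  ⟨τ + (LinearMap.proj 1).smulRight ((χ 1)⁻¹ • (X - τ χ)), fun α hα => by simp [hα],
    by simp [smul_smul, h]⟩

omit [Fintype L] [Fintype G] [Group G] in
theorem IsExt.unique {τ ν ν' : (L → ℂ) →ₗ[ℂ] (G → ℂ)} (h : IsExt τ ν) (h' : IsExt τ ν')
    {χ : L → ℂ} (h1 : χ 1 ≠ 0) (e : ν χ = ν' χ) : ν = ν' := by
  refine LinearMap.ext fun α => ?_
  have h2 : (χ 1 • α - α 1 • χ) 1 = 0 := by simp [mul_comm]
  have h3 := (h _ h2).trans (h' _ h2).symm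
  rw [map_sub, map_sub, map_smul, map_smul, map_smul, map_smul, e, sub_left_inj] at h3
  exact smul_right_injective _ h1 h3

omit [Fintype L] [Fintype G] [Group G] in
theorem IsExt.sub {τ ν : (L → ℂ) →ₗ[ℂ] (G → ℂ)} (h : IsExt τ ν) {χ φ : L → ℂ} (h1 : χ 1 = φ 1) :
    τ (χ - φ) = ν χ - ν φ := by
  rw [← h _ (by simp [h1]), map_sub]

omit [Fintype L] [Fintype G] [Group G] in
theorem IsExt.sub_smul {τ ν : (L → ℂ) →ₗ[ℂ] (G → ℂ)} (h : IsExt τ ν) {χ φ : L → ℂ} {a : ℂ}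
    (h1 : χ 1 = a * φ 1) : τ (χ - a • φ) = ν χ - a • ν φ := by
  rw [← h _ (by simp [h1]), map_sub, map_smul]

omit [Fintype L] [Fintype G] [Group G] in
theorem IsExt.smul_sub_smul {τ ν : (L → ℂ) →ₗ[ℂ] (G → ℂ)} (h : IsExt τ ν) {χ φ : L → ℂ} {a b : ℂ}
    (h1 : b * χ 1 = a * φ 1) : τ (b • χ - a • φ) = b • ν χ - a • ν φ := by
  rw [← h _ (by simp [h1]), map_sub, map_smul, map_smul]

/-- `ν` is a coherent extension of `τ` to the span of `S`. -/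
structure CohWith (S : Set (L → ℂ)) (τ ν : (L → ℂ) →ₗ[ℂ] (G → ℂ)) : Prop where
  ext : IsExt τ ν
  iso : ∀ χ ∈ S, ∀ ψ ∈ S, classInner (ν χ) (ν ψ) = classInner χ ψ
  gen : ∀ χ ∈ S, IsGeneralizedCharacter G (ν χ)

/-- `S` is coherent for `τ`. -/
def Coh (S : Set (L → ℂ)) (τ : (L → ℂ) →ₗ[ℂ] (G → ℂ)) : Prop := ∃ ν, CohWith S τ ν

namespace CohWith

variable {S S' : Set (L → ℂ)} {τ ν : (L → ℂ) →ₗ[ℂ] (G → ℂ)} (h : CohWith S τ ν)
include h

theorem mono (hS : S' ⊆ S) : CohWith S' τ ν :=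
  ⟨h.ext, fun χ hχ ψ hψ => h.iso χ (hS hχ) ψ (hS hψ), fun χ hχ => h.gen χ (hS hχ)⟩

theorem rip_eq {χ ψ : L → ℂ} (hχ : χ ∈ S) (hψ : ψ ∈ S) : rip (ν χ) (ν ψ) = rip χ ψ := by
  rw [rip, h.iso χ hχ ψ hψ, rip]

theorem iso_span {α β : L → ℂ} (hα : α ∈ Submodule.span ℂ S) (hβ : β ∈ Submodule.span ℂ S) :
    classInner (ν α) (ν β) = classInner α β := isometry_span h.iso hα hβ

theorem rip_span {α β : L → ℂ} (hα : α ∈ Submodule.span ℂ S) (hβ : β ∈ Submodule.span ℂ S) :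
    rip (ν α) (ν β) = rip α β := by rw [rip, h.iso_span hα hβ, rip]

theorem gen_span {α : L → ℂ} (hα : α ∈ Submodule.span ℤ S) : IsGeneralizedCharacter G (ν α) :=
  isGen_span h.gen hα

theorem isDirr {χ : L → ℂ} (hχ : χ ∈ S) (hi : IsIrrCharacter L χ) : IsDirr G (ν χ) :=
  (h.gen χ hχ).isDirr (by rw [h.rip_eq hχ hχ, hi.rip_self])

theorem coh : Coh S τ := ⟨ν, h⟩

end CohWith

theorem Coh.mono {S S' : Set (L → ℂ)} {τ : (L → ℂ) →ₗ[ℂ] (G → ℂ)} (h : Coh S τ) (hS : S' ⊆ S) :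
    Coh S' τ := h.imp fun _ h => h.mono hS

theorem coh_empty (τ : (L → ℂ) →ₗ[ℂ] (G → ℂ)) : Coh ∅ τ :=
  ⟨τ, fun _ _ => rfl, by simp, by simp⟩

/-- `τ` is an integral isometry on the combinations of `S` vanishing at `1`. -/
structure IsoOn (S : Set (L → ℂ)) (τ : (L → ℂ) →ₗ[ℂ] (G → ℂ)) : Prop where
  char : ∀ χ ∈ S, IsCharacter L χ
  iso : ∀ α ∈ Submodule.span ℂ S, ∀ β ∈ Submodule.span ℂ S, α 1 = 0 → β 1 = 0 →
    classInner (τ α) (τ β) = classInner α β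
  gen : ∀ α ∈ Submodule.span ℤ S, α 1 = 0 → IsGeneralizedCharacter G (τ α)
  one : ∀ α ∈ Submodule.span ℂ S, α 1 = 0 → τ α 1 = 0

theorem sub_mem_span {R X : Type*} [Ring R] [AddCommGroup X] [Module R X] {S : Set X} {a b : X}
    (ha : a ∈ S) (hb : b ∈ S) : a - b ∈ Submodule.span R S :=
  Submodule.sub_mem _ (Submodule.subset_span ha) (Submodule.subset_span hb)

theorem sub_smul_mem_span {R X : Type*} [Ring R] [AddCommGroup X] [Module R X] {S : Set X} {a b : X}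
    (ha : a ∈ S) (hb : b ∈ S) (c : R) : a - c • b ∈ Submodule.span R S :=
  Submodule.sub_mem _ (Submodule.subset_span ha) (Submodule.smul_mem _ _ (Submodule.subset_span hb))

theorem smul_sub_smul_mem_span {R X : Type*} [Ring R] [AddCommGroup X] [Module R X] {S : Set X}
    {a b : X} (ha : a ∈ S) (hb : b ∈ S) (c d : R) : c • a - d • b ∈ Submodule.span R S :=
  Submodule.sub_mem _ (Submodule.smul_mem _ _ (Submodule.subset_span ha))
    (Submodule.smul_mem _ _ (Submodule.subset_span hb))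

theorem sub_natCast_smul_mem_span {X : Type*} {S : Set (X → ℂ)} {a b : X → ℂ}
    (ha : a ∈ S) (hb : b ∈ S) (c : ℕ) : a - (c : ℂ) • b ∈ Submodule.span ℤ S := by
  rw [Nat.cast_smul_eq_nsmul, ← natCast_zsmul]
  exact sub_smul_mem_span ha hb _

theorem exists_isoOn {S : Set (L → ℂ)} (hS : ∀ χ ∈ S, IsCharacter L χ) {τ : (L → ℂ) → G → ℂ}
    (hτ : IsLinearIsometryOn (zspanOn S {1}ᶜ) τ) (h1 : ∀ α ∈ zspanOn S {1}ᶜ, τ α 1 = 0) :
    ∃ T : (L → ℂ) →ₗ[ℂ] (G → ℂ), (∀ α ∈ zspanOn S {1}ᶜ, T α = τ α) ∧ IsoOn S T := by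
  obtain ⟨T, hT⟩ := exists_linear_of_isometry _ τ hτ.2.2.1
  have hd := fun χ hχ => (hS χ hχ).isGen.exists_degree
  refine ⟨T, hT, hS, fun α hα β hβ e e' => ?_, fun α hα e => ?_, fun α hα e => ?_⟩
  · exact isometry_span (fun χ hχ ψ hψ => by rw [hT χ hχ, hT ψ hψ, hτ.2.2.1 χ hχ ψ hψ])
      (mem_span_of_vanish hd hα e) (mem_span_of_vanish hd hβ e')
  · rw [hT α (mem_zspanOn_one.2 ⟨hα, e⟩)]
    exact hτ.2.2.2 α (mem_zspanOn_one.2 ⟨hα, e⟩)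
  · refine (Submodule.span_le (p := LinearMap.ker ((LinearMap.proj 1).comp T))).2 ?_
      (mem_span_of_vanish hd hα e)
    intro χ hχ
    change T χ 1 = 0
    rw [hT χ hχ, h1 χ hχ]

omit [Fintype G] in
theorem zspanOn_mono {S S' : Set (L → ℂ)} (h : S ⊆ S') : zspanOn S {1}ᶜ ⊆ zspanOn S' {1}ᶜ :=
  fun _ hα => ⟨Submodule.span_mono h hα.1, hα.2⟩

theorem Coh.isCoherent {S : Set (L → ℂ)} {T : (L → ℂ) →ₗ[ℂ] (G → ℂ)} (h : Coh S T)
    {τ : (L → ℂ) → G → ℂ} (hT : ∀ α ∈ zspanOn S {1}ᶜ, T α = τ α)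
    (hne : ∃ α ∈ zspanOn S {1}ᶜ, α ≠ 0) : IsCoherent S {1}ᶜ τ := by
  obtain ⟨ν, h⟩ := h
  exact ⟨hne, ν, ⟨fun α _ β _ => map_add ν α β, fun α _ n => map_zsmul ν n α,
    fun α hα β hβ => h.iso_span (mem_span_complex hα) (mem_span_complex hβ),
    fun α hα => h.gen_span hα⟩, fun α hα => (h.ext α (mem_zspanOn_one.1 hα).2).trans (hT α hα)⟩

theorem exists_cohWith_of_isometry {S : Set (L → ℂ)} (hS : ∀ χ ∈ S, IsCharacter L χ)
    {T : (L → ℂ) →ₗ[ℂ] (G → ℂ)} {τ₁ : (L → ℂ) → G → ℂ} (h1 : IsLinearIsometryOn (zspan S) τ₁)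
    (hT : ∀ α ∈ zspanOn S {1}ᶜ, τ₁ α = T α) : ∃ ν, CohWith S T ν ∧ ∀ α ∈ zspan S, ν α = τ₁ α := by
  obtain ⟨T₁, hT₁⟩ := exists_linear_of_isometry _ τ₁ h1.2.2.1
  have hd := fun χ hχ => (hS χ hχ).isGen.exists_degree
  have h2 : ∀ α ∈ Submodule.span ℂ S, α 1 = 0 → T₁ α = T α := fun α hα e =>
    LinearMap.eqOn_span (fun β hβ => (hT₁ β hβ.1).trans (hT β hβ)) (mem_span_of_vanish hd hα e)
  obtain ⟨ν, h3, h4⟩ : ∃ ν, IsExt T ν ∧ ∀ α ∈ Submodule.span ℂ S, ν α = T₁ α := by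
    by_cases e : ∀ χ ∈ S, χ 1 = 0
    · exact ⟨T, fun _ _ => rfl, fun α hα => LinearMap.eqOn_span
        (fun χ hχ => (h2 χ (Submodule.subset_span hχ) (e χ hχ)).symm) hα⟩
    push Not at e
    obtain ⟨χ₀, h₀, h₁⟩ := e
    obtain ⟨ν, h3, h4⟩ := exists_isExt T h₁ (T₁ χ₀)
    refine ⟨ν, h3, fun α hα => ?_⟩
    have h5 : (χ₀ 1 • α - α 1 • χ₀) 1 = 0 := by simp [mul_comm]
    have h6 := (h3 _ h5).trans (h2 _ (Submodule.sub_mem _ (Submodule.smul_mem _ _ hα)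
      (Submodule.smul_mem _ _ (Submodule.subset_span h₀))) h5).symm
    rw [map_sub, map_sub, map_smul, map_smul, map_smul, map_smul, h4, sub_left_inj] at h6
    exact smul_right_injective _ h₁ h6
  have h5 : ∀ α ∈ zspan S, ν α = τ₁ α := fun α hα => (h4 α (mem_span_complex hα)).trans (hT₁ α hα)
  have h6 : S ⊆ zspan S := fun _ h => Submodule.subset_span h
  exact ⟨ν, ⟨h3, fun χ hχ ψ hψ => by
    rw [h5 χ (h6 hχ), h5 ψ (h6 hψ), h1.2.2.1 χ (h6 hχ) ψ (h6 hψ)],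
    fun χ hχ => h5 χ (h6 hχ) ▸ h1.2.2.2 χ (h6 hχ)⟩, h5⟩

theorem coh_of_isCoherent {S : Set (L → ℂ)} (hS : ∀ χ ∈ S, IsCharacter L χ)
    {T : (L → ℂ) →ₗ[ℂ] (G → ℂ)} {τ : (L → ℂ) → G → ℂ} (hT : ∀ α ∈ zspanOn S {1}ᶜ, T α = τ α)
    (h : IsCoherent S {1}ᶜ τ) : Coh S T := by
  obtain ⟨-, τ₁, h1, h2⟩ := h
  obtain ⟨ν, h, -⟩ := exists_cohWith_of_isometry hS h1 fun α hα => (h2 α hα).trans (hT α hα).symm
  exact ⟨ν, h⟩

namespace IsoOn

variable {S S₁ : Set (L → ℂ)} {τ ν : (L → ℂ) →ₗ[ℂ] (G → ℂ)} (h : IsoOn S τ)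
include h

theorem mono (hS : S₁ ⊆ S) : IsoOn S₁ τ :=
  ⟨fun χ hχ => h.char χ (hS hχ),
    fun α hα β hβ => h.iso α (Submodule.span_mono hS hα) β (Submodule.span_mono hS hβ),
    fun α hα => h.gen α (Submodule.span_mono hS hα), fun α hα => h.one α (Submodule.span_mono hS hα)⟩

theorem isometryOn : IsLinearIsometryOn (zspanOn S {1}ᶜ) τ :=
  ⟨fun α _ β _ => map_add τ α β, fun α _ n => map_zsmul τ n α,
    fun α hα β hβ => h.iso α (mem_span_complex hα.1) β (mem_span_complex hβ.1)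
      (mem_zspanOn_one.1 hα).2 (mem_zspanOn_one.1 hβ).2,
    fun α hα => h.gen α hα.1 (mem_zspanOn_one.1 hα).2⟩

theorem iso_ext (hν : IsExt τ ν) {α β : L → ℂ} (hα : α ∈ Submodule.span ℂ S)
    (hβ : β ∈ Submodule.span ℂ S) (h1 : α 1 = 0) (h2 : β 1 = 0) :
    classInner (ν α) (ν β) = classInner α β := by
  rw [hν α h1, hν β h2, h.iso α hα β hβ h1 h2]

theorem rip_ext (hν : IsExt τ ν) {α β : L → ℂ} (hα : α ∈ Submodule.span ℂ S)
    (hβ : β ∈ Submodule.span ℂ S) (h1 : α 1 = 0) (h2 : β 1 = 0) : rip (ν α) (ν β) = rip α β := by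
  rw [rip, h.iso_ext hν hα hβ h1 h2, rip]

theorem rip_eq {α β : L → ℂ} (hα : α ∈ Submodule.span ℂ S)
    (hβ : β ∈ Submodule.span ℂ S) (h1 : α 1 = 0) (h2 : β 1 = 0) : rip (τ α) (τ β) = rip α β :=
  h.rip_ext (fun _ _ => rfl) hα hβ h1 h2

/-- Degrees are multiplied by a constant under an extension. -/
theorem ext_one (hν : IsExt τ ν) {α β : L → ℂ} (hα : α ∈ Submodule.span ℂ S)
    (hβ : β ∈ Submodule.span ℂ S) : β 1 * ν α 1 = α 1 * ν β 1 := by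
  have h5 : (β 1 • α - α 1 • β) 1 = 0 := by simp [mul_comm]
  have := h.one _ (Submodule.sub_mem _ (Submodule.smul_mem _ _ hα) (Submodule.smul_mem _ _ hβ)) h5
  rw [← hν _ h5] at this
  simpa [sub_eq_zero] using this

theorem gen_ext (hν : IsExt τ ν) {χ φ : L → ℂ} (hχ : χ ∈ S) (hφ : φ ∈ S) {a : ℕ}
    (h1 : χ 1 = a * φ 1) (hg : IsGeneralizedCharacter G (ν φ)) : IsGeneralizedCharacter G (ν χ) := by
  have := (h.gen _ (sub_natCast_smul_mem_span hχ hφ a) (by simp [h1])).add (hg.natCast_smul a)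
  rwa [hν.sub_smul h1, sub_add_cancel] at this

/-- It is enough to check the inner products with one element of non-zero degree. -/
theorem pivot (hS : S₁ ⊆ S) (hν : IsExt τ ν) {χ₀ : L → ℂ} (h₀ : χ₀ ∈ Submodule.span ℂ S)
    (h₁ : χ₀ 1 ≠ 0) (h₂ : classInner (ν χ₀) (ν χ₀) = classInner χ₀ χ₀)
    (h₃ : ∀ χ ∈ S₁, IsGeneralizedCharacter G (ν χ) ∧ classInner (ν χ) (ν χ₀) = classInner χ χ₀) :
    CohWith S₁ τ ν := by
  refine ⟨hν, fun χ hχ ψ hψ => ?_, fun χ hχ => (h₃ χ hχ).1⟩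
  have h4 : ∀ χ ∈ S₁, χ₀ 1 • χ - χ 1 • χ₀ ∈ Submodule.span ℂ S := fun χ hχ =>
    Submodule.sub_mem _ (Submodule.smul_mem _ _ (Submodule.subset_span (hS hχ)))
      (Submodule.smul_mem _ _ h₀)
  have h5 := h.iso_ext hν (h4 χ hχ) (h4 ψ hψ) (by simp [mul_comm]) (by simp [mul_comm])
  have h6 : classInner (ν χ₀) (ν ψ) = classInner χ₀ ψ := by
    rw [← conj_classInner, (h₃ ψ hψ).2, conj_classInner]
  simp only [map_sub, map_smul, classInner_sub_left, classInner_sub_right, classInner_smul_left,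
    classInner_smul_right, h₂, (h₃ χ hχ).2, h6] at h5
  have h7 : conj (χ₀ 1) ≠ 0 := by simpa using h₁
  refine mul_left_cancel₀ h₁ (mul_left_cancel₀ h7 ?_)
  linear_combination h5

/-- If `ν` is coherent on `S₁`, then the inner products of `ν χ` with `ν S₁` are proportional to the
degrees. -/
theorem inner_prop (hS : S₁ ⊆ S) (hν : CohWith S₁ τ ν) {χ φ ψ : L → ℂ}
    (hχ : χ ∈ Submodule.span ℂ S) (hφ : φ ∈ S₁) (hψ : ψ ∈ S₁) (h0 : ψ 1 ≠ 0)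
    (h1 : classInner χ φ = 0) (h2 : classInner χ ψ = 0) :
    ψ 1 * classInner (ν χ) (ν φ) = φ 1 * classInner (ν χ) (ν ψ) := by
  have h5 := h.iso_ext hν.ext (α := ψ 1 • χ - χ 1 • ψ) (β := ψ 1 • φ - φ 1 • ψ)
    (Submodule.sub_mem _ (Submodule.smul_mem _ _ hχ)
      (Submodule.smul_mem _ _ (Submodule.subset_span (hS hψ))))
    (smul_sub_smul_mem_span (hS hφ) (hS hψ) _ _) (by simp [mul_comm]) (by simp [mul_comm])
  simp only [map_sub, map_smul, classInner_sub_left, classInner_sub_right, classInner_smul_left,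
    classInner_smul_right, hν.iso _ hψ _ hφ, hν.iso _ hψ _ hψ, h1, h2,
    (h.char _ (hS hφ)).conj_apply_one, (h.char _ (hS hψ)).conj_apply_one] at h5
  refine mul_left_cancel₀ h0 ?_
  linear_combination h5

end IsoOn

/-- Conjugation-closed subsets. -/
structure ConjSub (S₁ S : Set (L → ℂ)) : Prop where
  sub : S₁ ⊆ S
  cj : ∀ χ ∈ S₁, conjFun χ ∈ S₁

omit [Group L] [Fintype L] in
theorem ConjSub.conj_not_mem {S₁ S : Set (L → ℂ)} (h : ConjSub S₁ S) {χ : L → ℂ} (hχ : χ ∉ S₁) :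
    conjFun χ ∉ S₁ := fun e => hχ (conjFun_conjFun χ ▸ h.cj _ e)

omit [Group L] [Fintype L] in
theorem ConjSub.union {S₁ S₂ S : Set (L → ℂ)} (h : ConjSub S₁ S) (h' : ConjSub S₂ S) :
    ConjSub (S₁ ∪ S₂) S :=
  ⟨Set.union_subset h.sub h'.sub, fun χ hχ => hχ.imp (h.cj χ) (h'.cj χ)⟩

omit [Group L] [Fintype L] in
theorem ConjSub.diff {S₁ S₂ S : Set (L → ℂ)} (h : ConjSub S₁ S) (h' : ConjSub S₂ S) :
    ConjSub (S₁ \ S₂) S :=
  ⟨Set.diff_subset.trans h.sub, fun χ hχ => ⟨h.cj χ hχ.1, h'.conj_not_mem hχ.2⟩⟩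

omit [Group L] [Fintype L] in
theorem ConjSub.trans {S₁ S₂ S : Set (L → ℂ)} (h : ConjSub S₁ S₂) (h' : S₂ ⊆ S) : ConjSub S₁ S :=
  ⟨h.sub.trans h', h.cj⟩

/-- Hypothesis (5.2) for a linear map `τ`. -/
structure CohSys (S : Set (L → ℂ)) (τ : (L → ℂ) →ₗ[ℂ] (G → ℂ))
    (R : (L → ℂ) → Finset (G → ℂ)) : Prop extends IsoOn S τ where
  conj_mem : ∀ χ ∈ S, conjFun χ ∈ S
  conj_ne : ∀ χ ∈ S, conjFun χ ≠ χ
  orth : ∀ χ ∈ S, ∀ φ ∈ S, χ ≠ φ → classInner χ φ = 0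
  on : ∀ χ ∈ S, ON (R χ)
  sum_eq : ∀ χ ∈ S, τ (χ - conjFun χ) = ∑ α ∈ R χ, α
  disj : ∀ χ ∈ S, ∀ φ ∈ S, φ ≠ χ → φ ≠ conjFun χ → ∀ α ∈ R φ, ∀ β ∈ R χ, classInner α β = 0

theorem _root_.Cfsg.IsCoherenceSystem.exists_cohSys {S : Set (L → ℂ)} {τ : (L → ℂ) → G → ℂ}
    {R : (L → ℂ) → Finset (G → ℂ)} (h : IsCoherenceSystem S τ R) :
    ∃ T : (L → ℂ) →ₗ[ℂ] (G → ℂ), (∀ α ∈ zspanOn S {1}ᶜ, T α = τ α) ∧ CohSys S T R := by
  obtain ⟨T, hT, h1⟩ := exists_isoOn h.isCharacter h.isometry h.map_one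
  refine ⟨T, hT, h1, h.conj_mem, h.conj_ne, h.orthogonal, fun χ hχ => ⟨fun α hα => ?_,
    fun α hα β hβ e => by rw [h.orthonormal χ hχ α hα β hβ, if_neg e]⟩, fun χ hχ => ?_,
    fun χ hχ φ hφ e e' => h.disjoint χ hχ φ hφ (h.orthogonal φ hφ χ hχ e)
      (h.orthogonal φ hφ _ (h.conj_mem χ hχ) e')⟩
  · exact (h.virtual χ hχ α hα).isDirr (rip_eq_one (by rw [h.orthonormal χ hχ α hα α hα, if_pos rfl]))
  · rw [hT _ (mem_zspanOn_one.2 ⟨sub_mem_span hχ (h.conj_mem χ hχ),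
      by simp [(h.isCharacter χ hχ).conjFun_one]⟩), h.sum_eq χ hχ]

namespace CohSys

variable {S S₁ S₂ : Set (L → ℂ)} {τ ν ν₁ ν₂ : (L → ℂ) →ₗ[ℂ] (G → ℂ)} {R : (L → ℂ) → Finset (G → ℂ)}
  (h : CohSys S τ R)
include h

theorem conjSub : ConjSub S S := ⟨subset_rfl, h.conj_mem⟩

theorem mono (hS : ConjSub S₁ S) : CohSys S₁ τ R :=
  ⟨h.toIsoOn.mono hS.sub, hS.cj, fun χ hχ => h.conj_ne χ (hS.sub hχ),
    fun χ hχ φ hφ => h.orth χ (hS.sub hχ) φ (hS.sub hφ), fun χ hχ => h.on χ (hS.sub hχ),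
    fun χ hχ => h.sum_eq χ (hS.sub hχ), fun χ hχ φ hφ => h.disj χ (hS.sub hχ) φ (hS.sub hφ)⟩

theorem conjSub_pair {χ : L → ℂ} (hχ : χ ∈ S) : ConjSub {χ, conjFun χ} S :=
  ⟨by rintro _ (rfl | rfl); exacts [hχ, h.conj_mem χ hχ], by rintro _ (rfl | rfl) <;> simp⟩

theorem ne_zero {χ : L → ℂ} (hχ : χ ∈ S) : χ ≠ 0 := by
  rintro rfl
  exact h.conj_ne 0 hχ (funext fun x => by simp [conjFun])

theorem one_ne_zero {χ : L → ℂ} (hχ : χ ∈ S) : χ 1 ≠ 0 :=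
  fun e => h.ne_zero hχ ((h.char χ hχ).eq_zero_of_apply_one e)

theorem deg_pos {χ : L → ℂ} (hχ : χ ∈ S) : 0 < deg χ := (h.char χ hχ).deg_pos (h.ne_zero hχ)

theorem rip_pos {χ : L → ℂ} (hχ : χ ∈ S) : 0 < rip χ χ := rip_self_pos (h.ne_zero hχ)

theorem rip_orth {χ φ : L → ℂ} (hχ : χ ∈ S) (hφ : φ ∈ S) (e : χ ≠ φ) : rip χ φ = 0 :=
  rip_eq_zero (h.orth χ hχ φ hφ e)

theorem conj_one {χ : L → ℂ} (hχ : χ ∈ S) : conjFun χ 1 = χ 1 := (h.char χ hχ).conjFun_one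

theorem rip_conj {χ : L → ℂ} (hχ : χ ∈ S) : rip χ (conjFun χ) = 0 :=
  h.rip_orth hχ (h.conj_mem χ hχ) (h.conj_ne χ hχ).symm

theorem exists_ne_zero (hS : ConjSub S₁ S) (hne : S₁.Nonempty) : ∃ α ∈ zspanOn S₁ {1}ᶜ, α ≠ 0 := by
  obtain ⟨χ, hχ⟩ := hne
  exact ⟨χ - conjFun χ, mem_zspanOn_one.2 ⟨sub_mem_span hχ (hS.cj χ hχ),
    by simp [h.conj_one (hS.sub hχ)]⟩, sub_ne_zero.2 (h.conj_ne χ (hS.sub hχ)).symm⟩

theorem isCoherenceSystem (hne : S.Nonempty) {τ' : (L → ℂ) → G → ℂ}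
    (hT : ∀ α ∈ zspanOn S {1}ᶜ, τ α = τ' α) (hτ' : IsLinearIsometryOn (zspanOn S {1}ᶜ) τ') :
    IsCoherenceSystem S τ' R where
  nonempty := hne
  isCharacter := h.char
  conj_mem := h.conj_mem
  conj_ne := h.conj_ne
  isometry := hτ'
  map_one α hα := hT α hα ▸ h.one α (mem_span_complex hα.1) (mem_zspanOn_one.1 hα).2
  orthogonal := h.orth
  orthonormal χ hχ α hα β hβ := by convert (h.on χ hχ).ite α hα β hβ <;> rfl
  virtual χ hχ α hα := ((h.on χ hχ).dirr α hα).isGen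
  sum_eq χ hχ := by
    rw [← hT _ (mem_zspanOn_one.2 ⟨sub_mem_span hχ (h.conj_mem χ hχ), by simp [h.conj_one hχ]⟩),
      h.sum_eq χ hχ]
  disjoint χ hχ φ hφ e e' := h.disj χ hχ φ hφ
    (by rintro rfl; exact h.ne_zero hφ (classInner_self_eq_zero.1 e))
    (by rintro rfl; exact h.ne_zero hφ (classInner_self_eq_zero.1 e'))

theorem ext_sum (hν : IsExt τ ν) {χ : L → ℂ} (hχ : χ ∈ S) :
    ∑ α ∈ R χ, α = ν χ - ν (conjFun χ) := by
  rw [← h.sum_eq χ hχ, hν.sub (h.conj_one hχ).symm]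

theorem card_R {χ : L → ℂ} (hχ : χ ∈ S) : ((R χ).card : ℝ) = 2 * rip χ χ := by
  have h1 := sub_mem_span (R := ℂ) hχ (h.conj_mem χ hχ)
  have h2 : (χ - conjFun χ) 1 = 0 := by simp [h.conj_one hχ]
  rw [← (h.on χ hχ).rip_sum, ← h.sum_eq χ hχ, h.rip_eq h1 h1 h2 h2]
  simp only [rip_sub_left, rip_sub_right, rip_conjFun, rip_comm (conjFun χ) χ, h.rip_conj hχ]
  ring

/-- The inner product of `τ (χ - ψ)` with the sum of `R χ`. -/
theorem rip_sum_R {χ ψ : L → ℂ} (hχ : χ ∈ S) (hψ : ψ ∈ Submodule.span ℂ S) (h1 : χ 1 = ψ 1)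
    (h2 : rip ψ χ = 0) (h3 : rip ψ (conjFun χ) = 0) :
    rip (τ (χ - ψ)) (∑ α ∈ R χ, α) = rip χ χ := by
  rw [← h.sum_eq χ hχ, h.rip_eq (Submodule.sub_mem _ (Submodule.subset_span hχ) hψ)
    (sub_mem_span hχ (h.conj_mem χ hχ)) (by simp [h1]) (by simp [h.conj_one hχ])]
  simp [h2, h3, h.rip_conj hχ]

/-- Peterfalvi 5.5. -/
theorem exists_sum (hS : ConjSub S₁ S) (hν : CohWith S₁ τ ν) {χ : L → ℂ} (hχ : χ ∈ S₁) :
    ∃ E ⊆ R χ, ν χ = ∑ α ∈ E, α ∧ (E.card : ℝ) = rip χ χ := by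
  have hR := h.on χ (hS.sub hχ)
  have h1 : rip (ν χ) (∑ α ∈ R χ, α) = rip χ χ := by
    rw [h.ext_sum hν.ext (hS.sub hχ), rip_sub_right, hν.rip_eq hχ hχ, hν.rip_eq hχ (hS.cj χ hχ),
      h.rip_conj (hS.sub hχ), sub_zero]
  have h2 := hR.rip_proj_le (ν χ)
  have h3 := hR.le_rip_proj (hν.gen χ hχ)
  rw [hν.rip_eq hχ hχ] at h2
  obtain ⟨E, hE, h4, h5⟩ := hR.exists_subset (hν.gen χ hχ) (h1 ▸ h2)
  refine ⟨E, hE, ?_, h5.trans h1⟩
  rw [← h4]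
  exact hR.eq_proj (by rw [hν.rip_eq hχ hχ, ← h1]; exact h3)

theorem orth_of_R (hS : ConjSub S₁ S) (hν : CohWith S₁ τ ν) {χ : L → ℂ} (hχ : χ ∈ S₁)
    {β : G → ℂ} (hβ : ∀ α ∈ R χ, classInner α β = 0) : classInner (ν χ) β = 0 := by
  obtain ⟨E, hE, e, -⟩ := h.exists_sum hS hν hχ
  rw [e]
  exact orth_sum_left fun α hα => hβ α (hE hα)

theorem orth_R (hS : ConjSub S₁ S) (hν : CohWith S₁ τ ν) {χ φ : L → ℂ} (hχ : χ ∈ S₁) (hφ : φ ∈ S)
    (hφ₁ : φ ∉ S₁) {β : G → ℂ} (hβ : β ∈ R φ) : classInner (ν χ) β = 0 :=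
  h.orth_of_R hS hν hχ fun α hα => h.disj φ hφ χ (hS.sub hχ) (by rintro rfl; exact hφ₁ hχ)
    (by rintro rfl; exact hS.conj_not_mem hφ₁ hχ) α hα β hβ

/-- If `ν χ` is a signed irreducible character orthogonal to `τ (χ - conj χ)`-orthogonal things. -/
theorem orth_of_tau (hS : ConjSub S₁ S) (hν : CohWith S₁ τ ν) {χ : L → ℂ} (hχ : χ ∈ S₁)
    {β : G → ℂ} (hβ : IsDirr G β) (h0 : classInner (τ (χ - conjFun χ)) β = 0) :
    classInner (ν χ) β = 0 :=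
  h.orth_of_R hS hν hχ fun _ hα =>
    (h.on χ (hS.sub hχ)).orth_of_sum hβ (h.sum_eq χ (hS.sub hχ) ▸ h0) hα

theorem orth_coh (hS₁ : ConjSub S₁ S) (hν₁ : CohWith S₁ τ ν₁) (hS₂ : ConjSub S₂ S)
    (hν₂ : CohWith S₂ τ ν₂) {χ φ : L → ℂ} (hχ : χ ∈ S₁) (hφ : φ ∈ S₂) (hφ₁ : φ ∉ S₁) :
    classInner (ν₁ χ) (ν₂ φ) = 0 :=
  classInner_eq_zero_comm.1 (h.orth_of_R hS₂ hν₂ hφ fun _ hα =>
    classInner_eq_zero_comm.1 (h.orth_R hS₁ hν₁ hχ (hS₂.sub hφ) hφ₁ hα))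

theorem union (hS₁ : ConjSub S₁ S) (hν₁ : CohWith S₁ τ ν) (hS₂ : ConjSub S₂ S)
    (hν₂ : CohWith S₂ τ ν) : CohWith (S₁ ∪ S₂) τ ν := by
  have key : ∀ χ ∈ S₁, ∀ φ ∈ S₂, classInner (ν χ) (ν φ) = classInner χ φ := fun χ hχ φ hφ => by
    by_cases e : φ ∈ S₁
    · exact hν₁.iso χ hχ φ e
    · rw [h.orth_coh hS₁ hν₁ hS₂ hν₂ hχ hφ e,
        h.orth χ (hS₁.sub hχ) φ (hS₂.sub hφ) (by rintro rfl; exact e hχ)]
  refine ⟨hν₁.ext, ?_, fun χ hχ => hχ.elim (hν₁.gen χ) (hν₂.gen χ)⟩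
  rintro χ (hχ | hχ) φ (hφ | hφ)
  · exact hν₁.iso χ hχ φ hφ
  · exact key χ hχ φ hφ
  · rw [← conj_classInner, key φ hφ χ hχ, conj_classInner]
  · exact hν₂.iso χ hχ φ hφ

/-- Two coherent subsets are glued along one relation. -/
theorem bridge (hS₁ : ConjSub S₁ S) (hν₁ : CohWith S₁ τ ν₁) (hS₂ : ConjSub S₂ S)
    (hν₂ : CohWith S₂ τ ν₂) {χ φ : L → ℂ} (h0 : χ 1 ≠ 0) (h1 : χ 1 = φ 1)
    (e : τ (χ - φ) = ν₁ χ - ν₂ φ) : CohWith (S₁ ∪ S₂) τ ν₁ := by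
  obtain rfl : ν₁ = ν₂ := hν₁.ext.unique hν₂.ext h0 (by rwa [hν₂.ext.sub h1, sub_left_inj, eq_comm] at e)
  exact h.union hS₁ hν₁ hS₂ hν₂

theorem extend (hS : ConjSub S₁ S) (hν : CohWith S₁ τ ν) {χ φ : L → ℂ} (hχ : χ ∈ S) (hχ₁ : χ ∉ S₁)
    (hφ : φ ∈ S₁) (hg : IsGeneralizedCharacter G (ν χ)) (h0 : classInner (ν χ) (ν φ) = 0) :
    CohWith (S₁ ∪ {χ, conjFun χ}) τ ν := by
  have h1 : ν (conjFun χ) = ν χ - ∑ α ∈ R χ, α := by rw [h.ext_sum hν.ext hχ]; abel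
  refine h.pivot (hS.union (h.conjSub_pair hχ)).sub hν.ext (Submodule.subset_span (hS.sub hφ))
    (h.one_ne_zero (hS.sub hφ)) (hν.iso φ hφ φ hφ) ?_
  rintro ψ (hψ | rfl | rfl)
  · exact ⟨hν.gen ψ hψ, hν.iso ψ hψ φ hφ⟩
  · exact ⟨hg, by rw [h0, h.orth ψ hχ φ (hS.sub hφ) (by rintro rfl; exact hχ₁ hφ)]⟩
  · refine ⟨h1 ▸ hg.sub (h.on χ hχ).isGen_sum, ?_⟩
    rw [h1, classInner_sub_left, h0, h.orth _ (h.conj_mem χ hχ) φ (hS.sub hφ)
      (by rintro rfl; exact hS.conj_not_mem hχ₁ hφ),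
      orth_sum_left fun α hα => classInner_eq_zero_comm.1 (h.orth_R hS hν hφ hχ hχ₁ hα), sub_zero]

/-- The weighted sum of a finite subset. -/
theorem rip_wsum {T : Finset (L → ℂ)} (hT : ↑T ⊆ S) (c : (L → ℂ) → ℝ) {ψ : L → ℂ} (hψ : ψ ∈ T) :
    rip (∑ φ ∈ T, (c φ : ℂ) • φ) ψ = c ψ * rip ψ ψ := by
  rw [rip_sum_left, Finset.sum_eq_single_of_mem ψ hψ fun φ hφ e => by
    rw [rip_real_smul_left, h.rip_orth (hT hφ) (hT hψ) e, mul_zero], rip_real_smul_left]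

theorem rip_wsum_self {T : Finset (L → ℂ)} (hT : ↑T ⊆ S) :
    rip (∑ φ ∈ T, ((deg φ / rip φ φ : ℝ) : ℂ) • φ) (∑ φ ∈ T, ((deg φ / rip φ φ : ℝ) : ℂ) • φ) =
      ∑ φ ∈ T, deg φ ^ 2 / rip φ φ := by
  rw [rip_sum_right]
  refine Finset.sum_congr rfl fun ψ hψ => ?_
  rw [rip_real_smul_right, h.rip_wsum hT _ hψ]
  have := (h.rip_pos (hT hψ)).ne'
  field_simp

/-- Peterfalvi 5.6. -/
theorem extend_coh (hS : ConjSub S₁ S) (hν : CohWith S₁ τ ν) {χ χ₁ : L → ℂ} (hχ : χ ∈ S)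
    (hχ₁ : χ ∉ S₁) (h₁ : χ₁ ∈ S₁) {a : ℕ} (ha : χ 1 = a * χ₁ 1) {T : Finset (L → ℂ)} (hT : ↑T ⊆ S₁)
    (hlt : 2 * deg χ * deg χ₁ < ∑ φ ∈ T, deg φ ^ 2 / rip φ φ) :
    CohWith (S₁ ∪ {χ, conjFun χ}) τ ν := by
  have hg := h.gen_ext hν.ext hχ (hS.sub h₁) ha (hν.gen _ h₁)
  refine h.extend hS hν hχ hχ₁ h₁ hg ?_
  obtain ⟨t, ht⟩ := hg.classInner_eq_int (hν.gen _ h₁)
  have ho : ∀ φ ∈ S₁, classInner χ φ = 0 := fun φ hφ =>
    h.orth χ hχ φ (hS.sub hφ) (by rintro rfl; exact hχ₁ hφ)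
  have hd₁ := h.deg_pos (hS.sub h₁)
  have hda : deg χ = a * deg χ₁ := by simp [deg, ha]
  have h2 : ∀ φ ∈ S₁, rip (ν χ) (ν φ) = deg φ * t / deg χ₁ := fun φ hφ => by
    have := h.inner_prop hS.sub hν (Submodule.subset_span hχ) hφ h₁ (h.one_ne_zero (hS.sub h₁))
      (ho φ hφ) (ho _ h₁)
    rw [ht, ← (h.char _ (hS.sub h₁)).coe_deg, ← (h.char _ (hS.sub hφ)).coe_deg] at this
    have := congrArg Complex.re this
    rw [eq_div_iff hd₁.ne', mul_comm]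
    simpa [rip] using this
  have hm := sub_smul_mem_span (R := ℂ) hχ (hS.sub h₁) a
  have h0 : (χ - (a : ℂ) • χ₁) 1 = 0 := by simp [ha]
  have h3 := h.rip_ext hν.ext hm hm h0 h0
  have h4 := h.rip_sum_R hχ (Submodule.smul_mem _ (a : ℂ) (Submodule.subset_span (hS.sub h₁)))
    (by simp [ha]) (by simp [rip_comm χ₁, rip_eq_zero (ho _ h₁)])
    (by rw [rip_natCast_smul_left, ← rip_conjFun_left, rip_comm, rip_eq_zero (ho _ (hS.cj _ h₁)), mul_zero])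
  have hR := h.on χ hχ
  rw [hν.ext.sub_smul ha, rip_sub_left, rip_natCast_smul_left,
    rip_eq_zero (orth_sum_right fun α => h.orth_R hS hν h₁ hχ hχ₁), mul_zero, sub_zero] at h4
  have h5 := hR.le_rip_proj hg
  simp only [map_sub, map_smul, rip_sub_left, rip_sub_right, rip_natCast_smul_left,
    rip_natCast_smul_right, rip_comm (ν χ₁) (ν χ), rip_comm χ₁ χ, rip_eq_zero (ho _ h₁),
    hν.rip_eq h₁ h₁, h2 _ h₁, mul_div_cancel_left₀ _ hd₁.ne'] at h3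
  set s := ∑ φ ∈ T, deg φ ^ 2 / rip φ φ with hs
  set ψ := ∑ φ ∈ T, ((deg φ / rip φ φ : ℝ) : ℂ) • φ with hψ
  have hψm : ψ ∈ Submodule.span ℂ S₁ :=
    Submodule.sum_mem _ fun φ hφ => Submodule.smul_mem _ _ (Submodule.subset_span (hT hφ))
  have h6 : rip (ν ψ) (ν ψ) = s := by rw [hν.rip_span hψm hψm, h.rip_wsum_self (hT.trans hS.sub)]
  have h7 : rip (ν χ) (ν ψ) = t / deg χ₁ * s := by
    rw [hψ, map_sum, rip_sum_right, hs, Finset.mul_sum]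
    refine Finset.sum_congr rfl fun φ hφ => ?_
    rw [map_smul, rip_real_smul_right, h2 φ (hT hφ)]
    ring
  have h8 := rip_add_le_of_orth (P := ((t / deg χ₁ : ℝ) : ℂ) • ν ψ) (hR.rip_proj (ν χ))
    (by simp only [rip_real_smul_left, rip_real_smul_right, h6, h7])
    (by
      rw [rip_real_smul_right, rip_eq_zero (proj_orth _ fun α hα => classInner_eq_zero_comm.1
        (orth_map_span_left (fun φ hφ => h.orth_R hS hν hφ hχ hχ₁ hα) hψm)), mul_zero])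
  simp only [rip_real_smul_left, rip_real_smul_right, h6] at h8
  have h9 : (t : ℝ) ^ 2 * s ≤ 2 * deg χ * deg χ₁ * t := by
    have : t / deg χ₁ * (t / deg χ₁ * s) ≤ 2 * a * t := by linarith
    rw [hda]
    field_simp at this
    nlinarith
  rw [ht]
  by_contra h10
  have h11 : (t : ℝ) ≠ 0 := by simpa using h10
  have h12 := int_le_sq t
  have h13 : 0 < (t : ℝ) ^ 2 := by positivity
  have h14 := h.deg_pos hχ
  nlinarith [mul_pos h14 hd₁]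

/-- The decomposition of `τ (χ - φ)` for two members of the same degree. -/
theorem tau_sub_eq {χ φ : L → ℂ} (hχ : χ ∈ S) (hφ : φ ∈ S) (h1 : φ ≠ χ) (h2 : φ ≠ conjFun χ)
    (hd : χ 1 = φ 1) : τ (χ - φ) = proj (R χ) (τ (χ - φ)) + proj (R φ) (τ (χ - φ)) ∧
      rip (proj (R χ) (τ (χ - φ))) (proj (R χ) (τ (χ - φ))) = rip χ χ := by
  have hm := sub_mem_span (R := ℂ) hχ hφ
  have h0 : (χ - φ) 1 = 0 := by simp [hd]
  have hg := h.gen _ (sub_mem_span hχ hφ) h0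
  have h3 := h.rip_eq hm hm h0 h0
  have h4 := (h.on χ hχ).le_rip_proj hg
  have h5 := (h.on φ hφ).le_rip_proj hg.neg
  rw [h.rip_sum_R hχ (Submodule.subset_span hφ) hd (h.rip_orth hφ hχ h1)
    (h.rip_orth hφ (h.conj_mem χ hχ) h2)] at h4
  have h6 : proj (R φ) (-τ (χ - φ)) = -proj (R φ) (τ (χ - φ)) := by
    simp [proj, classInner_neg_left, -map_sub]
  rw [h6, ← map_neg, neg_sub, h.rip_sum_R hφ (Submodule.subset_span hχ) hd.symm
    (h.rip_orth hχ hφ h1.symm) (h.rip_orth hχ (h.conj_mem φ hφ)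
      (by rintro rfl; exact h2 (conjFun_conjFun φ).symm))] at h5
  simp only [rip_sub_left, rip_sub_right, h.rip_orth hφ hχ h1, h.rip_orth hχ hφ h1.symm,
    rip_neg_left, rip_neg_right, neg_neg] at h3 h5
  have h7 : rip (proj (R χ) (τ (χ - φ))) (proj (R φ) (τ (χ - φ))) = 0 :=
    rip_eq_zero (proj_orth _ fun α hα => orth_proj _ fun β hβ =>
      classInner_eq_zero_comm.1 (h.disj χ hχ φ hφ h1 h2 β hβ α hα))
  have h8 := rip_add_le_of_orth ((h.on χ hχ).rip_proj _) ((h.on φ hφ).rip_proj (τ (χ - φ))) h7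
  exact ⟨eq_add_of_orth ((h.on χ hχ).rip_proj _) ((h.on φ hφ).rip_proj _) h7 (by linarith),
    by linarith⟩

/-- Peterfalvi 5.7. -/
theorem coh_of_uniform (hd : ∀ φ ∈ S, ∀ ψ ∈ S, φ 1 = ψ 1) : Coh S τ := by
  rcases S.eq_empty_or_nonempty with rfl | ⟨χ, hχ⟩
  · exact coh_empty τ
  have hR := h.on χ hχ
  suffices ∃ X, IsGeneralizedCharacter G X ∧ rip X X = rip χ χ ∧ rip (∑ α ∈ R χ, α) X = rip χ χ ∧
      ∀ φ ∈ S, φ ≠ χ → φ ≠ conjFun χ → rip (τ (χ - φ)) X = rip χ χ by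
    obtain ⟨X, h1, h2, h3, h4⟩ := this
    obtain ⟨ν, hν, rfl⟩ := exists_isExt τ (h.one_ne_zero hχ) X
    have hg : ∀ φ ∈ S, IsGeneralizedCharacter G (ν φ) := fun φ hφ =>
      h.gen_ext hν hφ hχ (a := 1) (by simpa using hd φ hφ χ hχ) h1
    refine ⟨ν, h.pivot subset_rfl hν (Submodule.subset_span hχ) (h.one_ne_zero hχ)
      (by rw [classInner_self_eq_rip, h2, classInner_self_eq_rip]) fun φ hφ => ⟨hg φ hφ, ?_⟩⟩
    rw [(hg φ hφ).classInner_eq_rip h1, (h.char φ hφ).isGen.classInner_eq_rip (h.char χ hχ).isGen]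
    congr 1
    by_cases e : φ = χ
    · rw [e, h2]
    rw [h.rip_orth hφ hχ e]
    by_cases e' : φ = conjFun χ
    · rw [h.ext_sum hν hχ, rip_sub_left] at h3
      rw [e']; linarith
    · have := h4 φ hφ e e'
      rw [hν.sub (hd χ hχ φ hφ), rip_sub_left] at this
      linarith
  by_cases hne : ∃ χ₁ ∈ S, χ₁ ≠ χ ∧ χ₁ ≠ conjFun χ
  · obtain ⟨χ₁, h₁, e₁, e₁'⟩ := hne
    obtain ⟨h2, h3⟩ := h.tau_sub_eq hχ h₁ e₁ e₁' (hd χ hχ _ h₁)
    have h0 : (χ - χ₁) 1 = 0 := by simp [hd χ hχ _ h₁]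
    have hg := h.gen _ (sub_mem_span hχ h₁) h0
    refine ⟨_, hR.isGen_proj hg, h3, ?_, fun φ hφ e e' => ?_⟩
    · have := h.rip_sum_R hχ (Submodule.subset_span h₁) (hd χ hχ _ h₁) (h.rip_orth h₁ hχ e₁)
        (h.rip_orth h₁ (h.conj_mem χ hχ) e₁')
      rw [← this, rip_comm, rip_sum_right, rip_sum_right]
      exact Finset.sum_congr rfl fun α hα => by rw [rip, hR.classInner_proj _ hα, rip]
    by_cases e₂ : φ = χ₁
    · rw [e₂, hR.rip_proj, h3]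
    by_cases e₃ : φ = conjFun χ₁
    · rw [e₃, ← sub_add_sub_cancel χ χ₁, map_add, rip_add_left, hR.rip_proj, h3, h.sum_eq _ h₁,
        rip_eq_zero (orth_sum_left fun α hα => orth_proj _ (h.disj χ hχ _ h₁ e₁ e₁' α hα)), add_zero]
    have h4 := h.rip_eq (sub_mem_span hχ hφ) (sub_mem_span hχ h₁) (by simp [hd χ hχ φ hφ]) h0
    have h5 : rip (τ (χ - φ)) (proj (R χ₁) (τ (χ - χ₁))) = 0 := by
      rw [(h.tau_sub_eq hχ hφ e e' (hd χ hχ φ hφ)).1]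
      refine rip_eq_zero (orth_proj _ fun β hβ => ?_)
      rw [classInner_add_left, proj_orth _ fun α hα =>
        classInner_eq_zero_comm.1 (h.disj χ hχ _ h₁ e₁ e₁' β hβ α hα),
        proj_orth _ fun α hα => h.disj _ h₁ φ hφ e₂ e₃ α hα β hβ, add_zero]
    rw [h2, rip_add_right, h5] at h4
    simpa [h.rip_orth hφ hχ e, h.rip_orth hφ h₁ e₂, h.rip_orth hχ h₁ e₁.symm] using h4
  · obtain ⟨n, hn⟩ := (h.char χ hχ).classInner_eq_nat (h.char χ hχ)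
    have hn' : rip χ χ = n := by simp [rip, hn]
    have h1 := h.card_R hχ
    obtain ⟨E, hE, h2⟩ := Finset.exists_subset_card_eq (s := R χ) (n := n) (by
      rw [hn'] at h1
      have : (R χ).card = 2 * n := by exact_mod_cast h1
      omega)
    exact ⟨∑ α ∈ E, α, (hR.mono hE).isGen_sum, by rw [(hR.mono hE).rip_sum, h2, hn'],
      by rw [hR.rip_sum_subset hE, h2, hn'], fun φ hφ e e' => (hne ⟨φ, hφ, e, e'⟩).elim⟩

theorem coh_of_uniform' (hS : ConjSub S₁ S) (hd : ∀ φ ∈ S₁, ∀ ψ ∈ S₁, φ 1 = ψ 1) : Coh S₁ τ :=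
  (h.mono hS).coh_of_uniform hd

theorem coh_pair {χ : L → ℂ} (hχ : χ ∈ S) : Coh {χ, conjFun χ} τ :=
  h.coh_of_uniform' (h.conjSub_pair hχ) (by
    rintro _ (rfl | rfl) _ (rfl | rfl) <;> simp [h.conj_one hχ])

end CohSys

end Cfsg.Agent.Char
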