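import Cfsg.Agent.Lib.Char.LinChar

/-!
Cyclic TI-subsets (Peterfalvi, section 3).
-/

set_option autoImplicit false

namespace Cfsg.Agent.Char

open scoped ComplexConjugate

variable {G : Type*} [Group G] {A : Type*} [Group A] {B : Type*} [Group B]

@[simp] theorem lc_mul_one (i : A →* ℂˣ) : i * 1 = i := mul_one i

@[simp] theorem lc_one_mul (i : A →* ℂˣ) : 1 * i = i := one_mul i

@[simp] theorem lc_inv_inv (i : A →* ℂˣ) : i⁻¹⁻¹ = i := by ext; simp

theorem lc_inv_ne_one {i : A →* ℂˣ} (h : i ≠ 1) : i⁻¹ ≠ 1 := fun h1 =>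
  h (by rw [← lc_inv_inv i, h1]; ext; simp)

@[simp] theorem lc_inv_one : (1 : A →* ℂˣ)⁻¹ = 1 := by ext; simp

@[simp] theorem lc_inv_inj {i k : A →* ℂˣ} : i⁻¹ = k⁻¹ ↔ i = k :=
  ⟨fun h => by rw [← lc_inv_inv i, h, lc_inv_inv], fun h => by rw [h]⟩

@[simp] theorem lc_inv_eq_one {i : A →* ℂˣ} : i⁻¹ = 1 ↔ i = 1 := by
  rw [← lc_inv_inj, lc_inv_inv, lc_inv_one]

section grid

variable [Fintype G]

theorem rip_map_ringHom {φ ψ : G → ℂ} (hφ : IsGeneralizedCharacter G φ)
    (hψ : IsGeneralizedCharacter G ψ) (σ : ℂ →+* ℂ) :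
    rip (fun g => σ (φ g)) (fun g => σ (ψ g)) = rip φ ψ := by
  obtain ⟨n, hn⟩ := hφ.classInner_eq_int hψ
  rw [rip, rip, hψ.classInner_map_ringHom, hn, map_intCast]

theorem norm3_no_opp {β γ p : G → ℂ} (hβ : IsGeneralizedCharacter G β)
    (hγ : IsGeneralizedCharacter G γ) (h1 : rip β β = 3) (h2 : rip γ γ = 3) (h3 : rip β γ = 1)
    (h4 : β 1 = γ 1) (hp : IsDirr G p) (h5 : rip β p = 1) : rip γ p = 0 ∨ rip γ p = 1 := by
  rcases hp.rip_mem hγ h2.le with h | h | h
  · have h6 : β - γ - (2 : ℕ) • p = 0 := by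
      rw [← rip_self_eq_zero]
      simp only [rip_sub_left, rip_sub_right, rip_nsmul_left, rip_nsmul_right, h1, h2, h3,
        rip_comm γ β, rip_comm p β, rip_comm p γ, h5, h, hp.rip_self]
      norm_num
    have h7 := congrFun h6 1
    simp only [Pi.sub_apply, h4, sub_self, two_smul, Pi.add_apply, Pi.zero_apply] at h7
    exact absurd (by linear_combination -h7 / 2) hp.apply_one_ne_zero
  · exact Or.inl h
  · exact Or.inr h

theorem norm3_exists_common {β γ : G → ℂ} (hβ : IsGeneralizedCharacter G β)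
    (hγ : IsGeneralizedCharacter G γ) (h1 : rip β β = 3) (h2 : rip γ γ = 3) (h3 : rip β γ = 1) :
    ∃ p, IsDirr G p ∧ rip β p = 1 ∧ rip γ p = 1 := by
  obtain ⟨p, hp, h4, h5⟩ := hβ.exists_dirr_of_rip_pos hγ (by rw [h3]; exact one_pos)
  refine ⟨p, hp, ?_, ?_⟩
  · rcases hp.rip_mem hβ h1.le with h | h | h <;> linarith
  · rcases hp.rip_mem hγ h2.le with h | h | h <;> linarith

theorem norm3_unique {β γ p q : G → ℂ} (hβ : IsGeneralizedCharacter G β)
    (hγ : IsGeneralizedCharacter G γ) (h1 : rip β β = 3) (h2 : rip γ γ = 3) (h3 : rip β γ = 1)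
    (h4 : β 1 = γ 1) (hp : IsDirr G p) (hq : IsDirr G q) (h5 : rip β p = 1) (h6 : rip γ p = 1)
    (h7 : rip β q = 1) (h8 : rip γ q = 1) : p = q := by
  by_contra hne
  have h9 : rip p q = 0 := hp.rip_eq_zero hq hne (by
    rintro rfl
    rw [rip_neg_right, h7] at h5
    norm_num at h5)
  have hr : IsDirr G (β - p - q) := ((hβ.sub hp.isGen).sub hq.isGen).isDirr (by
    simp only [rip_sub_left, rip_sub_right, h1, rip_comm p β, rip_comm q β, rip_comm q p, h5, h7,
      h9, hp.rip_self, hq.rip_self]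
    norm_num)
  have := norm3_no_opp hβ hγ h1 h2 h3 h4 hr (by simp [h1, h5, h7]; norm_num)
  simp only [rip_sub_right, rip_comm γ β, h3, h6, h8] at this
  norm_num at this

omit [Fintype G] in
theorem exists_four {X : Type*} (hX : 4 ≤ Nat.card X) :
    ∃ a b c d : X, a ≠ b ∧ a ≠ c ∧ a ≠ d ∧ b ≠ c ∧ b ≠ d ∧ c ≠ d := by
  have : Finite X := Nat.finite_of_card_ne_zero (by omega)
  have := Fintype.ofFinite X
  obtain ⟨f⟩ := Function.Embedding.nonempty_of_card_le (α := Fin 4) (β := X)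
    (by rwa [Fintype.card_fin, ← Nat.card_eq_fintype_card])
  exact ⟨f 0, f 1, f 2, f 3, by simp, by simp, by simp, by simp, by simp, by simp⟩

open Classical in
/-- The combinatorial configuration behind Peterfalvi 3.5. -/
structure Grid {I J : Type*} (β : I → J → G → ℂ) (s : I → I) (t : J → J) (σ τ : ℂ →+* ℂ) :
    Prop where
  gen : ∀ i j, IsGeneralizedCharacter G (β i j)
  gram : ∀ i j k l, rip (β i j) (β k l) =
    (1 + if i = k then 1 else 0) * (1 + if j = l then 1 else 0) - 1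
  one : ∀ i j k l, β i j 1 = β k l 1
  s_ne : ∀ i, s i ≠ i
  t_ne : ∀ j, t j ≠ j
  s_s : ∀ i, s (s i) = i
  t_t : ∀ j, t (t j) = j
  map_s : ∀ i j, (fun g => σ (β i j g)) = β (s i) j
  map_t : ∀ i j, (fun g => τ (β i j g)) = β i (t j)

namespace Grid

variable {I J : Type*} {β : I → J → G → ℂ} {s : I → I} {t : J → J} {σ τ : ℂ →+* ℂ}
  (h : Grid β s t σ τ)
include h

theorem swap : Grid (fun j i => β i j) t s τ σ where
  gen j i := h.gen i j
  gram j i l k := by rw [h.gram, mul_comm]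
  one j i l k := h.one i j k l
  s_ne := h.t_ne
  t_ne := h.s_ne
  s_s := h.t_t
  t_t := h.s_s
  map_s j i := h.map_t i j
  map_t j i := h.map_s i j

theorem norm (i : I) (j : J) : rip (β i j) (β i j) = 3 := by
  rw [h.gram]; norm_num

theorem col {i k : I} (hik : i ≠ k) (j : J) : rip (β i j) (β k j) = 1 := by
  rw [h.gram]; norm_num [hik]

theorem row (i : I) {j l : J} (hjl : j ≠ l) : rip (β i j) (β i l) = 1 := by
  rw [h.gram]; norm_num [hjl]

theorem diag {i k : I} (hik : i ≠ k) {j l : J} (hjl : j ≠ l) : rip (β i j) (β k l) = 0 := by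
  rw [h.gram]; norm_num [hik, hjl]

theorem col_unique {i k : I} (hik : i ≠ k) (j : J) {p q : G → ℂ} (hp : IsDirr G p)
    (hq : IsDirr G q) (h5 : rip (β i j) p = 1) (h6 : rip (β k j) p = 1) (h7 : rip (β i j) q = 1)
    (h8 : rip (β k j) q = 1) : p = q :=
  norm3_unique (h.gen _ _) (h.gen _ _) (h.norm _ _) (h.norm _ _) (h.col hik j) (h.one _ _ _ _)
    hp hq h5 h6 h7 h8

theorem rip_map (i : I) (j : J) {p : G → ℂ} (hp : IsDirr G p) :
    rip (β (s i) j) (fun g => σ (p g)) = rip (β i j) p := by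
  rw [← h.map_s, rip_map_ringHom (h.gen _ _) hp.isGen]

theorem fixed {i : I} {j : J} {p : G → ℂ} (hp : IsDirr G p) (h1 : rip (β i j) p = 1)
    (h2 : rip (β (s i) j) p = 1) (k : I) (l : J) : rip (β (s k) l) p = rip (β k l) p := by
  have h3 : (fun g => σ (p g)) = p := h.col_unique (h.s_ne i) j (hp.map_ringHom σ) hp
    (by rw [h.rip_map _ _ hp, h1]) (by rw [← h2, ← h.rip_map _ _ hp, h.s_s]) h2 h1
  rw [← h.rip_map k l hp, h3]

theorem exists_col [Nonempty I] (j : J) : ∃ p, IsDirr G p ∧ ∀ i, rip (β i j) p = 1 := by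
  obtain ⟨i⟩ := ‹Nonempty I›
  have hc : ∀ i, ∃ p, IsDirr G p ∧ rip (β i j) p = 1 ∧ rip (β (s i) j) p = 1 := fun i =>
    norm3_exists_common (h.gen _ _) (h.gen _ _) (h.norm _ _) (h.norm _ _) (h.col (h.s_ne i).symm j)
  obtain ⟨p, hp, h1, h2⟩ := hc i
  refine ⟨p, hp, fun k => ?_⟩
  by_contra h3
  have hki : i ≠ k := by rintro rfl; exact h3 h1
  have hki' : s i ≠ k := by rintro rfl; exact h3 h2
  have hki2 : i ≠ s k := by rintro rfl; exact hki' (h.s_s k)
  have hki3 : s i ≠ s k := fun h4 => hki (by rw [← h.s_s i, h4, h.s_s])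
  have h4 : rip (β k j) p = 0 := (norm3_no_opp (h.gen _ _) (h.gen _ _) (h.norm _ _) (h.norm _ _)
    (h.col hki j) (h.one _ _ _ _) hp h1).resolve_right h3
  have h5 : rip (β (s k) j) p = 0 := by rw [h.fixed hp h1 h2, h4]
  obtain ⟨q, hq, h6, h7⟩ := hc k
  have hpq : rip p q = 0 := hp.rip_eq_zero hq (by rintro rfl; exact h3 h6) (by
    rintro rfl
    rw [rip_neg_right, h6] at h4
    norm_num at h4)
  have h8 : rip (β i j) q = 0 := by
    refine (norm3_no_opp (h.gen _ _) (h.gen _ _) (h.norm _ _) (h.norm _ _)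
      (h.col hki.symm j) (h.one _ _ _ _) hq h6).resolve_right fun h9 => ?_
    have := h.col_unique (h.s_ne i) j hp hq h2 h1 (by rw [h.fixed hq h6 h7, h9]) h9
    subst this
    exact h3 h6
  have h9 : rip (β (s i) j) q = 0 := by rw [h.fixed hq h6 h7, h8]
  have h10 : β i j + β (s i) j - (2 : ℕ) • p - (β k j + β (s k) j - (2 : ℕ) • q) = 0 := by
    rw [← rip_self_eq_zero]
    simp only [rip_sub_left, rip_sub_right, rip_add_left, rip_add_right, rip_nsmul_left,
      rip_nsmul_right, rip_comm p (β _ _), rip_comm q (β _ _), rip_comm q p, h1, h2, h4, h5, h6, h7,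
      h8, h9, hpq, hp.rip_self, hq.rip_self, h.norm, h.col hki, h.col hki', h.col hki2, h.col hki3,
      h.col hki.symm, h.col hki'.symm, h.col hki2.symm, h.col hki3.symm, h.col (h.s_ne _),
      h.col (h.s_ne _).symm]
    norm_num
  have h11 := congrArg (rip (β i (t j))) h10
  obtain ⟨a, ha⟩ := (h.gen i (t j)).rip_eq_int hp.isGen
  obtain ⟨b, hb⟩ := (h.gen i (t j)).rip_eq_int hq.isGen
  simp only [rip_sub_right, rip_add_right, rip_nsmul_right, rip_zero_right, ha, hb,
    h.row i (h.t_ne j), h.diag hki (h.t_ne j), h.diag hki2 (h.t_ne j),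
    h.diag (h.s_ne i).symm (h.t_ne j)] at h11
  have h12 : (1 : ℤ) - 2 * a + 2 * b = 0 := by
    have : ((1 - 2 * a + 2 * b : ℤ) : ℝ) = 0 := by push_cast at h11 ⊢; linarith
    exact_mod_cast this
  omega

theorem not_row_col {i₁ i₂ i₃ i₄ : I} (h12 : i₁ ≠ i₂) (h13 : i₁ ≠ i₃) (h14 : i₁ ≠ i₄)
    (h23 : i₂ ≠ i₃) (h24 : i₂ ≠ i₄) (h34 : i₃ ≠ i₄) {i : I} {j : J} {p : G → ℂ} (hp : IsDirr G p)
    (h1 : ∀ k, rip (β k j) p = 1) (h2 : ∀ l, rip (β i l) p = 1) : False := by
  have h3 : ∀ k, rip (β k (t j)) p = 1 := fun k => by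
    rw [← h1 k]; exact h.swap.fixed hp (h2 j) (h2 (t j)) j k
  have h4 := h.t_ne j
  have h5 : β i₁ j + β i₂ j + β i₃ (t j) + β i₄ (t j) - (4 : ℕ) • p = 0 := by
    rw [← rip_self_eq_zero]
    simp only [rip_sub_left, rip_sub_right, rip_add_left, rip_add_right, rip_nsmul_left,
      rip_nsmul_right, rip_comm p (β _ _), h1, h3, hp.rip_self, h.norm, h.col h12, h.col h12.symm,
      h.col h34, h.col h34.symm, h.diag h13 h4.symm, h.diag h14 h4.symm, h.diag h23 h4.symm,
      h.diag h24 h4.symm, h.diag h13.symm h4, h.diag h14.symm h4, h.diag h23.symm h4,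
      h.diag h24.symm h4]
    norm_num
  have h6 := congrArg (rip (β i₃ j)) h5
  simp only [rip_sub_right, rip_add_right, rip_nsmul_right, rip_zero_right, h1, h.col h13.symm,
    h.col h23.symm, h.row i₃ h4.symm, h.diag h34 h4.symm] at h6
  norm_num at h6

theorem rip_row_eq_zero {i k : I} (hik : i ≠ k) {j : J} {x y : G → ℂ} (hx : IsDirr G x)
    (hy : IsDirr G y) (h1 : rip (β k j) x = 1) (h2 : ∀ i, rip (β i j) y = 1) (hne : x ≠ y) :
    rip (β i j) x = 0 :=
  (norm3_no_opp (h.gen _ _) (h.gen _ _) (h.norm _ _) (h.norm _ _) (h.col hik.symm j)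
    (h.one _ _ _ _) hx h1).resolve_right fun h3 =>
      hne (h.col_unique hik j hx hy h3 h1 (h2 _) (h2 _))

open Classical in
theorem exists_letters [Nonempty I] [Nonempty J] (h4 : 4 ≤ Nat.card I ∨ 4 ≤ Nat.card J) :
    ∃ (x : I → G → ℂ) (y : J → G → ℂ), (∀ i, IsDirr G (x i)) ∧ (∀ j, IsDirr G (y j)) ∧
      (∀ i j k, rip (β i j) (x k) = if i = k then 1 else 0) ∧
      (∀ i j l, rip (β i j) (y l) = if j = l then 1 else 0) ∧ ∀ i j, rip (x i) (y j) = 0 := by
  choose y hy hy1 using h.exists_col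
  choose x hx hx1 using h.swap.exists_col
  have hne : ∀ i j, x i ≠ y j := by
    intro i j he
    rcases h4 with h4 | h4
    · obtain ⟨a, b, c, d, h1, h2, h3, h5, h6, h7⟩ := exists_four h4
      exact h.not_row_col h1 h2 h3 h5 h6 h7 (hy j) (hy1 j) (he ▸ hx1 i)
    · obtain ⟨a, b, c, d, h1, h2, h3, h5, h6, h7⟩ := exists_four h4
      exact h.swap.not_row_col h1 h2 h3 h5 h6 h7 (hx i) (hx1 i) (he ▸ hy1 j)
  refine ⟨x, y, hx, hy, fun i j k => ?_, fun i j l => ?_, fun i j => ?_⟩
  · split_ifs with hik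
    · exact hik ▸ hx1 i j
    · exact h.rip_row_eq_zero hik (hx k) (hy j) (hx1 k j) (hy1 j) (hne k j)
  · split_ifs with hjl
    · exact hjl ▸ hy1 j i
    · exact h.swap.rip_row_eq_zero hjl (hy l) (hx i) (hy1 l i) (hx1 i) (hne i l).symm
  · refine (hx i).rip_eq_zero (hy j) (hne i j) fun he => ?_
    have := hx1 i j
    rw [he, rip_neg_right, hy1] at this
    norm_num at this

end Grid

end grid

/-- A cyclic TI configuration: the image of `A × B` in `G`. -/
structure CycTI (f : A × B →* G) : Prop where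
  inj : Function.Injective f
  cycA : IsCyclic A
  cycB : IsCyclic B
  oddA : Odd (Nat.card A)
  oddB : Odd (Nat.card B)
  coprime : (Nat.card A).Coprime (Nat.card B)
  ntA : 1 < Nat.card A
  ntB : 1 < Nat.card B
  ti : ∀ a b, a ≠ 1 → b ≠ 1 → ∀ g : G, g * f (a, b) * g⁻¹ ∈ f.range → g ∈ f.range

/-- The family of signed irreducible characters attached to a cyclic TI configuration. -/
structure CycFam [Fintype G] (f : A × B →* G) (η : (A →* ℂˣ) → (B →* ℂˣ) → G → ℂ) : Prop where
  ti : CycTI f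
  dirr : ∀ i j, IsDirr G (η i j)
  orth : ∀ i j k l, classInner (η i j) (η k l) = if i = k ∧ j = l then 1 else 0
  eq_on : ∀ i j a b, a ≠ 1 → b ≠ 1 → η i j (f (a, b)) = i a * j b

/-- The embedding with the two factors exchanged. -/
def swapHom (f : A × B →* G) : B × A →* G := f.comp (MulEquiv.prodComm (M := B) (N := A)).toMonoidHom

@[simp] theorem swapHom_apply (f : A × B →* G) (b : B) (a : A) : swapHom f (b, a) = f (a, b) := rfl

theorem range_swapHom (f : A × B →* G) : (swapHom f).range = f.range := by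
  ext g
  exact ⟨fun ⟨⟨b, a⟩, h⟩ => ⟨(a, b), h⟩, fun ⟨⟨a, b⟩, h⟩ => ⟨(b, a), h⟩⟩

theorem comm_of_isCyclic (h : IsCyclic A) (a b : A) : a * b = b * a :=
  (h.commGroup (α := A)).mul_comm a b

namespace CycTI

variable {f : A × B →* G} (h : CycTI f)
include h

theorem swap : CycTI (swapHom f) where
  inj := h.inj.comp (MulEquiv.prodComm (M := B) (N := A)).injective
  cycA := h.cycB
  cycB := h.cycA
  oddA := h.oddB
  oddB := h.oddA
  coprime := h.coprime.symm
  ntA := h.ntB
  ntB := h.ntA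
  ti b a hb ha := by simpa only [range_swapHom, swapHom_apply] using h.ti a b ha hb

theorem commA (a b : A) : a * b = b * a := comm_of_isCyclic h.cycA a b

theorem commB (a b : B) : a * b = b * a := comm_of_isCyclic h.cycB a b

theorem finiteA : Finite A := Nat.finite_of_card_ne_zero (by have := h.ntA; omega)

theorem finiteB : Finite B := Nat.finite_of_card_ne_zero (by have := h.ntB; omega)

theorem three_le_A : 3 ≤ Nat.card A := by
  have := h.ntA
  obtain ⟨k, hk⟩ := h.oddA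
  omega

theorem three_le_B : 3 ≤ Nat.card B := h.swap.three_le_A

theorem card_lcA : Nat.card (A →* ℂˣ) = Nat.card A := by
  have := h.finiteA
  exact card_lc h.commA

theorem card_lcB : Nat.card (B →* ℂˣ) = Nat.card B := h.swap.card_lcA

theorem card_ne : Nat.card A ≠ Nat.card B := fun h1 => by
  have := h.coprime
  rw [h1, Nat.coprime_self] at this
  have := h.ntB
  omega

theorem five_le : 5 ≤ Nat.card A ∨ 5 ≤ Nat.card B := by
  have h1 := h.three_le_A
  have h2 := h.three_le_B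
  have h3 := h.card_ne
  obtain ⟨k, hk⟩ := h.oddA
  obtain ⟨l, hl⟩ := h.oddB
  omega

theorem isClassFunction (α : A × B → ℂ) : IsClassFunction (A × B) α :=
  isClassFunction_of_comm (prod_comm_of h.commA h.commB) α

theorem exists_ne_oneA : ∃ i : A →* ℂˣ, i ≠ 1 := by
  have := h.finiteA
  have : Nontrivial (A →* ℂˣ) := Finite.one_lt_card_iff_nontrivial.1 (h.card_lcA ▸ h.ntA)
  exact exists_ne 1

theorem exists_ne_oneB : ∃ j : B →* ℂˣ, j ≠ 1 := h.swap.exists_ne_oneA

theorem inv_neA {i : A →* ℂˣ} (hi : i ≠ 1) : i⁻¹ ≠ i := lc_inv_ne h.oddA hi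

theorem inv_neB {j : B →* ℂˣ} (hj : j ≠ 1) : j⁻¹ ≠ j := lc_inv_ne h.oddB hj

variable [Fintype G]

theorem ind_apply (α : A × B → ℂ) {a : A} {b : B} (ha : a ≠ 1) (hb : b ≠ 1) :
    indHom f α (f (a, b)) = α (a, b) :=
  indHom_apply_of_TI h.inj (h.isClassFunction α) (h.ti a b ha hb)

theorem classInner_ind [Fintype A] [Fintype B] {α : A × B → ℂ}
    (hα : ∀ a b, α (a, b) ≠ 0 → a ≠ 1 ∧ b ≠ 1) (β : A × B → ℂ) :
    classInner (indHom f α) (indHom f β) = classInner α β :=
  classInner_indHom_of_TI h.inj (h.isClassFunction β) fun u hu =>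
    h.ti u.1 u.2 (hα _ _ hu).1 (hα _ _ hu).2

end CycTI

theorem supp_alpha (i : A →* ℂˣ) (j : B →* ℂˣ) (a : A) (b : B)
    (h : (om 1 1 - om i 1 - om 1 j + om i j : A × B → ℂ) (a, b) ≠ 0) : a ≠ 1 ∧ b ≠ 1 := by
  constructor <;> rintro rfl <;> simp at h

theorem classInner_alpha [Fintype A] [Fintype B] {i k : A →* ℂˣ} {j l : B →* ℂˣ} (hi : i ≠ 1)
    (hj : j ≠ 1) (hk : k ≠ 1) (hl : l ≠ 1) :
    classInner (om 1 1 - om i 1 - om 1 j + om i j) (om 1 1 - om k 1 - om 1 l + om k l) =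
      (1 + if i = k then 1 else 0) * (1 + if j = l then 1 else 0) := by
  simp only [classInner_add_left, classInner_add_right, classInner_sub_left, classInner_sub_right,
    classInner_om, hi, hj, hk.symm, hl.symm, and_true, true_and, and_false, false_and, if_true,
    if_false]
  by_cases h1 : i = k <;> by_cases h2 : j = l <;> simp [h1, h2] <;> norm_num

theorem isGen_alpha (i : A →* ℂˣ) (j : B →* ℂˣ) :
    IsGeneralizedCharacter (A × B) (om 1 1 - om i 1 - om 1 j + om i j) :=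
  (((isIrr_om _ _).isGen.sub (isIrr_om _ _).isGen).sub (isIrr_om _ _).isGen).add (isIrr_om _ _).isGen

/-- Peterfalvi 3.2 / 3.5. -/
theorem CycTI.exists_fam [Fintype G] {f : A × B →* G} (h : CycTI f) : ∃ η, CycFam f η := by
  classical
  have := h.finiteA
  have := h.finiteB
  have := Fintype.ofFinite A
  have := Fintype.ofFinite B
  obtain ⟨σ, hσ1, hσ2⟩ := exists_ringHom_inv_fix Nat.card_pos.ne' Nat.card_pos.ne' h.coprime
  obtain ⟨τ, hτ1, hτ2⟩ := exists_ringHom_inv_fix Nat.card_pos.ne' Nat.card_pos.ne' h.coprime.symm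
  have hpA : ∀ (i : A →* ℂˣ) a, (i a : ℂ) ^ Nat.card A = 1 := fun i a => by
    rw [← Units.val_pow_eq_pow_val, ← map_pow, pow_card_eq_one', map_one, Units.val_one]
  have hpB : ∀ (i : B →* ℂˣ) a, (i a : ℂ) ^ Nat.card B = 1 := fun i a => by
    rw [← Units.val_pow_eq_pow_val, ← map_pow, pow_card_eq_one', map_one, Units.val_one]
  let β : {i : A →* ℂˣ // i ≠ 1} → {j : B →* ℂˣ // j ≠ 1} → G → ℂ := fun i j =>
    indHom f (om 1 1 - om i.1 1 - om 1 j.1 + om i.1 j.1) - fun _ => 1
  have hβ1 : ∀ (i : {i : A →* ℂˣ // i ≠ 1}) (j : {j : B →* ℂˣ // j ≠ 1}),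
      classInner (indHom f (om 1 1 - om i.1 1 - om 1 j.1 + om i.1 j.1)) (fun _ => 1) = 1 := by
    intro i j
    rw [frobenius_hom h.inj _ (IsClassFunction.const 1), ← om_one_one]
    simp only [classInner_add_left, classInner_sub_left, classInner_om, i.2, j.2, and_true,
      and_false, if_true, if_false]
    simp
  have hG : Grid β (fun i => ⟨i.1⁻¹, lc_inv_ne_one i.2⟩) (fun j => ⟨j.1⁻¹, lc_inv_ne_one j.2⟩) σ τ :=
    { gen := fun i j => (isGen_indHom h.inj (isGen_alpha _ _)).sub isIrrCharacter_one.isGen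
      gram := fun i j k l => by
        simp only [β, rip_sub_left, rip_sub_right, rip_eq_one (hβ1 _ _), rip_comm (fun _ => 1),
          isIrrCharacter_one.rip_self]
        rw [rip, h.classInner_ind (supp_alpha _ _), classInner_alpha i.2 j.2 k.2 l.2]
        simp only [Subtype.ext_iff]
        split_ifs <;> norm_num
      one := fun i j k l => by simp [β, indHom_one h.inj]
      s_ne := fun i hi => h.inv_neA i.2 (congrArg Subtype.val hi)
      t_ne := fun j hj => h.inv_neB j.2 (congrArg Subtype.val hj)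
      s_s := fun i => Subtype.ext (lc_inv_inv i.1)
      t_t := fun i => Subtype.ext (lc_inv_inv i.1)
      map_s := fun i j => by
        ext g
        simp only [β, Pi.sub_apply, map_sub σ, map_one, ← congrFun (indHom_map f σ _) g]
        refine congrArg (fun α => indHom f α g - 1) (funext fun w => ?_)
        simp [hσ1 _ (hpA _ _), hσ2 _ (hpB _ _)]
      map_t := fun i j => by
        ext g
        simp only [β, Pi.sub_apply, map_sub τ, map_one, ← congrFun (indHom_map f τ _) g]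
        refine congrArg (fun α => indHom f α g - 1) (funext fun w => ?_)
        simp [hτ2 _ (hpA _ _), hτ1 _ (hpB _ _)] }
  obtain ⟨i₀, hi₀⟩ := h.exists_ne_oneA
  obtain ⟨j₀, hj₀⟩ := h.exists_ne_oneB
  have : Nonempty {i : A →* ℂˣ // i ≠ 1} := ⟨⟨i₀, hi₀⟩⟩
  have : Nonempty {j : B →* ℂˣ // j ≠ 1} := ⟨⟨j₀, hj₀⟩⟩
  obtain ⟨x, y, hx, hy, h1, h2, h3⟩ := hG.exists_letters (by
    rw [Nat.card_eq_fintype_card, Nat.card_eq_fintype_card, Fintype.card_subtype_compl,
      Fintype.card_subtype_compl, Fintype.card_subtype_eq, Fintype.card_subtype_eq,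
      ← Nat.card_eq_fintype_card, ← Nat.card_eq_fintype_card, h.card_lcA, h.card_lcB]
    have := h.five_le
    omega)
  have hβ0 : ∀ i j, rip (β i j) (fun _ => 1) = 0 := fun i j => by
    simp only [β, rip_sub_left, rip_eq_one (hβ1 _ _), isIrrCharacter_one.rip_self, sub_self]
  have horth : ∀ {p q : G → ℂ}, IsDirr G p → IsDirr G q → ∀ i j, rip (β i j) p = 1 →
      rip (β i j) q = 0 → rip p q = 0 := by
    intro p q hp hq i j h4 h5
    refine hp.rip_eq_zero hq ?_ ?_ <;> rintro rfl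
    · linarith
    · rw [rip_neg_right] at h4; linarith
  have hx1 : ∀ i, rip (x i) (fun _ => 1) = 0 := fun i =>
    horth (hx i) isIrrCharacter_one.isDirr i ⟨j₀, hj₀⟩ (by simp [h1]) (hβ0 _ _)
  have hy1 : ∀ j, rip (y j) (fun _ => 1) = 0 := fun j =>
    horth (hy j) isIrrCharacter_one.isDirr ⟨i₀, hi₀⟩ j (by simp [h2]) (hβ0 _ _)
  have hxx : ∀ i k, rip (x i) (x k) = if i = k then 1 else 0 := fun i k => by
    split_ifs with hik
    · exact hik ▸ (hx i).rip_self
    · exact horth (hx i) (hx k) i ⟨j₀, hj₀⟩ (by simp [h1]) (by simp [h1, hik])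
  have hyy : ∀ i k, rip (y i) (y k) = if i = k then 1 else 0 := fun i k => by
    split_ifs with hik
    · exact hik ▸ (hy i).rip_self
    · exact horth (hy i) (hy k) ⟨i₀, hi₀⟩ i (by simp [h2]) (by simp [h2, hik])
  let η : (A →* ℂˣ) → (B →* ℂˣ) → G → ℂ := fun i j =>
    if hi : i = 1 then (if hj : j = 1 then fun _ => 1 else -y ⟨j, hj⟩)
    else if hj : j = 1 then -x ⟨i, hi⟩ else β ⟨i, hi⟩ ⟨j, hj⟩ - x ⟨i, hi⟩ - y ⟨j, hj⟩
  have hgen : ∀ i j, IsGeneralizedCharacter G (η i j) := fun i j => by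
    simp only [η]
    split_ifs
    · exact isIrrCharacter_one.isGen
    · exact (hy _).isGen.neg
    · exact (hx _).isGen.neg
    · exact ((hG.gen _ _).sub (hx _).isGen).sub (hy _).isGen
  have hrip : ∀ i j k l, rip (η i j) (η k l) = if i = k ∧ j = l then 1 else 0 := by
    intro i j k l
    by_cases hi : i = 1 <;> by_cases hj : j = 1 <;> by_cases hk : k = 1 <;> by_cases hl : l = 1 <;>
      simp only [η, hi, hj, hk, hl, dif_pos, dif_neg, not_false_eq_true, rip_sub_left,
        rip_sub_right, rip_neg_left, rip_neg_right, rip_comm (fun _ => 1), rip_comm (x _) (β _ _),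
        rip_comm (y _) (β _ _), rip_comm (y _) (x _), hβ0, hx1, hy1, hxx, hyy, h1, h2, h3, hG.gram,
        isIrrCharacter_one.rip_self, Subtype.mk.injEq, eq_comm (a := (1 : A →* ℂˣ)),
        eq_comm (a := (1 : B →* ℂˣ)), and_true, true_and, and_false, false_and, if_true,
        if_false] <;>
      by_cases h4 : i = k <;> by_cases h5 : j = l <;> simp [h4, h5, eq_comm] <;> norm_num
  have horth' : ∀ i j k l, classInner (η i j) (η k l) = if i = k ∧ j = l then 1 else 0 := by
    intro i j k l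
    rw [(hgen _ _).classInner_eq_rip (hgen _ _), hrip]
    split_ifs <;> simp
  have hind : ∀ i j, indHom f (om 1 1 - om i 1 - om 1 j + om i j) =
      η 1 1 - η i 1 - η 1 j + η i j := by
    intro i j
    by_cases hi : i = 1
    · simp [hi]
    by_cases hj : j = 1
    · simp [hj]
    simp only [η, hi, hj, dif_pos, dif_neg, not_false_eq_true, β]
    abel
  refine ⟨η, h, fun i j => (hgen i j).isDirr (by simp [hrip]), horth', fun i j a b ha hb => ?_⟩
  have := eq_zero_of_orth_om h.commA h.commB (φ := (fun w => η i j (f w)) - om i j) (fun k l => by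
    rw [classInner_sub_left, ← frobenius_hom' h.inj _ (hgen i j).isClassFunction, hind]
    simp only [classInner_add_right, classInner_sub_right, horth', classInner_om, sub_self]) ha hb
  exact sub_eq_zero.1 this

theorem exists_not_mem_image {X Y : Type*} [Finite Y] (s : Finset X) (f : X → Y)
    (h : s.card < Nat.card Y) : ∃ y, ∀ x ∈ s, f x ≠ y := by
  classical
  have := Fintype.ofFinite Y
  obtain ⟨y, -, hy⟩ := Finset.exists_mem_notMem_of_card_lt_card (s := s.image f) (t := Finset.univ)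
    (lt_of_le_of_lt Finset.card_image_le (by rwa [Finset.card_univ, ← Nat.card_eq_fintype_card]))
  exact ⟨y, fun x hx he => hy (Finset.mem_image.2 ⟨x, hx, he⟩)⟩

open Classical in
theorem grid_const {I J : Type*} [Fintype I] [Nonempty J] {a : I → J → ℂ} (s : Finset (I × J))
    (hs : ∀ i j, a i j ≠ 0 → (i, j) ∈ s) (h1 : s.card < 2 * Nat.card I)
    (h4 : ∀ i k j, a i j = a k j) : ∃ l c, ∀ i j, a i j = if j = l then c else 0 := by
  by_cases h2 : ∃ i l, a i l ≠ 0
  · obtain ⟨i₀, l, h2⟩ := h2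
    refine ⟨l, a i₀ l, fun i j => ?_⟩
    split_ifs with hj
    · rw [hj, h4 i i₀]
    · by_contra h3
      have := Finset.card_le_card (s := Finset.univ ×ˢ {j, l}) (t := s) (fun ⟨m, n⟩ hm => by
        simp only [Finset.mem_product, Finset.mem_univ, Finset.mem_insert, Finset.mem_singleton,
          true_and] at hm
        rcases hm with rfl | rfl
        · exact hs _ _ (h4 i m _ ▸ h3)
        · exact hs _ _ (h4 i₀ m _ ▸ h2))
      rw [Finset.card_product, Finset.card_pair hj, Finset.card_univ,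
        ← Nat.card_eq_fintype_card] at this
      omega
  · push Not at h2
    exact ⟨Classical.arbitrary J, 0, by simp [h2]⟩

open Classical in
/-- The combinatorial content of Peterfalvi 3.8. -/
theorem grid_trichotomy {I J : Type*} [Fintype I] [Fintype J] {a : I → J → ℂ}
    (ha : ∀ i j k l, a i j + a k l = a i l + a k j) (s : Finset (I × J))
    (hs : ∀ i j, a i j ≠ 0 → (i, j) ∈ s) (h1 : s.card < 2 * Nat.card I)
    (h2 : s.card < 2 * Nat.card J) (h3 : s.card + 2 < Nat.card I + Nat.card J) :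
    (∃ l c, ∀ i j, a i j = if j = l then c else 0) ∨ (∃ k c, ∀ i j, a i j = if i = k then c else 0) := by
  have hI : Nonempty I := (Nat.card_pos_iff.1 (by omega)).1
  have hJ : Nonempty J := (Nat.card_pos_iff.1 (by omega)).1
  by_cases h4 : ∀ i k j, a i j = a k j
  · exact Or.inl (grid_const s hs h1 h4)
  by_cases h5 : ∀ j l i, a i j = a i l
  · exact Or.inr ((grid_const (a := fun j i => a i j) (s.map (Equiv.prodComm I J).toEmbedding)
      (fun j i h => by simpa using hs i j h) (by simpa using h2) h5).imp fun k ⟨c, h⟩ =>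
      ⟨c, fun i j => h j i⟩)
  push Not at h4 h5
  obtain ⟨i, k, j₁, h4⟩ := h4
  obtain ⟨j, l, i₁, h5⟩ := h5
  have h6 : ∀ m, a i m ≠ 0 ∨ a k m ≠ 0 := fun m => by
    by_contra h7
    push Not at h7
    exact h4 (by linear_combination ha i j₁ k m + h7.1 - h7.2)
  have h7 : ∀ m, a m j ≠ 0 ∨ a m l ≠ 0 := fun m => by
    by_contra h7
    push Not at h7
    exact h5 (by linear_combination ha i₁ j m l + h7.1 - h7.2)
  let t₁ := Finset.univ.image fun m : J => (if a i m ≠ 0 then i else k, m)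
  let t₂ := (Finset.univ \ {i, k}).image fun m : I => (m, if a m j ≠ 0 then j else l)
  have c1 : t₁.card = Nat.card J := by
    rw [Finset.card_image_of_injective _ fun x y h => (Prod.ext_iff.1 h).2, Finset.card_univ,
      Nat.card_eq_fintype_card]
  have c2 : Nat.card I ≤ t₂.card + 2 := by
    rw [Finset.card_image_of_injective _ fun x y h => (Prod.ext_iff.1 h).1,
      Nat.card_eq_fintype_card, ← Finset.card_univ,
      ← Finset.card_sdiff_add_card_eq_card (Finset.subset_univ {i, k})]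
    exact Nat.add_le_add_left Finset.card_le_two _
  have c3 : Disjoint t₁ t₂ := by
    simp only [t₁, t₂, Finset.disjoint_left, Finset.mem_image, Finset.mem_univ, true_and,
      Finset.mem_sdiff, Finset.mem_insert, Finset.mem_singleton, not_or]
    rintro _ ⟨m, rfl⟩ ⟨n, h8, h9⟩
    have := (Prod.ext_iff.1 h9).1
    simp only at this
    split_ifs at this
    exacts [h8.1 this, h8.2 this]
  have c4 : t₁ ∪ t₂ ⊆ s := by
    simp only [t₁, t₂, Finset.union_subset_iff, Finset.image_subset_iff]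
    refine ⟨fun m _ => hs _ _ ?_, fun m _ => hs _ _ ?_⟩
    · split_ifs with h8
      exacts [h8, (h6 m).resolve_left h8]
    · split_ifs with h8
      exacts [h8, (h7 m).resolve_left h8]
  have c5 := Finset.card_le_card c4
  rw [Finset.card_union_of_disjoint c3] at c5
  omega

namespace CycFam

variable [Fintype G] {f : A × B →* G} {η : (A →* ℂˣ) → (B →* ℂˣ) → G → ℂ} (h : CycFam f η)
include h

theorem swap : CycFam (swapHom f) (fun j i => η i j) where
  ti := h.ti.swap
  dirr j i := h.dirr i j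
  orth j i l k := by rw [h.orth]; by_cases h1 : i = k <;> by_cases h2 : j = l <;> simp [h1, h2]
  eq_on j i b a hb ha := by rw [swapHom_apply, h.eq_on i j a b ha hb, mul_comm]

theorem isGen (i : A →* ℂˣ) (j : B →* ℂˣ) : IsGeneralizedCharacter G (η i j) := (h.dirr i j).isGen

theorem isClassFunction (i : A →* ℂˣ) (j : B →* ℂˣ) : IsClassFunction G (η i j) :=
  (h.dirr i j).isClassFunction

theorem orth' (p q : (A →* ℂˣ) × (B →* ℂˣ)) :
    classInner (η p.1 p.2) (η q.1 q.2) = @ite _ (p = q) (Classical.propDecidable _) 1 0 := by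
  rw [h.orth]; congr 1; exact propext Prod.ext_iff.symm

theorem rip_eq (i k : A →* ℂˣ) (j l : B →* ℂˣ) :
    rip (η i j) (η k l) = if i = k ∧ j = l then 1 else 0 := by
  rw [rip, h.orth]; split_ifs <;> simp

theorem inj {i k : A →* ℂˣ} {j l : B →* ℂˣ} (he : η i j = η k l) : i = k ∧ j = l := by
  by_contra h1
  have := h.rip_eq i k j l
  rw [if_neg h1, he, (h.dirr k l).rip_self] at this
  exact one_ne_zero this

theorem classInner_ind_eta [Fintype A] [Fintype B] {α : A × B → ℂ}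
    (hα : ∀ a b, α (a, b) ≠ 0 → a ≠ 1 ∧ b ≠ 1) (i : A →* ℂˣ) (j : B →* ℂˣ) :
    classInner (indHom f α) (η i j) = classInner α (om i j) := by
  rw [frobenius_hom h.ti.inj _ (h.isClassFunction i j), classInner, classInner]
  congr 1
  refine Finset.sum_congr rfl fun ⟨a, b⟩ _ => ?_
  by_cases h1 : α (a, b) = 0
  · simp [h1]
  · rw [h.eq_on i j a b (hα a b h1).1 (hα a b h1).2, om_apply]

/-- Peterfalvi 3.2(a). -/
theorem ind_eq [Fintype A] [Fintype B] {α : A × B → ℂ}
    (hα : ∀ a b, α (a, b) ≠ 0 → a ≠ 1 ∧ b ≠ 1) :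
    indHom f α = ∑ p : (A →* ℂˣ) × (B →* ℂˣ), classInner α (om p.1 p.2) • η p.1 p.2 := by
  have := eq_sum_of_bessel Finset.univ (fun p : (A →* ℂˣ) × (B →* ℂˣ) => η p.1 p.2)
    (fun p _ q _ => h.orth' p q) (indHom f α) (by
      simp only [h.classInner_ind_eta hα]
      rw [rip, h.ti.classInner_ind hα, ← rip, rip_eq_sum_om h.ti.commA h.ti.commB])
  simpa only [h.classInner_ind_eta hα] using this

theorem ind_rect (i k : A →* ℂˣ) (j l : B →* ℂˣ) :
    indHom f (om i j + om k l - om i l - om k j) = η i j + η k l - η i l - η k j := by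
  classical
  have := h.ti.finiteA
  have := h.ti.finiteB
  have := Fintype.ofFinite A
  have := Fintype.ofFinite B
  rw [h.ind_eq (by
    intro a b h1
    constructor <;> rintro rfl <;> simp at h1)]
  simp only [classInner_add_left, classInner_sub_left, classInner_om, add_smul, sub_smul,
    Finset.sum_add_distrib, Finset.sum_sub_distrib, ite_smul, one_smul, zero_smul,
    Fintype.sum_prod_type, ite_and, Finset.sum_ite_irrel, Finset.sum_const_zero, Finset.sum_ite_eq,
    Finset.mem_univ, if_true]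

/-- Peterfalvi 3.2(c),(d): values on `V` are determined by the inner products with the family. -/
theorem apply_eq_sum [Finite A] [Finite B] {θ : G → ℂ} (hθ : IsClassFunction G θ) {a : A} {b : B}
    (ha : a ≠ 1) (hb : b ≠ 1) :
    θ (f (a, b)) = ∑ p : (A →* ℂˣ) × (B →* ℂˣ), classInner θ (η p.1 p.2) * (p.1 a * p.2 b) := by
  classical
  have := Fintype.ofFinite A
  have := Fintype.ofFinite B
  have := eq_zero_of_orth_om h.ti.commA h.ti.commB (φ := (fun w => θ (f w)) -
    ∑ p : (A →* ℂˣ) × (B →* ℂˣ), classInner θ (η p.1 p.2) • om p.1 p.2) (fun k l => by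
      have h1 : ∀ k l, classInner (∑ p : (A →* ℂˣ) × (B →* ℂˣ),
          classInner θ (η p.1 p.2) • om p.1 p.2) (om k l) = classInner θ (η k l) := fun k l => by
        simp only [classInner_sum_left, classInner_smul_left, classInner_om, mul_ite, mul_one,
          mul_zero, Fintype.sum_prod_type, ite_and, Finset.sum_ite_irrel, Finset.sum_const_zero,
          Finset.sum_ite_eq', Finset.mem_univ, if_true]
      rw [classInner_sub_left, ← frobenius_hom' h.ti.inj _ hθ,
        show om 1 1 - om k 1 - om 1 l + om k l = om 1 1 + om k l - om 1 l - om k 1 by abel,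
        h.ind_rect]
      simp only [classInner_add_right, classInner_sub_right, h1, sub_self]) ha hb
  simpa [sub_eq_zero] using this

theorem eq_zero_of_orth {θ : G → ℂ} (hθ : IsClassFunction G θ)
    (h0 : ∀ i j, classInner θ (η i j) = 0) {a : A} {b : B} (ha : a ≠ 1) (hb : b ≠ 1) :
    θ (f (a, b)) = 0 := by
  have := h.ti.finiteA
  have := h.ti.finiteB
  simp [h.apply_eq_sum hθ ha hb, h0]

/-- Peterfalvi 3.7. -/
theorem exchange {θ : G → ℂ} (hθ : IsClassFunction G θ)
    (hV : ∀ a b, a ≠ 1 → b ≠ 1 → θ (f (a, b)) = 0) (i k : A →* ℂˣ) (j l : B →* ℂˣ) :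
    classInner θ (η i j) + classInner θ (η k l) = classInner θ (η i l) + classInner θ (η k j) := by
  have := h.ti.finiteA
  have := h.ti.finiteB
  have := Fintype.ofFinite A
  have := Fintype.ofFinite B
  have h1 : classInner θ (indHom f (om i j + om k l - om i l - om k j)) = 0 := by
    rw [frobenius_hom' h.ti.inj _ hθ, classInner, Finset.sum_eq_zero, mul_zero]
    rintro ⟨a, b⟩ -
    by_cases ha : a = 1
    · simp [ha]
    by_cases hb : b = 1
    · simp [hb]
    rw [hV a b ha hb, zero_mul]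
  rw [h.ind_rect] at h1
  simp only [classInner_add_right, classInner_sub_right] at h1
  linear_combination h1

theorem orth_of_card {θ : G → ℂ} (hθ : IsClassFunction G θ)
    (hV : ∀ a b, a ≠ 1 → b ≠ 1 → θ (f (a, b)) = 0) (s : Finset ((A →* ℂˣ) × (B →* ℂˣ)))
    (hs : ∀ i j, classInner θ (η i j) ≠ 0 → (i, j) ∈ s) (h1 : s.card < Nat.card A)
    (h2 : s.card < Nat.card B) (i : A →* ℂˣ) (j : B →* ℂˣ) : classInner θ (η i j) = 0 := by
  have := h.ti.finiteA
  have := h.ti.finiteB
  obtain ⟨k, hk⟩ := exists_not_mem_image s Prod.fst (h.ti.card_lcA ▸ h1)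
  obtain ⟨l, hl⟩ := exists_not_mem_image s Prod.snd (h.ti.card_lcB ▸ h2)
  have h3 : ∀ j, classInner θ (η k j) = 0 := fun j => by_contra fun h3 => hk _ (hs _ _ h3) rfl
  have h4 : ∀ i, classInner θ (η i l) = 0 := fun i => by_contra fun h3 => hl _ (hs _ _ h3) rfl
  simpa [h3, h4] using h.exchange hθ hV i k j l

open Classical in
theorem card_supp_le [Finite A] [Finite B] {θ : G → ℂ} (hθ : IsGeneralizedCharacter G θ) :
    ((Finset.univ.filter fun p : (A →* ℂˣ) × (B →* ℂˣ) => classInner θ (η p.1 p.2) ≠ 0).card : ℝ) ≤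
      rip θ θ := by
  refine le_trans ?_ (bessel (Finset.univ.filter fun p : (A →* ℂˣ) × (B →* ℂˣ) =>
    classInner θ (η p.1 p.2) ≠ 0) (fun p => η p.1 p.2) (fun p _ q _ => h.orth' p q) θ)
  rw [Finset.card_eq_sum_ones, Nat.cast_sum]
  refine Finset.sum_le_sum fun p hp => ?_
  obtain ⟨n, hn⟩ := hθ.classInner_eq_int (h.isGen p.1 p.2)
  have h1 := (Finset.mem_filter.1 hp).2
  rw [hn] at h1 ⊢
  have h2 : n ≠ 0 := by exact_mod_cast h1
  rw [Complex.norm_intCast, sq_abs]
  exact_mod_cast (one_le_sq_iff_one_le_abs n).2 (Int.one_le_abs h2)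

theorem orth_of_rip {θ : G → ℂ} (hθ : IsGeneralizedCharacter G θ)
    (hV : ∀ a b, a ≠ 1 → b ≠ 1 → θ (f (a, b)) = 0) (h1 : rip θ θ < Nat.card A)
    (h2 : rip θ θ < Nat.card B) (i : A →* ℂˣ) (j : B →* ℂˣ) : classInner θ (η i j) = 0 := by
  classical
  have := h.ti.finiteA
  have := h.ti.finiteB
  have h3 := h.card_supp_le hθ
  exact h.orth_of_card hθ.isClassFunction hV
    (Finset.univ.filter fun p : (A →* ℂˣ) × (B →* ℂˣ) => classInner θ (η p.1 p.2) ≠ 0)
    (fun i j h => by simpa using h)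
    (by exact_mod_cast h3.trans_lt h1) (by exact_mod_cast h3.trans_lt h2) i j

theorem orth_of_rip_le_two {θ : G → ℂ} (hθ : IsGeneralizedCharacter G θ)
    (hV : ∀ a b, a ≠ 1 → b ≠ 1 → θ (f (a, b)) = 0) (h1 : rip θ θ ≤ 2) (i : A →* ℂˣ)
    (j : B →* ℂˣ) : classInner θ (η i j) = 0 := by
  have h2 : (3 : ℝ) ≤ Nat.card A := by exact_mod_cast h.ti.three_le_A
  have h3 : (3 : ℝ) ≤ Nat.card B := by exact_mod_cast h.ti.three_le_B
  exact h.orth_of_rip hθ hV (by linarith) (by linarith) i j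

/-- Peterfalvi 3.9(a), uniqueness. -/
theorem eq_of_dirr {χ : G → ℂ} (hχ : IsDirr G χ) {i : A →* ℂˣ} {j : B →* ℂˣ}
    (hV : ∀ a b, a ≠ 1 → b ≠ 1 → χ (f (a, b)) = i a * j b) : χ = η i j := by
  by_contra h1
  by_cases h2 : χ = -η i j
  · have := h.ti.finiteA
    have := h.ti.finiteB
    have := Finite.one_lt_card_iff_nontrivial.1 h.ti.ntA
    have := Finite.one_lt_card_iff_nontrivial.1 h.ti.ntB
    obtain ⟨a, ha⟩ := exists_ne (1 : A)
    obtain ⟨b, hb⟩ := exists_ne (1 : B)
    have h3 := hV a b ha hb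
    rw [h2, Pi.neg_apply, h.eq_on i j a b ha hb] at h3
    exact mul_ne_zero (i a).ne_zero (j b).ne_zero (by linear_combination -h3 / 2)
  · have h3 := hχ.rip_eq_zero (h.dirr i j) h1 h2
    have h4 := rip_eq_zero (h.orth_of_rip_le_two (hχ.isGen.sub (h.isGen i j))
      (fun a b ha hb => by rw [Pi.sub_apply, hV a b ha hb, h.eq_on i j a b ha hb, sub_self])
      (by simp [h3, rip_comm (η i j) χ, hχ.rip_self, (h.dirr i j).rip_self]; norm_num) i j)
    simp [h3, (h.dirr i j).rip_self] at h4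

theorem one : η 1 1 = fun _ => 1 :=
  (h.eq_of_dirr isIrrCharacter_one.isDirr fun _ _ _ _ => by simp).symm

theorem unique {η' : (A →* ℂˣ) → (B →* ℂˣ) → G → ℂ} (h' : CycFam f η') : η' = η := by
  ext1 i; ext1 j
  exact h.eq_of_dirr (h'.dirr i j) (h'.eq_on i j)

theorem map (σ : ℂ →+* ℂ) (i : A →* ℂˣ) (j : B →* ℂˣ) :
    η (autLc σ i) (autLc σ j) = fun g => σ (η i j g) :=
  (h.eq_of_dirr ((h.dirr i j).map_ringHom σ) fun a b ha hb => by
    simp [h.eq_on i j a b ha hb]).symm

theorem conjFun_eq (i : A →* ℂˣ) (j : B →* ℂˣ) : conjFun (η i j) = η i⁻¹ j⁻¹ := by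
  have := h.ti.finiteA
  have := h.ti.finiteB
  rw [← autLc_conj, ← autLc_conj, h.map]
  rfl

theorem ind_alpha (i : A →* ℂˣ) (j : B →* ℂˣ) :
    indHom f (om 1 1 - om i 1 - om 1 j + om i j) = (fun _ => 1) - η i 1 - η 1 j + η i j := by
  rw [show om 1 1 - om i 1 - om 1 j + om i j = om 1 1 + om i j - om 1 j - om i 1 by abel,
    h.ind_rect, h.one]
  abel

/-- Peterfalvi 3.9(b). -/
theorem exists_aut {i : A →* ℂˣ} {j : B →* ℂˣ} {n k m : ℕ} (hn : n ≠ 0) (hm : m ≠ 0)
    (hi : i ^ n = 1) (hj : j ^ n = 1) (hk : k.Coprime n) (hnm : n.Coprime m) :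
    ∃ σ : ℂ →+* ℂ, (η (i ^ k) (j ^ k) = fun g => σ (η i j g)) ∧
      ∀ χ, IsGeneralizedCharacter G χ → ∀ g, orderOf g ∣ m → σ (χ g) = χ g := by
  obtain ⟨σ, h1, h2⟩ := exists_ringHom_pow_fix hn hm hnm hk
  refine ⟨σ, by rw [← h.map, autLc_eq_pow h1 hi, autLc_eq_pow h1 hj], fun χ hχ g hg => ?_⟩
  rw [hχ.ringHom_apply σ (k := 1) g fun z hz => by
    rw [h2 z (pow_eq_one_of_orderOf_dvd hg hz), pow_one], pow_one]

theorem pow_apply {i : A →* ℂˣ} {j : B →* ℂˣ} {n k : ℕ} (hn : n ≠ 0)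
    (hi : i ^ n = 1) (hj : j ^ n = 1) (hk : k.Coprime n) {g : G} (hg : (orderOf g).Coprime n) :
    η (i ^ k) (j ^ k) g = η i j g := by
  obtain ⟨σ, h1, h2⟩ := h.exists_aut hn (orderOf_pos g).ne' hi hj hk hg.symm
  rw [h1]
  exact h2 _ (h.isGen i j) g dvd_rfl

/-- Peterfalvi 3.9(c). -/
theorem exists_int {i : A →* ℂˣ} {j : B →* ℂˣ} {n : ℕ} (hn : n ≠ 0)
    (hi : i ^ n = 1) (hj : j ^ n = 1) {g : G} (hg : (orderOf g).Coprime n) :
    ∃ m : ℤ, η i j g = m := by
  refine exists_int_of_forall_ringEquiv ((h.isGen i j).isIntegral g) fun σ => ?_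
  obtain ⟨k, hk, h1⟩ := exists_pow_of_ringHom hn (σ : ℂ →+* ℂ)
  have := congrFun (h.map σ i j) g
  rw [autLc_eq_pow h1 hi, autLc_eq_pow h1 hj, h.pow_apply hn hi hj hk hg] at this
  exact this.symm

end CycFam

end Cfsg.Agent.Char
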