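import Cfsg.Agent.Lib.Char.Vchar
import Cfsg.Agent.Lib.Char.Elem
import Cfsg.Agent.Lib.Solv.Basic
import Cfsg.Prelude.Def_OddOrderLocal

/-!
The Dade isometry (Peterfalvi, section 2).
-/

set_option autoImplicit false

namespace Cfsg.Agent.Char

open scoped ComplexConjugate Pointwise

variable {G : Type*} [Group G]

/-- Average of a function over a subgroup. -/
noncomputable def avg (K : Subgroup G) (f : G → ℂ) : ℂ :=
  (Nat.card K : ℂ)⁻¹ * ∑ᶠ u ∈ (K : Set G), f u

theorem finsum_mem_subgroup {M : Type*} [AddCommMonoid M] (K : Subgroup G) [Fintype K] (f : G → M) :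
    ∑ᶠ u ∈ (K : Set G), f u = ∑ u : K, f u := by
  rw [← finsum_set_coe_eq_finsum_mem, finsum_eq_sum_of_fintype]
  rfl

theorem avg_eq (K : Subgroup G) [Fintype K] (f : G → ℂ) :
    avg K f = (Nat.card K : ℂ)⁻¹ * ∑ u : K, f u := by
  rw [avg, finsum_mem_subgroup]

theorem avg_congr {K : Subgroup G} {f f' : G → ℂ} (h : ∀ u ∈ K, f u = f' u) : avg K f = avg K f' := by
  rw [avg, avg, finsum_mem_congr rfl h]

theorem avg_const [Finite G] (K : Subgroup G) (c : ℂ) : avg K (fun _ => c) = c := by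
  classical
  have := Fintype.ofFinite K
  have := card_ne_zero' K
  rw [avg_eq, Finset.sum_const, Finset.card_univ, ← Nat.card_eq_fintype_card, nsmul_eq_mul]
  field_simp

theorem avg_of_eq_bot {K : Subgroup G} (h : K = ⊥) (f : G → ℂ) : avg K f = f 1 := by
  subst h
  simp [avg]

theorem avg_add [Finite G] (K : Subgroup G) (f f' : G → ℂ) :
    avg K (fun u => f u + f' u) = avg K f + avg K f' := by
  have := Fintype.ofFinite K
  simp only [avg_eq, Finset.sum_add_distrib, mul_add]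

theorem avg_mul [Finite G] (K : Subgroup G) (c : ℂ) (f : G → ℂ) :
    avg K (fun u => c * f u) = c * avg K f := by
  have := Fintype.ofFinite K
  simp only [avg_eq, ← Finset.mul_sum]
  ring

theorem avg_map [Finite G] (K : Subgroup G) (σ : ℂ →+* ℂ) (f : G → ℂ) :
    avg K (fun u => σ (f u)) = σ (avg K f) := by
  have := Fintype.ofFinite K
  simp only [avg_eq, map_mul, map_sum, map_inv₀, map_natCast]

theorem avg_conj_smul [Finite G] (K : Subgroup G) (x : G) (f : G → ℂ) :
    avg (MulAut.conj x • K) f = avg K (fun u => f (x * u * x⁻¹)) := by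
  have := Fintype.ofFinite K
  have := Fintype.ofFinite (MulAut.conj x • K : Subgroup G)
  rw [avg_eq, avg_eq, Solv.card_conj_smul]
  congr 1
  exact (Fintype.sum_equiv (Subgroup.equivSMul (MulAut.conj x) K).toEquiv _ _ fun u => rfl).symm

theorem norm_avg_sq_le [Finite G] (K : Subgroup G) (f : G → ℂ) :
    ‖avg K f‖ ^ 2 ≤ (avg K fun u => ((‖f u‖ ^ 2 : ℝ) : ℂ)).re := by
  have := Fintype.ofFinite K
  have h1 := rip_sq_le (G := K) (fun u => ((‖f u‖ : ℝ) : ℂ)) (fun _ => 1)
  rw [isIrrCharacter_one.rip_self, mul_one, rip, rip, classInner_one_right, classInner_self_re] at h1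
  have h2 : (0 : ℝ) < Nat.card K := by exact_mod_cast Nat.card_pos
  rw [avg_eq, avg_eq, ← Complex.ofReal_sum, ← Complex.ofReal_natCast, ← Complex.ofReal_inv,
    ← Complex.ofReal_mul, Complex.ofReal_re]
  rw [← Complex.ofReal_sum, ← Complex.ofReal_natCast, ← Complex.ofReal_inv,
    ← Complex.ofReal_mul, Complex.ofReal_re] at h1
  simp only [Complex.norm_real, norm_norm] at h1
  refine le_trans (pow_le_pow_left₀ (norm_nonneg _) ?_ 2) h1
  rw [norm_mul, Complex.norm_real, Real.norm_of_nonneg (by positivity)]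
  exact mul_le_mul_of_nonneg_left (norm_sum_le _ _) (by positivity)

section coset

variable [Finite G] {K : Subgroup G} {b : G}

theorem coset_fiber (hcop : (orderOf b).Coprime (Nat.card K)) {x y c d : G} (hc : c ∈ K)
    (hd : d ∈ K) (hcb : Commute c b) (hdb : Commute d b) (hx : x ∈ K) (hy : y ∈ K)
    (h : x * (c * b) * x⁻¹ = y * (d * b) * y⁻¹) : Commute (y⁻¹ * x) b := by
  have h1 : ((y⁻¹ * x) * c * (y⁻¹ * x)⁻¹) * ((y⁻¹ * x) * b * (y⁻¹ * x)⁻¹) = d * b := by
    calc _ = y⁻¹ * (x * (c * b) * x⁻¹) * y := by group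
      _ = _ := by rw [h]; group
  have h2 := (coprime_decomp_unique h1 (hcb.map (MulAut.conj (y⁻¹ * x))) hdb (by
    have h3 : orderOf ((y⁻¹ * x) * b * (y⁻¹ * x)⁻¹) = orderOf b :=
      (MulAut.conj (y⁻¹ * x)).orderOf_eq b
    rw [h3]
    have h4 : orderOf ((y⁻¹ * x) * c * (y⁻¹ * x)⁻¹) ∣ Nat.card K :=
      K.orderOf_dvd_natCard (K.mul_mem (K.mul_mem (K.mul_mem (K.inv_mem hy) hx) hc)
        (K.inv_mem (K.mul_mem (K.inv_mem hy) hx)))
    have h5 := K.orderOf_dvd_natCard hd
    exact Nat.Coprime.mul_left (Nat.Coprime.mul_right (hcop.symm.coprime_dvd_left h4)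
      (hcop.symm.coprime_dvd_left h4)) (Nat.Coprime.mul_right (hcop.symm.coprime_dvd_left h5)
      (hcop.symm.coprime_dvd_left h5)))).2
  exact mul_inv_eq_iff_eq_mul.1 h2

/-- The coset `K b` is evenly covered by the conjugates of `C_K(b) b`. -/
theorem coset_cover (hb : b ∈ Subgroup.normalizer (K : Set G))
    (hcop : (orderOf b).Coprime (Nat.card K)) (h : K) :
    Nat.card {p : K × (K ⊓ Subgroup.centralizer {b} : Subgroup G) //
      (p.1 : G) * (p.2 * b) * (p.1 : G)⁻¹ = h * b} =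
      Nat.card (K ⊓ Subgroup.centralizer {b} : Subgroup G) := by
  classical
  set C : Subgroup G := K ⊓ Subgroup.centralizer {b}
  have hC : ∀ c : C, Commute (c : G) b := fun c => Subgroup.mem_centralizer_singleton_iff.1 c.2.2
  have := Fintype.ofFinite K
  have := Fintype.ofFinite C
  let φ : K × C → K := fun p => ⟨p.1 * p.2 * (b * (p.1 : G)⁻¹ * b⁻¹),
    K.mul_mem (K.mul_mem p.1.2 p.2.2.1) (Solv.conj_mem_of_mem_normalizer hb (K.inv_mem p.1.2))⟩
  have hφ : ∀ p h, φ p = h ↔ (p.1 : G) * (p.2 * b) * (p.1 : G)⁻¹ = h * b := by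
    intro p h
    rw [Subtype.ext_iff, ← mul_left_inj b]
    simp only [φ, mul_assoc, inv_mul_cancel, mul_one]
  have h1 : ∀ h : K, (Finset.univ.filter fun p => φ p = h).card ≤ Fintype.card C := by
    intro h
    rcases (Finset.univ.filter fun p => φ p = h).eq_empty_or_nonempty with h0 | ⟨q, hq⟩
    · simp [h0]
    have h2 : ∀ p, φ p = h → (q.1 : G)⁻¹ * p.1 ∈ C := fun p hp =>
      ⟨K.mul_mem (K.inv_mem q.1.2) p.1.2, Subgroup.mem_centralizer_singleton_iff.2
        (coset_fiber hcop p.2.2.1 q.2.2.1 (hC _) (hC _) p.1.2 q.1.2 (by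
          rw [(hφ _ _).1 hp, (hφ _ _).1 (Finset.mem_filter.1 hq).2]))⟩
    rw [← Fintype.card_subtype]
    refine Fintype.card_le_of_injective (fun p => ⟨_, h2 p.1 p.2⟩) ?_
    rintro ⟨⟨x, c⟩, hp⟩ ⟨⟨y, d⟩, hp'⟩ h3
    have h4 : x = y := Subtype.ext (by simpa using h3)
    subst h4
    have h5 := ((hφ _ _).1 hp).trans ((hφ _ _).1 hp').symm
    have h6 : c = d := Subtype.ext (by simpa using h5)
    subst h6
    rfl
  have h2 := Finset.card_eq_sum_card_fiberwise (f := φ) (s := Finset.univ) (t := Finset.univ)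
    (fun _ _ => Finset.mem_coe.2 (Finset.mem_univ _))
  have h3 := (Finset.sum_eq_sum_iff_of_le (fun h _ => h1 h)).1 (by
    rw [← h2]; simp) h (Finset.mem_univ _)
  rw [Nat.card_eq_fintype_card, Nat.card_eq_fintype_card, ← h3, Fintype.card_subtype]
  simp only [hφ]

/-- Peterfalvi 2.1. -/
theorem exists_conj_mul_eq (hb : b ∈ Subgroup.normalizer (K : Set G))
    (hcop : (orderOf b).Coprime (Nat.card K)) {h : G} (hh : h ∈ K) :
    ∃ x ∈ K, ∃ c ∈ K, c * b = b * c ∧ x * (h * b) * x⁻¹ = c * b := by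
  have h1 := coset_cover hb hcop ⟨h, hh⟩
  obtain ⟨⟨⟨x, c⟩, h2⟩⟩ := (Nat.card_pos_iff.1 (lt_of_lt_of_eq Nat.card_pos h1.symm)).1
  refine ⟨x⁻¹, K.inv_mem x.2, c, c.2.1, Subgroup.mem_centralizer_singleton_iff.1 c.2.2, ?_⟩
  simp only at h2
  rw [← h2]; group

theorem avg_coset_eq (hb : b ∈ Subgroup.normalizer (K : Set G))
    (hcop : (orderOf b).Coprime (Nat.card K)) {f : G → ℂ} (hf : IsClassFunction G f) :
    avg K (fun u => f (u * b)) = avg (K ⊓ Subgroup.centralizer {b}) (fun u => f (u * b)) := by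
  classical
  set C : Subgroup G := K ⊓ Subgroup.centralizer {b}
  have := Fintype.ofFinite K
  have := Fintype.ofFinite C
  have h1 : ∑ p : K × C, f (p.1 * (p.2 * b) * (p.1 : G)⁻¹) = Nat.card K * ∑ c : C, f (c * b) := by
    simp only [hf.apply_conj, Fintype.sum_prod_type, Finset.sum_const, Finset.card_univ,
      nsmul_eq_mul, Nat.card_eq_fintype_card]
  have h2 : ∑ p : K × C, f (p.1 * (p.2 * b) * (p.1 : G)⁻¹) = Nat.card C * ∑ h : K, f (h * b) := by
    let φ : K × C → K := fun p => ⟨p.1 * p.2 * (b * (p.1 : G)⁻¹ * b⁻¹),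
      K.mul_mem (K.mul_mem p.1.2 p.2.2.1) (Solv.conj_mem_of_mem_normalizer hb (K.inv_mem p.1.2))⟩
    have hφ : ∀ p h, φ p = h ↔ (p.1 : G) * (p.2 * b) * (p.1 : G)⁻¹ = h * b := by
      intro p h
      rw [Subtype.ext_iff, ← mul_left_inj b]
      simp only [φ, mul_assoc, inv_mul_cancel, mul_one]
    rw [← Finset.sum_fiberwise (s := Finset.univ) φ, Finset.mul_sum]
    refine Finset.sum_congr rfl fun h _ => ?_
    rw [Finset.sum_congr rfl fun p hp => by rw [(hφ p h).1 (Finset.mem_filter.1 hp).2],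
      Finset.sum_const, nsmul_eq_mul, ← coset_cover hb hcop h, Nat.card_eq_fintype_card,
      Fintype.card_subtype]
    simp only [hφ]
    convert rfl
  have h3 := card_ne_zero' K
  have h4 := card_ne_zero' C
  rw [avg_eq, avg_eq]
  field_simp
  rw [← h1, h2, mul_comm]

end coset

theorem exists_int_avg [Finite G] {K N : Subgroup G} [Fintype N]
    (hN : N ≤ Subgroup.normalizer (K : Set G)) (hd : K ⊓ N = ⊥) {α : N → ℂ}
    (hα : IsGeneralizedCharacter N α) {χ : G → ℂ} (hχ : IsGeneralizedCharacter G χ) :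
    ∃ n : ℤ, (Nat.card N : ℂ)⁻¹ * ∑ y : N, α y * conj (avg K fun u => χ (u * y)) = n := by
  classical
  have := Fintype.ofFinite G
  have : (K.subgroupOf (K ⊔ N)).Normal :=
    (Subgroup.normal_subgroupOf_iff_le_normalizer le_sup_left).2 (sup_le Subgroup.le_normalizer hN)
  have hc : (K.subgroupOf (K ⊔ N)).IsComplement' (N.subgroupOf (K ⊔ N)) :=
    Solv.isComplement'_of_inf_eq_bot_of_sup_eq_top
      (by rw [Subgroup.subgroupOf, Subgroup.subgroupOf, ← Subgroup.comap_inf, hd]; exact Subgroup.bot_subgroupOf _)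
      (by rw [← Subgroup.subgroupOf_sup le_sup_left le_sup_right, Subgroup.subgroupOf_self])
  let e1 := Subgroup.subgroupOfEquivOfLe (le_sup_left : K ≤ K ⊔ N)
  let e2 := Subgroup.subgroupOfEquivOfLe (le_sup_right : N ≤ K ⊔ N)
  let r : (K ⊔ N : Subgroup G) →* N :=
    e2.toMonoidHom.comp (hc.symm.QuotientMulEquiv.toMonoidHom.comp (QuotientGroup.mk' _))
  have hr : ∀ (a : K.subgroupOf (K ⊔ N)) (y : N.subgroupOf (K ⊔ N)), r (a * y) = e2 y := by
    intro a y
    have h1 : ((a * y : (K ⊔ N : Subgroup G)) : (K ⊔ N : Subgroup G) ⧸ K.subgroupOf (K ⊔ N)) =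
        (y : (K ⊔ N : Subgroup G)) := by
      rw [QuotientGroup.mk_mul, (QuotientGroup.eq_one_iff _).2 a.2, one_mul]
    simp only [r, MulEquiv.toMonoidHom_eq_coe, MonoidHom.comp_apply, QuotientGroup.mk'_apply, h1,
      MonoidHom.coe_coe]
    congr 1
    exact hc.symm.QuotientMulEquiv.apply_symm_apply y
  obtain ⟨n, hn⟩ := (hα.comp r).classInner_eq_int (hχ.res (K ⊔ N))
  refine ⟨n, ?_⟩
  rw [← hn, classInner, sum_eq_sum_of_isComplement' hc, Finset.sum_comm, ← hc.card_mul,
    Nat.card_congr e1.toEquiv, Nat.card_congr e2.toEquiv, ← e2.toEquiv.sum_comp, Nat.cast_mul,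
    mul_inv, mul_comm (Nat.card K : ℂ)⁻¹, mul_assoc, Finset.mul_sum _ _ (Nat.card K : ℂ)⁻¹]
  congr 1
  refine Finset.sum_congr rfl fun y _ => ?_
  simp only [hr, avg_eq, map_mul, map_inv₀, map_natCast, map_sum, ← Finset.mul_sum]
  rw [← e1.toEquiv.sum_comp, mul_left_comm]
  rfl

theorem exists_int_sum_orbits_aux {Γ X : Type*} [Group Γ] [Finite Γ] [Fintype X] [MulAction Γ X]
    (f : X → ℂ) (hf : ∀ x, ∃ n : ℤ, f x = n) (hinv : ∀ (g : Γ) x, f (g • x) = f x) :
    ∃ n : ℤ, ∑ x, (Nat.card (MulAction.stabilizer Γ x) : ℂ) / Nat.card Γ * f x = n := by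
  classical
  choose c hc using hf
  refine ⟨∑ ω : MulAction.orbitRel.Quotient Γ X, c ω.out, ?_⟩
  rw [← Finset.sum_fiberwise (s := Finset.univ) (Quotient.mk (MulAction.orbitRel Γ X)),
    Int.cast_sum]
  refine Finset.sum_congr rfl fun ω _ => ?_
  have h1 : ∀ x, Quotient.mk (MulAction.orbitRel Γ X) x = ω ↔ x ∈ MulAction.orbit Γ ω.out := by
    intro x
    rw [← MulAction.orbitRel_apply, ← Quotient.eq, Quotient.out_eq]
  rw [Finset.sum_congr rfl (g := fun _ =>
    (Nat.card (MulAction.stabilizer Γ ω.out) : ℂ) / Nat.card Γ * c ω.out)]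
  · rw [Finset.sum_const, nsmul_eq_mul, ← mul_assoc, ← Fintype.card_subtype,
      ← Nat.card_eq_fintype_card, Nat.card_congr (Equiv.subtypeEquivRight h1),
      ← (MulAction.stabilizer Γ ω.out).index_mul_card, MulAction.index_stabilizer]
    have h2 := card_ne_zero' (MulAction.stabilizer Γ ω.out)
    have h3 : ((MulAction.orbit Γ ω.out).ncard : ℂ) ≠ 0 := by
      rw [← MulAction.index_stabilizer]
      exact_mod_cast Subgroup.index_ne_zero_of_finite
    rw [Nat.card_coe_set_eq]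
    push_cast
    field_simp
  · intro x hx
    obtain ⟨g, rfl⟩ := (h1 x).1 (Finset.mem_filter.1 hx).2
    simp only
    rw [hinv, hc, MulAction.stabilizer_smul_eq_stabilizer_map_conj,
      Subgroup.card_map_of_injective (MulAut.conj g).injective]

theorem exists_int_sum_orbits {Γ X M : Type*} [Group Γ] [Finite Γ] [Fintype X] [Group M]
    [MulAction M X] (φ : Γ →* M) (f : X → ℂ) (hf : ∀ x, ∃ n : ℤ, f x = n)
    (hinv : ∀ (g : Γ) x, f (φ g • x) = f x) :
    ∃ n : ℤ, ∑ x, (Nat.card ((MulAction.stabilizer M x).comap φ) : ℂ) / Nat.card Γ * f x = n :=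
  @exists_int_sum_orbits_aux Γ X _ _ _ (MulAction.compHom X φ) f hf hinv

/-- The primes attached to a Dade set-up. -/
def dadePi (A : Set G) (L : Subgroup G) : Set ℕ :=
  {q | ∃ b ∈ A, q ∣ Nat.card ↥(L ⊓ Subgroup.centralizer ({b} : Set G))}

/-- The support of the Dade map. -/
def dadeSupp (A : Set G) (H : G → Subgroup G) : Set G :=
  {g | ∃ a ∈ A, ∃ u ∈ H a, ∃ x : G, x * g * x⁻¹ = a * u}

/-- The Dade map as a linear map. -/
noncomputable def dadeLin (A : Set G) (L : Subgroup G) (H : G → Subgroup G) :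
    (L → ℂ) →ₗ[ℂ] (G → ℂ) where
  toFun := dadeIsometry A L H
  map_add' α β := by
    ext g
    simp only [dadeIsometry, Pi.add_apply]
    split_ifs <;> simp
  map_smul' c α := by
    ext g
    simp only [dadeIsometry, Pi.smul_apply, RingHom.id_apply]
    split_ifs <;> simp

theorem coe_dadeLin (A : Set G) (L : Subgroup G) (H : G → Subgroup G) :
    ⇑(dadeLin A L H) = dadeIsometry A L H := rfl

theorem dadeLin_map (A : Set G) (L : Subgroup G) (H : G → Subgroup G) (σ : ℂ →+* ℂ) (α : L → ℂ) :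
    dadeLin A L H (fun x => σ (α x)) = fun g => σ (dadeLin A L H α g) := by
  ext g
  simp only [coe_dadeLin, dadeIsometry]
  split_ifs <;> simp

theorem dadeLin_conjFun (A : Set G) (L : Subgroup G) (H : G → Subgroup G) (α : L → ℂ) :
    dadeLin A L H (conjFun α) = conjFun (dadeLin A L H α) := dadeLin_map A L H _ α

theorem dadeLin_of_not_mem {A : Set G} {L : Subgroup G} {H : G → Subgroup G} (α : L → ℂ) {g : G}
    (hg : g ∉ dadeSupp A H) : dadeLin A L H α g = 0 := by
  rw [coe_dadeLin, dadeIsometry, dif_neg]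
  rintro ⟨a, ha, x, u, hu, h⟩
  exact hg ⟨a, ha, u, hu, x, h⟩

theorem conj_mem_dadeSupp {A : Set G} {H : G → Subgroup G} {g x : G} :
    x * g * x⁻¹ ∈ dadeSupp A H ↔ g ∈ dadeSupp A H := by
  constructor
  · rintro ⟨a, ha, u, hu, y, h⟩
    exact ⟨a, ha, u, hu, y * x, by rw [← h]; group⟩
  · rintro ⟨a, ha, u, hu, y, h⟩
    exact ⟨a, ha, u, hu, y * x⁻¹, by rw [← h]; group⟩

theorem dadeSupp_mono {A A' : Set G} (h : A ⊆ A') (H : G → Subgroup G) :
    dadeSupp A H ⊆ dadeSupp A' H := fun _ ⟨a, ha, h1⟩ => ⟨a, h ha, h1⟩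

theorem mul_mem_dadeSupp {A : Set G} {H : G → Subgroup G} {a u : G} (ha : a ∈ A) (hu : u ∈ H a) :
    a * u ∈ dadeSupp A H := ⟨a, ha, u, hu, 1, by simp⟩

theorem mem_dadeSupp_of_mem {A : Set G} (H : G → Subgroup G) {a : G} (ha : a ∈ A) :
    a ∈ dadeSupp A H := by simpa using mul_mem_dadeSupp ha (H a).one_mem

open Classical in
/-- The adjoint of the Dade map (Peterfalvi's `ρ`). -/
noncomputable def dadeRho [Finite G] (A : Set G) (L : Subgroup G) (H : G → Subgroup G) :
    (G → ℂ) →ₗ[ℂ] (L → ℂ) where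
  toFun χ a := if (a : G) ∈ A then avg (H a) fun u => χ (a * u) else 0
  map_add' α β := by
    ext g
    simp only [Pi.add_apply, avg_add]
    split_ifs <;> simp
  map_smul' c α := by
    ext g
    simp only [Pi.smul_apply, RingHom.id_apply, smul_eq_mul, avg_mul]
    split_ifs <;> simp

theorem dadeRho_of_mem [Finite G] {A : Set G} {L : Subgroup G} (H : G → Subgroup G) (χ : G → ℂ)
    {a : L} (ha : (a : G) ∈ A) : dadeRho A L H χ a = avg (H a) fun u => χ (a * u) := if_pos ha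

theorem dadeRho_of_not_mem [Finite G] {A : Set G} {L : Subgroup G} (H : G → Subgroup G) (χ : G → ℂ)
    {a : L} (ha : (a : G) ∉ A) : dadeRho A L H χ a = 0 := if_neg ha

end Cfsg.Agent.Char

namespace Cfsg.DadeHypothesis

open Cfsg.Agent Cfsg.Agent.Char
open scoped ComplexConjugate Pointwise

variable {G : Type*} [Group G] {A : Set G} {L : Subgroup G} {H : G → Subgroup G}
  (hD : DadeHypothesis A L H)
include hD

theorem commute {a u : G} (ha : a ∈ A) (hu : u ∈ H a) : Commute a u :=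
  (Subgroup.mem_centralizer_singleton_iff.1 (hD.le_centralizer a ha hu)).symm

theorem ne_one {a : G} (ha : a ∈ A) : a ≠ 1 := fun h => hD.one_not_mem (h ▸ ha)

theorem conj_mem_iff {x a : G} (hx : x ∈ L) : x * a * x⁻¹ ∈ A ↔ a ∈ A :=
  ⟨fun h => by simpa [mul_assoc] using hD.conj_mem x⁻¹ (L.inv_mem hx) _ h, hD.conj_mem x hx a⟩

theorem eq_one_of_mem {a u : G} (ha : a ∈ A) (hu : u ∈ H a) (hL : u ∈ L) : u = 1 :=
  Subgroup.mem_bot.1 (hD.inf_eq_bot a ha ▸ ⟨hu, hL, hD.le_centralizer a ha hu⟩)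

theorem isPiElt {a : G} (ha : a ∈ A) : IsPiElt (dadePi A L) a := fun _ _ hq =>
  ⟨a, ha, hq.trans (Subgroup.orderOf_dvd_natCard _
    ⟨hD.subset ha, Subgroup.mem_centralizer_singleton_iff.2 rfl⟩)⟩

theorem isPiElt_H {a u : G} (ha : a ∈ A) (hu : u ∈ H a) : IsPiElt (dadePi A L)ᶜ u := by
  rintro q hq h1 ⟨b, hb, h2⟩
  exact hq.one_lt.ne' (Nat.eq_one_of_dvd_coprimes (hD.coprime a ha b hb)
    (h1.trans ((H a).orderOf_dvd_natCard hu)) h2)

theorem centralizer_le_normalizer [Finite G] {a : G} (ha : a ∈ A) :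
    Subgroup.centralizer {a} ≤ Subgroup.normalizer (H a : Set G) := fun c hc =>
  Solv.mem_normalizer_of_conj_mem (hD.conj_mem_H a ha c hc)

theorem card_centralizer [Finite G] {a : G} (ha : a ∈ A) :
    Nat.card (Subgroup.centralizer ({a} : Set G)) =
      Nat.card ↥(L ⊓ Subgroup.centralizer ({a} : Set G)) * Nat.card (H a) := by
  rw [← Solv.card_sup_of_disjoint (inf_le_right.trans (hD.centralizer_le_normalizer ha))
    (by rw [inf_comm, hD.inf_eq_bot a ha]), sup_comm, hD.sup_eq a ha]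

theorem mem_H [Finite G] {a u : G} (ha : a ∈ A) (hu : Commute a u)
    (h : IsPiElt (dadePi A L)ᶜ u) : u ∈ H a := by
  have hu' : u ∈ Subgroup.centralizer {a} := Subgroup.mem_centralizer_singleton_iff.2 hu.symm
  have : ((H a).subgroupOf (Subgroup.centralizer {a})).Normal :=
    (Subgroup.normal_subgroupOf_iff_le_normalizer (hD.le_centralizer a ha)).2
      (hD.centralizer_le_normalizer ha)
  refine Subgroup.mem_subgroupOf.1 (IsPiElt.mem_of_index (N := (H a).subgroupOf _) (x := ⟨u, hu'⟩)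
    (isPiElt_coe.1 h) fun q _ h1 h2 => h2 ⟨a, ha, ?_⟩)
  have h3 := ((H a).subgroupOf (Subgroup.centralizer {a})).index_mul_card
  rw [hD.card_centralizer ha, Solv.card_subgroupOf_of_le (hD.le_centralizer a ha)] at h3
  rwa [← Nat.eq_of_mul_eq_mul_right Nat.card_pos h3]

theorem mem_H_iff [Finite G] {a u : G} (ha : a ∈ A) :
    u ∈ H a ↔ Commute a u ∧ IsPiElt (dadePi A L)ᶜ u :=
  ⟨fun h => ⟨hD.commute ha h, hD.isPiElt_H ha h⟩, fun h => hD.mem_H ha h.1 h.2⟩

theorem piPart_mul [Finite G] {a u : G} (ha : a ∈ A) (hu : u ∈ H a) :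
    piPart (dadePi A L) (a * u) = a :=
  Char.piPart_mul (hD.commute ha hu) (hD.isPiElt ha) (hD.isPiElt_H ha hu)

theorem exists_of_piPart [Finite G] {g : G} (h : piPart (dadePi A L) g ∈ A) :
    ∃ u ∈ H (piPart (dadePi A L) g), g = piPart (dadePi A L) g * u :=
  ⟨_, hD.mem_H h (commute_piPart _ _ g) (isPiElt_piPart _ g), (piPart_mul_compl _ g).symm⟩

theorem conj_mem_H_conj [Finite G] {a u x : G} (ha : a ∈ A) (ha' : x * a * x⁻¹ ∈ A) (hu : u ∈ H a) :
    x * u * x⁻¹ ∈ H (x * a * x⁻¹) :=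
  hD.mem_H ha' ((hD.commute ha hu).map (MulAut.conj x)) ((hD.isPiElt_H ha hu).conj x)

theorem H_conj [Finite G] {a x : G} (ha : a ∈ A) (ha' : x * a * x⁻¹ ∈ A) :
    H (x * a * x⁻¹) = MulAut.conj x • H a := by
  ext u
  rw [Solv.mem_conj_smul]
  refine ⟨fun h => ?_, fun h => ?_⟩
  · simpa [mul_assoc] using hD.conj_mem_H_conj (x := x⁻¹) ha' (by simpa [mul_assoc]) h
  · simpa [mul_assoc] using hD.conj_mem_H_conj ha ha' h

theorem mem_dadeSupp_iff [Finite G] {g : G} :
    g ∈ dadeSupp A H ↔ ∃ x : G, x * piPart (dadePi A L) g * x⁻¹ ∈ A := by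
  constructor
  · rintro ⟨a, ha, u, hu, x, h⟩
    exact ⟨x, by rwa [← piPart_conj, h, hD.piPart_mul ha hu]⟩
  · rintro ⟨x, hx⟩
    rw [← piPart_conj] at hx
    obtain ⟨u, hu, h⟩ := hD.exists_of_piPart hx
    exact ⟨_, hx, u, hu, x, h⟩

theorem one_not_mem_dadeSupp [Finite G] : (1 : G) ∉ dadeSupp A H := by
  rw [hD.mem_dadeSupp_iff]
  simpa using hD.one_not_mem

theorem exists_conj_of_conj [Finite G] {a b u v g : G} (ha : a ∈ A) (hb : b ∈ A) (hu : u ∈ H a)
    (hv : v ∈ H b) (h : g * (a * u) * g⁻¹ = b * v) : ∃ x ∈ L, x * a * x⁻¹ = b := by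
  have h1 := congrArg (piPart (dadePi A L)) h
  rw [piPart_conj, hD.piPart_mul ha hu, hD.piPart_mul hb hv] at h1
  exact h1 ▸ hD.fusion a ha g (h1 ▸ hb)

theorem dade_apply [Finite G] {α : L → ℂ} (hα : IsClassFunction L α) {a : L} (ha : (a : G) ∈ A)
    {u g x : G} (hu : u ∈ H a) (h : x * g * x⁻¹ = a * u) : dadeLin A L H α g = α a := by
  have h1 : ∃ a : L, (a : G) ∈ A ∧ ∃ x : G, ∃ u ∈ H (a : G), x * g * x⁻¹ = (a : G) * u :=
    ⟨a, ha, x, u, hu, h⟩
  rw [coe_dadeLin, dadeIsometry, dif_pos h1]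
  obtain ⟨hb, y, v, hv, h2⟩ := h1.choose_spec
  obtain ⟨z, hz, h3⟩ := hD.exists_conj_of_conj (g := y * x⁻¹) ha hb hu hv (by
    rw [← h, ← h2]; group)
  rw [← hα.apply_conj a ⟨z, hz⟩]
  exact congrArg α (Subtype.ext h3.symm)

theorem dade_apply_mul [Finite G] {α : L → ℂ} (hα : IsClassFunction L α) {a : L}
    (ha : (a : G) ∈ A) {u : G} (hu : u ∈ H a) : dadeLin A L H α (a * u) = α a :=
  hD.dade_apply hα ha hu (x := 1) (by simp)

theorem dade_apply_coe [Finite G] {α : L → ℂ} (hα : IsClassFunction L α) {a : L}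
    (ha : (a : G) ∈ A) : dadeLin A L H α a = α a := by
  simpa using hD.dade_apply_mul hα ha (H a).one_mem

theorem dade_one [Finite G] (α : L → ℂ) : dadeLin A L H α 1 = 0 :=
  dadeLin_of_not_mem α hD.one_not_mem_dadeSupp

theorem isClassFunction_dade [Finite G] {α : L → ℂ} (hα : IsClassFunction L α) :
    IsClassFunction G (dadeLin A L H α) := by
  intro g y
  by_cases hg : g ∈ dadeSupp A H
  · obtain ⟨a, ha, u, hu, x, h⟩ := hg
    rw [hD.dade_apply hα (a := ⟨a, hD.subset ha⟩) ha hu h,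
      hD.dade_apply hα (a := ⟨a, hD.subset ha⟩) ha hu (x := x * y⁻¹) (by rw [← h]; group)]
  · rw [dadeLin_of_not_mem α hg, dadeLin_of_not_mem α (mt conj_mem_dadeSupp.1 hg)]

theorem isClassFunction_rho [Finite G] {χ : G → ℂ} (hχ : IsClassFunction G χ) :
    IsClassFunction L (dadeRho A L H χ) := by
  intro a x
  by_cases ha : (a : G) ∈ A
  · have ha' := hD.conj_mem x x.2 a ha
    rw [dadeRho_of_mem H χ ha, dadeRho_of_mem H χ (a := x * a * x⁻¹) ha']
    simp only [Subgroup.coe_mul, Subgroup.coe_inv]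
    rw [hD.H_conj ha ha', avg_conj_smul]
    refine avg_congr fun u _ => ?_
    rw [← hχ.apply_conj (a * u) x]
    congr 1; group
  · rw [dadeRho_of_not_mem H χ ha, dadeRho_of_not_mem H χ (a := x * a * x⁻¹)
      (mt (hD.conj_mem_iff x.2).1 ha)]

theorem rho_dade [Finite G] {α : L → ℂ} (hα : IsClassFunction L α)
    (hαA : ∀ x : L, (x : G) ∉ A → α x = 0) : dadeRho A L H (dadeLin A L H α) = α := by
  ext a
  by_cases ha : (a : G) ∈ A
  · rw [dadeRho_of_mem H _ ha, avg_congr fun u hu => hD.dade_apply_mul hα ha hu, avg_const]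
  · rw [dadeRho_of_not_mem H _ ha, hαA a ha]

theorem card_conj_mem [Finite G] {a : G} (ha : a ∈ A) :
    Nat.card {x : G // x * a * x⁻¹ ∈ A} = Nat.card L * Nat.card (H a) := by
  rw [← Nat.card_prod]
  symm
  refine Nat.card_eq_of_bijective (fun p : L × H a => ⟨p.1 * p.2, by
    have := hD.conj_mem p.1 p.1.2 a ha
    convert this using 1
    rw [mul_assoc (p.1 : G), ← (hD.commute ha p.2.2).eq]; group⟩) ⟨?_, ?_⟩
  · rintro ⟨x, u⟩ ⟨y, v⟩ h
    have h1 : (x : G) * u = y * v := congrArg Subtype.val h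
    have h2 : (y : G)⁻¹ * x = v * (u : G)⁻¹ := by
      rw [inv_mul_eq_iff_eq_mul, ← mul_assoc, ← h1]; group
    have h3 := hD.eq_one_of_mem ha ((H a).mul_mem v.2 ((H a).inv_mem u.2))
      (h2 ▸ L.mul_mem (L.inv_mem y.2) x.2)
    rw [h3, inv_mul_eq_one] at h2
    rw [mul_inv_eq_one] at h3
    exact Prod.ext (Subtype.ext h2.symm) (Subtype.ext h3.symm)
  · rintro ⟨g, hg⟩
    obtain ⟨x, hx, h1⟩ := hD.fusion a ha g hg
    have h2 : x⁻¹ * g ∈ Subgroup.centralizer {a} := by
      rw [Subgroup.mem_centralizer_singleton_iff]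
      calc x⁻¹ * g * a = x⁻¹ * (g * a * g⁻¹) * g := by group
        _ = _ := by rw [← h1]; group
    rw [← hD.sup_eq a ha, sup_comm, Solv.mem_sup_of_le_normalizer
      (inf_le_right.trans (hD.centralizer_le_normalizer ha))] at h2
    obtain ⟨y, hy, u, hu, h3⟩ := h2
    exact ⟨(⟨x * y, L.mul_mem hx hy.1⟩, ⟨u, hu⟩), Subtype.ext (by
      simp only [mul_assoc, ← h3, mul_inv_cancel_left])⟩

open Classical in
theorem sum_dadeSupp [Fintype G] [Fintype L] {F : G → ℂ} (hF : IsClassFunction G F) :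
    (Nat.card G : ℂ)⁻¹ * ∑ g with g ∈ dadeSupp A H, F g =
      (Nat.card L : ℂ)⁻¹ * ∑ a : L, dadeRho A L H F a := by
  obtain ⟨π, hπ⟩ : ∃ π, π = dadePi A L := ⟨_, rfl⟩
  let w : G → ℂ := fun g => if piPart π g ∈ A then (Nat.card (H (piPart π g)) : ℂ)⁻¹ else 0
  have h1 : ∀ g, ∑ x : G, w (x * g * x⁻¹) = if g ∈ dadeSupp A H then (Nat.card L : ℂ) else 0 := by
    intro g
    split_ifs with hg
    · obtain ⟨y, hy⟩ := hD.mem_dadeSupp_iff.1 hg
      rw [← hπ] at hy
      rw [← Equiv.sum_comp (Equiv.mulRight y)]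
      simp only [w, Equiv.coe_mulRight, piPart_conj]
      rw [← Finset.sum_filter, Finset.sum_congr rfl (g := fun _ =>
        (Nat.card (H (y * piPart π g * y⁻¹)) : ℂ)⁻¹), Finset.sum_const, ← Fintype.card_subtype,
        ← Nat.card_eq_fintype_card]
      · rw [Nat.card_congr (Equiv.subtypeEquivRight (q := fun x => x * (y * piPart π g * y⁻¹) * x⁻¹ ∈ A)
          fun x => by simp [mul_assoc]), hD.card_conj_mem hy]
        have := card_ne_zero' (H (y * piPart π g * y⁻¹))
        simp only [nsmul_eq_mul, Nat.cast_mul]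
        field_simp
      · intro x hx
        have h2 : x * y * piPart π g * (x * y)⁻¹ = x * (y * piPart π g * y⁻¹) * x⁻¹ := by group
        have h3 := (Finset.mem_filter.1 hx).2
        rw [h2] at h3 ⊢
        rw [hD.H_conj hy h3, Solv.card_conj_smul]
    · refine Finset.sum_eq_zero fun x _ => if_neg fun h => hg (hD.mem_dadeSupp_iff.2 ⟨x, ?_⟩)
      rwa [← piPart_conj, ← hπ]
  have h2 : ∑ g, w g * F g = ∑ a : L, dadeRho A L H F a := by
    rw [← Finset.sum_fiberwise (s := Finset.univ) (piPart π)]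
    rw [← sum_extendByZero L]
    refine Finset.sum_congr rfl fun a _ => ?_
    by_cases ha : a ∈ A
    · rw [extendByZero_of_mem _ _ (hD.subset ha), dadeRho_of_mem H F (a := ⟨a, hD.subset ha⟩) ha,
        avg_eq, Finset.mul_sum]
      symm
      refine Finset.sum_bij (fun u _ => a * u) (fun u _ => by simp [hπ, hD.piPart_mul ha u.2])
        (fun u _ v _ h => Subtype.ext (mul_left_cancel h)) (fun g hg => ?_) (fun u _ => ?_)
      · obtain rfl := (Finset.mem_filter.1 hg).2
        subst hπ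
        obtain ⟨u, hu, h⟩ := hD.exists_of_piPart ha
        exact ⟨⟨u, hu⟩, Finset.mem_univ _, h.symm⟩
      · simp only [w, hπ, hD.piPart_mul ha u.2, if_pos ha]
    · rw [Finset.sum_eq_zero fun g hg => by
        simp only [w, (Finset.mem_filter.1 hg).2, if_neg ha, zero_mul], extendByZero_eq]
      split_ifs with h
      · rw [dadeRho_of_not_mem H F (a := ⟨a, h⟩) ha]
      · rfl
  have h3 : ∑ x : G, ∑ g, w (x * g * x⁻¹) * F g = Nat.card G * ∑ g, w g * F g := by
    rw [Finset.sum_congr rfl (g := fun _ => ∑ g, w g * F g), Finset.sum_const, Finset.card_univ,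
      Nat.card_eq_fintype_card, nsmul_eq_mul]
    intro x _
    rw [← (MulAut.conj x).toEquiv.sum_comp (fun g => w g * F g)]
    simp [hF.apply_conj]
  rw [Finset.sum_comm] at h3
  simp only [← Finset.sum_mul, h1, ite_mul, zero_mul, ← Finset.sum_filter, ← Finset.mul_sum] at h3
  have h4 := card_ne_zero' G
  have h5 := card_ne_zero' L
  rw [← h2]
  field_simp
  rw [mul_comm, h3, mul_comm]

/-- Dade reciprocity (Peterfalvi 2.7). -/
theorem reciprocity [Fintype G] [Fintype L] {α : L → ℂ} (hα : IsClassFunction L α)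
    {χ : G → ℂ} (hχ : IsClassFunction G χ) :
    classInner (dadeLin A L H α) χ = classInner α (dadeRho A L H χ) := by
  classical
  have h1 := hD.sum_dadeSupp ((hD.isClassFunction_dade hα).mul (hχ.map conj))
  rw [Finset.sum_filter, Finset.sum_congr rfl (g := fun g => dadeLin A L H α g * conj (χ g))] at h1
  · rw [classInner, h1, classInner]
    congr 1
    refine Finset.sum_congr rfl fun a _ => ?_
    by_cases ha : (a : G) ∈ A
    · rw [dadeRho_of_mem H _ ha, dadeRho_of_mem H _ ha, ← avg_map, ← avg_mul]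
      exact avg_congr fun u hu => by rw [Pi.mul_apply, hD.dade_apply_mul hα ha hu]
    · simp [dadeRho_of_not_mem H _ ha]
  · intro g _
    split_ifs with hg
    · rfl
    · rw [dadeLin_of_not_mem α hg, zero_mul]

theorem reciprocity' [Fintype G] [Fintype L] {α : L → ℂ} (hα : IsClassFunction L α)
    {χ : G → ℂ} (hχ : IsClassFunction G χ) :
    classInner χ (dadeLin A L H α) = classInner (dadeRho A L H χ) α := by
  rw [← conj_classInner, hD.reciprocity hα hχ, conj_classInner]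

theorem reciprocity_of [Fintype G] [Fintype L] {α : L → ℂ} (hα : IsClassFunction L α)
    (hαA : ∀ x : L, (x : G) ∉ A → α x = 0) {χ : G → ℂ} (hχ : IsClassFunction G χ) {ψ : L → ℂ}
    (hψ : ∀ a : L, (a : G) ∈ A → ψ a = avg (H a) fun u => χ (a * u)) :
    classInner (dadeLin A L H α) χ = classInner α ψ := by
  rw [hD.reciprocity hα hχ, classInner, classInner]
  congr 1
  refine Finset.sum_congr rfl fun a _ => ?_
  by_cases ha : (a : G) ∈ A
  · rw [dadeRho_of_mem H _ ha, hψ a ha]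
  · simp [hαA a ha]

theorem isometry [Fintype G] [Fintype L] {α β : L → ℂ} (hα : IsClassFunction L α)
    (hβ : IsClassFunction L β) (hβA : ∀ x : L, (x : G) ∉ A → β x = 0) :
    classInner (dadeLin A L H α) (dadeLin A L H β) = classInner α β := by
  rw [hD.reciprocity hα (hD.isClassFunction_dade hβ), hD.rho_dade hβ hβA]

/-- Reciprocity against a class function constant on the cosets `a H(a)`. -/
theorem reciprocity_res [Fintype G] [Fintype L] {α : L → ℂ} (hα : IsClassFunction L α)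
    (hαA : ∀ x : L, (x : G) ∉ A → α x = 0) {χ : G → ℂ} (hχ : IsClassFunction G χ)
    (h : ∀ a ∈ A, ∀ u ∈ H a, χ (a * u) = χ a) :
    classInner (dadeLin A L H α) χ = classInner α (fun x : L => χ x) :=
  hD.reciprocity_of hα hαA hχ fun a ha => by rw [avg_congr (h a ha), avg_const]

theorem reciprocity_one [Fintype G] [Fintype L] {α : L → ℂ} (hα : IsClassFunction L α)
    (hαA : ∀ x : L, (x : G) ∉ A → α x = 0) :
    classInner (dadeLin A L H α) (fun _ => 1) = classInner α (fun _ => 1) :=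
  hD.reciprocity_res hα hαA (IsClassFunction.const 1) fun _ _ _ _ => rfl

open Classical in
/-- Peterfalvi 7.3. -/
theorem rip_rho_le [Fintype G] [Fintype L] {χ : G → ℂ} (hχ : IsClassFunction G χ) :
    rip (dadeRho A L H χ) (dadeRho A L H χ) ≤
      (Nat.card G : ℝ)⁻¹ * ∑ g with g ∈ dadeSupp A H, ‖χ g‖ ^ 2 := by
  have h1 := congrArg Complex.re (hD.sum_dadeSupp (hχ.map fun z => ((‖z‖ ^ 2 : ℝ) : ℂ)))
  rw [← Complex.ofReal_sum, ← Complex.ofReal_natCast, ← Complex.ofReal_inv, ← Complex.ofReal_mul,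
    Complex.ofReal_re, ← Complex.ofReal_natCast, ← Complex.ofReal_inv, Complex.re_ofReal_mul,
    Complex.re_sum] at h1
  rw [h1, rip, classInner_self_re]
  refine mul_le_mul_of_nonneg_left (Finset.sum_le_sum fun a _ => ?_) (by positivity)
  by_cases ha : (a : G) ∈ A
  · rw [dadeRho_of_mem H _ ha, dadeRho_of_mem H _ ha]
    exact norm_avg_sq_le _ _
  · simp [dadeRho_of_not_mem H _ ha]

/-- Peterfalvi 2.6(b). -/
theorem isGen_dade [Finite G] {α : L → ℂ} (hα : IsGeneralizedCharacter L α)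
    (hαA : ∀ x : L, (x : G) ∉ A → α x = 0) : IsGeneralizedCharacter G (dadeLin A L H α) := by
  classical
  have := Fintype.ofFinite G
  refine (hD.isClassFunction_dade hα.isClassFunction).isGen_of_int fun χ hχ => ?_
  obtain ⟨φ, hφ⟩ : ∃ φ : L →* MulAut G, φ = MulAut.conj.comp L.subtype := ⟨_, rfl⟩
  have hmem : ∀ (x : L) (B : Set G) (b : G), b ∈ φ x • B ↔ (x : G)⁻¹ * b * x ∈ B := fun x B b => by
    rw [Set.mem_smul_set_iff_inv_smul_mem]; simp [hφ]
  let St : Set G → Subgroup L := fun B => (MulAction.stabilizer (MulAut G) B).comap φ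
  have hSt : ∀ B y, y ∈ St B ↔ φ y • B = B := fun _ _ => Iff.rfl
  let HB : Set G → Subgroup G := fun B => ⨅ a ∈ B, H a
  have hHB : ∀ B u, u ∈ HB B ↔ ∀ a ∈ B, u ∈ H a := fun B u => by simp [HB, Subgroup.mem_iInf]
  have hconj : ∀ (x : L) B, B ⊆ A → HB (φ x • B) = MulAut.conj (x : G) • HB B := by
    intro x B hB
    ext u
    simp only [Solv.mem_conj_smul, hHB, hmem]
    refine ⟨fun h a ha => ?_, fun h a ha => ?_⟩
    · have := h (x * a * (x : G)⁻¹) (by simpa [mul_assoc])
      rwa [hD.H_conj (hB ha) (hD.conj_mem x x.2 a (hB ha)), Solv.mem_conj_smul] at this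
    · have := hD.conj_mem_H_conj (x := x) (hB ha) (hD.conj_mem x x.2 _ (hB ha)) (h _ ha)
      simpa [mul_assoc] using this
  have hsub : ∀ (x : L) B, φ x • B ⊆ A ↔ B ⊆ A := by
    intro x B
    refine ⟨fun h a ha => (hD.conj_mem_iff x.2).1 (h ((hmem _ _ _).2 (by simpa [mul_assoc]))),
      fun h a ha => ?_⟩
    simpa [mul_assoc] using hD.conj_mem x x.2 _ (h ((hmem _ _ _).1 ha))
  let t : Set G → L → ℂ := fun B y =>
    if φ y • B = B then α y * conj (avg (HB B) fun u => χ (u * y)) else 0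
  let f : Set G → ℂ := fun B => if B ⊆ A ∧ B.Nonempty then
    (-1) ^ B.ncard * ((Nat.card (St B) : ℂ)⁻¹ * ∑ y, t B y) else 0
  obtain ⟨n, hn⟩ := exists_int_sum_orbits φ f (fun B => by
    simp only [f]
    split_ifs with hB
    · obtain ⟨a, ha⟩ := hB.2
      let e := (St B).equivMapOfInjective _ L.subtype_injective
      obtain ⟨m, hm⟩ := exists_int_avg (K := HB B) (N := (St B).map L.subtype)
        (by
          rintro _ ⟨x, hx, rfl⟩
          rw [← Solv.conj_smul_eq_self_iff, L.subtype_apply, ← hconj x B hB.1,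
            (hSt _ _).1 hx])
        (by
          rw [eq_bot_iff]
          rintro _ ⟨h1, x, hx, rfl⟩
          exact hD.eq_one_of_mem (hB.1 ha) ((hHB _ _).1 h1 a ha) x.2)
        (hα.comp ((St B).subtype.comp e.symm.toMonoidHom)) hχ.isGen
      refine ⟨(-1) ^ B.ncard * m, ?_⟩
      rw [Int.cast_mul, ← hm, ← Nat.card_congr e.toEquiv, ← e.toEquiv.sum_comp]
      simp only [t, ← Finset.sum_filter]
      rw [Finset.sum_subtype (p := fun x => x ∈ St B) (F := inferInstance) _ (by simp [hSt])]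
      simp [e]
    · exact ⟨0, by simp⟩) (fun x B => by
    simp only [f, hsub, Set.smul_set_nonempty]
    split_ifs with hB
    · have h0 : St (φ x • B) = MulAut.conj x • St B := by
        ext y
        simp only [Solv.mem_conj_smul, hSt, map_mul, map_inv, mul_smul, inv_smul_eq_iff]
      rw [h0, Solv.card_conj_smul, Set.ncard_smul_set,
        ← (MulAut.conj x).toEquiv.sum_comp]
      congr 2
      refine Finset.sum_congr rfl fun y _ => ?_
      simp only [t, MulEquiv.toEquiv_eq_coe, EquivLike.coe_coe, MulAut.conj_apply, mul_smul, map_mul, map_inv,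
        inv_smul_smul, smul_left_cancel_iff, hconj x B hB.1, avg_conj_smul,
        hα.isClassFunction.apply_conj]
      congr 3
      refine avg_congr fun u _ => ?_
      rw [← hχ.isClassFunction.apply_conj (u * y) x]
      congr 1
      simp [mul_assoc]
    · rfl)
  refine ⟨-n, ?_⟩
  change ∑ B, (Nat.card (St B) : ℂ) / Nat.card L * f B = n at hn
  rw [Int.cast_neg, ← hn, hD.reciprocity hα.isClassFunction hχ.isClassFunction, classInner]
  have h1 : ∀ B, (Nat.card (St B) : ℂ) / Nat.card L * f B =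
      (Nat.card L : ℂ)⁻¹ * ∑ y, if B ⊆ A ∧ B.Nonempty then (-1) ^ B.ncard * t B y else 0 := by
    intro B
    simp only [f]
    split_ifs
    · have := card_ne_zero' (St B)
      rw [← Finset.mul_sum]
      field_simp
    · simp
  simp only [h1]
  rw [← Finset.mul_sum, Finset.sum_comm, ← mul_neg, ← Finset.sum_neg_distrib]
  congr 1
  refine Finset.sum_congr rfl fun b _ => ?_
  by_cases hb : (b : G) ∈ A
  swap
  · simp [t, hαA b hb]
  let s : Set G → ℂ := fun B => if B ⊆ A ∧ φ b • B = B then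
    (-1) ^ B.ncard * (α b * conj (avg (HB (insert (b : G) B)) fun u => χ (u * b))) else 0
  have h2 : ∑ B, s B = 0 := by
    refine Finset.sum_involution (fun B _ => symmDiff B {(b : G)}) (fun B _ => ?_)
      (fun B _ _ => by simp) (fun _ _ => Finset.mem_univ _) (fun B _ => by simp)
    have h3 : symmDiff B {(b : G)} ⊆ A ↔ B ⊆ A := by
      simp only [Set.subset_def, Set.mem_symmDiff, Set.mem_singleton_iff]
      refine ⟨fun h a ha => ?_, fun h a ha => ?_⟩
      · by_cases h4 : a = b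
        · rwa [h4]
        · exact h a (Or.inl ⟨ha, h4⟩)
      · rcases ha with ha | ⟨rfl, -⟩
        · exact h a ha.1
        · exact hb
    have h4 : φ b • ({(b : G)} : Set G) = {(b : G)} := by
      simp [hφ]
    have h5 : φ b • symmDiff B {(b : G)} = symmDiff B {(b : G)} ↔ φ b • B = B := by
      rw [Set.smul_set_symmDiff, h4, symmDiff_left_inj]
    have h6 : insert (b : G) (symmDiff B {(b : G)}) = insert (b : G) B := by
      ext a; by_cases h : a = b <;> simp [Set.mem_symmDiff, h]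
    have h7 : (-1 : ℂ) ^ (symmDiff B {(b : G)}).ncard = -(-1) ^ B.ncard := by
      by_cases h : (b : G) ∈ B
      · have : symmDiff B {(b : G)} = B \ {(b : G)} := by
          ext a; by_cases h' : a = b <;> simp [Set.mem_symmDiff, h', h]
        rw [this, ← Set.ncard_diff_singleton_add_one h, pow_succ]; ring
      · have : symmDiff B {(b : G)} = insert (b : G) B := by
          ext a; by_cases h' : a = b <;> simp [Set.mem_symmDiff, h', h]
        rw [this, Set.ncard_insert_of_notMem h, pow_succ]; ring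
    simp only [s, h3, h5, h6, h7]
    split_ifs <;> ring
  rw [← Finset.add_sum_erase _ _ (Finset.mem_univ ∅)] at h2
  rw [← Finset.add_sum_erase _ _ (Finset.mem_univ ∅), Finset.sum_congr rfl (g := s),
    eq_neg_of_add_eq_zero_right h2]
  · simp only [s, Set.not_nonempty_empty, and_false, if_false, zero_add, neg_neg, Set.empty_subset,
      Set.smul_set_empty, and_self, if_true, Set.ncard_empty, pow_zero, one_mul,
      dadeRho_of_mem H _ hb]
    congr 2
    have : HB (insert (b : G) ∅) = H b := by simp [HB]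
    rw [this]
    exact avg_congr fun u hu => by rw [(hD.commute hb hu).eq]
  · intro B hB
    have h3 : B.Nonempty := Set.nonempty_iff_ne_empty.2 (Finset.mem_erase.1 hB).1
    simp only [s, t, h3, and_true]
    by_cases h4 : B ⊆ A
    swap
    · simp [h4]
    by_cases h5 : φ b • B = B
    swap
    · simp [h5]
    simp only [h4, h5, and_self, if_true]
    obtain ⟨a, ha⟩ := h3
    have h6 : HB B ≤ H a := fun u hu => (hHB _ _).1 hu a ha
    rw [avg_coset_eq (by rw [← Solv.conj_smul_eq_self_iff, ← hconj b B h4, h5])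
      ((hD.coprime a (h4 ha) b hb).symm.coprime_dvd_left (Subgroup.orderOf_dvd_natCard _
        (Subgroup.mem_inf.2 ⟨b.2, Subgroup.mem_centralizer_singleton_iff.2 rfl⟩)) |>.coprime_dvd_right
        (Subgroup.card_dvd_of_le h6)) hχ.isClassFunction]
    congr 4
    ext u
    simp only [hHB, Subgroup.mem_inf, Set.forall_mem_insert, Subgroup.mem_centralizer_singleton_iff]
    exact ⟨fun h => ⟨hD.mem_H hb h.2.symm (hD.isPiElt_H (h4 ha) (h.1 a ha)), h.1⟩,
      fun h => ⟨h.2, (hD.commute hb h.1).symm⟩⟩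

/-- Peterfalvi 2.11. -/
theorem restrict {A₁ : Set G} (h1 : A₁ ⊆ A) (h2 : ∀ x ∈ L, ∀ a ∈ A₁, x * a * x⁻¹ ∈ A₁) :
    DadeHypothesis A₁ L H where
  one_not_mem h := hD.one_not_mem (h1 h)
  subset := h1.trans hD.subset
  conj_mem := h2
  fusion a ha g hg := hD.fusion a (h1 ha) g (h1 hg)
  le_centralizer a ha := hD.le_centralizer a (h1 ha)
  conj_mem_H a ha := hD.conj_mem_H a (h1 ha)
  inf_eq_bot a ha := hD.inf_eq_bot a (h1 ha)
  sup_eq a ha := hD.sup_eq a (h1 ha)
  coprime a ha b hb := hD.coprime a (h1 ha) b (h1 hb)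

theorem dade_of_not_mem [Finite G] {A₁ : Set G} {α : L → ℂ} (hα : IsClassFunction L α)
    (hαA : ∀ x : L, (x : G) ∈ A → (x : G) ∉ A₁ → α x = 0) {g : G} (hg : g ∉ dadeSupp A₁ H) :
    dadeLin A L H α g = 0 := by
  by_cases hg' : g ∈ dadeSupp A H
  · obtain ⟨a, ha, u, hu, x, h⟩ := hg'
    rw [hD.dade_apply hα (a := ⟨a, hD.subset ha⟩) ha hu h]
    exact hαA _ ha fun h3 => hg ⟨a, h3, u, hu, x, h⟩
  · exact dadeLin_of_not_mem α hg'

theorem dade_restrict [Finite G] {A₁ : Set G} (h1 : A₁ ⊆ A)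
    (h2 : ∀ x ∈ L, ∀ a ∈ A₁, x * a * x⁻¹ ∈ A₁) {α : L → ℂ} (hα : IsClassFunction L α)
    (hαA : ∀ x : L, (x : G) ∉ A₁ → α x = 0) : dadeLin A₁ L H α = dadeLin A L H α := by
  ext g
  by_cases hg : g ∈ dadeSupp A₁ H
  · obtain ⟨a, ha, u, hu, x, h⟩ := hg
    rw [hD.dade_apply hα (a := ⟨a, hD.subset (h1 ha)⟩) (h1 ha) hu h,
      (hD.restrict h1 h2).dade_apply hα (a := ⟨a, hD.subset (h1 ha)⟩) ha hu h]
  · rw [dadeLin_of_not_mem α hg, hD.dade_of_not_mem hα (fun x _ => hαA x) hg]

theorem mem_of_conj_mem [Finite G] {a g : G} (ha : a ∈ A) (h : H a = ⊥) (hg : g * a * g⁻¹ ∈ A) :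
    g ∈ L := by
  obtain ⟨x, hx, h1⟩ := hD.fusion a ha g hg
  have h2 : x⁻¹ * g ∈ Subgroup.centralizer {a} := by
    rw [Subgroup.mem_centralizer_singleton_iff]
    calc x⁻¹ * g * a = x⁻¹ * (g * a * g⁻¹) * g := by group
      _ = _ := by rw [← h1]; group
  rw [← hD.sup_eq a ha, h, bot_sup_eq] at h2
  simpa using L.mul_mem hx h2.1

/-- On class functions supported where `H` is trivial the Dade map is induction. -/
theorem dade_eq_ind [Fintype G] {α : L → ℂ} (hα : IsClassFunction L α)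
    (hαA : ∀ x : L, α x ≠ 0 → (x : G) ∈ A ∧ H x = ⊥) : dadeLin A L H α = indFun L α := by
  have := Fintype.ofFinite L
  refine (hD.isClassFunction_dade hα).ext_classInner (isClassFunction_indFun L α) fun χ hχ => ?_
  rw [hD.reciprocity hα hχ.isClassFunction, frobenius_left _ _ hχ.isClassFunction, classInner,
    classInner]
  congr 1
  refine Finset.sum_congr rfl fun a _ => ?_
  by_cases ha : α a = 0
  · simp [ha]
  · rw [dadeRho_of_mem H _ (hαA a ha).1, avg_of_eq_bot (hαA a ha).2, mul_one]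

end Cfsg.DadeHypothesis

namespace Cfsg.Agent.Char

variable {G : Type*} [Group G]

theorem dadeHypothesis_of_TI {A : Set G} {L : Subgroup G} (h1 : (1 : G) ∉ A) (h2 : A ⊆ L)
    (h3 : ∀ x ∈ L, ∀ a ∈ A, x * a * x⁻¹ ∈ A) (h4 : ∀ a ∈ A, ∀ g : G, g * a * g⁻¹ ∈ A → g ∈ L) :
    DadeHypothesis A L (fun _ => ⊥) where
  one_not_mem := h1
  subset := h2
  conj_mem := h3
  fusion a ha g hg := ⟨g, h4 a ha g hg, rfl⟩
  le_centralizer _ _ := bot_le
  conj_mem_H _ _ _ _ u hu := by simp [Subgroup.mem_bot.1 hu]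
  inf_eq_bot _ _ := bot_inf_eq _
  sup_eq a ha := by
    rw [bot_sup_eq, inf_eq_right]
    intro g hg
    exact h4 a ha g (by rwa [Subgroup.mem_centralizer_singleton_iff.1 hg, mul_inv_cancel_right])
  coprime _ _ _ _ := by simp

end Cfsg.Agent.Char
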