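import Cfsg.Agent.Lib.Char.Coh
import Cfsg.Agent.Lib.Char.Dade
import Cfsg.Agent.Lib.Char.CycTI

/-!
Construction of coherence systems, and coherence for sets of irreducible characters.
-/

set_option autoImplicit false

namespace Cfsg.Agent.Char

open scoped ComplexConjugate

variable {L : Type*} [Group L] {G : Type*} [Group G] [Fintype L] [Fintype G]

theorem _root_.Cfsg.IsIrrCharacter.conjFun {χ : L → ℂ} (h : IsIrrCharacter L χ) :
    IsIrrCharacter L (conjFun χ) := h.conj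

theorem _root_.Cfsg.IsCharacter.conjFun {χ : L → ℂ} (h : IsCharacter L χ) :
    IsCharacter L (conjFun χ) := h.conj

theorem _root_.Cfsg.IsGeneralizedCharacter.conjFun {χ : L → ℂ} (h : IsGeneralizedCharacter L χ) :
    IsGeneralizedCharacter L (conjFun χ) := h.conj

theorem rip_sub_conj {χ : L → ℂ} (hi : IsIrrCharacter L χ) (hne : conjFun χ ≠ χ) :
    rip (χ - conjFun χ) (χ - conjFun χ) = 2 := by
  simp only [rip_sub_left, rip_sub_right, hi.rip_self, hi.conjFun.rip_self,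
    hi.rip_of_ne hi.conjFun hne.symm, hi.conjFun.rip_of_ne hi hne]
  norm_num

namespace IsoOn

variable {S S₁ S₂ : Set (L → ℂ)} {τ ν ν₁ ν₂ : (L → ℂ) →ₗ[ℂ] (G → ℂ)} (h : IsoOn S τ)
include h

theorem exists_pair {χ : L → ℂ} (hχ : χ ∈ S) (hχ' : conjFun χ ∈ S) (hi : IsIrrCharacter L χ)
    (hne : conjFun χ ≠ χ) : ∃ p q, IsIrrCharacter G p ∧ IsIrrCharacter G q ∧ p ≠ q ∧
      τ (χ - conjFun χ) = p - q := by
  have h0 : (χ - conjFun χ) 1 = 0 := by simp [hi.isCharacter.conjFun_one]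
  have hm := sub_mem_span (R := ℂ) hχ hχ'
  exact (h.gen _ (sub_mem_span hχ hχ') h0).exists_sub_of_norm_two
    (by rw [h.rip_eq hm hm h0 h0, rip_sub_conj hi hne]) (h.one _ hm h0)

/-- The general construction of a coherence system (Peterfalvi 5.3). -/
theorem exists_cohSys (hc : ∀ χ ∈ S, conjFun χ ∈ S) (hne : ∀ χ ∈ S, conjFun χ ≠ χ)
    (horth : ∀ χ ∈ S, ∀ φ ∈ S, χ ≠ φ → classInner χ φ = 0) (R₀ : (L → ℂ) → Finset (G → ℂ))
    (hR : ∀ χ ∈ S, ¬ IsIrrCharacter L χ → ON (R₀ χ) ∧ τ (χ - conjFun χ) = ∑ α ∈ R₀ χ, α ∧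
      ∀ φ ∈ S, IsIrrCharacter L φ → ∀ α ∈ R₀ χ, classInner (τ (φ - conjFun φ)) α = 0)
    (hd : ∀ χ ∈ S, ∀ φ ∈ S, ¬ IsIrrCharacter L χ → ¬ IsIrrCharacter L φ → φ ≠ χ → φ ≠ conjFun χ →
      ∀ α ∈ R₀ φ, ∀ β ∈ R₀ χ, classInner α β = 0) :
    ∃ R, CohSys S τ R ∧ ∀ χ ∈ S, ¬ IsIrrCharacter L χ → R χ = R₀ χ := by
  classical
  have key : ∀ χ : L → ℂ, ∃ p q : G → ℂ, χ ∈ S → IsIrrCharacter L χ → IsIrrCharacter G p ∧
      IsIrrCharacter G q ∧ p ≠ q ∧ τ (χ - conjFun χ) = p - q := fun χ => by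
    by_cases e : χ ∈ S ∧ IsIrrCharacter L χ
    · obtain ⟨p, q, h1⟩ := h.exists_pair e.1 (hc χ e.1) e.2 (hne χ e.1)
      exact ⟨p, q, fun _ _ => h1⟩
    · exact ⟨0, 0, fun a b => (e ⟨a, b⟩).elim⟩
  choose p q hpq using key
  let R : (L → ℂ) → Finset (G → ℂ) := fun χ => if IsIrrCharacter L χ then {p χ, -q χ} else R₀ χ
  have hR1 : ∀ χ, IsIrrCharacter L χ → R χ = {p χ, -q χ} := fun χ e => if_pos e
  have hR2 : ∀ χ, ¬ IsIrrCharacter L χ → R χ = R₀ χ := fun χ e => if_neg e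
  have hon : ∀ χ ∈ S, ON (R χ) ∧ τ (χ - conjFun χ) = ∑ α ∈ R χ, α := fun χ hχ => by
    by_cases e : IsIrrCharacter L χ
    · obtain ⟨h1, h2, h3, h4⟩ := hpq χ hχ e
      have h5 := h1.classInner_of_ne h2 h3
      have h6 : p χ ≠ -q χ := fun e => by
        rw [e, classInner_neg_left, h2.classInner_self] at h5; simp at h5
      rw [hR1 χ e, Finset.sum_pair h6, h4]
      refine ⟨⟨?_, ?_⟩, sub_eq_add_neg _ _⟩ <;>
        simp only [Finset.mem_insert, Finset.mem_singleton]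
      · rintro _ (rfl | rfl); exacts [h1.isDirr, h2.isDirr.neg]
      · rintro _ (rfl | rfl) _ (rfl | rfl) e <;>
          simp [classInner_neg_left, classInner_neg_right, h5, classInner_eq_zero_comm.1 h5] at e ⊢
    · rw [hR2 χ e]
      exact ⟨(hR χ hχ e).1, (hR χ hχ e).2.1⟩
  have hmix : ∀ χ ∈ S, ∀ φ ∈ S, ¬ IsIrrCharacter L χ → IsIrrCharacter L φ →
      ∀ α ∈ R φ, ∀ β ∈ R χ, classInner α β = 0 := fun χ hχ φ hφ e e' α hα β hβ =>
    (hon φ hφ).1.orth_of_sum ((hon χ hχ).1.dirr β hβ)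
      ((hon φ hφ).2 ▸ (hR χ hχ e).2.2 φ hφ e' β (hR2 χ e ▸ hβ)) hα
  refine ⟨R, ⟨h, hc, hne, horth, fun χ hχ => (hon χ hχ).1, fun χ hχ => (hon χ hχ).2,
    fun χ hχ φ hφ e₁ e₂ α hα β hβ => ?_⟩, fun χ _ => hR2 χ⟩
  by_cases e : IsIrrCharacter L χ <;> by_cases e' : IsIrrCharacter L φ
  · obtain ⟨h1, h2, h3, h4⟩ := hpq χ hχ e
    obtain ⟨h5, h6, h7, h8⟩ := hpq φ hφ e'
    have h0 : ∀ χ ∈ S, (χ - conjFun χ) 1 = 0 := fun χ hχ => by simp [(h.char χ hχ).conjFun_one]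
    have hm := fun χ hχ => sub_mem_span (R := ℂ) hχ (hc χ hχ)
    have h9 := h.one _ (hm χ hχ) (h0 χ hχ)
    have h10 := h.one _ (hm φ hφ) (h0 φ hφ)
    have h11 := h.iso _ (hm φ hφ) _ (hm χ hχ) (h0 φ hφ) (h0 χ hχ)
    rw [h4] at h9
    rw [h8] at h10
    rw [h4, h8, classInner_sub_left φ, classInner_sub_right φ, classInner_sub_right (conjFun φ),
      horth φ hφ χ hχ e₁, horth φ hφ _ (hc χ hχ) e₂,
      horth _ (hc φ hφ) χ hχ (by rintro rfl; exact e₂ (conjFun_conjFun φ).symm),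
      horth _ (hc φ hφ) _ (hc χ hχ) (conjFun_injective.ne e₁)] at h11
    obtain ⟨a1, a2, a3, a4⟩ := orth_of_mixed h5.isDirr h6.isDirr h1.isDirr h2.isDirr one_ne_zero
      one_ne_zero (h5.classInner_of_ne h6 h7) (h1.classInner_of_ne h2 h3) (by simpa using h11)
      (sub_eq_zero.1 h10) (by simpa using sub_eq_zero.1 h9)
    simp only [hR1 χ e, hR1 φ e', Finset.mem_insert, Finset.mem_singleton] at hα hβ
    rcases hα with rfl | rfl <;> rcases hβ with rfl | rfl <;>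
      simp [classInner_neg_left, classInner_neg_right, a1, a2, a3, a4]
  · exact classInner_eq_zero_comm.1 (hmix φ hφ χ hχ e' e β hβ α hα)
  · exact hmix χ hχ φ hφ e e' α hα β hβ
  · exact hd χ hχ φ hφ e e' e₁ e₂ α (hR2 φ e' ▸ hα) β (hR2 χ e ▸ hβ)

/-- Peterfalvi 5.3(a). -/
theorem exists_cohSys_irr (hi : ∀ χ ∈ S, IsIrrCharacter L χ) (hc : ∀ χ ∈ S, conjFun χ ∈ S)
    (hne : ∀ χ ∈ S, conjFun χ ≠ χ) : ∃ R, CohSys S τ R :=
  (h.exists_cohSys hc hne (fun χ hχ φ hφ => (hi χ hχ).classInner_of_ne (hi φ hφ)) (fun _ => ∅)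
    (fun χ hχ e => (e (hi χ hχ)).elim) (fun χ hχ _ _ e => (e (hi χ hχ)).elim)).imp fun _ h => h.1

/-- The images of irreducible characters under a coherent extension have a common sign. -/
theorem exists_sign (hS : S₁ ⊆ S) (hν : CohWith S₁ τ ν) (hi : ∀ χ ∈ S₁, IsIrrCharacter L χ) :
    ∃ ε : ℂ, (ε = 1 ∨ ε = -1) ∧ ∀ χ ∈ S₁, IsIrrCharacter G (ε • ν χ) := by
  rcases S₁.eq_empty_or_nonempty with rfl | ⟨χ₀, h₀⟩
  · exact ⟨1, Or.inl rfl, by simp⟩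
  obtain ⟨ε, h1, h2⟩ := exists_common_sign (ν := fun χ : S₁ => ν χ)
    (fun χ => hν.isDirr χ.2 (hi χ χ.2)) (d := fun χ => deg (χ : L → ℂ))
    (fun χ => (hi χ χ.2).deg_pos) (c := ν χ₀ 1 / χ₀ 1) fun χ => by
      rw [(hi χ χ.2).isCharacter.coe_deg, ← mul_div_assoc, eq_div_iff (hi _ h₀).apply_one_ne_zero,
        mul_comm]
      exact h.ext_one hν.ext (Submodule.subset_span (hS χ.2)) (Submodule.subset_span (hS h₀))
  exact ⟨ε, h1, fun χ hχ => h2 ⟨χ, hχ⟩⟩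

/-- Orthogonality of the images of two disjoint coherent sets of irreducible characters. -/
theorem orth_irr (hi : ∀ χ ∈ S, IsIrrCharacter L χ) (h₁ : S₁ ⊆ S) (h₂ : S₂ ⊆ S)
    (hν₁ : CohWith S₁ τ ν₁) (hν₂ : CohWith S₂ τ ν₂) (hd : Disjoint S₁ S₂) (ht₁ : S₁.Nontrivial)
    (ht₂ : S₂.Nontrivial) {χ φ : L → ℂ} (hχ : χ ∈ S₁) (hφ : φ ∈ S₂) :
    classInner (ν₁ χ) (ν₂ φ) = 0 := by
  obtain ⟨χ', hχ', e₁⟩ := ht₁.exists_ne χ
  obtain ⟨φ', hφ', e₂⟩ := ht₂.exists_ne φ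
  obtain ⟨ε₁, hε₁, a₁⟩ := h.exists_sign h₁ hν₁ fun χ hχ => hi χ (h₁ hχ)
  obtain ⟨ε₂, hε₂, a₂⟩ := h.exists_sign h₂ hν₂ fun χ hχ => hi χ (h₂ hχ)
  have ho : ∀ χ ∈ S₁, ∀ φ ∈ S₂, rip χ φ = 0 := fun χ hχ φ hφ =>
    (hi χ (h₁ hχ)).rip_of_ne (hi φ (h₂ hφ)) (hd.ne_of_mem hχ hφ)
  have hd : ∀ χ ∈ S, (deg χ : ℂ) = χ 1 := fun χ hχ => (h.char χ hχ).coe_deg
  have h1 : (deg χ' : ℂ) * χ 1 = deg χ * χ' 1 := by rw [hd _ (h₁ hχ), hd _ (h₁ hχ'), mul_comm]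
  have h2 : (deg φ' : ℂ) * φ 1 = deg φ * φ' 1 := by rw [hd _ (h₂ hφ), hd _ (h₂ hφ'), mul_comm]
  have h3 := h.iso _ (smul_sub_smul_mem_span (h₁ hχ) (h₁ hχ') (deg χ' : ℂ) (deg χ)) _
    (smul_sub_smul_mem_span (h₂ hφ) (h₂ hφ') (deg φ' : ℂ) (deg φ)) (by simp [h1]) (by simp [h2])
  have h4 : ∀ χ ∈ S₁, ∀ φ ∈ S₂, classInner χ φ = 0 := fun χ hχ φ hφ =>
    (hi χ (h₁ hχ)).classInner_of_ne (hi φ (h₂ hφ)) (‹Disjoint S₁ S₂›.ne_of_mem hχ hφ)
  rw [hν₁.ext.smul_sub_smul h1, hν₂.ext.smul_sub_smul h2] at h3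
  have h5 : ∀ χ φ, classInner (ν₁ χ) (ν₂ φ) = ε₁ * ε₂ * classInner (ε₁ • ν₁ χ) (ε₂ • ν₂ φ) := by
    intro χ φ
    rcases hε₁ with rfl | rfl <;> rcases hε₂ with rfl | rfl <;>
      simp [classInner_neg_left, classInner_neg_right]
  have h6 : ε₁ * ε₂ ≠ 0 := by rcases hε₁ with rfl | rfl <;> rcases hε₂ with rfl | rfl <;> simp
  have h7 : ∀ {a b}, a ∈ S₁ → b ∈ S₁ → a ≠ b → ε₁ • ν₁ a ≠ ε₁ • ν₁ b := fun {a b} ha hb e e' => by
    have := hν₁.rip_eq ha hb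
    rw [smul_right_injective _ (left_ne_zero_of_mul h6) e', hν₁.rip_eq hb hb, (hi b (h₁ hb)).rip_self,
      (hi a (h₁ ha)).rip_of_ne (hi b (h₁ hb)) e] at this
    exact one_ne_zero this
  have h8 : ∀ {a b}, a ∈ S₂ → b ∈ S₂ → a ≠ b → ε₂ • ν₂ a ≠ ε₂ • ν₂ b := fun {a b} ha hb e e' => by
    have := hν₂.rip_eq ha hb
    rw [smul_right_injective _ (right_ne_zero_of_mul h6) e', hν₂.rip_eq hb hb,
      (hi b (h₂ hb)).rip_self, (hi a (h₂ ha)).rip_of_ne (hi b (h₂ hb)) e] at this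
    exact one_ne_zero this
  rw [h5]
  by_contra h9
  have h10 := (a₁ χ hχ).eq_of_classInner_ne_zero (a₂ φ hφ) (right_ne_zero_of_mul h9)
  simp only [classInner_sub_left, classInner_sub_right, classInner_smul_left (_ : ℝ),
    classInner_smul_right (_ : ℝ), h5, h4 _ hχ _ hφ, h4 _ hχ' _ hφ, h4 _ hχ _ hφ', h4 _ hχ' _ hφ',
    Complex.conj_ofReal] at h3
  rw [(a₁ χ hχ).classInner_of_ne (a₂ φ' hφ') (h10 ▸ h8 hφ hφ' e₂.symm),
    (a₁ χ' hχ').classInner_of_ne (a₂ φ hφ) (h10 ▸ h7 hχ' hχ e₁), h10,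
    (a₂ φ hφ).classInner_self, (a₁ χ' hχ').isGen.classInner_eq_rip (a₂ φ' hφ').isGen] at h3
  have h11 : deg φ' * deg χ' + deg φ * deg χ * rip (ε₁ • ν₁ χ') (ε₂ • ν₂ φ') = 0 := by
    have : (deg φ' * deg χ' + deg φ * deg χ * rip (ε₁ • ν₁ χ') (ε₂ • ν₂ φ') : ℂ) = 0 :=
      mul_left_cancel₀ h6 (by linear_combination h3)
    exact_mod_cast this
  have := (a₁ χ' hχ').isCharacter.rip_nonneg (a₂ φ' hφ').isCharacter
  have := mul_pos (hi _ (h₂ hφ')).deg_pos (hi _ (h₁ hχ')).deg_pos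
  have := mul_pos (hi _ (h₂ hφ)).deg_pos (hi _ (h₁ hχ)).deg_pos
  nlinarith

/-- Isaacs' extension theorem for sets of irreducible characters. -/
theorem extend_irr (hS : S₁ ⊆ S) (hν : CohWith S₁ τ ν) (hi : ∀ χ ∈ S, IsIrrCharacter L χ)
    {χ ψ : L → ℂ} (hχ : χ ∈ S) (hχ₁ : χ ∉ S₁) (hψ : ψ ∈ S₁) {a : ℕ} (ha : χ 1 = a * ψ 1)
    {T : Finset (L → ℂ)} (hT : ↑T ⊆ S₁) (hlt : 2 * deg χ * deg ψ < ∑ φ ∈ T, deg φ ^ 2) :
    IsGeneralizedCharacter G (ν χ) ∧ classInner (ν χ) (ν ψ) = 0 := by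
  have hg := h.gen_ext hν.ext hχ (hS hψ) ha (hν.gen _ hψ)
  refine ⟨hg, ?_⟩
  obtain ⟨t, ht⟩ := hg.classInner_eq_int (hν.gen _ hψ)
  have ho : ∀ φ ∈ S₁, classInner χ φ = 0 := fun φ hφ =>
    (hi χ hχ).classInner_of_ne (hi φ (hS hφ)) (by rintro rfl; exact hχ₁ hφ)
  have hd₁ := (hi ψ (hS hψ)).deg_pos
  have hda : deg χ = a * deg ψ := by simp [deg, ha]
  have ha1 : (1 : ℝ) ≤ a := by
    have := (hi χ hχ).deg_pos
    rw [hda] at this
    exact_mod_cast Nat.cast_pos.1 (pos_of_mul_pos_left this hd₁.le)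
  have h1 : ∀ φ ∈ S₁, ψ 1 * classInner (ν χ) (ν φ) = φ 1 * t := fun φ hφ =>
    ht ▸ h.inner_prop hS hν (Submodule.subset_span hχ) hφ hψ (hi ψ (hS hψ)).apply_one_ne_zero
      (ho φ hφ) (ho _ hψ)
  have h2 : ∀ φ ∈ S₁, rip (ν χ) (ν φ) = deg φ * t / deg ψ := fun φ hφ => by
    have := h1 φ hφ
    rw [← (h.char _ (hS hψ)).coe_deg, ← (h.char _ (hS hφ)).coe_deg] at this
    have := congrArg Complex.re this
    rw [eq_div_iff hd₁.ne', mul_comm]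
    simpa [rip] using this
  have hm := sub_smul_mem_span (R := ℂ) hχ (hS hψ) a
  have h0 : (χ - (a : ℂ) • ψ) 1 = 0 := by simp [ha]
  have h3 := h.rip_ext hν.ext hm hm h0 h0
  simp only [map_sub, map_smul, rip_sub_left, rip_sub_right, rip_natCast_smul_left,
    rip_natCast_smul_right, rip_comm (ν ψ) (ν χ), rip_comm ψ χ, rip_eq_zero (ho _ hψ),
    hν.rip_eq hψ hψ, h2 _ hψ, mul_div_cancel_left₀ _ hd₁.ne', (hi χ hχ).rip_self] at h3
  have hinj : Set.InjOn ν T := fun a ha b hb e => by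
    by_contra e'
    have := hν.rip_eq (hT ha) (hT hb)
    rw [e, hν.rip_eq (hT hb) (hT hb), (hi b (hS (hT hb))).rip_self,
      (hi a (hS (hT ha))).rip_of_ne (hi b (hS (hT hb))) e'] at this
    exact one_ne_zero this
  classical
  have hon : ON (T.image ν) := by
    constructor <;> simp only [Finset.mem_image]
    · rintro _ ⟨a, ha, rfl⟩
      exact hν.isDirr (hT ha) (hi a (hS (hT ha)))
    · rintro _ ⟨a, ha, rfl⟩ _ ⟨b, hb, rfl⟩ e
      rw [hν.iso a (hT ha) b (hT hb)]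
      exact (hi a (hS (hT ha))).classInner_of_ne (hi b (hS (hT hb))) (by rintro rfl; exact e rfl)
  obtain ⟨c, h4, h5, -⟩ := hon.exists_coeff hg
  have h6 : ∀ φ ∈ T, (c (ν φ) : ℝ) = deg φ * t / deg ψ := fun φ hφ => by
    rw [← h2 φ (hT hφ), rip, h4 _ (Finset.mem_image_of_mem _ hφ), Complex.intCast_re]
  have h7 := hon.rip_proj_le (ν χ)
  have h8 : ∑ α ∈ T.image ν, (c α : ℝ) ^ 2 = t ^ 2 * (∑ φ ∈ T, deg φ ^ 2) / deg ψ ^ 2 := by
    rw [Finset.sum_image hinj, Finset.mul_sum, Finset.sum_div]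
    exact Finset.sum_congr rfl fun φ hφ => by rw [h6 φ hφ]; ring
  set s := ∑ φ ∈ T, deg φ ^ 2 with hs
  have h9 : 2 * a < s / deg ψ ^ 2 := by rw [lt_div_iff₀ (by positivity)]; rw [hda] at hlt; nlinarith
  rw [h5, h8, mul_div_assoc] at h7
  rw [ht]
  by_contra h10
  have h11 : t ≠ 0 := by simpa using h10
  have h12 : t = 1 := by
    have h13 : (t : ℝ) ^ 2 * (2 * a) < 1 + 2 * a * t := by
      have : (0 : ℝ) < t ^ 2 := by positivity
      nlinarith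
    have h14 : t ^ 2 * (2 * a) < 1 + 2 * a * t := by exact_mod_cast h13
    have h15 : (1 : ℤ) ≤ a := by exact_mod_cast ha1
    by_contra h16
    rcases lt_or_gt_of_ne h11 with e | e
    · nlinarith
    · have : 2 ≤ t := by omega
      nlinarith [mul_le_mul h15 (by nlinarith : 2 ≤ t * (t - 1)) (by norm_num) (by omega)]
  subst h12
  have h13 : ((∑ α ∈ T.image ν, c α ^ 2 : ℤ) : ℝ) = s / deg ψ ^ 2 := by push_cast; rw [h8]; simp
  have h14 : 2 * a + 1 ≤ s / deg ψ ^ 2 := by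
    rw [← h13] at h9 ⊢
    exact_mod_cast h9
  have h15 := hon.eq_proj (Z := ν χ) (by
    rw [h5, h8]; simp only [Int.cast_one, one_pow, one_mul] at *; linarith)
  have h16 := congrFun h15 1
  rw [proj, Finset.sum_image hinj, Finset.sum_apply] at h16
  have h17 : ψ 1 * ψ 1 * ν χ 1 = (s : ℂ) * ν ψ 1 := by
    rw [h16, Finset.mul_sum, hs]
    push_cast
    rw [Finset.sum_mul]
    refine Finset.sum_congr rfl fun φ hφ => ?_
    have e1 := h1 φ (hT hφ)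
    have e2 := h.ext_one hν.ext (Submodule.subset_span (hS (hT hφ))) (Submodule.subset_span (hS hψ))
    rw [(h.char _ (hS (hT hφ))).coe_deg, Pi.smul_apply, smul_eq_mul]
    push_cast at e1
    linear_combination (ψ 1 * ν φ 1) * e1 + φ 1 * e2
  have e2 := h.ext_one hν.ext (Submodule.subset_span hχ) (Submodule.subset_span (hS hψ))
  have h18 : ψ 1 * χ 1 = s := mul_right_cancel₀ (hν.isDirr hψ (hi _ (hS hψ))).apply_one_ne_zero
    (by linear_combination h17 - ψ 1 * e2)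
  rw [← (h.char _ (hS hψ)).coe_deg, ← (h.char _ hχ).coe_deg] at h18
  have h19 : deg ψ * deg χ = s := by exact_mod_cast h18
  have := mul_pos (hi χ hχ).deg_pos hd₁
  nlinarith

/-- Peterfalvi 5.9(a). -/
theorem map_ext (hS : S₁ ⊆ S) (hν : CohWith S₁ τ ν) (σ : ℂ →+* ℂ)
    (hσ : ∀ α : L → ℂ, τ (fun x => σ (α x)) = fun g => σ (τ α g)) {χ ψ : L → ℂ} (hχ : χ ∈ S₁)
    (hψ : ψ ∈ S₁) (hi : IsIrrCharacter L χ) (hi' : IsIrrCharacter L ψ) (hne : χ ≠ ψ)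
    (hχ' : (fun x => σ (χ x)) ∈ S₁) (hψ' : (fun x => σ (ψ x)) ∈ S₁) :
    ν (fun x => σ (χ x)) = fun g => σ (ν χ g) := by
  obtain ⟨c, hc0, hc⟩ := hi.exists_degree
  obtain ⟨d, hd0, hd⟩ := hi'.exists_degree
  have h1 := hσ ((d : ℂ) • χ - (c : ℂ) • ψ)
  have h2 : (fun x => σ (((d : ℂ) • χ - (c : ℂ) • ψ) x)) =
      (d : ℂ) • (fun x => σ (χ x)) - (c : ℂ) • fun x => σ (ψ x) := by ext; simp
  rw [h2, hν.ext.smul_sub_smul (by simp [hc, hd, mul_comm]),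
    hν.ext.smul_sub_smul (by simp [hc, hd, mul_comm])] at h1
  have hp := (hν.isDirr hχ hi).map_ringHom σ
  have hp' := hν.isDirr hχ' (hi.map_ringHom σ)
  have hq' := hν.isDirr hψ' (hi'.map_ringHom σ)
  have h3 : (fun g => σ (((d : ℂ) • ν χ - (c : ℂ) • ν ψ) g)) =
      (d : ℂ) • (fun x => σ (ν χ x)) - (c : ℂ) • fun x => σ (ν ψ x) := by ext; simp
  have h4 := congrArg (fun Z => rip Z fun g => σ (ν χ g)) (h1.trans h3)
  simp only [rip_sub_left, rip_natCast_smul_left, hp.rip_self,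
    rip_map_ringHom (hν.gen ψ hψ) (hν.gen χ hχ), hν.rip_eq hψ hχ, hi'.rip_of_ne hi hne.symm] at h4
  obtain ⟨n, hn⟩ := (hν.gen χ hχ).exists_degree
  have hn0 : (n : ℂ) ≠ 0 := hn ▸ (hν.isDirr hχ hi).apply_one_ne_zero
  have e1 := h.ext_one hν.ext (Submodule.subset_span (hS hχ')) (Submodule.subset_span (hS hχ))
  have e2 := h.ext_one hν.ext (Submodule.subset_span (hS hψ')) (Submodule.subset_span (hS hχ))
  simp only [hc, hd, hn, map_natCast] at e1 e2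
  have hc' : (0 : ℝ) < c := by exact_mod_cast hc0
  have hd' : (0 : ℝ) < d := by exact_mod_cast hd0
  rcases hp'.trichotomy hp with e | e | e
  · exact e
  · rw [e] at e1
    simp only [Pi.neg_apply, hn, map_intCast] at e1
    have : (c : ℂ) * n = 0 := by linear_combination (-1 / 2 : ℂ) * e1
    simp [hn0, hc0.ne', -Int.cast_eq_zero] at this
  · rw [rip_eq_zero e] at h4
    rcases hq'.trichotomy hp with e' | e' | e'
    · rw [e', hp.rip_self] at h4; linarith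
    · rw [e'] at e2
      simp only [Pi.neg_apply, hn, map_intCast] at e2
      have : ((c + d : ℕ) : ℂ) * n = 0 := by push_cast; linear_combination -e2
      rw [mul_eq_zero, Nat.cast_eq_zero] at this
      rcases this with e | e
      · omega
      · exact (hn0 e).elim
    · rw [rip_eq_zero e'] at h4; linarith

theorem conj_ext (hS : S₁ ⊆ S) (hν : CohWith S₁ τ ν)
    (hσ : ∀ α : L → ℂ, τ (conjFun α) = conjFun (τ α)) {χ : L → ℂ} (hχ : χ ∈ S₁)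
    (hχ' : conjFun χ ∈ S₁) (hi : IsIrrCharacter L χ) (hne : conjFun χ ≠ χ) :
    ν (conjFun χ) = conjFun (ν χ) :=
  h.map_ext hS hν (starRingEnd ℂ) hσ hχ hχ' hi hi.conjFun hne.symm hχ'
    (by simpa [conjFun] using hχ)

end IsoOn

/-- Peterfalvi 5.9(b). -/
theorem exists_eq_sub_conj {Z : G → ℂ} (hZ : IsGeneralizedCharacter G Z) (h2 : rip Z Z = 2)
    (h1 : Z 1 = 0) (hc : conjFun Z = -Z) : ∃ μ, IsIrrCharacter G μ ∧ Z = μ - conjFun μ := by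
  obtain ⟨p, q, hp, hq, hne, rfl⟩ := hZ.exists_sub_of_norm_two h2 h1
  refine ⟨p, hp, ?_⟩
  have h3 := congrArg (fun Z => rip Z q) hc
  simp only [conjFun_sub, rip_sub_left, rip_neg_left, hq.rip_self, hp.rip_of_ne hq hne] at h3
  have := hq.conjFun.isCharacter.rip_nonneg hq.isCharacter
  by_cases e : conjFun p = q
  · rw [e]
  · rw [hp.conjFun.rip_of_ne hq e] at h3; linarith

namespace CohSys

variable {S S₁ S₂ : Set (L → ℂ)} {τ ν : (L → ℂ) →ₗ[ℂ] (G → ℂ)} {R : (L → ℂ) → Finset (G → ℂ)}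
  (h : CohSys S τ R)
include h

/-- Adjoining many characters at once, by (5.6). -/
theorem extend_set (hS : ConjSub S₁ S) (hν : CohWith S₁ τ ν) (hS₂ : S₂ ⊆ S) {χ₁ : L → ℂ}
    (h₁ : χ₁ ∈ S₁) {T : Finset (L → ℂ)} (hT : ↑T ⊆ S₁)
    (hlt : ∀ χ ∈ S₂, χ ∉ S₁ → (∃ a : ℕ, χ 1 = a * χ₁ 1) ∧
      2 * deg χ * deg χ₁ < ∑ φ ∈ T, deg φ ^ 2 / rip φ φ) : CohWith (S₁ ∪ S₂) τ ν := by
  refine h.pivot (Set.union_subset hS.sub hS₂) hν.ext (Submodule.subset_span (hS.sub h₁))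
    (h.one_ne_zero (hS.sub h₁)) (hν.iso _ h₁ _ h₁) fun χ hχ => ?_
  by_cases e : χ ∈ S₁
  · exact ⟨hν.gen χ e, hν.iso _ e _ h₁⟩
  · have e' := hχ.resolve_left e
    obtain ⟨⟨a, ha⟩, h2⟩ := hlt χ e' e
    have := h.extend_coh hS hν (hS₂ e') e h₁ ha hT h2
    exact ⟨this.gen χ (by simp), this.iso χ (by simp) χ₁ (Or.inl h₁)⟩

end CohSys

end Cfsg.Agent.Char
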