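import Cfsg.Agent.Lib.Solv.PGrp
import Cfsg.Agent.Lib.Char.Orth

/-!
The derived subgroup of a cyclic extension; groups of order `p ^ 4`.
-/

set_option autoImplicit false

namespace Cfsg.Agent.Char

open Subgroup Cfsg.Agent.Solv
open scoped commutatorElement

variable {P : Type*} [Group P]

theorem commutator_le_of_gen {N K : Subgroup P} [K.Normal] {x : P} (hx : N ⊔ zpowers x = ⊤)
    (h1 : ∀ a ∈ N, ∀ b ∈ N, ⁅a, b⁆ ∈ K) (h2 : ∀ a ∈ N, ⁅x, a⁆ ∈ K) : commutator P ≤ K := by
  have e : ∀ a b : P, ⁅a, b⁆ ∈ K ↔ (a : P ⧸ K) * b = b * a := fun a b => by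
    rw [← QuotientGroup.eq_one_iff, ← commutatorElement_eq_one_iff_mul_comm]; rfl
  have h3 : ∀ a : P, (∀ b ∈ N, ⁅a, b⁆ ∈ K) → ⁅a, x⁆ ∈ K → ∀ b, ⁅a, b⁆ ∈ K := fun a ha ha' b => by
    have : N ⊔ zpowers x ≤ (centralizer {(a : P ⧸ K)}).comap (QuotientGroup.mk' K) :=
      sup_le (fun b hb => mem_centralizer_singleton_iff.2 ((e _ _).1 (ha b hb)).symm)
        (zpowers_le.2 (mem_centralizer_singleton_iff.2 ((e _ _).1 ha').symm))
    exact (e _ _).2 (mem_centralizer_singleton_iff.1 (this (hx ▸ mem_top b))).symm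
  refine commutator_le.2 fun a _ b _ => h3 a (fun b hb => ?_) ?_ b
  · exact (e _ _).2 ((e _ _).1 (h3 b (h1 b hb) ((e _ _).2 ((e _ _).1 (h2 b hb)).symm) a)).symm
  · exact (e _ _).2 ((e _ _).1 (h3 x h2 (by simp) a)).symm

theorem card_mul_card_commutator [Finite P] {N : Subgroup P} [hN : N.Normal] {x : P}
    (hx : N ⊔ zpowers x = ⊤) : Nat.card N * Nat.card (⁅N, N⁆ : Subgroup P) =
      Nat.card {n : N // x * n * x⁻¹ * (n : P)⁻¹ ∈ ⁅N, N⁆} * Nat.card (commutator P) := by
  let π := QuotientGroup.mk' ⁅N, N⁆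
  have hc : ∀ a ∈ N, ∀ b ∈ N, π a * π b = π b * π a := fun a ha b hb => by
    rw [← commutatorElement_eq_one_iff_mul_comm, ← map_commutatorElement]
    exact (QuotientGroup.eq_one_iff _).2 (commutator_mem_commutator ha hb)
  have hm : ∀ n : N, ⁅x, (n : P)⁆ ∈ N := fun n => N.mul_mem (hN.conj_mem _ n.2 x) (N.inv_mem n.2)
  let f : N →* P ⧸ ⁅N, N⁆ := MonoidHom.mk' (fun n => π ⁅x, (n : P)⁆) fun a b => by
    have : ⁅x, ((a * b : N) : P)⁆ = ⁅x, (a : P)⁆ * (a * ⁅x, (b : P)⁆ * (a : P)⁻¹) := by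
      simp [commutatorElement_def, mul_assoc]
    rw [this, map_mul, map_mul, map_mul, hc _ a.2 _ (hm b), mul_assoc, ← map_mul, mul_inv_cancel,
      map_one, mul_one]
  have h1 : f.range.comap π = commutator P := by
    refine le_antisymm ?_ ?_
    · rintro y ⟨n, hn⟩
      have := (commutator_mono le_top le_top : ⁅N, N⁆ ≤ commutator P) (QuotientGroup.eq.1 hn)
      exact ((commutator P).mul_mem_cancel_left ((commutator P).inv_mem
        (commutator_mem_commutator (mem_top _) (mem_top _)))).1 this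
    have : (f.range.comap π).Normal := normal_iff_top_le_normalizer.2 (hx ▸ sup_le
      (le_normalizer_of_conj_mem ?_) (zpowers_le.2 ?_))
    · refine commutator_le_of_gen hx (fun a ha b hb => ⟨1, ?_⟩) fun a ha => ⟨⟨a, ha⟩, rfl⟩
      rw [map_one]
      exact ((QuotientGroup.eq_one_iff _).2 (commutator_mem_commutator ha hb)).symm
    · rintro g hg y ⟨n, hn⟩
      refine ⟨n, ?_⟩
      rw [map_mul, map_mul, ← hn]
      show π _ = π g * π _ * _
      rw [hc _ hg _ (hm n), mul_assoc, ← map_mul, mul_inv_cancel, map_one, mul_one]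
    · refine zpowers_le.1 (le_normalizer_of_conj_mem ?_)
      rintro _ ⟨k, rfl⟩ y ⟨n, hn⟩
      refine ⟨⟨_, hN.conj_mem _ n.2 (x ^ k)⟩, ?_⟩
      rw [map_mul, map_mul, ← hn]
      show π _ = π _ * π _ * _
      rw [← map_mul, ← map_mul]
      congr 1
      simp only [commutatorElement_def]
      group
  have h2 : Nat.card (commutator P) = Nat.card f.range * Nat.card (⁅N, N⁆ : Subgroup P) := by
    rw [← h1, card_comap_mk]
  have h3 : Nat.card {n : N // x * n * x⁻¹ * (n : P)⁻¹ ∈ ⁅N, N⁆} = Nat.card f.ker :=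
    Nat.card_congr (Equiv.subtypeEquivRight fun n => (QuotientGroup.eq_one_iff _).symm)
  rw [h2, h3, ← mul_assoc, ← index_ker, card_mul_index]

theorem card_eq_of_abelian [Finite P] {N : Subgroup P} [hN : N.Normal] {x : P}
    (hx : N ⊔ zpowers x = ⊤) (hA : ∀ a ∈ N, ∀ b ∈ N, a * b = b * a) :
    Nat.card N = Nat.card (N ⊓ center P : Subgroup P) * Nat.card (commutator P) := by
  have h1 := card_mul_card_commutator hx
  have h2 : ⁅N, N⁆ = ⊥ := eq_bot_iff.2 (commutator_le.2 fun a ha b hb =>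
    commutatorElement_eq_one_iff_mul_comm.2 (hA a ha b hb))
  rw [h2, card_bot, mul_one] at h1
  rw [h1]
  congr 1
  refine Nat.card_congr ⟨fun n => ⟨n.1, n.1.2, mem_center_iff.2 fun g => ?_⟩,
    fun n => ⟨⟨n, n.2.1⟩, by simp [mem_center_iff.1 n.2.2 x, mul_assoc]⟩, fun _ => rfl, fun _ => rfl⟩
  have : N ⊔ zpowers x ≤ centralizer {(n.1 : P)} := sup_le
    (fun b hb => mem_centralizer_singleton_iff.2 (hA _ hb _ n.1.2)) (zpowers_le.2
      (mem_centralizer_singleton_iff.2 (commutatorElement_eq_one_iff_mul_comm.1 n.2)))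
  exact mem_centralizer_singleton_iff.1 (this (hx ▸ mem_top g))

theorem sup_zpowers_eq_top_of_prime [Finite P] {N : Subgroup P} (hp : N.index.Prime) {x : P}
    (hx : x ∉ N) : N ⊔ zpowers x = ⊤ := by
  refine index_eq_one.1 ((hp.eq_one_or_self_of_dvd _ (index_dvd_of_le le_sup_left)).resolve_right
    fun h => hx ?_)
  have := relIndex_mul_index (le_sup_left : N ≤ N ⊔ zpowers x)
  rw [h, Nat.mul_eq_right hp.ne_zero, relIndex_eq_one] at this
  exact this (mem_sup_right (mem_zpowers x))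

theorem index_centralizer_le [Finite P] {K : Subgroup P} {x : P} (h : ∀ g, ⁅x, g⁆ ∈ K) :
    (centralizer ({x} : Set P)).index ≤ Nat.card K := by
  rw [← card_isConj_eq_index]
  refine Nat.card_le_card_of_injective (fun y => ⟨x * y.1⁻¹, ?_⟩) fun y y' h => ?_
  · obtain ⟨c, hc⟩ := isConj_iff.1 y.2
    simpa [← hc, commutatorElement_def, mul_assoc] using h c
  · simpa [Subtype.ext_iff] using h

theorem card_center_mul_of_four [Finite P] {p : ℕ} [hp : Fact p.Prime] (hP : Nat.card P = p ^ 4)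
    (h : commutator P ≠ ⊥) : Nat.card (center P) * Nat.card (commutator P) = p ^ 3 := by
  have hp1 := hp.out.one_lt
  have hG : IsPGroup p P := .of_card hP
  have hT : IsPGroup p (⊤ : Subgroup P) := hG.to_subgroup _
  have hab : ∀ A : Subgroup P, IsMulCommutative A → A ≠ ⊤ := fun A hA h1 => h (eq_bot_iff.2
    (commutator_le.2 fun a _ b _ => commutatorElement_eq_one_iff_mul_comm.2
      (congrArg Subtype.val (hA.1.1 ⟨a, h1 ▸ mem_top a⟩ ⟨b, h1 ▸ mem_top b⟩))))
  have : Nontrivial P := by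
    rw [← Finite.one_lt_card_iff_nontrivial, hP]; exact Nat.one_lt_pow (by norm_num) hp1
  have := hG.center_nontrivial
  obtain ⟨⟨z, hz⟩, hz'⟩ := exists_prime_orderOf_dvd_card' (G := center P) p
    ((hG.to_subgroup _).card_eq_or_dvd.resolve_left Finite.one_lt_card.ne')
  have hZ : Nat.card (zpowers z) = p := by rw [Nat.card_zpowers, ← hz', orderOf_mk]
  have : (zpowers z).Normal := ⟨fun n hn g => by
    rwa [mem_center_iff.1 (zpowers_le.2 hz hn) g, mul_inv_cancel_right]⟩
  obtain ⟨x, -, e1, e2, e3⟩ := exists_central_mod_pow (N := zpowers z) hT.isNilpotent hT le_rfl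
    le_normalizer le_normalizer_of_normal fun h => by
      have := card_le_of_le h
      rw [card_top, hP, hZ] at this
      exact absurd this (lt_self_pow₀ hp1 (by norm_num)).not_ge
  have h1 : Nat.card (zpowers z ⊔ zpowers x : Subgroup P) = p ^ 2 := by
    rw [← card_mul_relIndex le_sup_left, hZ,
      relIndex_sup_zpowers_of_prime hp.out (le_normalizer_of_normal (mem_top x)) e1 e2, sq]
  have h2 : centralizer {x} ≤ centralizer (zpowers z ⊔ zpowers x : Subgroup P) := fun y hy =>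
    le_centralizer_iff.1 (sup_le (zpowers_le.2 fun g _ => mem_center_iff.1 hz g) (zpowers_le.2
      fun g hg => mem_centralizer_singleton_iff.1 hg)) hy
  generalize zpowers z ⊔ zpowers x = N at h1 h2
  have h3 : IsMulCommutative N := IsPGroup.isMulCommutative_of_card_eq_prime_sq h1
  have h4 : ∃ y ∈ centralizer (N : Set P), y ∉ N := by
    by_contra! h5
    have h6 := card_le_of_le (h2.trans h5)
    have h7 := index_centralizer_le (x := x) (K := zpowers z) fun g => e3 g trivial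
    have h8 := Nat.mul_le_mul h6 h7
    rw [card_mul_index, hP, h1, hZ, ← pow_succ, Nat.pow_le_pow_iff_right hp1] at h8
    omega
  obtain ⟨y, hy, hy'⟩ := h4
  have h5 := isMulCommutative_sup_zpowers h3 hy
  generalize hA : N ⊔ zpowers y = A at h5
  obtain ⟨k, hk, h6⟩ := (Nat.dvd_prime_pow hp.out).1 (hP ▸ A.card_subgroup_dvd_card)
  have h7 : Nat.card N < Nat.card A := card_lt_of_lt (hA ▸ left_lt_sup.2 (mt zpowers_le.1 hy'))
  have h8 : k ≠ 4 := fun h => hab A h5 (eq_top_of_card_eq _ (by rw [h6, h, hP]))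
  rw [h1, h6, Nat.pow_lt_pow_iff_right hp1] at h7
  obtain rfl : k = 3 := by omega
  have h9 : A.index = p := Nat.eq_of_mul_eq_mul_left (pow_pos hp.out.pos 3) (by
    rw [← pow_succ, ← hP, ← A.card_mul_index, h6])
  have : A.Normal := normal_of_index_eq_minFac_card (by rw [h9, hP, hp.out.pow_minFac (by norm_num)])
  obtain ⟨x, -, hx⟩ := SetLike.exists_of_lt (hab A h5).lt_top
  rw [← h6, card_eq_of_abelian (sup_zpowers_eq_top_of_prime (h9 ▸ hp.out) hx) fun a ha b hb =>
    congrArg Subtype.val (h5.1.1 ⟨a, ha⟩ ⟨b, hb⟩), inf_eq_right.2 fun z hz => by_contra fun h10 =>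
      hab _ (isMulCommutative_sup_zpowers h5 fun a _ => mem_center_iff.1 hz a)
        (sup_zpowers_eq_top_of_prime (h9 ▸ hp.out) h10)]

end Cfsg.Agent.Char
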