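import Cfsg.Agent.Lib.Char.FS

/-!
Invariant bilinear forms, real representations and the Frobenius--Schur indicator.
-/

set_option autoImplicit false

namespace Cfsg.Agent.Char

open scoped ComplexConjugate Kronecker ComplexOrder
open Matrix Module

variable {G : Type*} [Group G]

/-- The matrices of a representation. -/
noncomputable def mx {n : ℕ} (ρ : Representation ℂ G (Fin n → ℂ)) :
    G →* Matrix (Fin n) (Fin n) ℂ where
  toFun g := LinearMap.toMatrix' (ρ g)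
  map_one' := by simp
  map_mul' g h := by simp [LinearMap.toMatrix'_mul]

section
variable {n : ℕ} (ρ : Representation ℂ G (Fin n → ℂ))

theorem toLin'_mx (g : G) : toLin' (mx ρ g) = ρ g := toLin'_toMatrix' _

theorem mx_schur [ρ.IsIrreducible] {A : Matrix (Fin n) (Fin n) ℂ}
    (h : ∀ g, A * mx ρ g = mx ρ g * A) : ∃ c : ℂ, A = c • 1 := by
  obtain ⟨c, hc⟩ := schur_scalar ρ (toLin' A) fun g => by
    rw [← toLin'_mx, ← toLin'_mul, h, toLin'_mul]
  exact ⟨c, toLin'.injective (by simp [hc])⟩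

theorem mul_eq_of_inv {ι : Type*} [Fintype ι] [DecidableEq ι] {X Y : G →* Matrix ι ι ℂ}
    {M : Matrix ι ι ℂ} (h : ∀ g, X g * M * (Y g)ᵀ = M) (g : G) : X g * M = M * (Y g⁻¹)ᵀ := by
  conv_rhs => rw [← h g, Matrix.mul_assoc, ← transpose_mul, ← map_mul, inv_mul_cancel, map_one]
  simp

theorem mx_det_ne_zero [ρ.IsIrreducible] {M : Matrix (Fin n) (Fin n) ℂ} (h0 : M ≠ 0)
    (h : ∀ g, mx ρ g * M * (mx ρ g)ᵀ = M) : M.det ≠ 0 := by
  let W : Subrepresentation ρ := ⟨LinearMap.range (toLin' M), by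
    rintro g _ ⟨v, rfl⟩
    exact ⟨toLin' (mx ρ g⁻¹)ᵀ v, by rw [← toLin'_mx, ← toLin'_mul_apply, ← toLin'_mul_apply,
      mul_eq_of_inv h]⟩⟩
  rcases eq_bot_or_eq_top W with h1 | h1
  · exact absurd (toLin'.map_eq_zero_iff.1 (LinearMap.range_eq_bot.1
      (congrArg Subrepresentation.toSubmodule h1))) h0
  · exact isUnit_iff_ne_zero.1 ((isUnit_iff_isUnit_det M).1 (mulVec_surjective_iff_isUnit.1
      (LinearMap.range_eq_top.1 (congrArg Subrepresentation.toSubmodule h1))))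

theorem fsInd_sq [Fintype G] {χ : G → ℂ} (hχ : IsIrrCharacter G χ) (h : fsInd χ ≠ 0) :
    fsInd χ * fsInd χ = 1 := by
  rcases hχ.fsInd_eq_one_or (by_contra fun h1 => h (hχ.fsInd_eq_zero h1)) with h1 | h1 <;> simp [h1]

theorem classInner_symSub [Fintype G] {ε : ℂ} (hε : ε * ε = 1) :
    (finrank ℂ (symSub ρ ε).toRepresentation.invariants : ℂ) =
      (classInner ρ.character (fun g => conj (ρ.character g)) + ε * fsInd ρ.character) / 2 := by
  rw [← classInner_rep_one, classInner_one_right]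
  simp only [character_symSub ρ hε, classInner, fsInd, Complex.conj_conj, ← Finset.sum_div,
    Finset.sum_add_distrib, ← Finset.mul_sum, sq]
  ring

theorem exists_form [Fintype G] [ρ.IsIrreducible] (h : fsInd ρ.character ≠ 0) :
    ∃ M : Matrix (Fin n) (Fin n) ℂ, M.det ≠ 0 ∧ Mᵀ = fsInd ρ.character • M ∧
      ∀ g, mx ρ g * M * (mx ρ g)ᵀ = M := by
  have h0 := isIrrCharacter_rep ρ
  have h1 := classInner_symSub ρ (fsInd_sq h0 h)
  rw [fsInd_sq h0 h, by_contra fun h1 => h (h0.fsInd_eq_zero h1), h0.classInner_self] at h1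
  have : Nontrivial (symSub ρ (fsInd ρ.character)).toRepresentation.invariants :=
    (finrank_pos_iff (R := ℂ)).1 (Nat.pos_of_ne_zero fun h2 => by simp [h2] at h1)
  obtain ⟨⟨⟨M, h2⟩, h3⟩, h4⟩ := exists_ne (0 : (symSub ρ (fsInd ρ.character)).toRepresentation.invariants)
  have h5 : ∀ g, mx ρ g * M * (mx ρ g)ᵀ = M := fun g => congrArg Subtype.val (h3 g)
  exact ⟨M, mx_det_ne_zero ρ (fun h => h4 (Subtype.ext (Subtype.ext h))) h5, h2, h5⟩

theorem fsInd_eq_one_of_form [Fintype G] [ρ.IsIrreducible] {M : Matrix (Fin n) (Fin n) ℂ}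
    (h0 : M ≠ 0) (h1 : Mᵀ = M) (h2 : ∀ g, mx ρ g * M * (mx ρ g)ᵀ = M) : fsInd ρ.character = 1 := by
  have h := isIrrCharacter_rep ρ
  have h3 := classInner_symSub ρ (one_mul 1)
  have : Nontrivial (symSub ρ 1).toRepresentation.invariants :=
    ⟨⟨⟨M, h1.trans (one_smul _ _).symm⟩, fun g => Subtype.ext (h2 g)⟩, 0,
      fun h => h0 (congrArg (·.1.1) h)⟩
  have h4 := Nat.cast_ne_zero (R := ℂ).2 (finrank_pos (R := ℂ)
    (M := (symSub ρ 1).toRepresentation.invariants)).ne'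
  rw [h3] at h4
  by_cases h5 : (fun g => conj (ρ.character g)) = ρ.character
  · refine (h.fsInd_eq_one_or h5).resolve_right fun h6 => h4 ?_
    rw [h5, h6, h.classInner_self]; simp
  · rw [h.fsInd_eq_zero h5, h.classInner_of_ne h.conj (Ne.symm h5)] at h4
    simp at h4

theorem exists_form' [Fintype G] [ρ.IsIrreducible] (h : fsInd ρ.character ≠ 0) :
    ∃ N : Matrix (Fin n) (Fin n) ℂ, N.det ≠ 0 ∧ Nᵀ = fsInd ρ.character • N ∧
      ∀ g, (mx ρ g)ᵀ * N * mx ρ g = N := by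
  obtain ⟨M, h1, h2, h3⟩ := exists_form ρ h
  have h4 := mul_nonsing_inv M (Ne.isUnit h1)
  have h5 := nonsing_inv_mul M (Ne.isUnit h1)
  refine ⟨M⁻¹, (isUnit_nonsing_inv_det M (Ne.isUnit h1)).ne_zero, ?_, fun g => ?_⟩
  · rw [transpose_nonsing_inv, h2]
    exact inv_eq_right_inv (by rw [smul_mul_smul_comm, h4, fsInd_sq (isIrrCharacter_rep ρ) h, one_smul])
  · refine (inv_eq_right_inv ?_).symm
    have := mul_eq_of_inv h3 g⁻¹
    rw [inv_inv] at this
    rw [← Matrix.mul_assoc, ← Matrix.mul_assoc, ← this, Matrix.mul_assoc _ M, h4, Matrix.mul_one,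
      ← map_mul, inv_mul_cancel, map_one]

theorem exists_det_add_ne_zero {ι : Type*} [Fintype ι] [DecidableEq ι] (A B : Matrix ι ι ℂ) {z : ℂ}
    (hz : (A + z • B).det ≠ 0) : ∃ t : ℝ, (A + (t : ℂ) • B).det ≠ 0 := by
  let p := (A.map Polynomial.C + (Polynomial.X : Polynomial ℂ) • B.map Polynomial.C).det
  have hp : ∀ t : ℂ, p.eval t = (A + t • B).det := fun t => by
    rw [← Polynomial.coe_evalRingHom, RingHom.map_det]; congr 1; ext; simp; exact mul_comm _ _
  by_contra! h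
  have : p = 0 := Polynomial.eq_zero_of_infinite_isRoot p
    ((Set.infinite_range_of_injective Complex.ofReal_injective).mono (by
      rintro _ ⟨t, rfl⟩; exact (hp t).trans (h t)))
  exact hz (by rw [← hp, this, Polynomial.eval_zero])

theorem posDef_sum_mx [Fintype G] : (∑ g, mx ρ g * (mx ρ g)ᴴ).PosDef := by
  classical
  rw [← Finset.add_sum_erase _ _ (Finset.mem_univ 1), map_one, conjTranspose_one, mul_one]
  exact PosDef.one.add_posSemidef (posSemidef_sum _ fun g _ => posSemidef_self_mul_conjTranspose _)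

theorem mul_sum_mx [Fintype G] (g : G) :
    mx ρ g * (∑ g, mx ρ g * (mx ρ g)ᴴ) * (mx ρ g)ᴴ = ∑ g, mx ρ g * (mx ρ g)ᴴ := by
  conv_rhs => rw [← Equiv.sum_comp (Equiv.mulLeft g)]
  simp [Finset.mul_sum, Finset.sum_mul, Matrix.mul_assoc]

theorem exists_real [Fintype G] [ρ.IsIrreducible] (h : fsInd ρ.character = 1) :
    ∃ D : Matrix (Fin n) (Fin n) ℂ, D.det ≠ 0 ∧
      ∀ g, (D⁻¹ * mx ρ g * D).map conj = D⁻¹ * mx ρ g * D := by
  classical
  rcases isEmpty_or_nonempty (Fin n) with hn | ⟨⟨i⟩⟩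
  · exact ⟨1, by simp, fun g => Subsingleton.elim _ _⟩
  obtain ⟨M, h1, h2, h3⟩ := exists_form ρ (by rw [h]; exact one_ne_zero)
  rw [h, one_smul] at h2
  let cj : Matrix (Fin n) (Fin n) ℂ →+* Matrix (Fin n) (Fin n) ℂ := (starRingEnd ℂ).mapMatrix
  have hc : ∀ A, cj A = Aᴴᵀ := fun A => rfl
  have hcc : ∀ A, cj (cj A) = A := fun A => by ext; simp [cj]
  have hcs : ∀ (a : ℂ) A, cj (a • A) = conj a • cj A := fun a A => by ext; simp [cj]
  let H := ∑ g, mx ρ g * (mx ρ g)ᴴ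
  have hH : H.PosDef := posDef_sum_mx ρ
  have h4 : ∀ g, cj (mx ρ g) * Hᵀ * (mx ρ g)ᵀ = Hᵀ := fun g => by
    have : mx ρ g * H * (mx ρ g)ᴴ = H := mul_sum_mx ρ g
    conv_rhs => rw [← this]
    simp [hc, Matrix.mul_assoc]
  have hu : IsUnit Hᵀ.det := (isUnit_iff_isUnit_det _).1 hH.transpose.isUnit
  let C := M * Hᵀ⁻¹
  have h5 : ∀ g, mx ρ g * C = C * cj (mx ρ g) := fun g => by
    have : cj (mx ρ g) * Hᵀ = _ := mul_eq_of_inv (X := cj.toMonoidHom.comp (mx ρ)) h4 g
    rw [← Matrix.mul_assoc, mul_eq_of_inv h3, Matrix.mul_assoc, Matrix.mul_assoc,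
      ← nonsing_inv_mul_cancel_left _ (mx ρ g⁻¹)ᵀ hu, ← this, Matrix.mul_assoc,
      mul_nonsing_inv_cancel_right _ _ hu]
  obtain ⟨c, h6⟩ := mx_schur ρ (A := C * cj C) fun g => by
    rw [← Matrix.mul_assoc, h5, Matrix.mul_assoc C, Matrix.mul_assoc C, ← map_mul cj, h5, map_mul cj C,
      hcc]
  have h7 : (c • H).PosDef := by
    have e1 : cj M = Mᴴ := by rw [hc]; exact congrArg conjTranspose h2
    have e2 : H = cj Hᵀ := by rw [hc]; exact hH.1.symm
    rw [← Matrix.one_mul H, ← smul_mul_assoc, ← h6, map_mul cj, Matrix.mul_assoc C,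
      Matrix.mul_assoc (cj M), show cj Hᵀ⁻¹ * H = 1 by
        rw [← map_one cj, ← nonsing_inv_mul _ hu, map_mul, ← e2], Matrix.mul_one, e1]
    exact hH.transpose.inv.mul_mul_conjTranspose_same
      (vecMul_injective_iff_isUnit.2 ((isUnit_iff_isUnit_det _).2 h1.isUnit))
  have h8 : 0 < c := by
    have := mul_pos (h7.diag_pos (i := i)) (RCLike.inv_pos_of_pos (hH.diag_pos (i := i)))
    rwa [Matrix.smul_apply, smul_eq_mul, mul_inv_cancel_right₀ hH.diag_pos.ne'] at this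
  let r : ℝ := (√c.re)⁻¹
  have h9 : (r : ℂ) * r * c = 1 := by
    obtain ⟨h9, h10⟩ := Complex.pos_iff.1 h8
    rw [show c = (c.re : ℂ) from Complex.ext rfl h10.symm, ← Complex.ofReal_mul, ← Complex.ofReal_mul,
      ← mul_inv, Real.mul_self_sqrt h9.le, inv_mul_cancel₀ h9.ne', Complex.ofReal_one]
  let E := (r : ℂ) • C
  have h10 : E * cj E = 1 := by
    rw [hcs, smul_mul_smul_comm, h6, smul_smul, Complex.conj_ofReal, h9, one_smul]
  obtain ⟨t, ht⟩ := exists_det_add_ne_zero (1 + E) (Complex.I • (1 - E)) (z := -Complex.I) (by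
    rw [smul_smul, neg_mul, Complex.I_mul_I, neg_neg, one_smul, add_add_sub_cancel, ← two_smul ℂ]
    simp)
  let D := 1 + E + (t : ℂ) • Complex.I • (1 - E)
  have h11 : E * cj D = D := by
    simp only [D, map_add, map_sub, hcs, map_one, mul_add, mul_sub, Matrix.mul_smul, h10, mul_one,
      Complex.conj_ofReal, Complex.conj_I]
    module
  have h12 : IsUnit (cj D).det := by
    rw [← RingHom.map_det]; exact (ht.isUnit).map _
  refine ⟨D, ht, fun g => ?_⟩
  change cj (D⁻¹ * mx ρ g * D) = D⁻¹ * mx ρ g * D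
  have h13 : mx ρ g * E = E * cj (mx ρ g) := by rw [Matrix.mul_smul, h5, smul_mul_assoc]
  conv_rhs => rw [← h11, Matrix.mul_assoc, ← Matrix.mul_assoc _ E, h13, Matrix.mul_inv_rev,
    ← Matrix.mul_assoc, ← Matrix.mul_assoc, nonsing_inv_mul_cancel_right _ _
      (isUnit_det_of_right_inverse h10)]
  rw [map_mul, map_mul, inv_eq_left_inv (A := cj D) (B := cj D⁻¹) (by
    rw [← map_mul, nonsing_inv_mul _ ht.isUnit, map_one])]

end

theorem fsInd_eq_one_iff [Fintype G] {χ : G → ℂ} (hχ : IsIrrCharacter G χ) : fsInd χ = 1 ↔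
    ∃ (n : ℕ) (X : G →* Matrix (Fin n) (Fin n) ℝ), ∀ g, ((X g).trace : ℂ) = χ g := by
  obtain ⟨n, ρ, _, rfl⟩ := hχ
  refine ⟨fun h => ?_, fun ⟨m, X, h⟩ => ?_⟩
  · obtain ⟨D, h1, h2⟩ := exists_real ρ h
    have h3 : ∀ g, ((D⁻¹ * mx ρ g * D).map Complex.re).map Complex.ofRealHom = D⁻¹ * mx ρ g * D :=
      fun g => Matrix.ext fun i j => Complex.conj_eq_iff_re.1 (congrFun₂ (h2 g) i j)
    refine ⟨n, ⟨⟨fun g => (D⁻¹ * mx ρ g * D).map Complex.re, ?_⟩, fun g h => ?_⟩, fun g => ?_⟩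
    · simp [nonsing_inv_mul _ h1.isUnit]
    · refine map_injective Complex.ofRealHom.injective ?_
      simp only [Matrix.map_mul, h3]
      simp only [map_mul, Matrix.mul_assoc, mul_nonsing_inv_cancel_left _ _ h1.isUnit]
    · refine (AddMonoidHom.map_trace Complex.ofRealHom _).trans ((congrArg trace (h3 g)).trans ?_)
      rw [trace_mul_cycle, mul_nonsing_inv _ h1.isUnit, Matrix.one_mul, character_eq_trace]; rfl
  let σ : Representation ℂ G (Fin m → ℂ) := (toLinAlgEquiv' (R := ℂ)).toAlgHom.toMonoidHom.comp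
    (Complex.ofRealHom.mapMatrix.toMonoidHom.comp X)
  have h1 : ρ.character = σ.character := funext fun g => (h g).symm.trans
    ((AddMonoidHom.map_trace Complex.ofRealHom _).trans (trace_toLin'_eq _).symm)
  obtain ⟨e⟩ := nonempty_equiv_of_character_eq ρ σ h1
  have := isIrreducible_of_equiv e
  have h2 : ∀ g, (mx σ g)ᴴ = (mx σ g)ᵀ := fun g => by
    rw [show mx σ g = (X g).map Complex.ofRealHom from LinearMap.toMatrix'_toLin' _]
    ext; simp
  have := nontrivial_of_isIrreducible σ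
  rcases isEmpty_or_nonempty (Fin m) with _ | _
  · exact absurd (Unique.instSubsingleton) (not_subsingleton (Fin m → ℂ))
  refine h1 ▸ fsInd_eq_one_of_form σ (posDef_sum_mx σ).isUnit.ne_zero ?_ fun g => h2 g ▸ mul_sum_mx σ g
  simp [h2, transpose_sum]

/-- `χ` is afforded by matrices preserving a nondegenerate `ε`-symmetric form. -/
def HasForm (ε : ℂ) (χ : G → ℂ) : Prop :=
  ∃ (ι : Type) (_ : Fintype ι) (_ : DecidableEq ι) (X : G →* Matrix ι ι ℂ) (N : Matrix ι ι ℂ),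
    (∀ g, (X g).trace = χ g) ∧ N.det ≠ 0 ∧ Nᵀ = ε • N ∧ ∀ g, (X g)ᵀ * N * X g = N

theorem _root_.Cfsg.IsIrrCharacter.hasForm [Fintype G] {χ : G → ℂ} (hχ : IsIrrCharacter G χ)
    (h : fsInd χ ≠ 0) : HasForm (fsInd χ) χ := by
  obtain ⟨n, ρ, _, rfl⟩ := hχ
  obtain ⟨N, h1⟩ := exists_form' ρ h
  exact ⟨_, _, _, mx ρ, N, fun g => (character_eq_trace ρ g).symm, h1⟩

theorem HasForm.comp {ε : ℂ} {χ : G → ℂ} (h : HasForm ε χ) {H : Type*} [Group H] (f : H →* G) :
    HasForm ε fun x => χ (f x) := by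
  obtain ⟨ι, _, _, X, N, h1, h2, h3, h4⟩ := h
  exact ⟨ι, _, _, X.comp f, N, fun _ => h1 _, h2, h3, fun _ => h4 _⟩

theorem HasForm.mul {ε δ : ℂ} {χ ψ : G → ℂ} (h : HasForm ε χ) (h' : HasForm δ ψ) :
    HasForm (ε * δ) (χ * ψ) := by
  obtain ⟨ι, _, _, X, N, h1, h2, h3, h4⟩ := h
  obtain ⟨κ, _, _, Y, M, k1, k2, k3, k4⟩ := h'
  refine ⟨ι × κ, _, _, ⟨⟨fun g => X g ⊗ₖ Y g, by simp⟩, fun _ _ => by simp [mul_kronecker_mul]⟩,
    N ⊗ₖ M, fun g => by simp [trace_kronecker, h1, k1], by simp [det_kronecker, h2, k2], ?_,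
    fun g => ?_⟩
  · rw [← kroneckerMap_transpose, h3, k3, smul_kronecker, kronecker_smul, smul_smul]
  · change (X g ⊗ₖ Y g)ᵀ * _ * (X g ⊗ₖ Y g) = _
    rw [← kroneckerMap_transpose, ← mul_kronecker_mul, ← mul_kronecker_mul, h4, k4]

theorem HasForm.even [Fintype G] {χ : G → ℂ} (h : HasForm (-1) χ) {m : ℕ}
    (hm : classInner χ (fun _ => 1) = m) : Even m := by
  obtain ⟨ι, _, _, X, N, h1, h2, h3, h4⟩ := h
  let ρ : Representation ℂ G (ι → ℂ) := (toLinAlgEquiv' (R := ℂ)).toAlgHom.toMonoidHom.comp X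
  have hρ : ∀ g v, ρ g v = X g *ᵥ v := fun _ _ => rfl
  rw [show χ = ρ.character from funext fun g => (h1 g).symm.trans (trace_toLin'_eq _).symm,
    classInner_rep_one, Nat.cast_inj] at hm
  let B := toBilin' N
  have h5 : ∀ g v w, B (ρ g v) (ρ g w) = B v w := fun g v w => by
    conv_rhs => rw [show B = toBilin' ((X g)ᵀ * N * X g) by rw [h4]]
    simp only [B, toBilin'_apply', hρ, ← mulVec_mulVec, dotProduct_mulVec v, vecMul_transpose]
  have h6 : ∀ v w, B v w = - B w v := fun v w => by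
    rw [toBilin'_apply', toBilin'_apply', dotProduct_mulVec, ← mulVec_transpose, h3, dotProduct_comm]
    simp [neg_mulVec]
  have h7 : ∀ w : ρ.invariants, (∀ v : ρ.invariants, B w v = 0) → w = 0 := fun w hw =>
    Subtype.ext ((LinearMap.BilinForm.nondegenerate_toBilin'_iff_det_ne_zero.2 h2).1 w fun v => by
      have := hw ⟨∑ g, ρ g v, fun x => by
        rw [map_sum, ← Equiv.sum_comp (Equiv.mulLeft x) fun g => ρ g v]; simp⟩
      rw [map_sum, Finset.sum_congr rfl fun g _ => by rw [← w.2 g, h5]] at this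
      simpa using this)
  let b := finBasis ℂ ρ.invariants
  have h8 := (LinearMap.BilinForm.nondegenerate_iff_det_ne_zero b).1
    (show (B.restrict ρ.invariants).Nondegenerate from
      ⟨h7, fun w hw => h7 w fun v => (h6 _ _).trans (neg_eq_zero.2 (hw v))⟩)
  have h9 := det_transpose (LinearMap.BilinForm.toMatrix b (B.restrict ρ.invariants))
  rw [show (LinearMap.BilinForm.toMatrix b (B.restrict ρ.invariants))ᵀ =
    -LinearMap.BilinForm.toMatrix b (B.restrict ρ.invariants) by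
      ext i j; simpa using h6 _ _, det_neg, mul_eq_right₀ h8, Fintype.card_fin, hm] at h9
  exact (neg_one_pow_eq_one_iff_even (by norm_num)).1 h9

theorem fsInd_eq_of_odd [Fintype G] {H : Type*} [Group H] [Fintype H] (f : H →* G) {χ : G → ℂ}
    {θ : H → ℂ} (hχ : IsIrrCharacter G χ) (hθ : IsIrrCharacter H θ)
    (h1 : (fun g => conj (χ g)) = χ) (h2 : (fun g => conj (θ g)) = θ) {m : ℕ} (hm : Odd m)
    (h : classInner (fun x => χ (f x)) θ = m) : fsInd χ = fsInd θ := by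
  by_contra h3
  have h4 : fsInd χ * fsInd θ = -1 := by
    rcases hχ.fsInd_eq_one_or h1 with a | a <;> rcases hθ.fsInd_eq_one_or h2 with b | b <;>
      simp_all
  refine Nat.not_even_iff_odd.2 hm ((h4 ▸ ((hχ.hasForm fun h => by simp [h] at h4).comp f).mul
    (hθ.hasForm fun h => by simp [h] at h4)).even ?_)
  rw [← h, classInner_mul_left, h2]; congr 1; ext; simp

end Cfsg.Agent.Char
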