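import Cfsg.Agent.Lib.Char.Misc

/-!
Norm of a restriction, coset averages, Gallagher's theorem, fully ramified characters.
-/

set_option autoImplicit false

namespace Cfsg.Agent.Char

open scoped ComplexConjugate

variable {G : Type*} [Group G]

open Classical in
theorem sum_subgroup_add_sum_not_mem [Fintype G] {M : Type*} [AddCommMonoid M] (H : Subgroup G)
    [Fintype H] (F : G → M) : ∑ h : H, F h + ∑ g with g ∉ H, F g = ∑ g, F g := by
  rw [← Finset.sum_filter_add_sum_filter_not Finset.univ (· ∈ H)]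
  congr 1
  exact (Finset.sum_subtype _ (by simp) F).symm

open Classical in
theorem classInner_res_self_re [Fintype G] (H : Subgroup G) [Fintype H] (χ : G → ℂ) :
    (classInner (fun h : H => χ h) (fun h : H => χ h)).re +
      (Nat.card H : ℝ)⁻¹ * ∑ g with g ∉ H, ‖χ g‖ ^ 2 = H.index * (classInner χ χ).re := by
  rw [classInner_self_re, classInner_self_re, ← mul_add,
    sum_subgroup_add_sum_not_mem H (fun g => ‖χ g‖ ^ 2), ← H.index_mul_card]
  have h1 : (Nat.card H : ℝ) ≠ 0 := by exact_mod_cast Nat.card_pos.ne'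
  have h2 : (H.index : ℝ) ≠ 0 := by exact_mod_cast Subgroup.FiniteIndex.index_ne_zero
  push_cast
  field_simp

theorem classInner_res_self_le [Fintype G] (H : Subgroup G) [Fintype H] (χ : G → ℂ) :
    (classInner (fun h : H => χ h) (fun h : H => χ h)).re ≤ H.index * (classInner χ χ).re := by
  classical
  rw [← classInner_res_self_re]
  exact le_add_of_nonneg_right (by positivity)

theorem classInner_res_self_eq_iff [Fintype G] (H : Subgroup G) [Fintype H] (χ : G → ℂ) :
    classInner (fun h : H => χ h) (fun h : H => χ h) = H.index * classInner χ χ ↔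
      ∀ g, g ∉ H → χ g = 0 := by
  classical
  have h1 : (0 : ℝ) < (Nat.card H : ℝ)⁻¹ := by
    have : 0 < Nat.card H := Nat.card_pos
    positivity
  have h2 := classInner_res_self_re H χ
  constructor
  · intro h g hg
    have h3 := congrArg Complex.re h
    simp only [Complex.mul_re, Complex.natCast_re, Complex.natCast_im, zero_mul, sub_zero] at h3
    rw [h3, add_eq_left, mul_eq_zero, or_iff_right h1.ne',
      Finset.sum_eq_zero_iff_of_nonneg (fun _ _ => by positivity)] at h2
    simpa using h2 g (by simpa using hg)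
  · intro h
    rw [Finset.sum_eq_zero (fun g hg => by simp [h g (by simpa using hg)]), mul_zero,
      add_zero] at h2
    apply Complex.ext
    · rw [h2]; simp
    · simp [classInner_self_im]

/-- If a nonnegative combination of nonzero characters has the least possible norm, the
characters are irreducible and pairwise orthogonal. -/
theorem irr_of_classInner_sum [Fintype G] {ι : Type*} [Fintype ι] (e : ι → ℕ) (f : ι → G → ℂ)
    (hf : ∀ i, IsCharacter G (f i)) (h0 : ∀ i, f i ≠ 0)
    (h : classInner (∑ i, (e i : ℂ) • f i) (∑ i, (e i : ℂ) • f i) = (∑ i, e i ^ 2 : ℕ)) :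
    (∀ i, e i ≠ 0 → IsIrrCharacter G (f i)) ∧
      ∀ i j, e i ≠ 0 → e j ≠ 0 → i ≠ j → classInner (f i) (f j) = 0 := by
  classical
  choose c hc using fun i j => (hf i).classInner_eq_nat (hf j)
  have h1 : ∀ i, 1 ≤ c i i := fun i => Nat.one_le_iff_ne_zero.2 fun h2 =>
    h0 i (classInner_self_eq_zero.1 (by rw [hc, h2]; simp))
  have h2 : ∑ i, ∑ j, e i * e j * c i j = ∑ i, e i ^ 2 := by
    have : ((∑ i, ∑ j, e i * e j * c i j : ℕ) : ℂ) = (∑ i, e i ^ 2 : ℕ) := by
      rw [← h, classInner_sum_left]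
      push_cast
      refine Finset.sum_congr rfl fun i _ => ?_
      rw [classInner_smul_left, classInner_sum_right, Finset.mul_sum]
      refine Finset.sum_congr rfl fun j _ => ?_
      rw [classInner_smul_right, hc]; simp; ring
    exact_mod_cast this
  have h3 : ∀ i, e i ^ 2 ≤ ∑ j, e i * e j * c i j := fun i =>
    le_trans (by rw [sq]; exact Nat.le_mul_of_pos_right _ (h1 i))
      (Finset.single_le_sum (f := fun j => e i * e j * c i j) (fun _ _ => Nat.zero_le _)
        (Finset.mem_univ i))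
  have h4 : ∀ i, e i ^ 2 = ∑ j, e i * e j * c i j := fun i =>
    (Finset.sum_eq_sum_iff_of_le (fun i _ => h3 i)).1 h2.symm i (Finset.mem_univ i)
  have h5 : ∀ i, e i ≠ 0 → c i i = 1 ∧ ∀ j, e j ≠ 0 → i ≠ j → c i j = 0 := fun i hi => by
    have h6 := h4 i
    rw [← Finset.add_sum_erase _ _ (Finset.mem_univ i)] at h6
    have h7 : e i ^ 2 ≤ e i * e i * c i i := by rw [sq]; exact Nat.le_mul_of_pos_right _ (h1 i)
    have h8 : ∑ j ∈ Finset.univ.erase i, e i * e j * c i j = 0 := by omega
    refine ⟨?_, fun j hj hij => ?_⟩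
    · rw [h8, add_zero, sq] at h6
      have : e i * e i * 1 = e i * e i * c i i := by rw [mul_one]; exact h6
      exact (Nat.eq_of_mul_eq_mul_left (by positivity) this).symm
    · have := Finset.sum_eq_zero_iff.1 h8 j (by simp [hij.symm])
      simpa [hi, hj] using this
  refine ⟨fun i hi => (hf i).isIrr_of_classInner_self (by rw [hc, (h5 i hi).1]; simp),
    fun i j hi hj hij => by rw [hc, (h5 i hi).2 j hj hij]; simp⟩

theorem _root_.Cfsg.IsCharacter.classInner_self_eq_sum [Fintype G] {φ : G → ℂ}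
    (hφ : IsCharacter G φ) {c : IrrCharacter G → ℕ}
    (hc : ∀ χ : IrrCharacter G, classInner φ χ = c χ) :
    classInner φ φ = ((∑ χ, c χ ^ 2 : ℕ) : ℂ) := by
  rw [hφ.isGen.classInner_self_eq_sum (c := fun χ => c χ) (fun χ => by rw [hc]; simp)]
  push_cast; rfl

theorem _root_.Cfsg.IsCharacter.mul_ne_zero {φ ψ : G → ℂ} (hφ : IsCharacter G φ)
    (hψ : IsCharacter G ψ) (h : φ ≠ 0) (h' : ψ ≠ 0) : φ * ψ ≠ 0 := fun h1 => by
  rcases mul_eq_zero.1 (congrFun h1 1) with h2 | h2
  exacts [h (hφ.eq_zero_of_apply_one h2), h' (hψ.eq_zero_of_apply_one h2)]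

/-- If a product of characters is irreducible then so are the factors. -/
theorem _root_.Cfsg.IsCharacter.isIrr_of_mul [Finite G] {φ ψ : G → ℂ} (hφ : IsCharacter G φ)
    (hψ : IsCharacter G ψ) (h : IsIrrCharacter G (φ * ψ)) : IsIrrCharacter G φ := by
  have := Fintype.ofFinite G
  have h0 : φ ≠ 0 := by rintro rfl; exact h.ne_zero (zero_mul _)
  have h0' : ψ ≠ 0 := by rintro rfl; exact h.ne_zero (mul_zero _)
  obtain ⟨χ, hχ, h1⟩ := hφ.exists_irr_constituent h0
  have h2 := hφ.sub_irr hχ h1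
  have h3 : φ * ψ = χ * ψ + (φ - χ) * ψ := by ring
  rw [h3] at h
  rcases h.eq_zero_or_eq_zero_of_add (hχ.isCharacter.mul hψ) (h2.mul hψ) with h4 | h4
  · exact absurd h4 (hχ.isCharacter.mul_ne_zero hψ hχ.ne_zero h0')
  · by_cases h5 : φ - χ = 0
    · rwa [sub_eq_zero.1 h5]
    · exact absurd h4 (h2.mul_ne_zero hψ h5 h0')

/-- If a restriction is irreducible then so is the character. -/
theorem _root_.Cfsg.IsCharacter.isIrr_of_comp [Finite G] {H : Type*} [Group H] [Finite H]
    {φ : G → ℂ} (hφ : IsCharacter G φ) (f : H →* G)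
    (h : IsIrrCharacter H (fun x => φ (f x))) : IsIrrCharacter G φ := by
  have := Fintype.ofFinite G
  have h0 : φ ≠ 0 := by rintro rfl; exact h.ne_zero rfl
  obtain ⟨χ, hχ, h1⟩ := hφ.exists_irr_constituent h0
  have h2 := hφ.sub_irr hχ h1
  have h3 : (fun x => φ (f x)) = (fun x => χ (f x)) + fun x => (φ - χ) (f x) := by ext; simp
  rw [h3] at h
  rcases h.eq_zero_or_eq_zero_of_add (hχ.isCharacter.comp f) (h2.comp f) with h4 | h4
  · exact absurd (by simpa using congrFun h4 1) hχ.apply_one_ne_zero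
  · have h5 := h2.eq_zero_of_apply_one (by simpa using congrFun h4 1)
    rwa [sub_eq_zero.1 h5]

theorem _root_.Cfsg.IsCharacter.isIrr_of_res [Finite G] {φ : G → ℂ} (hφ : IsCharacter G φ)
    (H : Subgroup G) (h : IsIrrCharacter H (fun x : H => φ x)) : IsIrrCharacter G φ :=
  hφ.isIrr_of_comp H.subtype h

theorem _root_.Cfsg.IsCharacter.isIrr_of_res_le [Finite G] {K L : Subgroup G} {φ : K → ℂ}
    (hφ : IsCharacter K φ) (hLK : L ≤ K) (h : IsIrrCharacter L (fun x : L => φ ⟨x, hLK x.2⟩)) :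
    IsIrrCharacter K φ :=
  hφ.isIrr_of_comp (Subgroup.inclusion hLK) h

theorem isIrr_subgroupOf_iff {K L : Subgroup G} (hLK : L ≤ K) {φ : L → ℂ} :
    IsIrrCharacter (L.subgroupOf K) (fun x => φ ⟨(x : K), Subgroup.mem_subgroupOf.mp x.2⟩) ↔
      IsIrrCharacter L φ :=
  ⟨fun h => h.comp_equiv (Subgroup.subgroupOfEquivOfLe hLK).symm,
    fun h => h.comp_equiv (Subgroup.subgroupOfEquivOfLe hLK)⟩

section Normal

variable {N : Subgroup G} [hN : N.Normal]

theorem classInner_indFun_self_of_invariant [Fintype G] {θ : N → ℂ} (hθ : IsIrrCharacter N θ)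
    (hinv : ∀ g, cj N g θ = θ) : classInner (indFun N θ) (indFun N θ) = N.index := by
  rw [hθ.classInner_ind_self, inertia_eq_top_iff.2 hinv, Subgroup.relIndex_top_right]

/-- **Gallagher's theorem** (general form). -/
theorem gallagher [Fintype G] [Fintype N] {φ : N → ℂ} {χ : G → ℂ} (hφ : IsIrrCharacter N φ)
    (hφinv : ∀ g, cj N g φ = φ) (hχ : IsCharacter G χ)
    (hprod : IsIrrCharacter N (φ * fun n : N => χ n)) :
    Set.BijOn (fun β : G → ℂ => β * χ)
      {β | IsIrrCharacter G β ∧ classInner (fun n : N => β n) φ ≠ 0}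
      {ψ | IsIrrCharacter G ψ ∧ classInner (fun n : N => ψ n) (φ * fun n : N => χ n) ≠ 0} := by
  classical
  obtain ⟨e, he, he2⟩ := hφ.isCharacter.ind.exists_coeff
  have h0 : χ ≠ 0 := by
    rintro rfl; exact hprod.ne_zero (by ext; simp)
  have h1 : indFun N (φ * fun n : N => χ n) = ∑ β : IrrCharacter G, (e β : ℂ) • (β.1 * χ) := by
    have := indFun_mul_res N φ hχ.isClassFunction
    rw [he2, Finset.sum_mul] at this
    simp only [smul_mul_assoc] at this
    exact this
  have h2 : ∀ g, cj N g (φ * fun n : N => χ n) = φ * fun n : N => χ n := fun g => by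
    rw [cj_mul_fun, hφinv, cj_res hχ.isClassFunction]
  have h3 := irr_of_classInner_sum e (fun β => β.1 * χ) (fun β => β.2.isCharacter.mul hχ)
    (fun β => β.2.isCharacter.mul_ne_zero hχ β.2.ne_zero h0) (by
      rw [← h1, classInner_indFun_self_of_invariant hprod h2,
        ← hφ.isCharacter.ind.classInner_self_eq_sum he,
        classInner_indFun_self_of_invariant hφ hφinv])
  have h4 : ∀ β (hβ : IsIrrCharacter G β), classInner (fun n : N => β n) φ ≠ 0 ↔
      e ⟨β, hβ⟩ ≠ 0 := fun β hβ => by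
    rw [Ne, classInner_eq_zero_comm, ← frobenius_left _ _ hβ.isClassFunction, he ⟨β, hβ⟩]
    simp
  have h5 : ∀ ψ, IsClassFunction G ψ → classInner (fun n : N => ψ n) (φ * fun n : N => χ n) =
      ∑ β : IrrCharacter G, (e β : ℂ) * classInner ψ (β.1 * χ) := fun ψ hψ => by
    rw [← frobenius_right _ _ hψ, h1, classInner_sum_right]
    exact Finset.sum_congr rfl fun β _ => by rw [classInner_smul_right]; simp
  refine ⟨fun β hβ => ?_, fun β hβ γ hγ hβγ => ?_, fun ψ hψ => ?_⟩
  · have h6 := (h4 β hβ.1).1 hβ.2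
    have h7 := h3.1 _ h6
    refine ⟨h7, ?_⟩
    rw [h5 _ h7.isClassFunction, Finset.sum_eq_single ⟨β, hβ.1⟩, h7.classInner_self]
    · simpa using h6
    · intro γ _ hγ
      by_cases h8 : e γ = 0
      · simp [h8]
      · rw [h3.2 _ _ h6 h8 hγ.symm, mul_zero]
    · simp
  · by_contra hne
    have h6 := (h4 β hβ.1).1 hβ.2
    have h7 := h3.2 ⟨β, hβ.1⟩ ⟨γ, hγ.1⟩ h6 ((h4 γ hγ.1).1 hγ.2) (by simpa using hne)
    have h8 : γ * χ = β * χ := hβγ.symm
    simp only [h8] at h7
    exact (h3.1 _ h6).ne_zero (classInner_self_eq_zero.1 h7)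
  · have h6 := hψ.2
    rw [h5 _ hψ.1.isClassFunction] at h6
    obtain ⟨β, -, h7⟩ := Finset.exists_ne_zero_of_sum_ne_zero h6
    have h8 : e β ≠ 0 := by simpa using left_ne_zero_of_mul h7
    exact ⟨β, ⟨β.2, (h4 β β.2).2 h8⟩,
      (hψ.1.eq_of_classInner_ne_zero (h3.1 _ h8) (right_ne_zero_of_mul h7)).symm⟩

theorem _root_.Cfsg.IsIrrCharacter.le_charKer_iff_over_one [Finite G] [Fintype N] {β : G → ℂ}
    (hβ : IsIrrCharacter G β) :
    N ≤ charKer β ↔ classInner (fun n : N => β n) (fun _ => 1) ≠ 0 := by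
  have := Fintype.ofFinite G
  refine ⟨fun h => ?_, hβ.le_charKer_of_over_one⟩
  rw [(hβ.isCharacter.le_charKer_iff N).1 h]
  exact hβ.apply_one_ne_zero

/-- **Gallagher's theorem**: for `χ` restricting irreducibly to `N`. -/
theorem gallagher_one [Finite G] [Fintype N] {χ : G → ℂ} (hχ : IsCharacter G χ)
    (hχN : IsIrrCharacter N fun n : N => χ n) :
    Set.BijOn (fun β : G → ℂ => β * χ) {β | IsIrrCharacter G β ∧ N ≤ charKer β}
      {ψ | IsIrrCharacter G ψ ∧ classInner (fun n : N => ψ n) (fun n : N => χ n) ≠ 0} := by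
  have := Fintype.ofFinite G
  have h1 : ((fun _ => 1) * fun n : N => χ n) = fun n : N => χ n := by ext; simp
  have := gallagher (N := N) (φ := fun _ => 1) isIrrCharacter_one (fun g => cj_const g 1) hχ
    (by rwa [h1])
  rw [h1] at this
  convert this using 2
  ext β
  exact and_congr_right fun hβ => hβ.le_charKer_iff_over_one

theorem _root_.Cfsg.IsIrrCharacter.mul_of_le_charKer [Finite G] {β χ : G → ℂ}
    (hβ : IsIrrCharacter G β) (hk : N ≤ charKer β) (hχ : IsCharacter G χ)
    (hχN : IsIrrCharacter N fun n : N => χ n) : IsIrrCharacter G (β * χ) := by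
  have := Fintype.ofFinite N
  exact ((gallagher_one hχ hχN).mapsTo ⟨hβ, hk⟩).1

theorem _root_.Cfsg.IsIrrCharacter.exists_eq_mul_of_over [Finite G] [Fintype N] {ψ χ : G → ℂ}
    (hψ : IsIrrCharacter G ψ) (hχ : IsCharacter G χ) (hχN : IsIrrCharacter N fun n : N => χ n)
    (h : classInner (fun n : N => ψ n) (fun n : N => χ n) ≠ 0) :
    ∃ β, IsIrrCharacter G β ∧ N ≤ charKer β ∧ ψ = β * χ := by
  obtain ⟨β, h1, h2⟩ := (gallagher_one hχ hχN).surjOn ⟨hψ, h⟩
  exact ⟨β, h1.1, h1.2, h2.symm⟩

theorem eq_of_mul_eq_of_le_charKer [Finite G] {β γ χ : G → ℂ}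
    (hβ : IsIrrCharacter G β) (hk : N ≤ charKer β) (hγ : IsIrrCharacter G γ) (hk' : N ≤ charKer γ)
    (hχ : IsCharacter G χ) (hχN : IsIrrCharacter N fun n : N => χ n) (h : β * χ = γ * χ) :
    β = γ := by
  have := Fintype.ofFinite N
  exact (gallagher_one hχ hχN).injOn ⟨hβ, hk⟩ ⟨hγ, hk'⟩ h

open Classical in
/-- Coset averages of a class function. -/
theorem coset_average [Fintype G] [Fintype N] {F : G → ℂ} (hF : IsClassFunction G F) (g : G) :
    (Nat.card N : ℂ)⁻¹ * ∑ n : N, F (n * g) =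
      ∑ β : IrrCharacter G with N ≤ charKer β.1, classInner F β * β.1 g := by
  simp only [hF.apply_eq_sum]
  rw [Finset.sum_comm, Finset.mul_sum, Finset.sum_filter]
  refine Finset.sum_congr rfl fun β _ => ?_
  rw [← Finset.mul_sum]
  split_ifs with h
  · rw [Finset.sum_congr rfl fun (n : N) _ => h n.2 g]
    have := card_ne_zero' N
    simp only [Finset.sum_const, Finset.card_univ, ← Nat.card_eq_fintype_card, nsmul_eq_mul]
    field_simp
  · rw [β.2.sum_mul_eq_zero h]; simp

theorem coset_average_mul [Finite G] [Fintype N] {β χ : G → ℂ} (hβ : IsIrrCharacter G β)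
    (hk : N ≤ charKer β) (hχ : IsCharacter G χ) (hχN : IsIrrCharacter N fun n : N => χ n)
    (g : G) : (Nat.card N : ℂ)⁻¹ * ∑ n : N, (β * χ) (n * g) * conj (χ (n * g)) = β g := by
  classical
  have := Fintype.ofFinite G
  have h1 := coset_average (N := N) ((hβ.isCharacter.mul hχ).mul hχ.conj).isClassFunction g
  refine h1.trans ?_
  rw [Finset.sum_eq_single ⟨β, hβ⟩]
  · rw [← classInner_mul_right, mul_comm χ, (hβ.mul_of_le_charKer hk hχ hχN).classInner_self,
      one_mul]
  · intro γ hγ hne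
    have h2 : N ≤ charKer γ.1 := by simpa using hγ
    rw [← classInner_mul_right, mul_comm χ, (hβ.mul_of_le_charKer hk hχ hχN).classInner_of_ne
      (γ.2.mul_of_le_charKer h2 hχ hχN), zero_mul]
    exact fun h => hne (Subtype.ext (eq_of_mul_eq_of_le_charKer hβ hk γ.2 h2 hχ hχN h).symm)
  · simp [hk]

theorem coset_average_norm [Finite G] [Fintype N] {χ : G → ℂ} (hχ : IsCharacter G χ)
    (hχN : IsIrrCharacter N fun n : N => χ n) (g : G) :
    (Nat.card N : ℂ)⁻¹ * ∑ n : N, χ (n * g) * conj (χ (n * g)) = 1 := by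
  have := coset_average_mul (N := N) isIrrCharacter_one (fun _ _ _ => rfl) hχ hχN g
  simpa using this

theorem coset_average_eq_zero [Finite G] [Fintype N] {ψ χ : G → ℂ} (hψ : IsIrrCharacter G ψ)
    (hχ : IsCharacter G χ) (hχN : IsIrrCharacter N fun n : N => χ n)
    (h : classInner (fun n : N => ψ n) (fun n : N => χ n) = 0)
    (g : G) : (Nat.card N : ℂ)⁻¹ * ∑ n : N, ψ (n * g) * conj (χ (n * g)) = 0 := by
  classical
  have := Fintype.ofFinite G
  have h1 := coset_average (N := N) (hψ.isCharacter.mul hχ.conj).isClassFunction g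
  refine h1.trans (Finset.sum_eq_zero fun γ hγ => ?_)
  have h2 : N ≤ charKer γ.1 := by simpa using hγ
  have h3 := (gallagher_one hχ hχN).mapsTo ⟨γ.2, h2⟩
  rw [← classInner_mul_right, mul_comm χ, hψ.classInner_of_ne h3.1, zero_mul]
  rintro rfl
  exact h3.2 h

/-- If `G/N` is abelian and `θ|N` is reducible then `θ` vanishes off a proper subgroup
containing `N`. -/
theorem _root_.Cfsg.IsIrrCharacter.res_irr_or_vanish [Finite G] {θ : G → ℂ}
    (hθ : IsIrrCharacter G θ) (hab : commutator G ≤ N) :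
    IsIrrCharacter N (fun n : N => θ n) ∨
      ∃ U : Subgroup G, U ≠ ⊤ ∧ N ≤ U ∧ ∀ g, g ∉ U → θ g = 0 := by
  classical
  have := Fintype.ofFinite G
  have := Fintype.ofFinite N
  by_cases h : ∃ β : IrrCharacter G, β ≠ irrOne G ∧ N ≤ charKer β.1 ∧ β.1 * θ = θ
  · obtain ⟨β, h1, h2, h3⟩ := h
    refine Or.inr ⟨charKer β.1, β.2.charKer_ne_top fun h => h1 (Subtype.ext h), h2, fun g hg => ?_⟩
    rw [β.2.isCharacter.mem_charKer, β.2.apply_one_eq_one_iff.2 (hab.trans h2)] at hg
    have h4 : (β.1 g - 1) * θ g = 0 := by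
      have := congrFun h3 g
      rw [Pi.mul_apply] at this
      rw [sub_mul, this]; ring
    exact (mul_eq_zero.1 h4).resolve_left (sub_ne_zero.2 hg)
  · push Not at h
    refine Or.inl ((hθ.isCharacter.res N).isIrr_of_classInner_self ?_)
    have h1 := coset_average (N := N) (hθ.isCharacter.mul hθ.isCharacter.conj).isClassFunction 1
    rw [Finset.sum_eq_single (irrOne G)] at h1
    · rw [← classInner_mul_right] at h1
      have h2 : θ * (irrOne G).1 = θ := by ext; simp
      rw [h2, hθ.classInner_self] at h1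
      simpa [classInner] using h1
    · intro β hβ hne
      have h2 : N ≤ charKer β.1 := by simpa using hβ
      rw [← classInner_mul_right, mul_comm θ, hθ.classInner_of_ne
        (hθ.mul_linear β.2.isCharacter (β.2.apply_one_eq_one_iff.2 (hab.trans h2)))
        (h β hne h2).symm, zero_mul]
    · intro h1
      exact absurd (Finset.mem_filter.2 ⟨Finset.mem_univ _, fun _ _ _ => rfl⟩) h1

/-- Fully ramified: homogeneous with `e ^ 2 = |G : N|` iff vanishing off `N`. -/
theorem sq_eq_index_iff [Finite G] {χ : G → ℂ} (hχ : IsIrrCharacter G χ) {θ : N → ℂ}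
    (hθ : IsIrrCharacter N θ) {e : ℕ} (h : (fun n : N => χ n) = (e : ℂ) • θ) :
    e ^ 2 = N.index ↔ ∀ g, g ∉ N → χ g = 0 := by
  have := Fintype.ofFinite G
  have := Fintype.ofFinite N
  rw [← classInner_res_self_eq_iff, h, classInner_smul_left, classInner_smul_right,
    hθ.classInner_self, hχ.classInner_self]
  simp only [map_natCast, mul_one, sq]
  norm_cast

theorem sq_le_index [Finite G] {χ : G → ℂ} (hχ : IsIrrCharacter G χ) {θ : N → ℂ}
    (hθ : IsIrrCharacter N θ) {e : ℕ} (h : (fun n : N => χ n) = (e : ℂ) • θ) :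
    e ^ 2 ≤ N.index := by
  have := Fintype.ofFinite G
  have := Fintype.ofFinite N
  have h1 := classInner_res_self_le N χ
  rw [h, classInner_smul_left, classInner_smul_right, hθ.classInner_self,
    hχ.classInner_self] at h1
  simp only [map_natCast, mul_one, Complex.one_re] at h1
  rw [sq]
  exact_mod_cast h1

theorem invariant_of_res_eq_smul {χ : G → ℂ} (hχ : IsClassFunction G χ) {θ : N → ℂ} {e : ℂ}
    (he : e ≠ 0) (h : (fun n : N => χ n) = e • θ) (g : G) : cj N g θ = θ := by
  have h1 := cj_res (N := N) hχ g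
  rw [h, cj_smul] at h1
  exact smul_right_injective _ he h1

/-- Induction from a normal subgroup of an invariant character lying under a character vanishing
off the subgroup. -/
theorem indFun_eq_smul_of_sq_eq_index [Fintype G] {χ : G → ℂ} (hχ : IsIrrCharacter G χ)
    {θ : N → ℂ} (hθ : IsIrrCharacter N θ) {e : ℕ} (h : (fun n : N => χ n) = (e : ℂ) • θ)
    (he : e ^ 2 = N.index) : indFun N θ = (e : ℂ) • χ := by
  have he0 : (e : ℂ) ≠ 0 := by
    rintro h0
    have := congrFun h 1
    rw [h0, zero_smul] at this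
    exact hχ.apply_one_ne_zero this
  ext g
  by_cases hg : g ∈ N
  · have h1 := res_indFun_of_invariant (invariant_of_res_eq_smul hχ.isClassFunction he0 h) ⟨g, hg⟩
    have h2 := congrFun h ⟨g, hg⟩
    simp only [Pi.smul_apply, smul_eq_mul] at h1 h2 ⊢
    rw [h1, h2, ← he]; push_cast; ring
  · rw [indFun_normal_of_not_mem _ hg, Pi.smul_apply, (sq_eq_index_iff hχ hθ h).1 he g hg,
      smul_zero]

/-- If `χ` is the unique irreducible over an invariant `θ`, then `θ` is fully ramified. -/
theorem sq_eq_index_of_unique [Fintype G] [Fintype N] {χ : G → ℂ} (hχ : IsIrrCharacter G χ)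
    {θ : N → ℂ} (hθ : IsIrrCharacter N θ) {e : ℕ} (h : (fun n : N => χ n) = (e : ℂ) • θ)
    (hu : ∀ ψ, IsIrrCharacter G ψ → classInner (indFun N θ) ψ ≠ 0 → ψ = χ) :
    e ^ 2 = N.index := by
  classical
  have h1 : indFun N θ = (e : ℂ) • χ := by
    rw [(isClassFunction_indFun N θ).eq_sum, Finset.sum_eq_single ⟨χ, hχ⟩]
    · rw [frobenius_left _ _ hχ.isClassFunction, h, classInner_smul_right, hθ.classInner_self]
      simp
    · intro ψ _ hne
      by_cases h2 : classInner (indFun N θ) ψ = 0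
      · rw [h2, zero_smul]
      · exact absurd (Subtype.ext (hu _ ψ.2 h2)) hne
    · simp
  have h2 := congrFun h1 1
  have h3 := congrFun h 1
  simp only [Pi.smul_apply, smul_eq_mul, indFun_one, OneMemClass.coe_one] at h2 h3
  rw [h3, ← mul_assoc] at h2
  have h4 := mul_right_cancel₀ hθ.apply_one_ne_zero h2
  rw [sq]
  exact_mod_cast h4.symm

/-- Clifford's theorem inside an intermediate subgroup. -/
theorem _root_.Cfsg.IsIrrCharacter.exists_cj_of_under [Finite G] [Fintype N] {K : Subgroup G}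
    (hNK : N ≤ K) {θ : K → ℂ} (hθ : IsIrrCharacter K θ) {φ φ' : N → ℂ} (hφ : IsIrrCharacter N φ)
    (hφ' : IsIrrCharacter N φ') (h : classInner (fun n : N => θ ⟨n, hNK n.2⟩) φ ≠ 0)
    (h' : classInner (fun n : N => θ ⟨n, hNK n.2⟩) φ' ≠ 0) : ∃ k ∈ K, φ' = cj N k φ := by
  have := Fintype.ofFinite K
  have := Fintype.ofFinite (N.subgroupOf K)
  let e := Subgroup.subgroupOfEquivOfLe hNK
  have h2 : ∀ φ : N → ℂ, classInner (fun n : N.subgroupOf K => θ n) (fun n => φ (e n)) =
      classInner (fun n : N => θ ⟨n, hNK n.2⟩) φ := fun φ => by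
    rw [← classInner_comp_equiv e]; rfl
  obtain ⟨k, hk⟩ := mem_cjOrbit.1 (hθ.mem_cjOrbit_of_under (N := N.subgroupOf K)
    (hφ.comp_equiv e) (hφ'.comp_equiv e) (by rwa [h2]) (by rwa [h2]))
  refine ⟨k, k.2, ?_⟩
  ext n
  exact congrFun hk (e.symm n)

end Normal

end Cfsg.Agent.Char
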