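import Cfsg.Agent.Lib.Char.Glaub
import Cfsg.Agent.Lib.Solv.Coprime

/-!
The Glauberman correspondence for `p`-groups of operators.
-/

set_option autoImplicit false

namespace Cfsg.Agent.Char

open scoped ComplexConjugate
open Subgroup Cfsg.Agent.Solv

universe u

section Rel
variable {A B D : Type*} [Group A] [Group B] [Group D] {p : ℕ}

/-- The restriction of `χ` is `± β` modulo `p`. -/
def GlR (p : ℕ) (f : B →* A) (χ : A → ℂ) (β : B → ℂ) : Prop :=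
  ∃ ε : ℤ, (ε = 1 ∨ ε = -1) ∧ ∃ Ψ, IsGeneralizedCharacter B Ψ ∧
    ∀ c, χ (f c) = ε * β c + p * Ψ c

theorem GlR.comp {f : B →* A} {g : D →* B} {χ : A → ℂ} {β : B → ℂ} {γ : D → ℂ}
    (h : GlR p f χ β) (h' : GlR p g β γ) : GlR p (f.comp g) χ γ := by
  obtain ⟨ε, hε, Ψ, hΨ, h⟩ := h
  obtain ⟨ε', hε', Ψ', hΨ', h'⟩ := h'
  refine ⟨ε * ε', by rcases hε with rfl | rfl <;> rcases hε' with rfl | rfl <;> simp,
    (ε : ℂ) • Ψ' + fun c => Ψ (g c), (hΨ'.intCast_smul ε).add (hΨ.comp g), fun c => ?_⟩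
  simp only [MonoidHom.comp_apply, h, h', Pi.add_apply, Pi.smul_apply, smul_eq_mul, Int.cast_mul]
  ring

theorem GlR.congr {A' B' : Type*} [Group A'] [Group B'] {f : B →* A} {f' : B' →* A'}
    (eA : A' →* A) (eB : B' →* B) (he : ∀ b, eA (f' b) = f (eB b)) {χ : A → ℂ} {β : B → ℂ}
    (h : GlR p f χ β) : GlR p f' (fun a => χ (eA a)) (fun b => β (eB b)) := by
  obtain ⟨ε, hε, Ψ, hΨ, h⟩ := h
  exact ⟨ε, hε, fun b => Ψ (eB b), hΨ.comp eB, fun c => by simp only [he, h]⟩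

open Classical in
theorem GlR.exists_int [Fintype B] {f : B →* A} {χ : A → ℂ} {β : B → ℂ} (h : GlR p f χ β)
    (hβ : IsIrrCharacter B β) : ∃ ε : ℤ, (ε = 1 ∨ ε = -1) ∧ ∀ γ, IsCharacter B γ → ∃ k : ℤ,
      classInner (fun c => χ (f c)) γ = ε * classInner β γ + p * k := by
  obtain ⟨ε, hε, Ψ, hΨ, h⟩ := h
  refine ⟨ε, hε, fun γ hγ => ?_⟩
  obtain ⟨k, hk⟩ := hΨ.classInner_eq_int hγ.isGen
  have : (fun c => χ (f c)) = (ε : ℂ) • β + (p : ℂ) • Ψ := funext h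
  exact ⟨k, by rw [this, classInner_add_left, classInner_smul_left, classInner_smul_left, hk]⟩

theorem GlR.not_dvd_iff [Fintype B] {f : B →* A} {χ : A → ℂ} {β : B → ℂ} (h : GlR p f χ β)
    (hβ : IsIrrCharacter B β) {γ : B → ℂ} (hγ : IsCharacter B γ) {m n : ℕ}
    (hm : classInner (fun c => χ (f c)) γ = m) (hn : classInner β γ = n) : p ∣ m ↔ p ∣ n := by
  obtain ⟨ε, hε, h⟩ := h.exists_int hβ
  obtain ⟨k, hk⟩ := h γ hγ
  rw [hm, hn] at hk
  have h1 : (m : ℤ) = ε * n + p * k := by exact_mod_cast hk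
  rw [← Int.natCast_dvd_natCast, ← Int.natCast_dvd_natCast, h1, dvd_add_left (dvd_mul_right _ _)]
  rcases hε with rfl | rfl <;> simp

theorem GlR.eq_of_not_dvd [Fintype B] {f : B →* A} {χ : A → ℂ} {β : B → ℂ} (h : GlR p f χ β)
    (hβ : IsIrrCharacter B β) {γ : B → ℂ} (hγ : IsIrrCharacter B γ) {m : ℕ}
    (hm : classInner (fun c => χ (f c)) γ = m) (hp : ¬ p ∣ m) : γ = β := by
  by_contra hne
  exact hp ((h.not_dvd_iff hβ hγ.isCharacter hm (n := 0)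
    (by simpa using hβ.classInner_of_ne hγ (Ne.symm hne))).2 (dvd_zero _))

theorem GlR.modEq [Fintype B] {f : B →* A} {χ : A → ℂ} {β : B → ℂ} (h : GlR p f χ β)
    (hβ : IsIrrCharacter B β) {m : ℕ} (hm : classInner (fun c => χ (f c)) β = m) :
    (m : ℤ) ≡ 1 [ZMOD p] ∨ (m : ℤ) ≡ -1 [ZMOD p] := by
  obtain ⟨ε, hε, h⟩ := h.exists_int hβ
  obtain ⟨k, hk⟩ := h β hβ.isCharacter
  rw [hm, hβ.classInner_self] at hk
  have h1 : (m : ℤ) = ε * 1 + p * k := by exact_mod_cast hk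
  have h2 : (m : ℤ) ≡ ε [ZMOD p] := (Int.modEq_iff_dvd.2 ⟨-k, by rw [h1]; ring⟩)
  rcases hε with rfl | rfl
  exacts [.inl h2, .inr h2]

theorem GlR.exists_not_dvd [Fintype B] (hp : p.Prime) {f : B →* A} {χ : A → ℂ} {β : B → ℂ}
    (h : GlR p f χ β) (hχ : IsCharacter A χ) (hβ : IsIrrCharacter B β) :
    ∃ m : ℕ, classInner (fun c => χ (f c)) β = m ∧ ¬ p ∣ m := by
  obtain ⟨m, hm⟩ := (hχ.comp f).classInner_eq_nat hβ.isCharacter
  refine ⟨m, hm, fun hd => hp.not_dvd_one ?_⟩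
  exact (h.not_dvd_iff hβ hβ.isCharacter hm (by simpa using hβ.classInner_self)).1 hd

theorem GlR.unique [Finite B] (hp : p.Prime) {f : B →* A} {χ : A → ℂ} {β γ : B → ℂ}
    (h : GlR p f χ β) (h' : GlR p f χ γ) (hχ : IsCharacter A χ) (hβ : IsIrrCharacter B β)
    (hγ : IsIrrCharacter B γ) : β = γ := by
  have := Fintype.ofFinite B
  obtain ⟨m, hm, hp⟩ := h.exists_not_dvd hp hχ hβ
  exact h'.eq_of_not_dvd hγ hβ hm hp

theorem glR_of_dvd [Fintype B] (hp : p ≠ 0) {f : B →* A} {χ : A → ℂ} {β : B → ℂ}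
    (hχ : IsClassFunction A χ) (hβ : IsClassFunction B β) {ε : ℤ} (hε : ε = 1 ∨ ε = -1)
    (h : ∀ γ, IsIrrCharacter B γ → ∃ k : ℤ,
      classInner (fun c => χ (f c)) γ - ε * classInner β γ = p * k) : GlR p f χ β := by
  have hp' : (p : ℂ) ≠ 0 := by exact_mod_cast hp
  refine ⟨ε, hε, (p : ℂ)⁻¹ • ((fun c => χ (f c)) - (ε : ℂ) • β), ?_, fun c => ?_⟩
  · refine (((hχ.comp f).sub (hβ.smul _)).smul _).isGen_of_int fun γ hγ => ?_
    obtain ⟨k, hk⟩ := h γ hγ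
    refine ⟨k, ?_⟩
    rw [classInner_smul_left, classInner_sub_left, classInner_smul_left, hk]
    field_simp
  · simp only [Pi.smul_apply, Pi.sub_apply, smul_eq_mul]
    field_simp
    ring

/-- The relation `GlR` is a bijection between the irreducible characters with `P` and with `Q`. -/
structure GlCorr (p : ℕ) (f : B →* A) (P : (A → ℂ) → Prop) (Q : (B → ℂ) → Prop) : Prop where
  ex : ∀ χ, IsIrrCharacter A χ → P χ → ∃ β, IsIrrCharacter B β ∧ Q β ∧ GlR p f χ β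
  inj : ∀ χ χ' β, IsIrrCharacter A χ → IsIrrCharacter A χ' → IsIrrCharacter B β → P χ → P χ' →
    GlR p f χ β → GlR p f χ' β → χ = χ'
  surj : ∀ β, IsIrrCharacter B β → Q β → ∃ χ, IsIrrCharacter A χ ∧ P χ ∧ GlR p f χ β

theorem GlCorr.comp [Finite D] (hp : p.Prime) {f : B →* A} {g : D →* B} {P : (A → ℂ) → Prop}
    {Q : (B → ℂ) → Prop} {R : (D → ℂ) → Prop} (h : GlCorr p f P Q) (h' : GlCorr p g Q R) :
    GlCorr p (f.comp g) P R where
  ex χ h1 h2 := by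
    obtain ⟨β, h3, h4, h5⟩ := h.ex χ h1 h2
    obtain ⟨γ, h6, h7, h8⟩ := h'.ex β h3 h4
    exact ⟨γ, h6, h7, h5.comp h8⟩
  inj χ χ' γ h1 h1' hγ h2 h2' hr hr' := by
    obtain ⟨β, h3, h4, h5⟩ := h.ex χ h1 h2
    obtain ⟨γ₁, h6, -, h8⟩ := h'.ex β h3 h4
    obtain ⟨β', h3', h4', h5'⟩ := h.ex χ' h1' h2'
    obtain ⟨γ₁', h6', -, h8'⟩ := h'.ex β' h3' h4'
    obtain rfl := (h5.comp h8).unique hp hr h1.isCharacter h6 hγ
    obtain rfl := (h5'.comp h8').unique hp hr' h1'.isCharacter h6' hγ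
    obtain rfl := h'.inj β β' _ h3 h3' hγ h4 h4' h8 h8'
    exact h.inj χ χ' β h1 h1' h3 h2 h2' h5 h5'
  surj γ h1 h2 := by
    obtain ⟨β, h3, h4, h5⟩ := h'.surj γ h1 h2
    obtain ⟨χ, h6, h7, h8⟩ := h.surj β h3 h4
    exact ⟨χ, h6, h7, h8.comp h5⟩

theorem GlCorr.of_iff {f : B →* A} {P P' : (A → ℂ) → Prop} {Q Q' : (B → ℂ) → Prop}
    (h : GlCorr p f P Q) (hP : ∀ χ, IsIrrCharacter A χ → (P' χ ↔ P χ))
    (hQ : ∀ χ, IsIrrCharacter B χ → (Q' χ ↔ Q χ)) : GlCorr p f P' Q' where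
  ex χ h1 h2 := by
    obtain ⟨β, h3, h4, h5⟩ := h.ex χ h1 ((hP χ h1).1 h2)
    exact ⟨β, h3, (hQ β h3).2 h4, h5⟩
  inj χ χ' β h1 h1' h3 h2 h2' := h.inj χ χ' β h1 h1' h3 ((hP χ h1).1 h2) ((hP χ' h1').1 h2')
  surj β h1 h2 := by
    obtain ⟨χ, h3, h4, h5⟩ := h.surj β h1 ((hQ β h1).1 h2)
    exact ⟨χ, h3, (hP χ h3).2 h4, h5⟩

theorem GlCorr.congr {A' B' : Type*} [Group A'] [Group B'] {f : B →* A} {f' : B' →* A'}
    (eA : A' ≃* A) (eB : B' ≃* B) (he : ∀ b, eA (f' b) = f (eB b)) {P : (A' → ℂ) → Prop}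
    {Q : (B' → ℂ) → Prop} (h : GlCorr p f' P Q) :
    GlCorr p f (fun χ => P fun a => χ (eA a)) (fun β => Q fun b => β (eB b)) := by
  have he' : ∀ b, eA.symm (f b) = f' (eB.symm b) := fun b => by
    rw [MulEquiv.symm_apply_eq, he, MulEquiv.apply_symm_apply]
  refine ⟨fun χ h1 h2 => ?_, fun χ χ' β h1 h1' h3 h2 h2' hr hr' => ?_, fun β h1 h2 => ?_⟩
  · obtain ⟨β, h3, h4, h5⟩ := h.ex _ (h1.comp_equiv eA) h2
    refine ⟨_, h3.comp_equiv eB.symm, by simpa using h4, ?_⟩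
    simpa using h5.congr eA.symm.toMonoidHom eB.symm.toMonoidHom he'
  · have := h.inj _ _ _ (h1.comp_equiv eA) (h1'.comp_equiv eA) (h3.comp_equiv eB) h2 h2'
      (hr.congr eA.toMonoidHom eB.toMonoidHom he) (hr'.congr eA.toMonoidHom eB.toMonoidHom he)
    ext a
    simpa using congrFun this (eA.symm a)
  · obtain ⟨χ, h3, h4, h5⟩ := h.surj _ (h1.comp_equiv eB) h2
    refine ⟨_, h3.comp_equiv eA.symm, by simpa using h4, ?_⟩
    simpa using h5.congr eA.symm.toMonoidHom eB.symm.toMonoidHom he'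

theorem GlCorr.card_eq [Finite B] (hp : p.Prime) {f : B →* A} {P : (A → ℂ) → Prop}
    {Q : (B → ℂ) → Prop} (h : GlCorr p f P Q) :
    Nat.card {χ : IrrCharacter A // P χ.1} = Nat.card {β : IrrCharacter B // Q β.1} := by
  choose F h1 h2 h3 using h.ex
  refine Nat.card_eq_of_bijective (fun χ => ⟨⟨F χ.1.1 χ.1.2 χ.2, h1 _ _ _⟩, h2 _ _ _⟩)
    ⟨fun χ χ' he => ?_, fun β => ?_⟩
  · have he' : F χ.1.1 χ.1.2 χ.2 = F χ'.1.1 χ'.1.2 χ'.2 := congrArg (·.1.1) he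
    exact Subtype.ext (Subtype.ext (h.inj _ _ _ χ.1.2 χ'.1.2 (h1 _ χ.1.2 χ.2) χ.2 χ'.2
      (h3 _ _ _) (he' ▸ h3 _ _ _)))
  · obtain ⟨χ, h4, h5, h6⟩ := h.surj β.1.1 β.1.2 β.2
    exact ⟨⟨⟨χ, h4⟩, h5⟩, Subtype.ext (Subtype.ext
      ((h3 _ h4 h5).unique hp h6 h4.isCharacter (h1 _ _ _) β.1.2))⟩

end Rel

variable {Γ : Type u} [Group Γ] [Finite Γ] {p : ℕ}

theorem glR_of_corr {N C : Subgroup Γ} {x : Γ} (hp : p.Prime) {k : ℕ} (hx : x ^ p ^ k = 1)
    (hC : ∀ g, g ∈ C ↔ g ∈ N ∧ g * x = x * g) (hCN : C ≤ N) {ξ : Γ → ℂ} (hξ : IsCharacter Γ ξ)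
    {β : C → ℂ} (hβ : IsCharacter C β) {ε : ℤ} (hε : ε = 1 ∨ ε = -1)
    (h : ∀ c : C, ξ (c * x) = ε * β c) : GlR p (inclusion hCN) (fun n : N => ξ n) β := by
  have := Fintype.ofFinite C
  refine glR_of_dvd hp.ne_zero (hξ.isClassFunction.res N) hβ.isClassFunction hε fun γ hγ => ?_
  have h1 := isCharacter_psi (comm_zpowers hC) hξ hγ.isCharacter
  obtain ⟨m, hm⟩ := (hξ.res C).classInner_eq_nat hγ.isCharacter
  obtain ⟨n, hn⟩ := hβ.classInner_eq_nat hγ.isCharacter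
  have e1 : (fun c : C => ξ (c * x)) = (ε : ℂ) • β := funext h
  obtain ⟨j, hj⟩ := h1.isGen.prime_dvd_of_sub_eq hp (x := ⟨x, mem_zpowers x⟩) (y := 1)
    (Commute.one_right _) (Subtype.ext hx) (n := ε * n - m) (by
      simp only [mul_one, OneMemClass.coe_one, e1, classInner_smul_left, hm, hn]; simp)
  refine ⟨-j, ?_⟩
  have : ((ε * n - m : ℤ) : ℂ) = ((p * j : ℤ) : ℂ) := by rw [hj]
  simp only [coe_inclusion, hm, hn]
  push_cast at this ⊢
  linear_combination -this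

theorem glCorr_normal {N C : Subgroup Γ} [N.Normal] {x : Γ} (hp : p.Prime) {k : ℕ}
    (hx : x ^ p ^ k = 1) (hcop : (Nat.card N).Coprime (orderOf x)) (htop : N ⊔ zpowers x = ⊤)
    (hC : ∀ g, g ∈ C ↔ g ∈ N ∧ g * x = x * g) (hCN : C ≤ N) :
    GlCorr p (inclusion hCN) (fun χ => ∀ g, cj N g χ = χ) (fun _ => True) := by
  have hcop' : N.index.Coprime (Nat.card N) := by
    refine Nat.Coprime.coprime_dvd_left ?_ hcop.symm
    rw [← Nat.card_zpowers, ← relIndex_top_right, ← htop, relIndex_sup_left]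
    exact relIndex_dvd_card _ _
  have ex : ∀ χ, IsIrrCharacter N χ → (∀ g, cj N g χ = χ) → ∃ (ξ : Γ → ℂ) (β : C → ℂ) (ε : ℤ),
      IsCan N ξ ∧ χ = (fun n : N => ξ n) ∧ IsIrrCharacter C β ∧ (ε = 1 ∨ ε = -1) ∧
        (∀ c : C, ξ (c * x) = ε * β c) ∧ GlR p (inclusion hCN) χ β := by
    intro χ h1 h2
    obtain ⟨ξ, ⟨h3, h4⟩, -⟩ := exists_isCan hcop' h1 h2
    obtain ⟨β, ε, h5, h6, h7⟩ := h3.exists_corr hcop' hcop hC
    obtain rfl : χ = fun n : N => ξ n := (funext h4).symm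
    exact ⟨ξ, β, ε, h3, rfl, h5, h6, h7,
      glR_of_corr hp hx hC hCN h3.irr.isCharacter h5.isCharacter h6 h7⟩
  refine ⟨fun χ h1 h2 => ?_, fun χ χ' β h1 h1' h3 h2 h2' hr hr' => ?_, fun β h1 _ => ?_⟩
  · obtain ⟨ξ, β, ε, -, -, h3, -, -, h4⟩ := ex χ h1 h2
    exact ⟨β, h3, trivial, h4⟩
  · obtain ⟨ξ, γ, ε, h4, rfl, h5, h6, h7, h8⟩ := ex χ h1 h2
    obtain ⟨ξ', γ', ε', h4', rfl, h5', h6', h7', h8'⟩ := ex χ' h1' h2'
    obtain rfl := h8.unique hp hr h1.isCharacter h5 h3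
    obtain rfl := h8'.unique hp hr' h1'.isCharacter h5' h3
    exact res_eq_of_corr hcop hC h4.irr h4.res h4'.irr h4'.res h3
      (by rcases h6 with rfl | rfl <;> simp) (by rcases h6' with rfl | rfl <;> simp) h7 h7'
  · obtain ⟨ξ, ε, h2, h3, h4⟩ := exists_isCan_corr hcop' hcop htop hC h1
    exact ⟨_, h2.res, cj_res h2.irr.isClassFunction,
      glR_of_corr hp hx hC hCN h2.irr.isCharacter h1.isCharacter h3 h4⟩

/-- Invariance of a function on `G` under conjugation by `s`. -/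
def InvBy (G : Subgroup Γ) (s : Γ) (χ : G → ℂ) : Prop :=
  ∀ g g' : G, (g' : Γ) = s * g * s⁻¹ → χ g' = χ g

/-- Invariance under a subgroup. -/
def InvS (G S : Subgroup Γ) (χ : G → ℂ) : Prop := ∀ s ∈ S, InvBy G s χ

/-- Conjugation by an element of the normalizer. -/
def cjE {G : Subgroup Γ} {s : Γ} (hs : s ∈ normalizer (G : Set Γ)) : G ≃* G :=
  G.normalizerMonoidHom ⟨s, hs⟩

omit [Finite Γ] in
@[simp] theorem coe_cjE {G : Subgroup Γ} {s : Γ} (hs : s ∈ normalizer (G : Set Γ)) (g : G) :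
    (cjE hs g : Γ) = s * g * s⁻¹ := rfl

omit [Finite Γ] in
theorem invBy_iff {G : Subgroup Γ} {s : Γ} (hs : s ∈ normalizer (G : Set Γ)) {χ : G → ℂ} :
    InvBy G s χ ↔ (fun g => χ (cjE hs g)) = χ :=
  ⟨fun h => funext fun g => h _ _ rfl, fun h g g' hg => by
    rw [← congrFun h g]; congr 1; exact Subtype.ext hg⟩

/-- The stabilizer of `χ` in the normalizer of `G`. -/
def invSub (G : Subgroup Γ) (χ : G → ℂ) : Subgroup Γ where
  carrier := {s | s ∈ normalizer (G : Set Γ) ∧ InvBy G s χ}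
  one_mem' := ⟨one_mem _, fun g g' h => by congr 1; exact Subtype.ext (by simpa using h)⟩
  mul_mem' := by
    rintro a b ⟨ha, ha'⟩ ⟨hb, hb'⟩
    refine ⟨mul_mem ha hb, fun g g' h => ?_⟩
    rw [ha' (cjE hb g) g' (by rw [h, coe_cjE]; group), hb' g _ (coe_cjE hb g)]
  inv_mem' := by
    rintro a ⟨ha, ha'⟩
    exact ⟨inv_mem ha, fun g g' h => (ha' g' g (by rw [h]; group)).symm⟩

omit [Finite Γ] in
theorem invS_iff {G S : Subgroup Γ} (hS : S ≤ normalizer (G : Set Γ)) {χ : G → ℂ} :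
    InvS G S χ ↔ S ≤ invSub G χ :=
  ⟨fun h s hs => ⟨hS hs, h s hs⟩, fun h s hs => (h hs).2⟩

omit [Finite Γ] in
theorem le_invSub {G : Subgroup Γ} {χ : G → ℂ} (h : IsClassFunction G χ) : G ≤ invSub G χ :=
  fun s hs => ⟨le_normalizer hs, fun g g' hg => by
    rw [← h g ⟨s, hs⟩]; congr 1; exact Subtype.ext hg⟩

omit [Finite Γ] in
theorem centralizer_le_invSub {G : Subgroup Γ} (χ : G → ℂ) :
    centralizer (G : Set Γ) ≤ invSub G χ :=
  fun s hs => ⟨centralizer_le_normalizer _ hs, fun g g' hg => by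
    congr 1; exact Subtype.ext (by rw [hg, ← hs g g.2, mul_inv_cancel_right])⟩

omit [Finite Γ] in
theorem InvS.cjE {G T : Subgroup Γ} {χ : G → ℂ} (h : InvS G T χ) {s : Γ}
    (hs : s ∈ normalizer (G : Set Γ)) (hsT : s ∈ normalizer (T : Set Γ)) :
    InvS G T fun g => χ (cjE hs g) := fun t ht g g' hg =>
  h _ (conj_mem_of_mem_normalizer hsT ht) _ _ (by rw [coe_cjE, coe_cjE, hg]; group)

omit [Finite Γ] in
theorem invS_of_normal {N : Subgroup Γ} [N.Normal] {χ : N → ℂ} :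
    InvS N ⊤ χ ↔ ∀ g, cj N g χ = χ :=
  ⟨fun h g => funext fun n => h g trivial _ _ rfl, fun h s _ g g' hg => by
    rw [← congrFun (h s) g, cj_apply]; congr 1; exact Subtype.ext hg⟩

theorem glCorr_cyclic {G C : Subgroup Γ} {x : Γ} (hp : p.Prime) {k : ℕ} (hx : x ^ p ^ k = 1)
    (hn : x ∈ normalizer (G : Set Γ)) (hcop : (Nat.card G).Coprime (orderOf x))
    (hC : ∀ g, g ∈ C ↔ g ∈ G ∧ g * x = x * g) (hCG : C ≤ G) :
    GlCorr p (inclusion hCG) (InvS G (zpowers x)) (fun _ => True) := by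
  let L := G ⊔ zpowers x
  have hGL : G ≤ L := le_sup_left
  have hxL : x ∈ L := mem_sup_right (mem_zpowers x)
  have hL : L ≤ normalizer (G : Set Γ) := sup_le le_normalizer (zpowers_le.2 hn)
  have : (G.subgroupOf L).Normal := (normal_subgroupOf_iff_le_normalizer hGL).2 hL
  have h := glCorr_normal (N := G.subgroupOf L) (C := C.subgroupOf L) (x := ⟨x, hxL⟩) hp
    (Subtype.ext hx) (by rwa [card_subgroupOf_of_le hGL, orderOf_mk]) (by
      apply map_injective L.subtype_injective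
      rw [Subgroup.map_sup, subgroupOf_map_subtype, MonoidHom.map_zpowers, inf_eq_left.2 hGL,
        ← MonoidHom.range_eq_map, range_subtype]; rfl)
    (fun g => by simp only [mem_subgroupOf, hC, Subtype.ext_iff, coe_mul]) (comap_mono hCG)
  refine (h.congr (f := inclusion hCG) (subgroupOfEquivOfLe hGL)
    (subgroupOfEquivOfLe (hCG.trans hGL)) fun _ => rfl).of_iff (fun χ hχ => ?_) fun _ _ => Iff.rfl
  rw [invS_iff (zpowers_le.2 hn)]
  constructor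
  · intro h1 g
    ext n
    exact (sup_le (le_invSub hχ.isClassFunction) h1 g.2).2 _ _ rfl
  · intro h1
    refine zpowers_le.2 ⟨hn, fun g g' hg => ?_⟩
    have := congrFun (h1 ⟨x, hxL⟩) ⟨⟨g, hGL g.2⟩, g.2⟩
    refine Eq.trans ?_ this
    rw [cj_apply]
    congr 1
    exact Subtype.ext hg

theorem GlCorr.restrict (hp : p.Prime) {G B T S : Subgroup Γ} (hBG : B ≤ G)
    (h : GlCorr p (inclusion hBG) (InvS G T) (fun _ => True)) (hTS : T ≤ S)
    (hG : S ≤ normalizer (G : Set Γ)) (hB : S ≤ normalizer (B : Set Γ))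
    (hT : S ≤ normalizer (T : Set Γ)) : GlCorr p (inclusion hBG) (InvS G S) (InvS B S) := by
  have hr : ∀ {χ β} (s) (hs : s ∈ S), GlR p (inclusion hBG) χ β →
      GlR p (inclusion hBG) (fun g => χ (cjE (hG hs) g)) (fun g => β (cjE (hB hs) g)) :=
    fun s hs h => h.congr (cjE (hG hs)).toMonoidHom (cjE (hB hs)).toMonoidHom fun _ => rfl
  refine ⟨fun χ h1 h2 => ?_, fun χ χ' β h1 h1' h3 h2 h2' => h.inj χ χ' β h1 h1' h3
    (fun t ht => h2 t (hTS ht)) (fun t ht => h2' t (hTS ht)), fun β h1 h2 => ?_⟩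
  · obtain ⟨β, h3, -, h4⟩ := h.ex χ h1 fun t ht => h2 t (hTS ht)
    refine ⟨β, h3, fun s hs => (invBy_iff (hB hs)).2 ?_, h4⟩
    have := hr s hs h4
    rw [(invBy_iff (hG hs)).1 (h2 s hs)] at this
    exact this.unique hp h4 h1.isCharacter (h3.comp_equiv _) h3
  · obtain ⟨χ, h3, h4, h5⟩ := h.surj β h1 trivial
    refine ⟨χ, h3, fun s hs => (invBy_iff (hG hs)).2 ?_, h5⟩
    have := hr s hs h5
    rw [(invBy_iff (hB hs)).1 (h2 s hs)] at this
    exact h.inj _ _ β (h3.comp_equiv _) h3 h1 (h4.cjE (hG hs) (hT hs)) h4 this h5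

omit [Finite Γ] in
theorem mem_centralizer_sup_iff {A B : Subgroup Γ} {g : Γ} :
    g ∈ centralizer ((A ⊔ B : Subgroup Γ) : Set Γ) ↔
      g ∈ centralizer (A : Set Γ) ∧ g ∈ centralizer (B : Set Γ) := by
  simp only [← zpowers_le (H := centralizer _), le_centralizer_iff (H := zpowers g), sup_le_iff]

omit [Finite Γ] in
theorem mem_centralizer_zpowers_iff {x g : Γ} :
    g ∈ centralizer ((zpowers x : Subgroup Γ) : Set Γ) ↔ g * x = x * g := by
  refine ⟨fun h => (h x (mem_zpowers x)).symm, fun h => ?_⟩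
  rintro _ ⟨k, rfl⟩
  exact (Commute.zpow_right h k).eq.symm

theorem glCorr_pgroup (hp : p.Prime) (S : Subgroup Γ) (hS : IsPGroup p S) :
    ∀ {G C : Subgroup Γ}, S ≤ normalizer (G : Set Γ) → (Nat.card G).Coprime (Nat.card S) →
      C = G ⊓ centralizer (S : Set Γ) → ∀ hCG : C ≤ G,
      GlCorr p (inclusion hCG) (InvS G S) (fun _ => True) := by
  have := Fact.mk hp
  induction S using WellFoundedLT.induction with
  | _ S ih =>
  intro G C hn hcop hC hCG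
  by_cases hb : S = ⊥
  · subst hb
    rw [← zpowers_one_eq_bot]
    exact glCorr_cyclic hp (k := 0) (by simp) (one_mem _) (by simp)
      (by simp [hC, mem_centralizer_iff]) hCG
  obtain ⟨T, -, hT, hmax⟩ := exists_maximal_ge (P := fun T => T < S) (bot_lt_iff_ne_bot.2 hb)
  have hST : S ≤ normalizer (T : Set Γ) := by
    have h1 := lt_normalizer_inf_of_isPGroup hS hT
    by_contra h2
    exact h1.ne' (hmax _ (lt_of_le_of_ne inf_le_right fun h => h2 (h ▸ inf_le_left)) h1.le)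
  obtain ⟨s, hs, hsT⟩ := SetLike.exists_of_lt hT
  have hsup : T ⊔ zpowers s = S := by
    by_contra h2
    exact hsT (hmax _ (lt_of_le_of_ne (sup_le hT.le (zpowers_le.2 hs)) h2) le_sup_left ▸
      mem_sup_right (mem_zpowers s))
  obtain ⟨k, hk⟩ := isPGroup_iff_forall_mem.1 hS s hs
  have h1 := (ih T hT (hS.to_le hT.le) (hT.le.trans hn)
    (hcop.coprime_dvd_right (card_dvd_of_le hT.le)) rfl inf_le_left).restrict hp _ hT.le hn
      (le_normalizer_inf hn (le_normalizer_centralizer hST)) hST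
  have hB := le_normalizer_inf hn (le_normalizer_centralizer hST)
  have hCB : C ≤ G ⊓ centralizer (T : Set Γ) := hC ▸ inf_le_inf_left _ (centralizer_le hT.le)
  have h2 := glCorr_cyclic hp hk (hB hs) ((hcop.coprime_dvd_left (card_dvd_of_le inf_le_left)
    ).coprime_dvd_right (S.orderOf_dvd_natCard hs)) (C := C) (fun g => by
      rw [hC, ← hsup, mem_inf, mem_inf, mem_centralizer_sup_iff, mem_centralizer_zpowers_iff,
        and_assoc]) hCB
  refine h1.comp hp (h2.of_iff (fun χ _ => ?_) fun _ _ => Iff.rfl)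
  rw [invS_iff hB, invS_iff ((zpowers_le.2 hs).trans hB), ← hsup, sup_le_iff, and_iff_right]
  exact (le_centralizer_iff.1 inf_le_right).trans (centralizer_le_invSub χ)

end Cfsg.Agent.Char
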