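import Cfsg.Agent.Lib.Char.Glaub2
import Cfsg.Agent.Lib.Char.Down
import Cfsg.Agent.Lib.Block.Alg

/-!
Coprime action on characters: invariant constituents, solvable operator groups.
-/

set_option autoImplicit false

namespace Cfsg.Agent.Char

open scoped ComplexConjugate
open Subgroup Cfsg.Agent.Solv

universe u

section Hom
variable {A B D : Type*} [Group A] [Group B] [Group D]

/-- `χ` lies over `θ` along `f`. -/
def Ovr [Finite B] (f : B →* A) (χ : A → ℂ) (θ : B → ℂ) : Prop :=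
  @classInner B _ (Fintype.ofFinite B) (fun n => χ (f n)) θ ≠ 0

theorem ovr_iff [i : Fintype B] {f : B →* A} {χ : A → ℂ} {θ : B → ℂ} :
    Ovr f χ θ ↔ classInner (fun n => χ (f n)) θ ≠ 0 := by
  rw [Ovr, classInner_congr_fintype _ i]

theorem Ovr.trans [Finite B] [Finite D] {f : B →* A} {g : D →* B} {χ : A → ℂ} {φ : B → ℂ}
    {θ : D → ℂ} (h : Ovr f χ φ) (h' : Ovr g φ θ) (hχ : IsCharacter A χ) (hφ : IsIrrCharacter B φ)
    (hθ : IsCharacter D θ) : Ovr (f.comp g) χ θ := by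
  have := Fintype.ofFinite B
  have := Fintype.ofFinite D
  rw [ovr_iff] at *
  have h1 := IsCharacter.classInner_add_ne_zero (hφ.isCharacter.comp g)
    (((hχ.comp f).sub_irr hφ h).comp g) hθ h'
  convert h1 using 2
  ext; simp

theorem exists_ovr [Finite A] [Finite B] {f : B →* A} (hf : Function.Injective f) {θ : B → ℂ}
    (hθ : IsIrrCharacter B θ) : ∃ χ, IsIrrCharacter A χ ∧ Ovr f χ θ := by
  have := Fintype.ofFinite A
  have := Fintype.ofFinite B
  obtain ⟨χ, h1, h2⟩ := (isCharacter_indHom hf hθ.isCharacter).exists_irr_constituent fun h => by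
    have := congrFun h 1
    rw [indHom_one hf] at this
    simp [hθ.apply_one_ne_zero, index_ne_zero_of_finite] at this
  refine ⟨χ, h1, ovr_iff.2 ?_⟩
  rwa [← frobenius_hom' hf θ h1.isClassFunction, Ne, classInner_eq_zero_comm]

theorem exists_ovr_under [Finite B] (f : B →* A) {χ : A → ℂ} (hχ : IsIrrCharacter A χ) :
    ∃ θ, IsIrrCharacter B θ ∧ Ovr f χ θ := by
  have := Fintype.ofFinite B
  simp only [ovr_iff]
  exact (hχ.isCharacter.comp f).exists_irr_constituent fun h =>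
    hχ.apply_one_ne_zero (by simpa using congrFun h 1)

theorem classInner_comp_eq_sum [Fintype B] [Fintype D] (g : D →* B) {φ : B → ℂ}
    (hφ : IsClassFunction B φ) (θ : D → ℂ) : classInner (fun n => φ (g n)) θ =
      ∑ ψ : IrrCharacter B, classInner φ ψ * classInner (fun n => ψ.1 (g n)) θ := by
  have : (fun n => φ (g n)) = ∑ ψ : IrrCharacter B, classInner φ ψ • fun n => ψ.1 (g n) := by
    ext n; rw [hφ.apply_eq_sum]; simp
  rw [this, classInner_sum_left]
  simp only [classInner_smul_left]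

theorem Ovr.exists_between [Finite B] [Finite D] {f : B →* A} {g : D →* B} {χ : A → ℂ}
    {θ : D → ℂ} (h : Ovr (f.comp g) χ θ) (hχ : IsCharacter A χ) :
    ∃ φ, IsIrrCharacter B φ ∧ Ovr f χ φ ∧ Ovr g φ θ := by
  have := Fintype.ofFinite B
  have := Fintype.ofFinite D
  simp only [ovr_iff] at *
  by_contra! h0
  apply h
  refine (classInner_comp_eq_sum g (hχ.comp f).isClassFunction θ).trans
    (Finset.sum_eq_zero fun φ _ => ?_)
  by_cases h2 : classInner (fun x => χ (f x)) φ = 0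
  · rw [h2, zero_mul]
  · rw [h0 φ φ.2 h2, mul_zero]

theorem Ovr.congr {A' B' : Type*} [Group A'] [Group B'] [Finite B] [Finite B'] {f : B →* A}
    {f' : B' →* A'} (eA : A' →* A) (eB : B' ≃* B) (he : ∀ b, eA (f' b) = f (eB b)) {χ : A → ℂ}
    {β : B → ℂ} : Ovr f' (fun a => χ (eA a)) (fun b => β (eB b)) ↔ Ovr f χ β := by
  have := Fintype.ofFinite B
  have := Fintype.ofFinite B'
  simp only [ovr_iff, he]
  rw [classInner_comp_equiv eB (fun n => χ (f n)) β]

end Hom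

theorem glauberman_perm {L X : Type*} [Group L] [Finite X] (φ : L →* Equiv.Perm X)
    {A : Subgroup L} {K : Subgroup (Equiv.Perm X)}
    (hAK : ∀ a ∈ A, ∀ k ∈ K, φ a * k * (φ a)⁻¹ ∈ K) (hcop : (Nat.card A).Coprime (Nat.card K))
    (hs : Group.IsSolvable A ∨ Group.IsSolvable K) (x : X)
    (h : ∀ a ∈ A, ∃ k ∈ K, k x = φ a x) : ∃ k ∈ K, ∀ a ∈ A, φ a (k x) = k x := by
  classical
  have := Fintype.ofFinite X
  obtain ⟨k, hk, h1⟩ := glauberman_fixed_point (X := X) (A := A.map φ) (K := K) (by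
      rintro _ ⟨a, ha, rfl⟩
      exact mem_normalizer_of_conj_mem (hAK a ha))
    (hcop.coprime_dvd_left (card_map_dvd _ _)) (hs.imp_left (isSolvable_map φ)) x (by
      rintro _ ⟨a, ha, rfl⟩
      exact h a ha)
  exact ⟨k, hk, fun a ha => h1 _ ⟨a, ha, rfl⟩⟩

variable {Γ : Type u} [Group Γ] [Finite Γ]

/-- The action of the normalizer on the irreducible characters. -/
def irrPerm (N : Subgroup Γ) : normalizer (N : Set Γ) →* Equiv.Perm (IrrCharacter N) :=
  MonoidHom.toHomPerm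
    { toFun s θ := ⟨fun n => θ.1 (cjE s⁻¹.2 n), θ.2.comp_equiv _⟩
      map_one' := by
        refine funext fun θ => Subtype.ext (funext fun n => ?_)
        exact congrArg θ.1 (Subtype.ext (by simp))
      map_mul' s t := by
        refine funext fun θ => Subtype.ext (funext fun n => ?_)
        exact congrArg θ.1 (Subtype.ext (by simp [mul_assoc])) }

omit [Finite Γ] in
theorem irrPerm_apply {N : Subgroup Γ} (s : normalizer (N : Set Γ)) (θ : IrrCharacter N) :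
    (irrPerm N s θ).1 = fun n => θ.1 (cjE s⁻¹.2 n) := rfl

omit [Finite Γ] in
theorem irrPerm_eq_iff {N : Subgroup Γ} {s : normalizer (N : Set Γ)} {θ : IrrCharacter N} :
    irrPerm N s θ = θ ↔ InvBy N s θ.1 := by
  rw [Subtype.ext_iff, irrPerm_apply, ← invBy_iff]
  exact ⟨fun h => by simpa using ((invSub N θ.1).inv_mem ⟨s⁻¹.2, h⟩).2,
    fun h => ((invSub N θ.1).inv_mem ⟨s.2, h⟩).2⟩

variable {G N S : Subgroup Γ}

theorem ovr_incl [Fintype N] {hNG : N ≤ G} {χ : G → ℂ} {θ : N → ℂ} :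
    Ovr (inclusion hNG) χ θ ↔ classInner (fun n : N => χ ⟨n, hNG n.2⟩) θ ≠ 0 := by
  have : (fun n => χ (inclusion hNG n)) = fun n : N => χ ⟨n, hNG n.2⟩ := rfl
  rw [ovr_iff, this]

theorem ovr_subgroupOf (hNG : N ≤ G) {χ : G → ℂ} {θ : N → ℂ} :
    Ovr (N.subgroupOf G).subtype χ (fun n => θ (subgroupOfEquivOfLe hNG n)) ↔
      Ovr (inclusion hNG) χ θ :=
  Ovr.congr (MonoidHom.id G) (subgroupOfEquivOfLe hNG) fun _ => rfl

theorem ovr_cjE (hNG : N ≤ G) {s : Γ} (hG : s ∈ normalizer (G : Set Γ))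
    (hN : s ∈ normalizer (N : Set Γ)) {χ : G → ℂ} {θ : N → ℂ} :
    Ovr (inclusion hNG) (fun g => χ (cjE hG g)) (fun n => θ (cjE hN n)) ↔
      Ovr (inclusion hNG) χ θ :=
  Ovr.congr (cjE hG).toMonoidHom (cjE hN) fun _ => rfl

theorem Ovr.exists_cjE {hNG : N ≤ G} (hG : G ≤ normalizer (N : Set Γ)) {χ : G → ℂ}
    {θ θ' : N → ℂ} (hχ : IsIrrCharacter G χ) (hθ : IsIrrCharacter N θ)
    (hθ' : IsIrrCharacter N θ') (h : Ovr (inclusion hNG) χ θ) (h' : Ovr (inclusion hNG) χ θ') :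
    ∃ (g : Γ) (hg : g ∈ G), θ' = fun n => θ (cjE (hG hg) n) := by
  have := Fintype.ofFinite G
  have := Fintype.ofFinite (N.subgroupOf G)
  have : (N.subgroupOf G).Normal := (normal_subgroupOf_iff_le_normalizer hNG).2 hG
  rw [← ovr_subgroupOf, ovr_iff] at h h'
  obtain ⟨g, hg⟩ := mem_cjOrbit.1
    (hχ.mem_cjOrbit_of_under (hθ.comp_equiv _) (hθ'.comp_equiv _) h h')
  exact ⟨g, g.2, funext fun n => congrFun hg ⟨⟨n, hNG n.2⟩, n.2⟩⟩

theorem classInner_dvd_relIndex' [Fintype N] (hNG : N ≤ G) (hG : G ≤ normalizer (N : Set Γ))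
    {χ : G → ℂ} {θ : N → ℂ} (hχ : IsIrrCharacter G χ) (hθ : IsIrrCharacter N θ) {e : ℕ}
    (he : e ≠ 0) (h : classInner (fun n => χ (inclusion hNG n)) θ = e) : e ∣ N.relIndex G := by
  have := Fintype.ofFinite (N.subgroupOf G)
  have : (N.subgroupOf G).Normal := (normal_subgroupOf_iff_le_normalizer hNG).2 hG
  rw [← classInner_comp_equiv (subgroupOfEquivOfLe hNG)] at h
  exact (hχ.classInner_dvd_relIndex (hθ.comp_equiv _) he h).trans
    (relIndex_dvd_index_of_le (le_inertia (hθ.comp_equiv _).isClassFunction))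

theorem exists_invS_under (hNG : N ≤ G) (hG : G ≤ normalizer (N : Set Γ))
    (hSG : S ≤ normalizer (G : Set Γ)) (hSN : S ≤ normalizer (N : Set Γ))
    (hcop : (N.relIndex G).Coprime (Nat.card S))
    (hs : Group.IsSolvable S ∨ ∀ [(N.subgroupOf G).Normal], Group.IsSolvable (G ⧸ N.subgroupOf G))
    {χ : G → ℂ} (hχ : IsIrrCharacter G χ) (hinv : InvS G S χ) :
    ∃ θ, IsIrrCharacter N θ ∧ Ovr (inclusion hNG) χ θ ∧ InvS N S θ := by
  have : (N.subgroupOf G).Normal := (normal_subgroupOf_iff_le_normalizer hNG).2 hG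
  obtain ⟨θ, hθ, h⟩ := exists_ovr_under (inclusion hNG) hχ
  let ψ := (irrPerm N).comp (inclusion hG)
  have hk : N.subgroupOf G ≤ ψ.ker := fun n hn =>
    Equiv.ext fun θ => irrPerm_eq_iff.2 (le_invSub θ.2.isClassFunction hn).2
  have hr : (QuotientGroup.lift _ ψ hk).range = ψ.range := by
    ext x
    refine ⟨?_, ?_⟩
    · rintro ⟨y, rfl⟩
      obtain ⟨y, rfl⟩ := QuotientGroup.mk_surjective y
      exact ⟨y, rfl⟩
    · rintro ⟨y, rfl⟩
      exact ⟨y, rfl⟩
  obtain ⟨_, ⟨k, rfl⟩, h1⟩ := glauberman_perm ((irrPerm N).comp (inclusion hSN)) (A := ⊤)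
    (K := ψ.range) (by
      rintro a - _ ⟨k, rfl⟩
      refine ⟨cjE (hSG a.2) k, ?_⟩
      simp only [ψ, MonoidHom.comp_apply, ← map_mul, ← map_inv]
      rfl)
    (by
      rw [card_top, ← hr]
      exact (hcop.coprime_dvd_left (card_range_dvd _)).symm)
    (hs.imp isSolvable_top_iff.2 fun h => by
      rw [← hr]
      have : Group.IsSolvable (G ⧸ N.subgroupOf G) := h
      exact solvable_of_surjective (MonoidHom.rangeRestrict_surjective _)) ⟨θ, hθ⟩ (by
      intro a _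
      have h2 := (ovr_cjE hNG (hSG a⁻¹.2) (hSN a⁻¹.2)).2 h
      rw [(invBy_iff _).1 (hinv _ a⁻¹.2)] at h2
      obtain ⟨g, hg, h3⟩ := h.exists_cjE hG hχ hθ (hθ.comp_equiv _) h2
      refine ⟨_, ⟨⟨g, hg⟩⁻¹, rfl⟩, Subtype.ext (Eq.trans ?_ h3.symm)⟩
      ext n
      show θ _ = θ _
      congr 1; ext; simp)
  refine ⟨_, (ψ k ⟨θ, hθ⟩).2, ?_, fun s hs => irrPerm_eq_iff.1 (h1 ⟨s, hs⟩ trivial)⟩
  have h2 := (ovr_cjE hNG (le_normalizer k⁻¹.2) (hG k⁻¹.2)).2 h
  rwa [(invBy_iff _).1 (le_invSub hχ.isClassFunction k⁻¹.2).2] at h2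

/-- Multiplication by linear characters permutes the irreducible characters. -/
noncomputable def mulPerm (A : Type*) [Group A] [Finite A] :
    (A →* ℂˣ) →* Equiv.Perm (IrrCharacter A) :=
  MonoidHom.toHomPerm
    { toFun lam θ := ⟨fun n => lam n * θ.1 n, θ.2.mul_units lam⟩
      map_one' := by
        refine funext fun θ => Subtype.ext (funext fun n => ?_)
        exact one_mul _
      map_mul' s t := by
        refine funext fun θ => Subtype.ext (funext fun n => ?_)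
        show _ = (s n : ℂ) * (t n * θ.1 n)
        simp [mul_assoc] }

theorem exists_invS_over_of_comm (hNG : N ≤ G) (hab : ⁅G, G⁆ ≤ N)
    (hSG : S ≤ normalizer (G : Set Γ)) (hSN : S ≤ normalizer (N : Set Γ))
    (hcop : (N.relIndex G).Coprime (Nat.card S)) {θ : N → ℂ} (hθ : IsIrrCharacter N θ)
    (hinv : InvS N S θ) : ∃ χ, IsIrrCharacter G χ ∧ Ovr (inclusion hNG) χ θ ∧ InvS G S χ := by
  have hG : G ≤ normalizer (N : Set Γ) :=
    le_normalizer_of_conj_mem fun g hg n hn => normal_of_commutator_le le_rfl hNG hab hg hn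
  have : (N.subgroupOf G).Normal := (normal_subgroupOf_iff_le_normalizer hNG).2 hG
  have := Fintype.ofFinite (N.subgroupOf G)
  obtain ⟨χ, hχ, h⟩ := exists_ovr (inclusion_injective hNG) hθ
  let D : Subgroup (G →* ℂˣ) :=
    { carrier := {lam | ∀ n : N.subgroupOf G, lam n = 1}
      one_mem' := fun _ => rfl
      mul_mem' := fun ha hb n => by simp [ha n, hb n]
      inv_mem' := fun ha n => by simp [ha n] }
  obtain ⟨_, ⟨lam, hlam, rfl⟩, h1⟩ := glauberman_perm ((irrPerm G).comp (inclusion hSG)) (A := ⊤)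
    (K := D.map (mulPerm G)) (by
      rintro a - _ ⟨lam, hlam, rfl⟩
      refine ⟨lam.comp (cjE (hSG a⁻¹.2)).toMonoidHom, fun n =>
        hlam ⟨cjE (hSG a⁻¹.2) n, conj_mem_of_mem_normalizer (hSN a⁻¹.2) n.2⟩, ?_⟩
      rw [eq_mul_inv_iff_mul_eq]
      exact Equiv.ext fun θ => rfl)
    (by
      rw [card_top]
      refine Nat.coprime_of_dvd fun q hq h1 h2 => ?_
      have := Fact.mk hq
      obtain ⟨x, h3⟩ := exists_prime_orderOf_dvd_card' q h2
      obtain ⟨lam, hlam, hx⟩ := x.2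
      have h4 : q ∣ N.relIndex G := by
        rw [← h3, ← orderOf_coe, ← hx]
        refine orderOf_dvd_of_pow_eq_one ?_
        rw [← map_pow, show lam ^ N.relIndex G = 1 from
          MonoidHom.ext (pow_index_eq_one_of_trivial lam hlam), map_one]
      exact hq.not_dvd_one (hcop ▸ Nat.dvd_gcd h4 h1))
    (.inr (isSolvable_map _ inferInstance)) ⟨χ, hχ⟩ (by
      intro a _
      have h2 := (ovr_cjE hNG (hSG a⁻¹.2) (hSN a⁻¹.2)).2 h
      rw [(invBy_iff _).1 (hinv _ a⁻¹.2), ← ovr_subgroupOf, ovr_iff] at h2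
      rw [← ovr_subgroupOf, ovr_iff] at h
      obtain ⟨lam, h3, h4⟩ := (hχ.comp_equiv (cjE (hSG a⁻¹.2))).exists_eq_mul_of_comm hχ
        (commutator_le_subgroupOf hab) (IsCharacter.classInner_ne_zero_of_common
          ((hχ.comp_equiv _).isCharacter.res _) (hχ.isCharacter.res _) (hθ.comp_equiv _) h2 h)
      exact ⟨_, ⟨lam, h3, rfl⟩, Subtype.ext h4.symm⟩)
  refine ⟨_, (mulPerm G lam ⟨χ, hχ⟩).2, ?_, fun s hs => irrPerm_eq_iff.1 (h1 ⟨s, hs⟩ trivial)⟩
  unfold Ovr at h ⊢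
  convert h using 2
  ext n
  show (lam _ : ℂ) * χ _ = _
  rw [hlam ⟨inclusion hNG n, n.2⟩]; simp

omit [Finite Γ] in
theorem inclusion_comp_inclusion' {A B C : Subgroup Γ} (h : A ≤ B) (h' : B ≤ C) :
    (inclusion h').comp (inclusion h) = inclusion (h.trans h') := rfl

theorem exists_invS_over_aux (hSN : S ≤ normalizer (N : Set Γ)) {θ : N → ℂ}
    (hθ : IsIrrCharacter N θ) (hinv : InvS N S θ) (G : Subgroup Γ) :
    ∀ hNG : N ≤ G, G ≤ normalizer (N : Set Γ) → S ≤ normalizer (G : Set Γ) →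
      (N.relIndex G).Coprime (Nat.card S) → (∀ M ≤ G, M ≤ N ⊔ ⁅M, M⁆ → M ≤ N) →
      ∃ χ, IsIrrCharacter G χ ∧ Ovr (inclusion hNG) χ θ ∧ InvS G S χ := by
  induction G using WellFoundedLT.induction with
  | _ G ih =>
  intro hNG hG hSG hcop hs
  by_cases h0 : G ≤ N
  · exact exists_invS_over_of_comm hNG ((commutator_le_self G).trans h0) hSG hSN hcop hθ hinv
  have hMG : N ⊔ ⁅G, G⁆ ≤ G := sup_le hNG (commutator_le_self G)
  have hSM := le_normalizer_sup hSN (le_normalizer_commutator hSG hSG)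
  have hi := relIndex_mul_relIndex N (N ⊔ ⁅G, G⁆) G le_sup_left hMG
  obtain ⟨φ, h1, h2, h3⟩ := ih (N ⊔ ⁅G, G⁆) (lt_of_le_of_ne hMG fun h => h0 (hs G le_rfl h.ge))
    le_sup_left (hMG.trans hG) hSM (Nat.Coprime.coprime_dvd_left (Dvd.intro _ hi) hcop)
    fun M hM => hs M (hM.trans hMG)
  obtain ⟨χ, h4, h5, h6⟩ := exists_invS_over_of_comm hMG le_sup_right hSG hSM
    (Nat.Coprime.coprime_dvd_left (Dvd.intro_left _ hi) hcop) h1 h3
  have h7 := h5.trans h2 h4.isCharacter h1 hθ.isCharacter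
  rw [inclusion_comp_inclusion'] at h7
  exact ⟨χ, h4, h7, h6⟩

omit [Finite Γ] in
theorem le_of_solvable_quotient (hNG : N ≤ G) [(N.subgroupOf G).Normal]
    (hs : Group.IsSolvable (G ⧸ N.subgroupOf G)) : ∀ M ≤ G, M ≤ N ⊔ ⁅M, M⁆ → M ≤ N := by
  intro M hM h
  have h1 : (M.subgroupOf G).map (QuotientGroup.mk' (N.subgroupOf G)) = ⊥ := by
    by_contra h2
    refine (IsSolvable.commutator_lt_of_ne_bot h2).not_ge ?_
    rw [← map_commutator, map_mk_le_map_mk_iff, ← map_le_map_iff_of_injective G.subtype_injective,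
      Subgroup.map_sup, map_commutator, subgroupOf_map_subtype, subgroupOf_map_subtype,
      inf_eq_left.2 hM, inf_eq_left.2 hNG, sup_comm]
    exact h
  rw [map_mk_eq_bot_iff] at h1
  exact fun x hx => h1 (show (⟨x, hM hx⟩ : G) ∈ M.subgroupOf G from hx)

theorem exists_invS_over_of_solvable (hNG : N ≤ G) [hn : (N.subgroupOf G).Normal]
    (hSG : S ≤ normalizer (G : Set Γ)) (hSN : S ≤ normalizer (N : Set Γ))
    (hcop : (N.relIndex G).Coprime (Nat.card S)) (hs : Group.IsSolvable (G ⧸ N.subgroupOf G))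
    {θ : N → ℂ} (hθ : IsIrrCharacter N θ) (hinv : InvS N S θ) :
    ∃ χ, IsIrrCharacter G χ ∧ Ovr (inclusion hNG) χ θ ∧ InvS G S χ :=
  exists_invS_over_aux hSN hθ hinv G hNG ((normal_subgroupOf_iff_le_normalizer hNG).1 hn) hSG hcop
    (le_of_solvable_quotient hNG hs)

theorem exists_pstep (hs : Group.IsSolvable S) {T : Subgroup Γ} (hT : T < S)
    (hn : S ≤ normalizer (T : Set Γ)) : ∃ (p : ℕ) (P : Subgroup Γ), p.Prime ∧ IsPGroup p P ∧
      P ≤ S ∧ ¬ P ≤ T ∧ S ≤ normalizer ((P ⊔ T : Subgroup Γ) : Set Γ) := by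
  have : (T.subgroupOf S).Normal := (normal_subgroupOf_iff_le_normalizer hT.le).2 hn
  obtain ⟨M, -, hM, h0, -, -, p, hp, h1⟩ := exists_elementary_normal_le
    (⊤ : Subgroup (S ⧸ T.subgroupOf S)) inferInstance (by
      rw [top_ne_bot_iff, QuotientGroup.nontrivial_iff, Ne, subgroupOf_eq_top]
      exact hT.not_ge)
  have := Fact.mk hp
  obtain ⟨Q⟩ : Nonempty (Sylow p S) := inferInstance
  let M' := M.comap (QuotientGroup.mk' (T.subgroupOf S))
  have h2 : M ≤ (Q : Subgroup S).map (QuotientGroup.mk' (T.subgroupOf S)) :=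
    (isPGroup_of_pow_eq_one h1).le_sylow_of_normal
      (Q.mapSurjective (QuotientGroup.mk'_surjective _))
  have h3 : T.subgroupOf S ⊔ ((Q : Subgroup S) ⊓ M') = M' := by
    rw [← dedekind (le_comap_mk _ M) le_normalizer_of_normal, inf_eq_right, sup_comm,
      ← comap_map_mk]
    exact comap_mono h2
  have h4 : ((Q : Subgroup S) ⊓ M').map S.subtype ⊔ T = M'.map S.subtype := by
    rw [← h3, Subgroup.map_sup, subgroupOf_map_subtype, inf_eq_left.2 hT.le, sup_comm, h3]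
  refine ⟨p, ((Q : Subgroup S) ⊓ M').map S.subtype, hp, (Q.2.to_le inf_le_left).map _,
    map_subtype_le _, fun h => h0 ?_, ?_⟩
  · rw [sup_eq_right.2 h] at h4
    rw [← map_comap_mk _ M, map_mk_eq_bot_iff]
    exact fun x hx => show (x : Γ) ∈ T from h4 ▸ mem_map_of_mem _ hx
  · rw [h4]
    rintro s hs
    refine mem_normalizer_of_conj_mem ?_
    rintro _ ⟨x, hx, rfl⟩
    exact ⟨_, (inferInstance : M'.Normal).conj_mem x hx ⟨s, hs⟩, rfl⟩

theorem exists_glCorr_step (hs : Group.IsSolvable S) (hSG : S ≤ normalizer (G : Set Γ))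
    (hcop : (Nat.card G).Coprime (Nat.card S)) (h : ¬ S ≤ centralizer (G : Set Γ)) :
    ∃ (p : ℕ) (P : Subgroup Γ), p.Prime ∧ IsPGroup p P ∧ P ≤ S ∧ P ≠ ⊥ ∧
      G ⊓ centralizer (P : Set Γ) < G ∧ ∀ N ≤ G, S ≤ normalizer (N : Set Γ) →
        S ≤ normalizer ((N ⊓ centralizer (P : Set Γ) : Subgroup Γ) : Set Γ) ∧
        GlCorr p (inclusion inf_le_left) (InvS N P)
          (fun _ : (N ⊓ centralizer (P : Set Γ) : Subgroup Γ) → ℂ => True) ∧
        GlCorr p (inclusion inf_le_left) (InvS N S) (InvS (N ⊓ centralizer (P : Set Γ)) S) := by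
  obtain ⟨p, P, hp, h1, h2, h3, h4⟩ := exists_pstep hs (T := S ⊓ centralizer (G : Set Γ))
    (inf_lt_left.2 h) (le_normalizer_inf le_normalizer (le_normalizer_centralizer hSG))
  refine ⟨p, P, hp, h1, h2, fun h => h3 (h ▸ bot_le),
    inf_lt_left.2 fun h => h3 (le_inf h2 (le_centralizer_iff.1 h)), fun N hN hSN => ?_⟩
  have hT : S ⊓ centralizer (G : Set Γ) ≤ centralizer (N : Set Γ) :=
    inf_le_right.trans (centralizer_le hN)
  have h5 : N ⊓ centralizer (P : Set Γ) =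
      N ⊓ centralizer ((P ⊔ S ⊓ centralizer (G : Set Γ) : Subgroup Γ) : Set Γ) := by
    ext x
    simp only [mem_inf, mem_centralizer_sup_iff]
    exact ⟨fun h => ⟨h.1, h.2, le_centralizer_iff.1 hT h.1⟩, fun h => ⟨h.1, h.2.1⟩⟩
  have h6 : S ≤ normalizer ((N ⊓ centralizer (P : Set Γ) : Subgroup Γ) : Set Γ) :=
    h5 ▸ le_normalizer_inf hSN (le_normalizer_centralizer h4)
  have h7 := glCorr_pgroup hp P h1 (h2.trans hSN) ((hcop.coprime_dvd_left (card_dvd_of_le hN)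
    ).coprime_dvd_right (card_dvd_of_le h2)) rfl inf_le_left
  have h8 : P ⊔ S ⊓ centralizer (G : Set Γ) ≤ S := sup_le h2 inf_le_left
  refine ⟨h6, h7, GlCorr.restrict hp _ (h7.of_iff (fun χ _ => ?_) fun _ _ => Iff.rfl) h8 hSN h6 h4⟩
  rw [invS_iff (h8.trans hSN), invS_iff (h2.trans hSN), sup_le_iff, and_iff_left]
  exact hT.trans (centralizer_le_invSub χ)

theorem card_invS (hs : Group.IsSolvable S) (G : Subgroup Γ) : S ≤ normalizer (G : Set Γ) →
    (Nat.card G).Coprime (Nat.card S) → Nat.card {χ : IrrCharacter G // InvS G S χ.1} =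
      Nat.card (IrrCharacter (G ⊓ centralizer (S : Set Γ) : Subgroup Γ)) := by
  induction G using WellFoundedLT.induction with
  | _ G ih =>
  intro hSG hcop
  by_cases h : S ≤ centralizer (G : Set Γ)
  · rw [inf_eq_left.2 (le_centralizer_iff.1 h)]
    exact Nat.card_congr (Equiv.subtypeUnivEquiv fun χ =>
      (invS_iff hSG).2 (h.trans (centralizer_le_invSub _)))
  obtain ⟨p, P, hp, -, h2, -, h3, h4⟩ := exists_glCorr_step hs hSG hcop h
  obtain ⟨h5, -, h6⟩ := h4 G le_rfl hSG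
  rw [h6.card_eq hp, ih _ h3 h5 (hcop.coprime_dvd_left (card_dvd_of_le h3.le)), inf_assoc,
    inf_eq_right.2 (centralizer_le h2)]

theorem card_inv_classes (hSG : S ≤ normalizer (G : Set Γ))
    (hcop : (Nat.card G).Coprime (Nat.card S)) (hs : Group.IsSolvable S ∨ Group.IsSolvable G) :
    Nat.card (ConjClasses (G ⊓ centralizer (S : Set Γ) : Subgroup Γ)) =
      Nat.card {K : ConjClasses G // ∀ s ∈ S, ∀ g g' : G, (g' : Γ) = s * g * s⁻¹ →
        ConjClasses.mk g = K → ConjClasses.mk g' = K} := by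
  let i := MulAction.compHom Γ (MulAut.conj : Γ →* MulAut Γ)
  refine Nat.card_eq_of_bijective (fun K => ⟨K.map (inclusion inf_le_left), ?_⟩) ⟨?_, ?_⟩
  · obtain ⟨c, rfl⟩ := ConjClasses.mk_surjective K
    intro s hs g g' h1 h2
    have h3 := ConjClasses.mk_eq_mk_iff_isConj.1 h2
    refine ConjClasses.mk_eq_mk_iff_isConj.2 ?_
    obtain ⟨k, hk⟩ := isConj_iff.1 h3
    refine isConj_iff.2 ⟨cjE (hSG hs) k, Subtype.ext ?_⟩
    have h4 : (k : Γ) * g * (k : Γ)⁻¹ = c := congrArg Subtype.val hk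
    simp only [coe_mul, coe_inv, coe_cjE, h1, coe_inclusion]
    calc _ = s * (k * g * (k : Γ)⁻¹) * s⁻¹ := by group
      _ = _ := by rw [h4, c.2.2 s hs, mul_inv_cancel_right]
  · intro K K' h
    obtain ⟨c, rfl⟩ := ConjClasses.mk_surjective K
    obtain ⟨c', rfl⟩ := ConjClasses.mk_surjective K'
    obtain ⟨k, hk⟩ := isConj_iff.1 (ConjClasses.mk_eq_mk_iff_isConj.1 (congrArg Subtype.val h))
    have h4 : (k : Γ) * c * (k : Γ)⁻¹ = c' := congrArg Subtype.val hk
    obtain ⟨d, hd, h5⟩ := @glauberman_fixed_point_conj Γ _ _ Γ i S G hSG hcop.symm hs c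
      (fun a ha => show a * c * a⁻¹ = c by rw [c.2.2 a ha, mul_inv_cancel_right]) k k.2
      (fun a ha => show a * (k * c * (k : Γ)⁻¹) * a⁻¹ = k * c * (k : Γ)⁻¹ by
        rw [h4, c'.2.2 a ha, mul_inv_cancel_right])
    exact ConjClasses.mk_eq_mk_iff_isConj.2 (isConj_iff.2 ⟨⟨d, hd⟩, Subtype.ext (h5.trans h4)⟩)
  · rintro ⟨K, hK⟩
    obtain ⟨g, rfl⟩ := ConjClasses.mk_surjective K
    obtain ⟨k, hk, h1⟩ := @glauberman_fixed_point Γ _ _ Γ i S G hSG hcop.symm hs g fun a ha => by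
      obtain ⟨k, hk⟩ := isConj_iff.1 (ConjClasses.mk_eq_mk_iff_isConj.1
        (hK a ha g (cjE (hSG ha) g) rfl rfl).symm)
      exact ⟨k, k.2, congrArg Subtype.val hk⟩
    refine ⟨ConjClasses.mk ⟨k * g * k⁻¹, G.mul_mem (G.mul_mem hk g.2) (G.inv_mem hk),
      fun a ha => mul_inv_eq_iff_eq_mul.1 (h1 a ha)⟩, Subtype.ext ?_⟩
    exact ConjClasses.mk_eq_mk_iff_isConj.2 (IsConj.symm (isConj_iff.2 ⟨⟨k, hk⟩, rfl⟩))

theorem exists_invS_not_dvd {p : ℕ} (hp : p.Prime) {P : Subgroup Γ} (hP : IsPGroup p P)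
    (hPN : P ≤ normalizer (N : Set Γ)) (w : IrrCharacter N → ℕ)
    (hw : ∀ s (hs : s ∈ P) θ, w (irrPerm N ⟨s, hPN hs⟩ θ) = w θ) (h : ¬ p ∣ ∑ θ, w θ) :
    ∃ θ : IrrCharacter N, InvS N P θ.1 ∧ ¬ p ∣ w θ := by
  classical
  have := Fact.mk hp
  let i := MulAction.compHom (IrrCharacter N) ((irrPerm N).comp (inclusion hPN))
  by_contra! h0
  apply h
  have := Blk.sum_eq_sum_fixed (R := ZMod p) hP (fun θ => (w θ : ZMod p))
    (fun x θ => congrArg _ (hw x x.2 θ)) (Finset.univ.filter fun θ => InvS N P θ.1) fun θ => by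
      simp only [Finset.mem_filter, Finset.mem_univ, true_and]
      exact ⟨fun h x => irrPerm_eq_iff.2 (h x x.2), fun h x hx => irrPerm_eq_iff.1 (h ⟨x, hx⟩)⟩
  rw [← ZMod.natCast_eq_zero_iff, Nat.cast_sum, this]
  exact Finset.sum_eq_zero fun θ hθ =>
    (ZMod.natCast_eq_zero_iff _ _).2 (h0 θ (Finset.mem_filter.1 hθ).2)

/-- The correspondence respects lying over (from the fixed points to the groups). -/
theorem ovr_of_glR {p : ℕ} (hp : p.Prime) {P B D : Subgroup Γ} (hP : IsPGroup p P)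
    (hNG : N ≤ G) (hBG : B ≤ G) (hDN : D ≤ N) (hDB : D ≤ B) (hB : B ≤ normalizer (D : Set Γ))
    (hPG : P ≤ normalizer (G : Set Γ)) (hPN : P ≤ normalizer (N : Set Γ))
    (hPD : P ≤ centralizer (D : Set Γ)) (hpB : ¬ p ∣ Nat.card B)
    (hc : GlCorr p (inclusion hDN) (InvS N P) fun _ => True) {χ : G → ℂ} {θ : N → ℂ} {ξ : B → ℂ}
    {φ : D → ℂ} (hχ : IsIrrCharacter G χ) (hθ : IsIrrCharacter N θ) (hξ : IsIrrCharacter B ξ)
    (hφ : IsIrrCharacter D φ) (h1 : InvS G P χ) (h2 : InvS N P θ)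
    (h3 : GlR p (inclusion hBG) χ ξ) (h4 : GlR p (inclusion hDN) θ φ)
    (h5 : Ovr (inclusion hDB) ξ φ) : Ovr (inclusion hNG) χ θ := by
  have := Fintype.ofFinite D
  have := Fintype.ofFinite N
  obtain ⟨n, hn⟩ := (hξ.isCharacter.comp (inclusion hDB)).classInner_eq_nat hφ.isCharacter
  have hn0 : n ≠ 0 := by rintro rfl; exact ovr_iff.1 h5 (by simpa using hn)
  have hpn : ¬ p ∣ n := fun h =>
    hpB (h.trans ((classInner_dvd_relIndex' hDB hB hξ hφ hn0 hn).trans (relIndex_dvd_card _ _)))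
  obtain ⟨m, hm⟩ := ((hχ.isCharacter.comp (inclusion hNG)).comp (inclusion hDN)).classInner_eq_nat
    hφ.isCharacter
  have hpm : ¬ p ∣ m := by
    obtain ⟨ε, hε, Ψ, hΨ, h⟩ := h3
    obtain ⟨k, hk⟩ := (hΨ.comp (inclusion hDB)).classInner_eq_int hφ.isGen
    have e : (fun x => χ (inclusion hNG (inclusion hDN x))) =
        (ε : ℂ) • (fun x => ξ (inclusion hDB x)) + (p : ℂ) • fun x => Ψ (inclusion hDB x) :=
      funext fun x => h (inclusion hDB x)
    rw [e, classInner_add_left, classInner_smul_left, classInner_smul_left, hn, hk] at hm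
    have h1 : (m : ℤ) = ε * n + p * k := by exact_mod_cast hm.symm
    rw [← Int.natCast_dvd_natCast, h1, dvd_add_left (dvd_mul_right _ _)]
    rw [← Int.natCast_dvd_natCast] at hpn
    rcases hε with rfl | rfl <;> simpa using hpn
  choose a ha using fun ψ : IrrCharacter N =>
    (hχ.isCharacter.comp (inclusion hNG)).classInner_eq_nat ψ.2.isCharacter
  choose b hb using fun ψ : IrrCharacter N =>
    (ψ.2.isCharacter.comp (inclusion hDN)).classInner_eq_nat hφ.isCharacter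
  rw [classInner_comp_eq_sum _ (hχ.isClassFunction.comp (inclusion hNG))] at hm
  simp only [ha, hb] at hm
  obtain ⟨ψ, h6, h7⟩ := exists_invS_not_dvd hp hP hPN (fun ψ => a ψ * b ψ) (fun s hs ψ => by
    congr 1
    · have := ha ψ
      rw [← classInner_comp_equiv (cjE (hPN (P.inv_mem hs)))] at this
      have h8 := ha (irrPerm N ⟨s, hPN hs⟩ ψ)
      have h9 : (fun x => χ (inclusion hNG (cjE (hPN (P.inv_mem hs)) x))) =
          fun x => χ (inclusion hNG x) := funext fun x => h1 _ (P.inv_mem hs) _ _ rfl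
      rw [h9] at this
      exact_mod_cast h8.symm.trans this
    · have h8 := hb (irrPerm N ⟨s, hPN hs⟩ ψ)
      have h9 : (fun x => (irrPerm N ⟨s, hPN hs⟩ ψ).1 (inclusion hDN x)) =
          fun x => ψ.1 (inclusion hDN x) := funext fun x => by
        refine congrArg ψ.1 (Subtype.ext ?_)
        simp [mul_assoc, hPD hs x x.2]
      rw [h9, hb] at h8
      exact_mod_cast h8.symm) (by
    rwa [show ∑ ψ, a ψ * b ψ = m by exact_mod_cast hm])
  obtain ⟨φ', h8, -, h9⟩ := hc.ex ψ.1 ψ.2 h6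
  obtain rfl := h9.eq_of_not_dvd h8 hφ (hb ψ) fun h => h7 (h.mul_left _)
  obtain rfl := hc.inj _ _ _ ψ.2 hθ hφ h6 h2 h9 h4
  rw [ovr_iff, ha]
  intro h
  exact h7 (by simp [show a ψ = 0 by exact_mod_cast h])

theorem exists_invS_over (hs : Group.IsSolvable S) (G : Subgroup Γ) : ∀ {N : Subgroup Γ}
    (hNG : N ≤ G), G ≤ normalizer (N : Set Γ) → S ≤ normalizer (G : Set Γ) →
    S ≤ normalizer (N : Set Γ) → (Nat.card G).Coprime (Nat.card S) → ∀ {θ : N → ℂ},
    IsIrrCharacter N θ → InvS N S θ →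
      ∃ χ, IsIrrCharacter G χ ∧ Ovr (inclusion hNG) χ θ ∧ InvS G S χ := by
  induction G using WellFoundedLT.induction with
  | _ G ih =>
  intro N hNG hG hSG hSN hcop θ hθ hinv
  by_cases h : S ≤ centralizer (G : Set Γ)
  · obtain ⟨χ, h1, h2⟩ := exists_ovr (inclusion_injective hNG) hθ
    exact ⟨χ, h1, h2, (invS_iff hSG).2 (h.trans (centralizer_le_invSub _))⟩
  obtain ⟨p, P, hp, h1, h2, h0, h3, h4⟩ := exists_glCorr_step hs hSG hcop h
  obtain ⟨h5, -, h6⟩ := h4 G le_rfl hSG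
  obtain ⟨h5', h7, h6'⟩ := h4 N hNG hSN
  obtain ⟨φ, h8, h9, h10⟩ := h6'.ex θ hθ hinv
  have hB : G ⊓ centralizer (P : Set Γ) ≤
      normalizer ((N ⊓ centralizer (P : Set Γ) : Subgroup Γ) : Set Γ) :=
    le_normalizer_inf (inf_le_left.trans hG) (inf_le_right.trans le_normalizer)
  obtain ⟨ξ, h11, h12, h13⟩ := ih _ h3 (inf_le_inf_right _ hNG) hB h5 h5'
    (hcop.coprime_dvd_left (card_dvd_of_le h3.le)) h8 h9
  obtain ⟨χ, h14, h15, h16⟩ := h6.surj ξ h11 h13
  refine ⟨χ, h14, ovr_of_glR hp h1 hNG _ _ _ hB (h2.trans hSG) (h2.trans hSN)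
    (le_centralizer_iff.1 inf_le_right) (fun hd => ?_) h7 h14 hθ h11 h8 (fun s hs => h15 s (h2 hs))
    (fun s hs => hinv s (h2 hs)) h16 h10 h12, h15⟩
  have := Fact.mk hp
  have h17 : p ∣ Nat.card P := (h1.card_eq_or_dvd).resolve_left fun h => h0 (card_eq_one.1 h)
  exact hp.not_dvd_one (hcop ▸ Nat.dvd_gcd (hd.trans (card_dvd_of_le h3.le))
    (h17.trans (card_dvd_of_le h2)))

end Cfsg.Agent.Char
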