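import Cfsg.Agent.Lib.Char.HigF
import Cfsg.Agent.Lib.Char.IrrField
import Cfsg.Agent.Lib.Solv.PGrp
import Cfsg.Agent.Lib.Comp.Loc

/-!
Suzuki 2-groups: invariant sections and their coordinates.
-/

set_option autoImplicit false
set_option linter.unusedSectionVars false

namespace Cfsg.Agent.Hig

open Subgroup
open scoped commutatorElement

/-- `K` acts on the 2-group `P` and permutes its involutions regularly. -/
structure HS (P K : Type*) [Group P] [Group K] [MulDistribMulAction K P] : Prop where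
  pg : IsPGroup 2 P
  comm : ∀ k l : K, k * l = l * k
  two : ∃ x y : P, x ≠ y ∧ x ≠ 1 ∧ x * x = 1 ∧ y ≠ 1 ∧ y * y = 1
  reg : ∀ x y : P, x ≠ 1 → x * x = 1 → y ≠ 1 → y * y = 1 → ∃! k : K, k • x = y

variable {P K : Type*} [Group P] [Finite P] [Group K] [MulDistribMulAction K P]
  {X Y A B C : Subgroup P} {x y u v a : P} {k : K}

/-- invariant subgroups -/
def Inv (K : Type*) [Group K] [MulDistribMulAction K P] (X : Subgroup P) : Prop :=
  ∀ k : K, ∀ x ∈ X, k • x ∈ X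

/-- `X` covers `Y` among the invariant subgroups -/
structure Cov (K : Type*) [Group K] [MulDistribMulAction K P] (Y X : Subgroup P) : Prop where
  left : Inv K Y
  right : Inv K X
  lt : Y < X
  min : ∀ C, Inv K C → Y ≤ C → C ≤ X → C = Y ∨ C = X

/-- coordinates on the section `X / Y` -/
structure Sec {F : Type*} [Field F] (X Y : Subgroup P) (π : P → F) (χ : K → F) : Prop where
  le : Y ≤ X
  add : ∀ x ∈ X, ∀ y ∈ X, π (x * y) = π x + π y
  ker : ∀ x ∈ X, π x = 0 ↔ x ∈ Y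
  surj : ∀ c, ∃ x ∈ X, π x = c
  inv : Inv K X
  eqv : ∀ k : K, ∀ x ∈ X, π (k • x) = χ k * π x
  onto : ∀ c, c ≠ 0 → ∃ k, χ k = c
  ne : ∀ k, χ k ≠ 0

/-- the subgroup generated by the squares -/
def Sq (X : Subgroup P) : Subgroup P := closure {y | ∃ x ∈ X, x * x = y}

theorem sq_mem_Sq (h : x ∈ X) : x * x ∈ Sq X := subset_closure ⟨x, h, rfl⟩

theorem Sq_le : Sq X ≤ Y ↔ ∀ x ∈ X, x * x ∈ Y :=
  (closure_le _).trans ⟨fun h x hx => h ⟨x, hx, rfl⟩, by rintro h _ ⟨x, hx, rfl⟩; exact h x hx⟩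

theorem Sq_le_self : Sq X ≤ X := Sq_le.2 fun _ h => mul_mem h h

theorem comm_mem_Sq (hx : x ∈ X) (hy : y ∈ X) : ⁅x, y⁆ ∈ Sq X := by
  have := mul_mem (mul_mem (sq_mem_Sq (mul_mem hx hy)) (sq_mem_Sq (mul_mem (mul_mem (inv_mem hy)
    (inv_mem hx)) hy))) (sq_mem_Sq (inv_mem hy))
  convert this using 1
  rw [commutatorElement_def]; group

theorem conj_mem_of_Sq_le (h : Sq X ≤ Y) (h' : Y ≤ X) (hx : x ∈ X) (hy : y ∈ Y) : x * y * x⁻¹ ∈ Y := by
  simpa [commutatorElement_def] using mul_mem (h (comm_mem_Sq hx (h' hy))) hy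

theorem Inv.Sq (h : Inv K X) : Inv K (Sq X) := fun k =>
  (Sq_le (Y := (Hig.Sq X).comap (MulDistribMulAction.toMonoidHom P k))).2 fun x hx => by
    simpa using sq_mem_Sq (h k x hx)

theorem Inv.sup (h : Inv K X) (h' : Inv K Y) : Inv K (X ⊔ Y) := fun k =>
  sup_le (c := (X ⊔ Y).comap (MulDistribMulAction.toMonoidHom P k))
    (fun x hx => mem_sup_left (h k x hx)) fun x hx => mem_sup_right (h' k x hx)

theorem Inv.inf (h : Inv K X) (h' : Inv K Y) : Inv K (X ⊓ Y) := fun k x hx =>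
  ⟨h k x hx.1, h' k x hx.2⟩

theorem Inv.centralizer (h : Inv K X) : Inv K (centralizer (X : Set P)) := fun k x hx y hy => by
  simpa using congrArg (k • ·) (hx _ (h k⁻¹ y hy))

theorem inv_top : Inv K (⊤ : Subgroup P) := fun _ _ _ => trivial

theorem smul_comm' (k : K) (x y : P) : k • ⁅x, y⁆ = ⁅k • x, k • y⁆ := by
  simp [commutatorElement_def]

theorem exists_max (hY : Inv K Y) (hX : Inv K X) (h : Y < X) : ∃ M, Y ≤ M ∧ Cov K M X := by
  obtain ⟨M, h1, h2⟩ := Finite.exists_le_maximal (p := fun M => Inv K M ∧ M < X) ⟨hY, h⟩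
  exact ⟨M, h1, h2.1.1, hX, h2.1.2, fun C h3 h4 h5 =>
    h5.lt_or_eq.imp_left fun h6 => le_antisymm (h2.2 ⟨h3, h6⟩ h4) h4⟩

theorem exists_min (hY : Inv K Y) (hX : Inv K X) (h : Y < X) : ∃ M, M ≤ X ∧ Cov K Y M := by
  obtain ⟨M, h1, h2⟩ := Finite.exists_le_minimal (p := fun M => Inv K M ∧ Y < M) ⟨hX, h⟩
  exact ⟨M, h1, hY, h2.1.1, h2.1.2, fun C h3 h4 h5 =>
    h4.eq_or_lt.imp Eq.symm fun h6 => le_antisymm h5 (h2.2 ⟨h3, h6⟩ h5)⟩

/-- the involutions with the identity -/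
def Z (P : Type*) [Group P] : Subgroup P := Solv.omegaAb 2 (center P) inferInstance

namespace Sec

variable {F : Type*} [Field F] {π : P → F} {χ : K → F} (h : Sec X Y π χ)
include h

theorem one : π 1 = 0 := (h.ker 1 (one_mem _)).2 (one_mem _)

theorem map_inv (hx : x ∈ X) : π x⁻¹ = -π x :=
  eq_neg_of_add_eq_zero_left (by rw [← h.add _ (inv_mem hx) _ hx, inv_mul_cancel, h.one])

theorem eq_iff (hx : x ∈ X) (hy : y ∈ X) : π x = π y ↔ x⁻¹ * y ∈ Y := by
  rw [← h.ker _ (mul_mem (inv_mem hx) hy), h.add _ (inv_mem hx) _ hy, h.map_inv hx, neg_add_eq_zero]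

theorem lift {M : Type*} [AddCommGroup M] (g : P → M) (h1 : ∀ x ∈ X, ∀ y ∈ X, g (x * y) = g x + g y)
    (h0 : ∀ y ∈ Y, g y = 0) : ∃ T : F →+ M, ∀ x ∈ X, g x = T (π x) := by
  choose s hs using h.surj
  have key : ∀ x ∈ X, g x = g (s (π x)) := fun x hx => by
    have h2 := (h.eq_iff hx (hs _).1).1 (hs _).2.symm
    rw [← mul_inv_cancel_left x (s _), h1 _ hx _ (h.le h2), h0 _ h2, add_zero]
  refine ⟨AddMonoidHom.mk' (fun c => g (s c)) fun c d => ?_, key⟩
  rw [← h1 _ (hs c).1 _ (hs d).1, key _ (mul_mem (hs c).1 (hs d).1), h.add _ (hs c).1 _ (hs d).1,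
    (hs c).2, (hs d).2]

theorem bilin {X' Y' : Subgroup P} {π' : P → F} {χ' δ : K → F} (h' : Sec X' Y' π' χ') (f : P → P → F)
    (l : ∀ x ∈ X, ∀ x' ∈ X, ∀ y ∈ X', f (x * x') y = f x y + f x' y)
    (r : ∀ x ∈ X, ∀ y ∈ X', ∀ y' ∈ X', f x (y * y') = f x y + f x y')
    (l0 : ∀ x ∈ Y, ∀ y ∈ X', f x y = 0) (r0 : ∀ x ∈ X, ∀ y ∈ Y', f x y = 0)
    (e : ∀ k : K, ∀ x ∈ X, ∀ y ∈ X', f (k • x) (k • y) = δ k * f x y) :
    ∃ B : F →+ F →+ F, (∀ x ∈ X, ∀ y ∈ X', f x y = B (π x) (π' y)) ∧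
      ∀ k s t, B (χ k * s) (χ' k * t) = δ k * B s t := by
  choose! T hT using fun x (hx : x ∈ X) => h'.lift (f x) (r x hx) (r0 x hx)
  obtain ⟨B, hB⟩ := h.lift T (fun x hx x' hx' => AddMonoidHom.ext fun c => by
    obtain ⟨y, hy, rfl⟩ := h'.surj c
    rw [AddMonoidHom.add_apply, ← hT _ (mul_mem hx hx') _ hy, ← hT _ hx _ hy, ← hT _ hx' _ hy,
      l x hx x' hx' y hy]) fun x hx => AddMonoidHom.ext fun c => by
    obtain ⟨y, hy, rfl⟩ := h'.surj c
    rw [← hT _ (h.le hx) _ hy, l0 x hx y hy]; rfl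
  have key : ∀ x ∈ X, ∀ y ∈ X', f x y = B (π x) (π' y) := fun x hx y hy => by
    rw [hT x hx y hy, hB x hx]
  refine ⟨B, key, fun k s t => ?_⟩
  obtain ⟨x, hx, rfl⟩ := h.surj s
  obtain ⟨y, hy, rfl⟩ := h'.surj t
  rw [← h.eqv k x hx, ← h'.eqv k y hy, ← key _ (h.inv k x hx) _ (h'.inv k y hy), e k x hx y hy,
    key x hx y hy]

theorem map {F' : Type*} [Field F'] (e : F ≃+* F') : Sec X Y (fun x => e (π x)) fun k => e (χ k) :=
  ⟨h.le, fun x hx y hy => by rw [h.add x hx y hy, map_add], fun x hx => by simp [h.ker x hx],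
    fun c => (h.surj (e.symm c)).imp fun _ h => ⟨h.1, by simp [h.2]⟩, h.inv,
    fun k x hx => by rw [h.eqv k x hx, map_mul],
    fun c hc => (h.onto (e.symm c) (by simpa using hc)).imp fun _ h => by simp [h],
    fun k => by simpa using h.ne k⟩

end Sec

namespace HS

variable (h : HS P K)
include h

theorem exists_order (x : P) : ∃ n, orderOf x = 2 ^ n := IsPGroup.iff_orderOf.1 h.pg x

theorem fpf (hk : k ≠ 1) (hx : k • x = x) : x = 1 := by
  obtain ⟨_ | n, hn⟩ := h.exists_order x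
  · exact orderOf_eq_one_iff.1 hn
  have h1 : x ^ 2 ^ n ≠ 1 := pow_ne_one_of_lt_orderOf (by positivity)
    (hn ▸ Nat.pow_lt_pow_right (by norm_num) n.lt_succ_self)
  have h2 : x ^ 2 ^ n * x ^ 2 ^ n = 1 := by rw [← pow_add, ← mul_two, ← pow_succ, ← hn, pow_orderOf_eq_one]
  exact (hk ((h.reg _ _ h1 h2 h1 h2).unique (by rw [smul_pow', hx]) (one_smul _ _))).elim

theorem surj (hk : k ≠ 1) (hX : Inv K X) (hy : y ∈ X) : ∃ x ∈ X, x⁻¹ * k • x = y := by
  obtain ⟨x, hx⟩ := Finite.surjective_of_injective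
    (f := fun x : X => (⟨x⁻¹ * k • (x : P), mul_mem (inv_mem x.2) (hX k x x.2)⟩ : X))
    (fun x y e => Subtype.ext (mul_inv_eq_one.1 (h.fpf hk (by
      have e1 : (x : P)⁻¹ * k • (x : P) = (y : P)⁻¹ * k • (y : P) := congrArg Subtype.val e
      rw [smul_mul', smul_inv', mul_inv_eq_iff_eq_mul, mul_assoc, ← e1, mul_inv_cancel_left])))) ⟨y, hy⟩
  exact ⟨x, x.2, congrArg Subtype.val hx⟩

theorem central (hx : x * x = 1) : x ∈ center P := by
  obtain ⟨y, -, -, hy, -⟩ := h.two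
  have : Nontrivial P := ⟨y, 1, hy⟩
  have := h.pg.center_nontrivial
  obtain ⟨z, hz⟩ := exists_prime_orderOf_dvd_card' (G := center P) 2
    ((h.pg.to_subgroup _).card_eq_or_dvd.resolve_left Finite.one_lt_card.ne')
  rw [← orderOf_coe] at hz
  by_cases h1 : x = 1
  · exact h1 ▸ one_mem _
  obtain ⟨k, rfl, -⟩ := h.reg z x (Transfer.ne_one_of_orderOf hz) (Transfer.mul_self_of_orderOf hz) h1 hx
  exact mem_center_iff.2 fun g => by simpa using congrArg (k • ·) (mem_center_iff.1 z.2 (k⁻¹ • g))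

theorem mem_Z : x ∈ Z P ↔ x * x = 1 := ⟨fun hx => sq x ▸ hx.2, fun hx => ⟨h.central hx, (sq x).symm ▸ hx⟩⟩

theorem inv_Z : Inv K (Z P) := fun k x hx => h.mem_Z.2 (by rw [← smul_mul', h.mem_Z.1 hx, smul_one])

theorem cov_Z : Cov K ⊥ (Z P) := by
  obtain ⟨y, -, -, hy, hy2, -⟩ := h.two
  refine ⟨fun k x hx => by simp [mem_bot.1 hx], h.inv_Z, bot_lt_iff_ne_bot.2 fun e =>
    hy (e.le (h.mem_Z.2 hy2)), fun C h1 _ h2 => C.bot_or_exists_ne_one.imp_right ?_⟩
  rintro ⟨c, hc, h3⟩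
  refine le_antisymm h2 fun x hx => ?_
  by_cases h4 : x = 1
  · exact h4 ▸ one_mem _
  obtain ⟨k, rfl, -⟩ := h.reg c x h3 (h.mem_Z.1 (h2 hc)) h4 (h.mem_Z.1 hx)
  exact h1 k c hc

theorem card_Z : Nat.card (Z P) = Nat.card K + 1 ∧ Finite K := by
  obtain ⟨y, -, -, hy, hy2, -⟩ := h.two
  have h1 : Function.Bijective fun o : Option K =>
      (o.elim 1 fun k => ⟨k • y, h.inv_Z k y (h.mem_Z.2 hy2)⟩ : Z P) := by
    have h1 : ∀ k : K, k • y ≠ 1 := fun k e => hy (by simpa using congrArg (k⁻¹ • ·) e)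
    constructor
    · rintro (_ | k) (_ | l) e
      · rfl
      · exact (h1 l (congrArg Subtype.val e).symm).elim
      · exact (h1 k (congrArg Subtype.val e)).elim
      · exact congrArg _ ((h.reg y _ hy hy2 (h1 l) (h.mem_Z.1 (h.inv_Z l y (h.mem_Z.2 hy2)))).unique
          (congrArg Subtype.val e) rfl)
    · intro x
      by_cases h2 : x = 1
      · exact ⟨none, h2.symm⟩
      obtain ⟨k, e, -⟩ := h.reg y x hy hy2 (by simpa using h2) (h.mem_Z.1 x.2)
      exact ⟨some k, Subtype.ext e⟩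
  have := Finite.of_injective _ (h1.1.comp (Option.some_injective K))
  exact ⟨by rw [← Nat.card_eq_of_bijective _ h1, Finite.card_option], this⟩

theorem exists_ne_one : ∃ k : K, k ≠ 1 := by
  obtain ⟨x, y, h1, h2, h3, h4, h5⟩ := h.two
  obtain ⟨k, rfl, -⟩ := h.reg x y h2 h3 h4 h5
  exact ⟨k, by rintro rfl; simp at h1⟩

theorem Sq_sup_lt (hY : Y < X) : Y ⊔ Sq X < X := by
  obtain ⟨D, h1, h2, h3, -⟩ := Comp.exists_relIndex_eq_prime (h.pg.to_subgroup X) hY
  refine (sup_le h1 (Sq_le.2 fun x hx => mul_self_mem_of_index_two h3 ⟨x, hx⟩)).trans_lt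
    (h2.lt_of_ne ?_)
  rintro rfl
  simp at h3

theorem Sq_le_of_cov (hc : Cov K Y X) : Sq X ≤ Y :=
  sup_eq_left.1 ((hc.min _ (hc.left.sup hc.right.Sq) le_sup_left (h.Sq_sup_lt hc.lt).le).resolve_right
    (h.Sq_sup_lt hc.lt).ne)

theorem exists_sec0 (hc : Cov K Y X) : ∃ (F : Type) (_ : Field F) (_ : Fintype F) (π : P → F) (χ : K → F),
    Fintype.card F = Nat.card K + 1 ∧ Sec X Y π χ := by
  classical
  have hS := h.Sq_le_of_cov hc
  let N := Y.subgroupOf X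
  have : N.Normal := ⟨fun y hy x => mem_subgroupOf.2 (conj_mem_of_Sq_le hS hc.lt.le x.2 hy)⟩
  let _ : CommGroup (X ⧸ N) := { (inferInstance : Group (X ⧸ N)) with
    mul_comm := fun x y => by
      obtain ⟨x, rfl⟩ := QuotientGroup.mk_surjective x
      obtain ⟨y, rfl⟩ := QuotientGroup.mk_surjective y
      refine QuotientGroup.eq.2 (mem_subgroupOf.2 ?_)
      simpa [commutatorElement_def, mul_assoc] using hS (comm_mem_Sq (inv_mem y.2) (inv_mem x.2)) }
  let f : K → AddMonoid.End (Additive (X ⧸ N)) := fun k => MonoidHom.toAdditive (QuotientGroup.map N N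
    (((MulDistribMulAction.toMonoidHom P k).comp X.subtype).codRestrict X fun x => hc.right k x x.2)
    fun x hx => hc.left k x hx)
  let m : X → Additive (X ⧸ N) := fun x => .ofMul x
  have hm : Function.Surjective m := QuotientGroup.mk_surjective
  have hf : ∀ k x, f k (m x) = m ⟨k • x, hc.right k x x.2⟩ := fun _ _ => rfl
  have hcomm : ∀ k l, f k * f l = f l * f k := fun k l => AddMonoidHom.ext fun x => by
    obtain ⟨x, rfl⟩ := hm x
    change f k (f l (m x)) = f l (f k (m x))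
    simp only [hf, ← mul_smul, h.comm k]
  obtain ⟨x₀, hx₀, hx₁⟩ := SetLike.exists_of_lt hc.lt
  obtain ⟨F, _, _, φ, δ, -, h2, h3⟩ := Char.exists_field_of_irr (Set.range f) (by
    rintro _ ⟨k, rfl⟩ _ ⟨l, rfl⟩; exact hcomm k l) (fun U hU => by
      refine (hc.min (((AddSubgroup.toSubgroup' U).comap (QuotientGroup.mk' N)).map X.subtype) ?_
        (fun y hy => ⟨⟨y, hc.lt.le hy⟩, ?_, rfl⟩) (map_subtype_le _)).imp (fun e => ?_) fun e => ?_
      · rintro k _ ⟨x, hx, rfl⟩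
        exact ⟨⟨_, hc.right k x x.2⟩, hU _ ⟨k, rfl⟩ (m x) hx, rfl⟩
      · change QuotientGroup.mk _ ∈ AddSubgroup.toSubgroup' U
        rw [(QuotientGroup.eq_one_iff (N := N) _).2 hy]
        exact one_mem _
      · refine (AddSubgroup.eq_bot_iff_forall U).2 fun x hx => ?_
        obtain ⟨x, rfl⟩ := hm x
        exact (QuotientGroup.eq_one_iff (N := N) _).2 (e.le ⟨x, hx, rfl⟩)
      · refine (AddSubgroup.eq_top_iff' U).2 fun x => ?_
        obtain ⟨x, rfl⟩ := hm x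
        obtain ⟨y, hy, e⟩ := e.ge x.2
        exact (Subtype.ext e : y = x) ▸ hy)
    (a₀ := m ⟨x₀, hx₀⟩) fun e => hx₁ ((QuotientGroup.eq_one_iff (N := N) _).1 e)
  let π : P → F := fun x => if hx : x ∈ X then φ.symm (m ⟨x, hx⟩) else 0
  have hπ : ∀ x (hx : x ∈ X), π x = φ.symm (m ⟨x, hx⟩) := fun x hx => dif_pos hx
  have add : ∀ x ∈ X, ∀ y ∈ X, π (x * y) = π x + π y := fun x hx y hy => by
    rw [hπ _ hx, hπ _ hy, hπ _ (mul_mem hx hy), ← map_add]; rfl
  have ker : ∀ x ∈ X, π x = 0 ↔ x ∈ Y := fun x hx => by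
    rw [hπ _ hx, AddEquiv.map_eq_zero_iff]
    exact QuotientGroup.eq_one_iff (N := N) _
  have surj : ∀ c, ∃ x ∈ X, π x = c := fun c => by
    obtain ⟨x, hx⟩ := hm (φ c)
    exact ⟨x, x.2, by rw [hπ _ x.2, φ.symm_apply_eq, ← hx]⟩
  have eqv : ∀ k : K, ∀ x ∈ X, π (k • x) = δ (f k) * π x := fun k x hx => by
    rw [hπ _ hx, hπ _ (hc.right k x hx), φ.symm_apply_eq, ← h2 _ (by
      rintro _ ⟨l, rfl⟩; exact hcomm k l), φ.apply_symm_apply, hf]
  obtain ⟨x, hx, hx1⟩ := surj 1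
  let χ : K →* F :=
    { toFun := fun k => δ (f k)
      map_one' := by simpa [hx1] using (eqv 1 x hx).symm
      map_mul' := fun k l => by
        simpa [hx1, mul_smul, eqv k _ (hc.right l x hx), eqv l x hx] using (eqv (k * l) x hx).symm }
  have h4 : Function.Injective χ.toHomUnits := (injective_iff_map_eq_one _).2 fun k hk => by
    by_contra h4
    have h5 := add _ hx _ (mul_mem (inv_mem hx) (hc.right k x hx))
    rw [mul_inv_cancel_left, eqv k x hx, show δ (f k) = 1 from congrArg Units.val hk, one_mul,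
      left_eq_add, ker _ (mul_mem (inv_mem hx) (hc.right k x hx))] at h5
    obtain ⟨y, hy, e⟩ := h.surj h4 hc.left h5
    have h6 := h.fpf h4 (x := x * y⁻¹) (by
      rw [smul_mul', smul_inv', mul_inv_eq_iff_eq_mul, mul_assoc, e, mul_inv_cancel_left])
    rw [mul_inv_eq_one.1 h6, (ker y (hc.lt.le hy)).2 hy] at hx1
    exact zero_ne_one hx1
  have : CharP F 2 := CharTwo.of_one_ne_zero_of_two_eq_zero one_ne_zero (by
    rw [← one_add_one_eq_two, ← hx1, ← add x hx x hx, ker _ (mul_mem hx hx)]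
    exact hS (sq_mem_Sq hx))
  obtain ⟨h5, _⟩ := h.card_Z
  obtain ⟨n, hn⟩ := IsPGroup.iff_card.1 (h.pg.to_subgroup (Z P))
  have h6 : ∀ c : F, iterateFrobenius F 2 n c = c := fun c =>
    (h3.symm.trans_le ((Subring.closure_le (t := (iterateFrobenius F 2 n).eqLocus (RingHom.id F))).2 (by
      rintro _ ⟨_, ⟨k, rfl⟩, rfl⟩
      change χ k ^ 2 ^ n = χ k
      rw [← hn, h5, pow_succ, ← map_pow, pow_card_eq_one', map_one, one_mul]))) (Subring.mem_top c)
  have h7 : Nat.card Fˣ ∣ Nat.card K := by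
    rw [← IsCyclic.exponent_eq_card, Monoid.exponent_dvd_iff_forall_pow_eq_one]
    refine fun c => mul_right_cancel (b := c) (Units.ext ?_)
    rw [← pow_succ, ← h5, hn, one_mul, Units.val_pow_eq_pow_val]
    exact h6 c
  have h8 := le_antisymm (Nat.card_le_card_of_injective _ h4) (Nat.le_of_dvd Nat.card_pos h7)
  refine ⟨F, _, inferInstance, π, χ, ?_, hc.lt.le, add, ker, surj, hc.right, eqv, fun c hc => ?_,
    fun k => (χ.toHomUnits k).ne_zero⟩
  · rw [h8, Nat.card_units, Nat.card_eq_fintype_card, Nat.sub_add_cancel Fintype.card_pos]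
  · exact (((Nat.bijective_iff_injective_and_card _).2 ⟨h4, h8⟩).2 (Units.mk0 c hc)).imp
      fun k e => congrArg Units.val e

theorem exists_sec {F : Type*} [Field F] [Fintype F] (hF : Fintype.card F = Nat.card K + 1)
    (hc : Cov K Y X) : ∃ (π : P → F) (χ : K → F), Sec X Y π χ := by
  obtain ⟨F', _, _, π, χ, h1, h2⟩ := h.exists_sec0 hc
  exact ⟨_, _, h2.map (FiniteField.ringEquivOfCardEq (h1.trans hF.symm))⟩

end HS

end Cfsg.Agent.Hig
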