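import Cfsg.Agent.Lib.Char.Hig1

/-!
Suzuki 2-groups have exponent four.
-/

set_option autoImplicit false
set_option linter.unusedSectionVars false

namespace Cfsg.Agent.Hig

open Subgroup
open scoped commutatorElement

variable {P K : Type*} [Group P] [Finite P] [Group K] [MulDistribMulAction K P]
  {X Y A B C : Subgroup P} {x y u v a a₀ : P} {k : K} {i j e : ℕ}

/-- `A` is an abelian normal subgroup of `C`, both invariant -/
structure NA (K : Type*) [Group K] [MulDistribMulAction K P] (A C : Subgroup P) : Prop where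
  comm : IsMulCommutative A
  left : Inv K A
  right : Inv K C
  le : A ≤ C
  conj : ∀ u ∈ C, ∀ a ∈ A, u * a * u⁻¹ ∈ A

theorem commute_of (hA : IsMulCommutative A) (hx : x ∈ A) (hy : y ∈ A) : Commute x y :=
  congrArg Subtype.val (hA.1.1 ⟨x, hx⟩ ⟨y, hy⟩)

theorem NA.comm_mem (h : NA K A C) (hu : u ∈ C) (ha : a ∈ A) : ⁅u, a⁆ ∈ A :=
  mul_mem (h.conj u hu a ha) (inv_mem ha)

theorem sq_pow (x : P) (i : ℕ) : (x * x) ^ 2 ^ i = x ^ 2 ^ (i + 1) := by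
  rw [← sq, ← pow_mul, pow_succ']

theorem pow_mono (h : x ^ 2 ^ i = 1) (hij : i ≤ j) : x ^ 2 ^ j = 1 := by
  obtain ⟨k, rfl⟩ := Nat.exists_eq_add_of_le hij
  rw [pow_add, pow_mul, h, one_pow]

/-- the elements of order dividing `2 ^ i` -/
abbrev Om (hA : IsMulCommutative A) (i : ℕ) : Subgroup P := Solv.omegaAb (2 ^ i) A hA

theorem Inv.om (h : Inv K A) (hA : IsMulCommutative A) (i : ℕ) : Inv K (Om hA i) := fun k x hx =>
  ⟨h k x hx.1, by rw [← smul_pow', hx.2, smul_one]⟩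

/-- the coordinate on the `i`-th layer -/
abbrev pp {F : Type*} (ζ : P → F) (i : ℕ) (x : P) : F := ζ (x ^ 2 ^ i)

theorem pp_sq {F : Type*} (ζ : P → F) (i : ℕ) (x : P) : pp ζ i (x * x) = pp ζ (i + 1) x := by
  rw [pp, sq_pow]

namespace HS

variable (h : HS P K)
include h

theorem pow_mem_Z (hx : x ^ 2 ^ (i + 1) = 1) : x ^ 2 ^ i ∈ Z P :=
  h.mem_Z.2 (by rw [← pow_add, ← mul_two, ← pow_succ, hx])

theorem conj_pow_eq (hx : x ^ 2 ^ (i + 1) = 1) (u : P) : (u * x * u⁻¹) ^ 2 ^ i = x ^ 2 ^ i := by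
  rw [conj_pow, mem_center_iff.1 (h.pow_mem_Z hx).1, mul_inv_cancel_right]

theorem comm_pow (hA : NA K A C) (hu : u ∈ C) (ha : a ∈ A) (hx : a ^ 2 ^ (i + 1) = 1) :
    ⁅u, a⁆ ^ 2 ^ i = 1 := by
  rw [commutatorElement_def, (commute_of hA.comm (hA.conj u hu a ha) (inv_mem ha)).mul_pow,
    h.conj_pow_eq hx, inv_pow, mul_inv_cancel]

theorem commute_Sq (ha : ∀ g ∈ X, ⁅a, g⁆ ∈ Z P) : Sq X ≤ centralizer {a} := Sq_le.2 fun g hg => by
  have : ⁅a, g * g⁆ = ⁅a, g⁆ * (g * ⁅a, g⁆ * g⁻¹) := by simp only [commutatorElement_def]; group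
  rw [mem_center_iff.1 (ha g hg).1, mul_inv_cancel_right, h.mem_Z.1 (ha g hg),
    commutatorElement_eq_one_iff_mul_comm] at this
  exact mem_centralizer_singleton_iff.2 this.symm

theorem comm_of_central (hX : Inv K X) (h4 : ∀ x ∈ X, x ^ 2 ^ 2 = 1) (ha : a ∈ X)
    (hc : X ≤ centralizer {a}) (h2 : a * a ≠ 1) : IsMulCommutative X := ⟨⟨fun u v => Subtype.ext (by
  have h3 : ∀ x ∈ X, x * x * (x * x) = 1 := fun x hx => by rw [← h4 x hx, ← sq_pow, pow_one, sq]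
  by_cases h5 : (u : P) * u = 1
  · exact (mem_center_iff.1 (h.central h5) v).symm
  obtain ⟨k, hk, -⟩ := h.reg _ _ h2 (h3 a ha) h5 (h3 u u.2)
  have h6 : ∀ x ∈ X, Commute x (k • a) := fun x hx => by
    simpa [commute_iff_eq] using congrArg (k • ·) (mem_centralizer_singleton_iff.1 (hc (hX k⁻¹ x hx)))
  have h7 := mem_center_iff.1 (h.central (x := u * (k • a)⁻¹) (by
    rw [(h6 u u.2).inv_right.symm.mul_mul_mul_comm, ← hk, smul_mul', ← mul_inv_rev, mul_inv_cancel])) v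
  rw [← mul_assoc, mul_assoc (u : P), ← (h6 v v.2).inv_right.eq, ← mul_assoc, mul_left_inj] at h7
  exact h7.symm)⟩⟩

variable {F : Type*} [Field F] [Fintype F] [CharP F 2] {ζ π : P → F} {δ χ : K → F}
  (hζ : Sec (Z P) ⊥ ζ δ)
include hζ

theorem pp_mul (hc : Commute x y) (hx : x ^ 2 ^ (i + 1) = 1) (hy : y ^ 2 ^ (i + 1) = 1) :
    pp ζ i (x * y) = pp ζ i x + pp ζ i y := by
  rw [pp, hc.mul_pow, hζ.add _ (h.pow_mem_Z hx) _ (h.pow_mem_Z hy)]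

omit h in
theorem pp_of_pow (hx : x ^ 2 ^ i = 1) : pp ζ i x = 0 := by rw [pp, hx, hζ.one]

omit hζ in
theorem pp_conj (hx : x ^ 2 ^ (i + 1) = 1) (u : P) : pp ζ i (u * x * u⁻¹) = pp ζ i x := by
  rw [pp, h.conj_pow_eq hx]

theorem pp_eq_zero (hx : x ^ 2 ^ (i + 1) = 1) : pp ζ i x = 0 ↔ x ^ 2 ^ i = 1 :=
  hζ.ker _ (h.pow_mem_Z hx)

theorem pp_smul (hx : x ^ 2 ^ (i + 1) = 1) (k : K) : pp ζ i (k • x) = δ k * pp ζ i x := by
  rw [pp, ← smul_pow', hζ.eqv _ _ (h.pow_mem_Z hx)]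

theorem sec_om (hA : IsMulCommutative A) (hi : Inv K A) (ha : a ∈ A) (h1 : a ^ 2 ^ (i + 1) = 1)
    (h2 : a ^ 2 ^ i ≠ 1) : Sec (Om hA (i + 1)) (Om hA i) (pp ζ i) δ := by
  refine ⟨fun x hx => ⟨hx.1, pow_mono hx.2 i.le_succ⟩, fun x hx y hy =>
    h.pp_mul hζ (commute_of hA hx.1 hy.1) hx.2 hy.2, fun x hx => (h.pp_eq_zero hζ hx.2).trans
      (and_iff_right hx.1).symm, fun c => ?_, hi.om hA _, fun k x hx => h.pp_smul hζ hx.2 k,
    hζ.onto, hζ.ne⟩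
  rcases eq_or_ne c 0 with rfl | hc
  · exact ⟨1, one_mem _, pp_of_pow hζ (one_pow _)⟩
  have h3 := (h.pp_eq_zero hζ h1).not.2 h2
  obtain ⟨k, hk⟩ := hζ.onto _ (div_ne_zero hc h3)
  exact ⟨k • a, hi.om hA _ k a ⟨ha, h1⟩, by rw [h.pp_smul hζ h1, hk, div_mul_cancel₀ _ h3]⟩

theorem om_le (hA : IsMulCommutative A) (hi : Inv K A) (hB : Inv K B) (hBA : B ≤ A) (i : ℕ) :
    ∀ b ∈ B, orderOf b = 2 ^ i → Om hA i ≤ B := by
  induction i with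
  | zero => exact fun _ _ _ x hx => (by simpa using hx.2 : x = 1) ▸ one_mem _
  | succ i ih =>
    intro b hb h1 x hx
    have h2 : b ^ 2 ^ (i + 1) = 1 := h1 ▸ pow_orderOf_eq_one b
    have h3 : b ^ 2 ^ i ≠ 1 := pow_ne_one_of_lt_orderOf (by positivity)
      (h1 ▸ Nat.pow_lt_pow_right (by norm_num) i.lt_succ_self)
    have h4 := ih (b ^ 2) (pow_mem hb 2) (by
      rw [orderOf_pow_of_dvd two_ne_zero (h1 ▸ dvd_pow_self 2 i.succ_ne_zero), h1, pow_succ]; simp)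
    have h5 := h.sec_om hζ (hA.1.1 |> fun _ => ⟨⟨fun x y => Subtype.ext
      (commute_of hA (hBA x.2) (hBA y.2))⟩⟩) hB hb h2 h3
    obtain ⟨y, hy, e⟩ := h5.surj (pp ζ i x)
    exact (mul_mem_cancel_left (inv_mem hy.1)).1
      (h4 (((h.sec_om hζ hA hi (hBA hb) h2 h3).eq_iff ⟨hBA hy.1, hy.2⟩ hx).1 e))

theorem exists_pow (hA : IsMulCommutative A) (hi : Inv K A) (h0 : a₀ ∈ A)
    (h1 : orderOf a₀ = 2 ^ (i + j)) (ha : a ∈ A) (h2 : a ^ 2 ^ i = 1) : ∃ c ∈ A, c ^ 2 ^ j = a := by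
  let B : Subgroup P :=
    { carrier := {x | ∃ c ∈ A, c ^ 2 ^ j = x}
      one_mem' := ⟨1, one_mem _, one_pow _⟩
      mul_mem' := by
        rintro _ _ ⟨c, hc, rfl⟩ ⟨d, hd, rfl⟩
        exact ⟨c * d, mul_mem hc hd, (commute_of hA hc hd).mul_pow _⟩
      inv_mem' := by
        rintro _ ⟨c, hc, rfl⟩
        exact ⟨c⁻¹, inv_mem hc, inv_pow _ _⟩ }
  refine h.om_le hζ hA hi (B := B) ?_ ?_ i _ ⟨a₀, h0, rfl⟩ ?_ ⟨ha, h2⟩
  · rintro k _ ⟨c, hc, rfl⟩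
    exact ⟨k • c, hi k c hc, (smul_pow' _ _ _).symm⟩
  · rintro _ ⟨c, hc, rfl⟩
    exact pow_mem hc _
  · rw [orderOf_pow_of_dvd (by positivity) (h1 ▸ pow_dvd_pow 2 (by omega)), h1, pow_add]
    simp

theorem mem_of_comm (hA : NA K A C) (h0 : a₀ ∈ A) (h1 : orderOf a₀ = 2 ^ (e + 2)) (hu : u ∈ C)
    (h2 : u * u ∈ A) (h3 : (u * u) ^ 2 ^ (e + 1) = 1) (h4 : ∀ a ∈ A, ⁅u, a⁆ ^ 2 ^ e = 1) : u ∈ A := by
  have hc := fun {x y} => commute_of (x := x) (y := y) hA.comm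
  have key : ∀ i ≤ e + 1, ∀ a ∈ A, a ^ 2 ^ i = 1 → ∃ b ∈ A, u * b * u⁻¹ * b = a := fun i => by
    induction i with
    | zero => exact fun _ a _ ha => ⟨1, one_mem _, by simpa using ha.symm⟩
    | succ i ih =>
      intro hi a ha h5
      obtain ⟨j, rfl⟩ := Nat.exists_eq_add_of_le (show i ≤ e by omega)
      obtain ⟨c, h6, rfl⟩ := h.exists_pow hζ hA.comm hA.left h0 (i := i + 1) (j := j + 1)
        (h1.trans (by congr 1; omega)) ha h5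
      obtain ⟨b, hb, h7⟩ := ih (by omega) _ (inv_mem (pow_mem (hA.comm_mem hu h6) (2 ^ j))) (by
        rw [inv_pow, ← pow_mul, ← pow_add, add_comm, h4 c h6, inv_one])
      have h8 := pow_mem h6 (2 ^ j)
      refine ⟨b * c ^ 2 ^ j, mul_mem hb h8, ?_⟩
      rw [← conj_mul, (hc (hA.conj u hu _ h8) hb).mul_mul_mul_comm, h7, commutatorElement_def,
        (hc (hA.conj u hu c h6) (inv_mem h6)).mul_pow, conj_pow, pow_succ, pow_mul, sq]
      group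
  obtain ⟨b, hb, h5⟩ := key _ le_rfl _ h2 h3
  have h6 : u * b⁻¹ ∈ Z P := h.mem_Z.2 (by
    rw [show u * b⁻¹ * (u * b⁻¹) = (u * b * u⁻¹)⁻¹ * (u * u) * b⁻¹ by group, ← h5]; group)
  refine (mul_mem_cancel_right (inv_mem hb)).1 ((h.cov_Z.min (A ⊓ Z P) (hA.left.inf h.inv_Z) bot_le
    inf_le_right).elim (fun e' => ?_) (fun e => (e.ge h6).1))
  exact absurd (e'.le ⟨pow_mem h0 _, h.pow_mem_Z (h1 ▸ pow_orderOf_eq_one a₀)⟩)
    (pow_ne_one_of_lt_orderOf (by positivity) (h1 ▸ Nat.pow_lt_pow_right (by norm_num) (by omega)))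

theorem pp_left (hA : NA K A C) (hu : u ∈ C) (h1 : ⁅u, v⁆ ∈ Om hA.comm (i + 1))
    (h2 : ⁅x, v⁆ ∈ Om hA.comm (i + 1)) : pp ζ i ⁅u * x, v⁆ = pp ζ i ⁅u, v⁆ + pp ζ i ⁅x, v⁆ := by
  rw [show ⁅u * x, v⁆ = u * ⁅x, v⁆ * u⁻¹ * ⁅u, v⁆ by simp only [commutatorElement_def]; group,
    h.pp_mul hζ (commute_of hA.comm (hA.conj u hu _ h2.1) h1.1) (by rw [conj_pow, h2.2]; simp) h1.2,
    h.pp_conj h2.2, add_comm]

theorem pp_right (hA : NA K A C) (hv : v ∈ C) (h1 : ⁅u, v⁆ ∈ Om hA.comm (i + 1))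
    (h2 : ⁅u, x⁆ ∈ Om hA.comm (i + 1)) : pp ζ i ⁅u, v * x⁆ = pp ζ i ⁅u, v⁆ + pp ζ i ⁅u, x⁆ := by
  rw [show ⁅u, v * x⁆ = ⁅u, v⁆ * (v * ⁅u, x⁆ * v⁻¹) by simp only [commutatorElement_def]; group,
    h.pp_mul hζ (commute_of hA.comm h1.1 (hA.conj v hv _ h2.1)) h1.2 (by rw [conj_pow, h2.2]; simp),
    h.pp_conj h2.2]

theorem exists_ne {X Y : Subgroup P} (_ : Sec X Y π χ) : ∃ c : F, c ≠ 0 ∧ c ≠ 1 := by
  obtain ⟨x, y, h1, h2, h3, h4, h5⟩ := h.two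
  have h6 := (hζ.ker x (h.mem_Z.2 h3)).not.2 h2
  have h7 := (hζ.ker y (h.mem_Z.2 h5)).not.2 h4
  by_contra! h8
  exact h1 (inv_mul_eq_one.1 ((hζ.eq_iff (h.mem_Z.2 h3) (h.mem_Z.2 h5)).1 ((h8 _ h6).trans (h8 _ h7).symm)))

variable (hA : NA K A C) (hπ : Sec C A π χ) (h0 : a₀ ∈ A) (h1 : orderOf a₀ = 2 ^ (e + 2))
  (h2 : ∀ a ∈ A, a ^ 2 ^ (e + 2) = 1)
include hA hπ h0 h1 h2

theorem exists_beta : ∃ B : F →+ F →+ F, (∀ u ∈ C, ∀ a ∈ A, pp ζ e ⁅u, a⁆ = B (π u) (pp ζ (e + 1) a)) ∧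
    ∀ k s t, B (χ k * s) (δ k * t) = δ k * B s t := by
  have h3 : ∀ u ∈ C, ∀ a ∈ Om hA.comm (e + 2), ⁅u, a⁆ ∈ Om hA.comm (e + 1) := fun u hu a ha =>
    ⟨hA.comm_mem hu ha.1, h.comm_pow hA hu ha.1 ha.2⟩
  obtain ⟨B, h4, h5⟩ := hπ.bilin (h.sec_om hζ hA.comm hA.left h0 (h2 _ h0)
    (pow_ne_one_of_lt_orderOf (by positivity) (h1 ▸ Nat.pow_lt_pow_right (by norm_num) (by omega))))
    (fun u a => pp ζ e ⁅u, a⁆) (δ := δ)
    (fun u hu v hv a ha => h.pp_left hζ hA hu (h3 u hu a ha) (h3 v hv a ha))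
    (fun u hu a ha b hb => h.pp_right hζ hA (hA.le ha.1) (h3 u hu a ha) (h3 u hu b hb))
    (fun u hu a ha => pp_of_pow hζ (by simp [(commute_of hA.comm hu ha.1).commutator_eq]))
    (fun u hu a ha => pp_of_pow hζ (h.comm_pow hA hu ha.1 ha.2))
    fun k u hu a ha => by rw [← smul_comm', h.pp_smul hζ (h3 u hu a ha).2]
  exact ⟨B, fun u hu a ha => h4 u hu a ⟨ha, h2 a ha⟩, h5⟩

theorem theta (h3 : ∀ u ∈ C, (u * u) ^ 2 ^ (e + 1) = 1) : ∃ (c : F) (σ τ : F ≃+* F), c ≠ 0 ∧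
    ∀ u ∈ C, ∀ a ∈ A, pp ζ e ⁅u, a⁆ = c * (σ (π u) * τ (pp ζ (e + 1) a)) := by
  obtain ⟨B, h4, h5⟩ := h.exists_beta hζ hA hπ h0 h1 h2
  obtain ⟨c, σ, τ, h6⟩ := exists_mono h5 fun p p' => uniq5 hζ.onto hπ.ne (by
    obtain ⟨c, h6, h7⟩ := h.exists_ne hζ hπ
    obtain ⟨k, rfl⟩ := hπ.onto c h6
    exact ⟨k, h7⟩) hζ.ne
  refine ⟨c, σ, τ, ?_, fun u hu a ha => (h4 u hu a ha).trans (h6 _ _)⟩
  rintro rfl
  obtain ⟨u, hu, h7⟩ := hπ.surj 1
  refine one_ne_zero (h7.symm.trans ((hπ.ker u hu).2 (h.mem_of_comm hζ hA h0 h1 hu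
    ((hπ.ker _ (mul_mem hu hu)).1 (by rw [hπ.add u hu u hu, CharTwo.add_self_eq_zero])) (h3 u hu)
    fun a ha => (h.pp_eq_zero hζ (h.comm_pow hA hu ha (h2 a ha))).1 ?_)))
  rw [h4 u hu a ha, h6, zero_mul]

theorem caseA1 (h3 : ∀ u ∈ C, (u * u) ^ 2 ^ (e + 1) = 1) : e = 0 := by
  by_contra he
  obtain ⟨c, σ, τ, hc, h4⟩ := h.theta hζ hA hπ h0 h1 h2 h3
  have hs := h.sec_om hζ hA.comm hA.left h0 (h2 _ h0)
    (pow_ne_one_of_lt_orderOf (by positivity) (h1 ▸ Nat.pow_lt_pow_right (by norm_num) (by omega)))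
  have key : ∀ u ∈ C, π u ≠ 0 → c * σ (π u) = 1 := fun u hu h5 => by
    obtain ⟨a, ha, h6⟩ := hs.surj (τ.symm (c * σ (π u))⁻¹)
    have h7 := hA.comm_mem hu ha.1
    obtain ⟨b, hb, h8⟩ := h.exists_pow hζ hA.comm hA.left h0 (i := e + 1) (j := 1) h1 h7
      (h.comm_pow hA hu ha.1 ha.2)
    have h9 : pp ζ (e + 1) b = 1 := by
      rw [← pp_sq, ← sq, show b ^ 2 = _ from h8, h4 u hu a ha.1, h6,
        RingEquiv.apply_symm_apply, ← mul_assoc, mul_inv_cancel₀ (by simp [hc, h5])]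
    have h10 := hA.comm_mem hu hb
    have h11 : (⁅u, b⁆ * (b * b)) ^ 2 ^ 1 = 1 := by
      have e1 : ⁅u * u, a⁆ = 1 := (commute_of hA.comm ((hπ.ker _ (mul_mem hu hu)).1
        (by rw [hπ.add u hu u hu, CharTwo.add_self_eq_zero])) ha.1).commutator_eq
      rw [show ⁅u * u, a⁆ = u * ⁅u, a⁆ * u⁻¹ * ⁅u, a⁆ by simp only [commutatorElement_def]; group,
        ← h8, ← conj_pow, ← (commute_of hA.comm (hA.conj u hu b hb) hb).mul_pow] at e1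
      rw [← e1, commutatorElement_def]
      congr 1; group
    have h12 := (h.pp_eq_zero hζ (pow_mono h11 (by omega))).2 (pow_mono h11 (j := e) (by omega))
    rw [h.pp_mul hζ (commute_of hA.comm h10 (mul_mem hb hb)) (h.comm_pow hA hu hb (h2 b hb))
      (by rw [sq_pow, h2 b hb]), h4 u hu b hb, pp_sq, h9, map_one, mul_one] at h12
    exact CharTwo.add_eq_zero.1 h12
  obtain ⟨d, h5, h6⟩ := h.exists_ne hζ hπ
  obtain ⟨u, hu, rfl⟩ := hπ.surj d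
  obtain ⟨v, hv, h7⟩ := hπ.surj 1
  exact h6 (h7 ▸ σ.injective (mul_left_cancel₀ hc ((key u hu h5).trans
    (key v hv (h7 ▸ one_ne_zero)).symm)))

theorem caseA2 (hu : u ∈ C) (h3 : (u * u) ^ 2 ^ (e + 1) ≠ 1) : IsMulCommutative C := by
  classical
  have hsq : ∀ u ∈ C, u * u ∈ A := fun u hu =>
    (hπ.ker _ (mul_mem hu hu)).1 (by rw [hπ.add u hu u hu, CharTwo.add_self_eq_zero])
  have hS : Sq C ≤ A := Sq_le.2 hsq
  have hAS : A ≤ Sq C := fun a ha => h.om_le hζ hA.comm hA.left hA.right.Sq hS (e + 2) _ (sq_mem_Sq hu)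
    (orderOf_eq_prime_pow h3 (h2 _ (hsq u hu))) ⟨ha, h2 a ha⟩
  have hcm : ∀ x ∈ C, ∀ y ∈ C, ⁅x, y⁆ ∈ A := fun x hx y hy => hS (comm_mem_Sq hx hy)
  have hex : ∃ j, ∀ x ∈ C, ∀ y ∈ C, ⁅x, y⁆ ^ 2 ^ j = 1 := ⟨_, fun x hx y hy => h2 _ (hcm x hx y hy)⟩
  have h4 := Nat.find_spec hex
  have h5 : Nat.find hex ≤ e + 2 := Nat.find_min' hex fun x hx y hy => h2 _ (hcm x hx y hy)
  have h6 := @Nat.find_min _ _ hex
  generalize Nat.find hex = j at h4 h5 h6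
  rcases j with _ | j
  · exact ⟨⟨fun x y => Subtype.ext (commutatorElement_eq_one_iff_mul_comm.1
      (by simpa using h4 x x.2 y y.2))⟩⟩
  exfalso
  have h7 : ∀ x ∈ C, ∀ y ∈ C, ⁅x, y⁆ ∈ Om hA.comm (j + 1) := fun x hx y hy => ⟨hcm x hx y hy, h4 x hx y hy⟩
  have l := fun x hx y hy z hz => h.pp_left hζ hA (u := x) (x := y) (v := z) hx (h7 x hx z hz) (h7 y hy z hz)
  have r := fun x hx y hy z hz => h.pp_right hζ hA (u := x) (v := y) (x := z) hy (h7 x hx y hy) (h7 x hx z hz)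
  have kill : ∀ g : P → F, (∀ x ∈ C, ∀ y ∈ C, g (x * y) = g x + g y) → ∀ a ∈ A, g a = 0 := fun g hg a ha => by
    have e1 : g 1 = 0 := by simpa using hg 1 (one_mem _) 1 (one_mem _)
    induction hAS ha using closure_induction with
    | mem x hx => obtain ⟨x, hx, rfl⟩ := hx; rw [hg x hx x hx, CharTwo.add_self_eq_zero]
    | one => exact e1
    | mul x y hx hy e2 e3 =>
      rw [hg x (Sq_le_self hx) y (Sq_le_self hy), e2 (hS hx), e3 (hS hy), add_zero]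
    | inv x hx e2 => simpa [e1, e2 (hS hx)] using (hg x (Sq_le_self hx) _ (inv_mem (Sq_le_self hx))).symm
  obtain ⟨B, h8, h9⟩ := hπ.bilin hπ (fun x y => pp ζ j ⁅x, y⁆) (δ := δ) l r
    (fun x hx y hy => kill (fun x => pp ζ j ⁅x, y⁆) (fun x hx z hz => l x hx z hz y hy) x hx)
    (fun x hx => kill _ (r x hx)) fun k x hx y hy => by rw [← smul_comm', h.pp_smul hζ (h4 x hx y hy)]
  obtain ⟨x, hx, y, hy, h10⟩ : ∃ x ∈ C, ∃ y ∈ C, ⁅x, y⁆ ^ 2 ^ j ≠ 1 := by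
    simpa using h6 j.lt_succ_self
  obtain ⟨σ, τ, hne, h11⟩ := exists_ne_of_alt h9 hπ.onto (fun s => by
    obtain ⟨x, hx, rfl⟩ := hπ.surj s
    rw [← h8 x hx x hx]
    exact pp_of_pow hζ (by simp)) (h8 x hx y hy ▸ (h.pp_eq_zero hζ (h4 x hx y hy)).not.2 h10)
  have h12 := (h.pp_eq_zero hζ (h2 _ (hsq u hu))).not.2 h3
  rcases h5.eq_or_lt with h5 | h5
  · obtain rfl : j = e + 1 := by omega
    obtain ⟨B', h13, h14⟩ := h.exists_beta hζ hA hπ h0 h1 h2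
    have h15 : ∀ p : (F ≃+* F) × (F ≃+* F), (∀ k, p.1 (χ k) * p.2 (δ k) = δ k) →
        ∀ x, p.swap.1 (σ x * τ x) * p.swap.2 x = σ x * τ x := fun p hp x => by
      rcases eq_or_ne x 0 with rfl | hx
      · simp
      obtain ⟨k, rfl⟩ := hπ.onto x hx
      rw [h11, mul_comm]; exact hp k
    obtain ⟨c, α, β, h16⟩ := exists_mono h14 fun p p' hp hp' =>
      Prod.swap_injective (uniq3 hne (h15 p hp) (h15 p' hp'))
    have h17 := h13 u hu _ (hsq u hu)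
    rw [((Commute.refl u).mul_right (Commute.refl u)).commutator_eq, h16, pp_of_pow hζ (one_pow _),
      eq_comm] at h17
    simp only [mul_eq_zero, map_eq_zero, h12, or_false] at h17
    rcases h17 with rfl | h17
    · have h18 := h13 x hx _ (hcm x hx y hy)
      have h19 := h13 y hy _ (hsq x hx)
      rw [h16, zero_mul] at h18 h19
      have h20 := hcm x hx y hy
      have h21 := h.pp_mul hζ (commute_of hA.comm (hA.comm_mem hx h20) (mul_mem h20 h20))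
        (h.comm_pow hA hx h20 (h2 _ h20)) (by rw [sq_pow, h2 _ h20])
      rw [h18, zero_add, show ⁅x, ⁅x, y⁆⁆ * (⁅x, y⁆ * ⁅x, y⁆) = ⁅y, x * x⁆⁻¹ by
        simp [commutatorElement_def, mul_assoc], pp_of_pow hζ (by rw [inv_pow, (h.pp_eq_zero hζ
          (h.comm_pow hA hy (hsq x hx) (h2 _ (hsq x hx)))).1 h19, inv_one]), pp_sq] at h21
      exact h10 ((h.pp_eq_zero hζ (h2 _ h20)).1 h21.symm)
    · exact h3 (by rw [sq_pow, h2 u ((hπ.ker u hu).1 h17)])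
  · obtain ⟨T, hT⟩ := hπ.lift (fun x => pp ζ (e + 1) (x * x)) (fun x hx y hy => by
      have e1 := hcm _ (inv_mem hx) y hy
      have e2 := pow_mono (h4 _ (inv_mem hx) y hy) (j := e + 1) (by omega)
      rw [show x * y * (x * y) = x * x * (⁅x⁻¹, y⁆ * (y * y)) by
        simp only [commutatorElement_def]; group, h.pp_mul hζ (commute_of hA.comm (hsq x hx)
        (mul_mem e1 (hsq y hy))) (h2 _ (hsq x hx)) (h2 _ (mul_mem e1 (hsq y hy))),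
        h.pp_mul hζ (commute_of hA.comm e1 (hsq y hy)) (h2 _ e1) (h2 _ (hsq y hy)), pp_of_pow hζ e2,
        zero_add]) fun a ha => pp_of_pow hζ (by rw [sq_pow, h2 a ha])
    obtain ⟨w, hw, h13⟩ := hπ.surj 1
    have h14 : ∀ s, T s = σ s * τ s * T 1 := fun s => by
      rcases eq_or_ne s 0 with rfl | hs
      · simp
      obtain ⟨k, rfl⟩ := hπ.onto s hs
      rw [h11, ← h13, ← hT w hw, ← h.pp_smul hζ (h2 _ (hsq w hw)), smul_mul', hT _ (hπ.inv k w hw),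
        hπ.eqv k w hw, h13, mul_one]
    have h15 : T 1 ≠ 0 := fun e => h12 (by rw [hT u hu, h14, e, mul_zero])
    refine hne (RingEquiv.ext fun s => CharTwo.add_eq_zero.1 (mul_right_cancel₀ h15 ?_))
    have := h14 (s + 1)
    simp only [map_add, map_one] at this
    linear_combination h14 s - this

end HS

end Cfsg.Agent.Hig
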