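import Cfsg.Agent.Lib.Char.Hig2
import Cfsg.Prelude.Def_LieRecognition

/-!
Higman's theorem on Suzuki 2-groups.
-/

set_option autoImplicit false
set_option linter.unusedSectionVars false

namespace Cfsg.Agent.Hig

open Subgroup
open scoped commutatorElement

variable {P K : Type*} [Group P] [Finite P] [Group K] [MulDistribMulAction K P]
  {X Y A B C R : Subgroup P} {x y u v a a₀ : P} {k : K} {i j e : ℕ}
  {F : Type*} [Field F] [Fintype F] [CharP F 2] {ζ π : P → F} {δ χ : K → F}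

theorem fld {T : F →+ F} {c : F} {σ τ : F ≃+* F} (hc : c ≠ 0) (h : ∀ s, T s = c * (σ s * τ (T s))) :
    (∀ s, T s = σ s * σ s * T 1) ∧ (T 1 = 0 ∨ T 1 = c * c) := by
  have h1 : ∀ s, τ (T s) = σ s * τ (T 1) := fun s => CharTwo.add_eq_zero.1 (mul_left_cancel₀ hc (by
    have e1 := h (s + 1)
    have e2 := h 1
    simp only [map_add, map_one] at e1 e2
    linear_combination h s + e2 - e1))
  have h2 : T 1 = c * τ (T 1) := by simpa using h 1
  have h3 : ∀ s, T s = σ s * σ s * T 1 := fun s => by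
    rw [h s, h1 s]; linear_combination -(σ s * σ s) * h2
  refine ⟨h3, or_iff_not_imp_left.2 fun h4 => ?_⟩
  have h5 : τ (T 1) ≠ 0 := by simpa using h4
  have h6 := h1 (σ.symm (T 1))
  rw [h3, σ.apply_symm_apply, map_mul, map_mul, mul_left_inj' h5] at h6
  rw [h2, mul_right_cancel₀ h5 (h6.trans h2)]

theorem Sec.card (h : Sec X Y π χ) : Nat.card X = Fintype.card F * Nat.card Y := by
  let f : X →* Multiplicative F := MonoidHom.mk' (fun x => .ofAdd (π x)) fun x y => h.add x x.2 y y.2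
  have h1 : f.ker = Y.subgroupOf X := Subgroup.ext fun x => h.ker x x.2
  have h2 : f.range = ⊤ := MonoidHom.range_eq_top.2 fun c => by
    obtain ⟨x, hx, e⟩ := h.surj c.toAdd
    exact ⟨⟨x, hx⟩, e⟩
  rw [← f.ker.index_mul_card, index_ker, h2, h1, card_top,
    Nat.card_congr (subgroupOfEquivOfLe h.le).toEquiv, Nat.card_eq_fintype_card, Fintype.card_multiplicative]

open MvPolynomial in
theorem card_le_of_aniso {W V : Type*} [AddCommGroup W] [Module (ZMod 2) W] [Finite W] [AddCommGroup V]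
    [Module (ZMod 2) V] [Finite V] (B : W →+ W →+ V) (h : ∀ x, B x x = 0 → x = 0) :
    Nat.card W ≤ Nat.card V ^ 2 := by
  classical
  let b := Module.finBasis (ZMod 2) W
  let c := Module.finBasis (ZMod 2) V
  let f := fun l => ∑ i, ∑ j, C (c.repr (B (b i) (b j)) l) * (X i * X j)
  have h1 : ∀ l, (f l).totalDegree ≤ 2 := fun l =>
    totalDegree_finsetSum_le fun i _ => totalDegree_finsetSum_le fun j _ =>
      (totalDegree_mul _ _).trans (by simpa using (totalDegree_mul _ _).trans (by simp))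
  rw [Module.natCard_eq_pow_finrank (K := ZMod 2) (V := W), Module.natCard_eq_pow_finrank (K := ZMod 2)
    (V := V), ← pow_mul]
  refine Nat.pow_le_pow_right (by simp) (not_lt.1 fun h2 => ?_)
  have h3 := char_dvd_card_solutions_of_fintype_sum_lt 2 (f := f)
    ((Finset.sum_le_card_nsmul _ _ 2 fun l _ => h1 l).trans_lt (by simpa using h2))
  rw [← @Nat.card_eq_fintype_card _ (_), Nat.card_eq_one_iff_exists.2 ⟨⟨0, fun l => by simp [f]⟩, fun x => Subtype.ext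
    (b.equivFun.symm.map_eq_zero_iff.1 (h _ (c.repr.injective (Finsupp.ext fun l => ?_))))⟩] at h3
  · omega
  have h4 := x.2 l
  have h5 : ∀ (r s : ZMod 2) u v, B (r • u) (s • v) = (r * s) • B u v := fun r s u v => by
    rw [ZMod.map_smul, ← B.flip_apply, ZMod.map_smul, B.flip_apply, smul_smul, mul_comm]
  simp only [f, map_sum, map_mul, eval_C, eval_X] at h4
  simp only [map_zero, Finsupp.zero_apply, ← h4, Module.Basis.equivFun_symm_apply, map_sum,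
    AddMonoidHom.finsetSum_apply, h5, Finsupp.finsetSum_apply, map_smul, Finsupp.smul_apply, smul_eq_mul]
  rw [Finset.sum_comm]
  exact Finset.sum_congr rfl fun i _ => Finset.sum_congr rfl fun j _ => mul_comm _ _

theorem odd_orderOf {φ : F ≃+* F} (h : ∀ x, x * φ x = 1 → x = 1) : Odd (orderOf φ) := by
  have key : ∀ σ : F ≃+* F, Nat.card F = Nat.card {x // σ x = x} ^ orderOf σ := fun σ => by
    have := Fintype.ofFinite (zpowers σ)
    have h1 := FixedPoints.finrank_eq_card (zpowers σ) F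
    rw [← Nat.card_eq_fintype_card, Nat.card_zpowers] at h1
    rw [← h1, Module.natCard_eq_pow_finrank (K := FixedPoints.subfield (zpowers σ) F)]
    congr 1
    refine Nat.card_congr (Equiv.subtypeEquivRight fun x => ⟨fun h => h ⟨σ, mem_zpowers σ⟩, fun h g =>
      zpowers_le.2 (show σ ∈ MulAction.stabilizer (F ≃+* F) x from h) g.2⟩)
  by_contra h1
  obtain ⟨m, hm⟩ := (Nat.not_odd_iff_even.1 h1).two_dvd
  have h2 := key (φ ^ 2)
  rw [orderOf_pow_of_dvd two_ne_zero ⟨m, hm⟩, hm, Nat.card_congr (Equiv.subtypeEquivRight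
    (q := fun x => φ x = x) fun y => ⟨fun e => by
      rcases eq_or_ne y 0 with rfl | hy
      · simp
      refine (div_eq_one_iff_eq hy).1 (h _ ?_)
      rw [map_div₀, show φ (φ y) = y from e]; field_simp [hy], fun e => by simp [sq, e]⟩), key φ, hm] at h2
  have h3 : Nontrivial {x // φ x = x} := ⟨⟨0, by simp⟩, ⟨1, by simp⟩, by simp⟩
  have h4 := Nat.pow_right_injective Finite.one_lt_card h2
  have := orderOf_pos φ
  omega

namespace HS

variable (h : HS P K) (hζ : Sec (Z P) ⊥ ζ δ) (hF : Fintype.card F = Nat.card K + 1)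
include h hζ hF

theorem exp_of_cov (hA : NA K A C) (hc : Cov K A C) (hn : ¬ IsMulCommutative C) :
    ∀ x ∈ C, x ^ 2 ^ 2 = 1 := by
  classical
  obtain ⟨π, χ, hπ⟩ := h.exists_sec hF hc
  have hsq := Sq_le.1 (h.Sq_le_of_cov hc)
  obtain ⟨n, hn'⟩ := IsPGroup.iff_card.1 h.pg
  have hex : ∃ m, ∀ a ∈ A, a ^ 2 ^ m = 1 := ⟨n, fun a _ => hn' ▸ pow_card_eq_one'⟩
  have h1 := Nat.find_spec hex
  have h2 := @Nat.find_min _ _ hex
  generalize Nat.find hex = m at h1 h2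
  intro x hx
  rw [← sq_pow]
  rcases m with _ | _ | e
  · exact pow_mono (h1 _ (hsq x hx)) (by omega)
  · exact h1 _ (hsq x hx)
  obtain ⟨a, ha, h3⟩ : ∃ a ∈ A, a ^ 2 ^ (e + 1) ≠ 1 := by simpa using h2 (e + 1).lt_succ_self
  have h4 := orderOf_eq_prime_pow h3 (h1 a ha)
  have h5 : ∀ u ∈ C, (u * u) ^ 2 ^ (e + 1) = 1 := fun u hu =>
    not_not.1 fun h5 => hn (h.caseA2 hζ hA hπ ha h4 h1 hu h5)
  obtain rfl := h.caseA1 hζ hA hπ ha h4 h1 h5
  exact h5 x hx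

theorem caseB (hA : NA K (Sq R) R) (h0 : a₀ ∈ Sq R) (h1 : orderOf a₀ = 2 ^ 2)
    (hc : Cov K (Sq R) B) (hB : B ≤ R) (h2 : ∀ u ∈ B, u ^ 2 ^ 2 = 1) : False := by
  obtain ⟨π, χ, hπ⟩ := h.exists_sec hF hc
  have h3 := fun a ha => h2 a (hc.lt.le ha)
  have h4 := fun u hu => (sq_pow u 1).trans (h2 u hu)
  obtain ⟨c, σ, τ, h5, h6⟩ := h.theta hζ (e := 0)
    ⟨hA.comm, hA.left, hc.right, hc.lt.le, fun u hu => hA.conj u (hB hu)⟩ hπ h0 h1 h3 h4
  have h7 : ∀ x ∈ R, ∀ y ∈ R, ⁅x, y⁆ ∈ Om hA.comm (1 + 1) := fun x hx y hy =>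
    ⟨comm_mem_Sq hx hy, h3 _ (comm_mem_Sq hx hy)⟩
  obtain ⟨w, hw, h8⟩ := hπ.surj 1
  have h9 : ∀ v ∈ R, (∀ u ∈ B, pp ζ 1 ⁅u, v⁆ = σ (π u) * σ (π u) * pp ζ 1 ⁅w, v⁆) ∧
      (pp ζ 1 ⁅w, v⁆ = 0 ∨ pp ζ 1 ⁅w, v⁆ = c * c) := fun v hv => by
    obtain ⟨T, hT⟩ := hπ.lift (fun u => pp ζ 1 ⁅u, v⁆) (fun u hu x hx => h.pp_left hζ hA (hB hu)
      (h7 u (hB hu) v hv) (h7 x (hB hx) v hv)) fun a ha => pp_of_pow hζ (by
        rw [← commutatorElement_inv, inv_pow, h.comm_pow hA hv ha (h3 a ha), inv_one])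
    obtain ⟨e1, e2⟩ := fld (T := T) h5 fun s => by
      obtain ⟨u, hu, rfl⟩ := hπ.surj s
      have e1 := (h7 u (hB hu) v hv).1
      have e2 := h.pp_mul hζ (i := 0) (commute_of hA.comm (hA.comm_mem (hB hu) e1) (mul_mem e1 e1))
        (h.comm_pow hA (hB hu) e1 (h3 _ e1)) (h4 _ (hc.lt.le e1))
      rw [show ⁅u, ⁅u, v⁆⁆ * (⁅u, v⁆ * ⁅u, v⁆) = ⁅u * u, v⁆ by simp [commutatorElement_def, mul_assoc],
        commutatorElement_eq_one_iff_mul_comm.2 (mem_center_iff.1 (h.central (sq (u * u) ▸ h4 u hu)) v).symm,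
        pp_of_pow hζ (one_pow _), pp_sq, h6 u hu _ e1, hT u hu] at e2
      exact (CharTwo.add_eq_zero.1 e2.symm).symm
    rw [← h8, ← hT w hw] at e1 e2
    exact ⟨fun u hu => (hT u hu).trans (e1 _), e2⟩
  obtain ⟨k, hk⟩ := h.exists_ne_one
  have h10 : ∀ v ∈ R, ⁅w, v⁆ ∈ Z P := fun v hv => by
    obtain ⟨x, hx, rfl⟩ := h.surj hk hA.right hv
    have e1 := h.pp_right hζ hA hx (h7 w (hB hw) x hx) (h7 w (hB hw) _ hv)
    have e2 := h.pp_smul hζ (h7 w (hB hw) x hx).2 k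
    have e3 := hA.right k x hx
    rw [smul_comm', (h9 _ e3).1 _ (hc.right k w hw), hπ.eqv k w hw, h8, mul_one] at e2
    have e4 : pp ζ 1 ⁅w, k • x⁆ = pp ζ 1 ⁅w, x⁆ := by
      rcases (h9 _ e3).2 with e | e <;> rcases (h9 _ hx).2 with e' | e'
      · rw [e, e']
      · simp [e, e', hζ.ne, h5] at e2
      · simp [e, e', hπ.ne, h5] at e2
      · rw [e, e']
    rw [mul_inv_cancel_left, e4, left_eq_add, h.pp_eq_zero hζ (h7 w (hB hw) _ hv).2] at e1
    exact h.mem_Z.2 (by rw [← sq]; exact e1)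
  have h11 := h6 w hw _ h0
  rw [commutatorElement_eq_one_iff_mul_comm.2 (mem_centralizer_singleton_iff.1
    (h.commute_Sq h10 h0)).symm, pp_of_pow hζ (one_pow _), h8, eq_comm] at h11
  simp only [map_one, one_mul, mul_eq_zero, h5, map_eq_zero, false_or] at h11
  exact pow_ne_one_of_lt_orderOf (by positivity) (h1 ▸ by norm_num) ((h.pp_eq_zero hζ (h3 _ h0)).1 h11)

theorem exp_four (R : Subgroup P) : Inv K R → ¬ IsMulCommutative R → ∀ x ∈ R, x ^ 2 ^ 2 = 1 := by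
  induction R using WellFoundedLT.induction with | ind R ih
  intro hR hn
  by_cases h1 : ∃ A, Cov K A R ∧ IsMulCommutative A
  · obtain ⟨A, h1, h2⟩ := h1
    exact h.exp_of_cov hζ hF ⟨h2, h1.left, hR, h1.lt.le, fun u hu a ha =>
      conj_mem_of_Sq_le (h.Sq_le_of_cov h1) h1.lt.le hu ha⟩ h1 hn
  push Not at h1
  have h2 : ∀ B, Inv K B → B < R → ∀ x ∈ B, x ^ 2 ^ 2 = 1 := fun B hB h2 x hx => by
    obtain ⟨M, h3, h4⟩ := exists_max hB hR h2
    exact ih M h4.lt h4.left (h1 M h4) x (h3 hx)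
  intro x hx
  by_contra h3
  have h4 : Sq R < R := by
    simpa using h.Sq_sup_lt (Y := ⊥) (bot_lt_iff_ne_bot.2 fun e => h3 (by simp [mem_bot.1 (e.le hx)]))
  have h5 := h2 _ hR.Sq h4
  have h6 := fun u hu a => conj_mem_of_Sq_le (x := u) (y := a) le_rfl h4.le hu
  obtain ⟨a, ha, h7, -, h8⟩ := Solv.exists_central_mod_pow (L := R) (N := Z P)
    (h.pg.to_subgroup R).isNilpotent (h.pg.to_subgroup (Sq R)) h4.le (Solv.le_normalizer_of_conj_mem h6)
    (Solv.le_normalizer_of_conj_mem fun g _ z hz => by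
      rwa [mem_center_iff.1 hz.1, mul_inv_cancel_right])
    fun e => h3 (by rw [← sq_pow, pow_one, sq, h.mem_Z.1 (e (sq_mem_Sq hx))])
  have h9 := h.comm_of_central hR.Sq h5 ha (h.commute_Sq h8) (mt h.mem_Z.2 h7)
  obtain ⟨B, h10, h11⟩ := exists_min hR.Sq hR h4
  exact h.caseB hζ hF ⟨h9, hR.Sq, hR, h4.le, h6⟩ (sq_mem_Sq hx)
    (orderOf_eq_prime_pow (n := 1) (sq_pow x 1 ▸ h3) (h5 _ (sq_mem_Sq hx))) h11 h10
    (h2 B h11.right (h10.lt_of_ne fun e => h1 _ (e ▸ h11) h9))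

omit hζ in
theorem card_pow (X : Subgroup P) : Inv K X → ∃ m, Nat.card X = Fintype.card F ^ m := by
  induction X using WellFoundedLT.induction with | ind X ih
  intro hX
  rcases eq_or_ne X ⊥ with rfl | h1
  · exact ⟨0, by simp⟩
  obtain ⟨M, -, h2⟩ := exists_max h.cov_Z.left hX h1.bot_lt
  obtain ⟨m, hm⟩ := ih M h2.lt h2.left
  obtain ⟨π, χ, h3⟩ := h.exists_sec hF h2
  exact ⟨m + 1, by rw [h3.card, hm, pow_succ']⟩

omit hζ hF in
theorem exists_zeta : ∃ (F : Type) (_ : Field F) (_ : Fintype F) (_ : CharP F 2) (ζ : P → F) (δ : K → F),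
    Fintype.card F = Nat.card K + 1 ∧ Sec (Z P) ⊥ ζ δ := by
  obtain ⟨F, _, _, ζ, δ, h1, h2⟩ := h.exists_sec0 h.cov_Z
  obtain ⟨x, hx, h3⟩ := h2.surj 1
  exact ⟨F, _, inferInstance, CharTwo.of_one_ne_zero_of_two_eq_zero one_ne_zero (by
    rw [← one_add_one_eq_two, ← h3, ← h2.add x hx x hx, h.mem_Z.1 hx, h2.one]), ζ, δ, h1, h2⟩

end HS

namespace HS

variable (h : HS P K) (hn : ∃ x y : P, x * y ≠ y * x)
include h hn

omit h in
theorem not_comm : ¬ IsMulCommutative (⊤ : Subgroup P) := fun e => by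
  obtain ⟨x, y, h⟩ := hn
  exact h (commute_of e trivial trivial)

theorem sq_mem_Z (x : P) : x * x ∈ Z P := by
  obtain ⟨F, _, _, _, ζ, δ, h1, h2⟩ := h.exists_zeta
  refine h.mem_Z.2 ?_
  rw [← h.exp_four h2 h1 ⊤ inv_top (not_comm hn) x trivial, ← sq_pow, pow_one, sq]

theorem center_eq : center P = Z P := le_antisymm (fun z hz => h.mem_Z.2 (by
  by_contra h1
  exact not_comm hn (h.comm_of_central inv_top (fun x _ => by
    rw [← sq_pow, pow_one, sq, h.mem_Z.1 (h.sq_mem_Z hn x)]) trivial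
    (fun g _ => mem_centralizer_singleton_iff.2 (mem_center_iff.1 hz g)) h1))) fun _ hz => hz.1

theorem comm_mem_Z (x y : P) : ⁅x, y⁆ ∈ Z P :=
  Sq_le.2 (fun x _ => h.sq_mem_Z hn x) (comm_mem_Sq (X := ⊤) trivial trivial)

theorem Z_lt : Z P < ⊤ := lt_top_iff_ne_top.2 fun e =>
  not_comm hn ⟨⟨fun x y => Subtype.ext (mem_center_iff.1 (e.ge y.2).1 x)⟩⟩

theorem na_Z : NA K (Z P) ⊤ := ⟨⟨⟨fun x y => Subtype.ext (mem_center_iff.1 y.2.1 x)⟩⟩, h.inv_Z, inv_top,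
  le_top, fun g _ z hz => by rwa [mem_center_iff.1 hz.1, mul_inv_cancel_right]⟩

theorem zeta_left (hζ : Sec (Z P) ⊥ ζ δ) (x y z : P) : ζ ⁅x * y, z⁆ = ζ ⁅x, z⁆ + ζ ⁅y, z⁆ := by
  simpa [pp] using h.pp_left hζ (i := 0) (h.na_Z hn) trivial ⟨h.comm_mem_Z hn x z, (h.comm_mem_Z hn x z).2⟩
    ⟨h.comm_mem_Z hn y z, (h.comm_mem_Z hn y z).2⟩

theorem zeta_right (hζ : Sec (Z P) ⊥ ζ δ) (x y z : P) : ζ ⁅x, y * z⁆ = ζ ⁅x, y⁆ + ζ ⁅x, z⁆ := by
  simpa [pp] using h.pp_right hζ (i := 0) (h.na_Z hn) trivial ⟨h.comm_mem_Z hn x y, (h.comm_mem_Z hn x y).2⟩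
    ⟨h.comm_mem_Z hn x z, (h.comm_mem_Z hn x z).2⟩

theorem card_le : Nat.card P ≤ Nat.card (Z P) ^ 3 := by
  obtain ⟨F, _, _, _, ζ, δ, h1, h2⟩ := h.exists_zeta
  have : (Z P).Normal := ⟨fun z hz g => (h.na_Z hn).conj g trivial z hz⟩
  let _ : CommGroup (P ⧸ Z P) := { (inferInstance : Group (P ⧸ Z P)) with
    mul_comm := fun x y => by
      obtain ⟨x, rfl⟩ := QuotientGroup.mk_surjective x
      obtain ⟨y, rfl⟩ := QuotientGroup.mk_surjective y
      refine QuotientGroup.eq.2 ?_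
      simpa [commutatorElement_def, mul_assoc] using h.comm_mem_Z hn y⁻¹ x⁻¹ }
  let _ : Module (ZMod 2) (Additive (P ⧸ Z P)) := AddCommGroup.zmodModule fun x => by
    obtain ⟨x, rfl⟩ := QuotientGroup.mk_surjective x
    exact two_nsmul _ |>.trans ((QuotientGroup.eq_one_iff _).2 (h.sq_mem_Z hn x))
  let _ := ZMod.algebra F 2
  let q : Additive (P ⧸ Z P) → F := Quotient.lift (fun x => ζ (x * x)) fun x y e => by
    have h3 := QuotientGroup.leftRel_apply.1 e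
    rw [← mul_inv_cancel_left x y, (show Commute x _ from mem_center_iff.1 h3.1 x).symm.mul_mul_mul_comm,
      h.mem_Z.1 h3, mul_one]
  have h3 : ∀ x y, ζ (x * y * (x * y)) = ζ (x * x) + (ζ ⁅x⁻¹, y⁆ + ζ (y * y)) := fun x y => by
    rw [← h2.add _ (h.comm_mem_Z hn _ _) _ (h.sq_mem_Z hn _), ← h2.add _ (h.sq_mem_Z hn _) _
      (mul_mem (h.comm_mem_Z hn _ _) (h.sq_mem_Z hn _))]
    simp [commutatorElement_def, mul_assoc]
  obtain ⟨B, hB⟩ := exists_bilin_of_quad q ((congrArg ζ (one_mul 1)).trans h2.one) fun x y z => by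
    obtain ⟨x, rfl⟩ := QuotientGroup.mk_surjective x
    obtain ⟨y, rfl⟩ := QuotientGroup.mk_surjective y
    obtain ⟨z, rfl⟩ := QuotientGroup.mk_surjective z
    change ζ (x * y * z * (x * y * z)) + ζ (x * y * (x * y)) + ζ (x * z * (x * z)) + ζ (y * z * (y * z)) +
      ζ (x * x) + ζ (y * y) + ζ (z * z) = 0
    rw [h3, h3, h3, h3, mul_inv_rev, h.zeta_left hn h2]
    linear_combination (2 * (ζ (x * x) + ζ (y * y) + ζ (z * z)) + ζ ⁅x⁻¹, y⁆ + ζ ⁅x⁻¹, z⁆ + ζ ⁅y⁻¹, z⁆) *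
      (CharTwo.two_eq_zero (R := F))
  have h4 := card_le_of_aniso B fun x e => by
    obtain ⟨x, rfl⟩ := QuotientGroup.mk_surjective x
    exact (QuotientGroup.eq_one_iff _).2 (h.mem_Z.2 ((h2.ker _ (h.sq_mem_Z hn x)).1 ((hB _).trans e)))
  rw [Nat.card_eq_fintype_card (α := F), h1, ← h.card_Z.1] at h4
  rw [← (Z P).index_mul_card, pow_succ]
  exact Nat.mul_le_mul_right _ h4

theorem card_cases : Nat.card P = Nat.card (Z P) ^ 2 ∨ Nat.card P = Nat.card (Z P) ^ 3 := by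
  obtain ⟨F, _, _, _, ζ, δ, h1, h2⟩ := h.exists_zeta
  obtain ⟨m, hm⟩ := h.card_pow h1 ⊤ inv_top
  have h3 := h.card_le hn
  have h4 := Transfer.card_lt_of_lt (h.Z_lt hn)
  rw [h1, ← h.card_Z.1] at hm
  have h5 := (Z P).one_lt_card_iff_ne_bot.2 h.cov_Z.lt.ne'
  rw [hm] at h4
  rw [card_top] at hm
  rw [hm, Nat.pow_le_pow_iff_right h5] at h3
  have := (Nat.pow_lt_pow_iff_right h5).1 ((pow_one _).trans_lt h4)
  rw [hm]
  interval_cases m <;> simp

theorem exists_typeA (hc : Nat.card P = Nat.card (Z P) ^ 2) : ∃ (F : Type) (_ : Field F) (_ : Fintype F)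
    (_ : CharP F 2) (φ : F ≃+* F) (π ζ : P → F) (χ δ : K → F), Fintype.card F = Nat.card (Z P) ∧ φ ≠ 1 ∧
    Odd (orderOf φ) ∧ Sec ⊤ (Z P) π χ ∧ Sec (Z P) ⊥ ζ δ ∧ ∀ x, ζ (x * x) = φ (π x) * π x := by
  obtain ⟨F, _, _, _, ζ, δ, h1, h2⟩ := h.exists_zeta
  obtain ⟨X, -, h3⟩ := exists_min h.inv_Z inv_top (h.Z_lt hn)
  obtain ⟨π, χ, h4⟩ := h.exists_sec h1 h3
  obtain rfl := eq_top_of_card_eq X (by rw [h4.card, h1, ← h.card_Z.1, hc, sq])
  have h5 : ∀ x ∈ Z P, ∀ y, ⁅y, x⁆ = 1 := fun x hx y =>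
    commutatorElement_eq_one_iff_mul_comm.2 (mem_center_iff.1 hx.1 y)
  obtain ⟨B, h6, h7⟩ := h4.bilin h4 (fun x y => ζ ⁅x, y⁆) (δ := δ) (fun x _ y _ z _ => h.zeta_left hn h2 x y z)
    (fun x _ y _ z _ => h.zeta_right hn h2 x y z)
    (fun x hx y _ => by rw [← commutatorElement_inv, h5 x hx, inv_one, h2.one])
    (fun x _ y hy => by rw [h5 y hy, h2.one])
    fun k x _ y _ => by rw [← smul_comm', h2.eqv _ _ (h.comm_mem_Z hn x y)]
  obtain ⟨x, y, h8⟩ := id hn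
  obtain ⟨σ, τ, hne, h9⟩ := exists_ne_of_alt h7 h4.onto (fun s => by
    obtain ⟨x, hx, rfl⟩ := h4.surj s
    simp [← h6 x hx x hx, h2.one]) (h6 x trivial y trivial ▸ (h2.ker _ (h.comm_mem_Z hn x y)).not.2
      (mt commutatorElement_eq_one_iff_mul_comm.1 h8))
  obtain ⟨w, -, hw⟩ := h4.surj 1
  have h10 : ζ (w * w) ≠ 0 := fun e => one_ne_zero (hw.symm.trans ((h4.ker w trivial).2
    (h.mem_Z.2 ((h2.ker _ (h.sq_mem_Z hn w)).1 e))))
  refine ⟨F, _, inferInstance, inferInstance, τ * σ⁻¹, _, fun x => ζ x / ζ (w * w), _, δ,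
    h1.trans h.card_Z.1.symm, fun e => hne (mul_inv_eq_one.1 e).symm, odd_orderOf fun x hx => ?_,
    h4.map σ, ⟨bot_le, fun x hx y hy => by rw [h2.add x hx y hy, add_div],
      fun x hx => by simp [h10, h2.ker x hx], fun c => (h2.surj (c * ζ (w * w))).imp
        fun _ e => ⟨e.1, by rw [e.2, mul_div_cancel_right₀ _ h10]⟩, h2.inv,
      fun k x hx => by rw [h2.eqv k x hx, mul_div_assoc], h2.onto, h2.ne⟩, fun x => ?_⟩
  · obtain ⟨x, rfl⟩ := σ.surjective x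
    obtain ⟨k, rfl⟩ := h4.onto x (by rintro rfl; simp at hx)
    rw [← RingAut.mul_apply, inv_mul_cancel_right, h9] at hx
    by_contra h11
    have h12 := (h2.eq_iff (h2.inv k _ (h.sq_mem_Z hn w)) (h.sq_mem_Z hn w)).1
      (by rw [h2.eqv _ _ (h.sq_mem_Z hn w), hx, one_mul])
    refine h10 ((congrArg ζ (h.fpf (k := k) ?_ (inv_mul_eq_one.1 h12))).trans h2.one)
    rintro rfl
    exact h11 (by simpa [hw] using congrArg σ (h4.eqv 1 w trivial).symm)
  · rw [← RingAut.mul_apply, inv_mul_cancel_right, div_eq_iff h10, mul_comm (τ _)]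
    rcases eq_or_ne (π x) 0 with h11 | h11
    · simp [h11, h.mem_Z.1 ((h4.ker x trivial).1 h11), h2.one]
    obtain ⟨k, hk⟩ := h4.onto _ h11
    have h12 := (h4.eq_iff (x := k • w) (y := x) trivial trivial).1 (by rw [h4.eqv _ _ trivial, hw, mul_one, hk])
    rw [← hk, h9, ← h2.eqv _ _ (h.sq_mem_Z hn w), smul_mul', ← mul_inv_cancel_left (k • w) x,
      (show Commute (k • w) _ from mem_center_iff.1 h12.1 _).symm.mul_mul_mul_comm, h.mem_Z.1 h12, mul_one]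

omit hn in
theorem iso_typeA {φ : F ≃+* F} (hπ : Sec ⊤ (Z P) π χ) (hζ : Sec (Z P) ⊥ ζ δ)
    (hq : ∀ x, ζ (x * x) = φ (π x) * π x) (hs : ∀ x : P, x * x ∈ Z P) :
    Nonempty (P ≃* suzukiTypeA F (φ : F →+* F)) := by
  choose ι h1 h2 using hζ.surj
  have h3 : ∀ z ∈ Z P, ι (ζ z) = z := fun z hz => inv_mul_eq_one.1 ((hζ.eq_iff (h1 _) hz).1 (h2 _))
  have h4 : ∀ c d, ι (c + d) = ι c * ι d := fun c d => by
    rw [← h3 _ (mul_mem (h1 c) (h1 d)), hζ.add _ (h1 c) _ (h1 d), h2, h2]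
  have h5 : ∀ c, π (ι c) = 0 := fun c => (hπ.ker _ trivial).2 (h1 c)
  have h6 : ∀ x y, π (x * y) = π x + π y := fun x y => hπ.add x trivial y trivial
  have h7 : ∀ c x, ι c * x = x * ι c := fun c x => (mem_center_iff.1 (h1 c).1 x).symm
  have h0 : ι 0 = 1 := by simpa using h4 0 0
  let _ : Add P := ⟨fun x y => x * y * ι (φ (π x) * π y)⟩
  let _ : Zero P := ⟨1⟩
  let _ : Neg P := ⟨id⟩
  have hadd : ∀ x y : P, x + y = x * y * ι (φ (π x) * π y) := fun _ _ => rfl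
  have hxx : ∀ x : P, x + x = 0 := fun x => by rw [hadd, ← hq, h3 _ (hs x), h.mem_Z.1 (hs x)]; rfl
  let _ : AddGroup P := AddGroup.ofLeftAxioms (fun x y z => by
    simp only [hadd, h6, h5, add_zero, map_add, add_mul, mul_add, h4, mul_assoc]
    rw [← mul_assoc (ι _) z, h7, h7 (φ (π y) * π z), mul_assoc, mul_assoc])
    (fun x => by rw [hadd]; change 1 * x * ι (φ (π 1) * π x) = x; simp [hπ.one, h0]) hxx
  let _ : AddCommGroup P := { (inferInstance : AddGroup P) with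
    add_comm := fun x y => (neg_add_rev x y : x + y = y + x) }
  let _ : Module (ZMod 2) P := AddCommGroup.zmodModule fun x => (two_nsmul x).trans (hxx x)
  let _ := ZMod.algebra F 2
  obtain ⟨ξ, hξ⟩ := ((AddMonoidHom.mk' ι fun c d => by
    rw [hadd, h4]; simp [h5, h0]).toZModLinearMap 2).exists_leftInverse_of_injective
    (LinearMap.ker_eq_bot.2 fun c d e => by rw [← h2 c, ← h2 d]; exact congrArg ζ e)
  have h8 : ∀ c, ξ (ι c) = c := DFunLike.congr_fun hξ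
  have h9 : ∀ x y, ξ (x * y) = ξ x + ξ y + φ (π x) * π y := fun x y => by
    rw [← map_add, ← h8 (φ _ * _), ← map_add, hadd, hadd, h5, mul_zero, h0, mul_one, mul_assoc,
      h.mem_Z.1 (h1 _), mul_one]
  let f : P →* GL (Fin 3) F := MonoidHom.mk' (fun x => Matrix.GeneralLinearGroup.mkOfDetNeZero
    !![1, 0, 0; π x, 1, 0; ξ x, φ (π x), 1] (by simp [Matrix.det_fin_three])) fun x y => Units.ext (by
      simp [h6, h9, add_assoc, add_comm])
  have hf : ∀ x, (f x : Matrix (Fin 3) (Fin 3) F) = !![1, 0, 0; π x, 1, 0; ξ x, φ (π x), 1] := fun _ => rfl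
  refine ⟨(MonoidHom.ofInjective ((injective_iff_map_eq_one f).2 fun x e => ?_)).trans
    (MulEquiv.subgroupCongr (le_antisymm ?_ ((closure_le _).2 ?_)))⟩
  · have e1 := (hf x).symm.trans (congrArg Units.val e)
    have e2 : π x = 0 := by simpa using congrFun₂ e1 1 0
    have e3 : ξ x = 0 := by simpa using congrFun₂ e1 2 0
    rw [← h3 x ((hπ.ker x trivial).1 e2)] at e3 ⊢
    rw [h8] at e3
    rw [e3, h0]
  · rintro _ ⟨x, rfl⟩
    exact subset_closure ⟨_, _, hf x⟩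
  · rintro g ⟨c, d, e⟩
    obtain ⟨x, -, rfl⟩ := hπ.surj c
    exact ⟨x * ι (d - ξ x), Units.ext (by rw [hf, e]; simp [h6, h9, h5, h8])⟩

end HS

theorem hs_of {P : Type*} [Group P] (h : IsSuzukiTwoGroup P) : ∃ K : Subgroup (MulAut P), HS P K := by
  obtain ⟨-, h1, -, h2, K, h3, h4⟩ := h
  exact ⟨K, h1, h3.isMulCommutative.1.1, h2, h4⟩

end Cfsg.Agent.Hig
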