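import Mathlib

/-!
Additive, biadditive and quadratic maps over a finite field of characteristic two.
-/

set_option autoImplicit false
set_option linter.unusedSectionVars false

namespace Cfsg.Agent.Hig

variable {F : Type*} [Field F]

theorem indep : LinearIndependent F (fun σ : F ≃+* F => ((σ : F →+* F) : F → F)) :=
  (linearIndependent_monoidHom F F).comp (fun σ : F ≃+* F => ((σ : F →+* F) : F →* F))
    fun _ _ h => RingEquiv.ext fun x => DFunLike.congr_fun h x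

theorem pair_eq {σ₁ σ₂ τ₁ τ₂ : F ≃+* F} (h : ∀ x, σ₁ x * σ₂ x = τ₁ x * τ₂ x) :
    σ₁ = τ₁ ∧ σ₂ = τ₂ ∨ σ₁ = τ₂ ∧ σ₂ = τ₁ := by
  have h1 : ∀ x, σ₁ x + σ₂ x = τ₁ x + τ₂ x := fun x => by
    have := h (x + 1)
    simp only [map_add, map_one] at this
    linear_combination this - h x
  have h2 : ∀ x, σ₁ x = τ₁ x ∨ σ₁ x = τ₂ x := fun x => by
    rw [← sub_eq_zero, ← sub_eq_zero (b := τ₂ x), ← mul_eq_zero]
    linear_combination σ₁ x * h1 x - h x
  have h3 : σ₁ = τ₁ ∨ σ₁ = τ₂ := by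
    by_contra! h3
    obtain ⟨x, hx⟩ := not_forall.1 (mt RingEquiv.ext h3.1)
    obtain ⟨y, hy⟩ := not_forall.1 (mt RingEquiv.ext h3.2)
    rcases h2 (x + y) with e | e <;> rw [map_add, map_add] at e
    · exact hx (by linear_combination e - (h2 y).resolve_right hy)
    · exact hy (by linear_combination e - (h2 x).resolve_left hx)
  exact h3.imp (fun e => ⟨e, RingEquiv.ext fun x => by subst e; linear_combination h1 x⟩)
    fun e => ⟨e, RingEquiv.ext fun x => by subst e; linear_combination h1 x⟩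

theorem three_dep {σ₁ σ₂ σ₃ : F ≃+* F} {a b c : F} (ha : a ≠ 0)
    (h : ∀ x, a * σ₁ x + b * σ₂ x + c * σ₃ x = 0) : σ₁ = σ₂ ∨ σ₁ = σ₃ := by
  by_contra! h1
  refine (indep (F := F)).notMem_span_image (s := {σ₂, σ₃}) (x := σ₁) (by simp [h1]) ?_
  rw [Set.image_pair, Submodule.mem_span_pair]
  refine ⟨-b / a, -c / a, funext fun x => ?_⟩
  simp only [Pi.add_apply, Pi.smul_apply, smul_eq_mul, RingHom.coe_coe]
  field_simp
  linear_combination -h x

theorem eq_of_sq_eq_self (h : ∀ x : F, x * x = x) (σ τ : F ≃+* F) : σ = τ := RingEquiv.ext fun x => by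
  rcases eq_or_ne x 0 with rfl | hx
  · simp
  · simp [mul_left_cancel₀ hx ((h x).trans (mul_one x).symm)]

variable [CharP F 2]

theorem triple {σ₁ σ₂ σ₃ τ₁ τ₂ : F ≃+* F} (h : ∀ x, σ₁ x * σ₂ x * σ₃ x = τ₁ x * τ₂ x)
    (h12 : σ₁ ≠ σ₂) : σ₃ = σ₁ ∨ σ₃ = σ₂ := by
  obtain ⟨y, hy⟩ := not_forall.1 (mt RingEquiv.ext h12)
  refine three_dep (a := σ₁ y + σ₂ y) (b := σ₂ y + σ₃ y) (c := σ₁ y + σ₃ y)
    (fun e => hy (CharTwo.add_eq_zero.1 e)) fun x => ?_
  have h1 := h (x + y + 1)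
  have h2 := h (x + y)
  have h3 := h (x + 1)
  have h4 := h (y + 1)
  simp only [map_add, map_one] at h1 h2 h3 h4
  linear_combination h1 - h2 - h3 - h4 + h x + h y

variable [Finite F]

/-- squaring -/
noncomputable abbrev Fr (F : Type*) [Field F] [CharP F 2] [Finite F] : F ≃+* F := frobeniusEquiv F 2

theorem Fr_apply (x : F) : Fr F x = x * x := by simp [frobenius_def, sq]

theorem tri {σ τ α β : F ≃+* F} (hne : σ ≠ τ) (h : ∀ x, α (σ x * τ x) * β x = σ x * τ x) :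
    α * τ = σ ∧ Fr F * (α * σ) = τ ∨ α * σ = τ ∧ Fr F * (α * τ) = σ := by
  have h1 : ∀ σ τ : F ≃+* F, σ ≠ τ → (∀ x, α (σ x * τ x) * α (σ x) = σ x * τ x) →
      α * τ = σ ∧ Fr F * (α * σ) = τ := fun σ τ hne h => by
    rcases pair_eq (σ₁ := Fr F * (α * σ)) (σ₂ := α * τ) (fun x => Eq.trans (by
      simp only [RingAut.mul_apply, Fr_apply, map_mul]; ring) (h x)) with e | e
    · rw [mul_eq_right.1 e.2, one_mul, mul_eq_right] at e
      exact (hne (eq_of_sq_eq_self (fun x => by rw [← Fr_apply, e.1]; rfl) _ _)).elim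
    · exact e.symm
  rcases triple (σ₁ := α * σ) (σ₂ := α * τ) (σ₃ := β) (fun x => Eq.trans (by
    simp only [RingAut.mul_apply, map_mul]) (h x)) (by simpa using hne) with rfl | rfl
  · exact Or.inl (h1 σ τ hne h)
  · exact Or.inr (h1 τ σ hne.symm fun x => by rw [mul_comm (τ x)]; exact h x)

theorem uniq3 {σ τ : F ≃+* F} (hne : σ ≠ τ) {p p' : (F ≃+* F) × (F ≃+* F)}
    (h : ∀ x, p.1 (σ x * τ x) * p.2 x = σ x * τ x)
    (h' : ∀ x, p'.1 (σ x * τ x) * p'.2 x = σ x * τ x) : p = p' := by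
  have key : ∀ {σ τ α α' : F ≃+* F}, σ ≠ τ → α * τ = σ → Fr F * (α * σ) = τ → α' * σ = τ →
      Fr F * (α' * τ) = σ → False := fun {σ τ α α'} hne h1 h2 h3 h4 => by
    obtain rfl : α' = Fr F * α := mul_right_cancel (h3.trans (by rw [mul_assoc, h2]))
    rw [mul_assoc, h1, ← mul_assoc, mul_eq_right] at h4
    rw [← h1, ← mul_assoc, ← mul_assoc, mul_eq_right] at h2
    refine hne (eq_of_sq_eq_self (fun x => ?_) _ _)
    have e1 : ∀ x, x * x * (x * x) = x := fun x => by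
      simpa only [RingAut.mul_apply, Fr_apply, RingAut.one_apply] using DFunLike.congr_fun h4 x
    have e2 : α (α x) * α (α x) = x := by
      simpa only [RingAut.mul_apply, Fr_apply, RingAut.one_apply] using DFunLike.congr_fun h2 x
    have e0 : (2 : F) = 0 := CharTwo.two_eq_zero
    by_contra e3
    have e4 : x * x + x + 1 = 0 := mul_left_cancel₀ (sub_ne_zero.2 e3) (by linear_combination e1 x)
    have e5 := congrArg α e4
    simp only [map_add, map_mul, map_one, map_zero] at e5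
    rcases mul_eq_zero.1 (show (α x - x) * (α x - (x + 1)) = 0 by
      linear_combination e5 + e4 - (α x * x + α x + 1) * e0) with e | e <;> rw [sub_eq_zero] at e
    · exact e3 (by rwa [e, e] at e2)
    · rw [e, map_add, e, map_one] at e2
      exact e3 (by linear_combination e2 - (2 * x + 2) * e0)
  have h1 : p.1 = p'.1 := by
    rcases tri hne h with e | e <;> rcases tri hne h' with e' | e'
    · exact mul_right_cancel (e.1.trans e'.1.symm)
    · exact (key hne e.1 e.2 e'.1 e'.2).elim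
    · exact (key hne e'.1 e'.2 e.1 e.2).elim
    · exact mul_right_cancel (e.1.trans e'.1.symm)
  refine Prod.ext h1 (RingEquiv.ext fun x => ?_)
  rcases eq_or_ne x 0 with rfl | hx
  · simp
  · exact mul_left_cancel₀ (by simpa using hx) ((h x).trans (h1 ▸ h' x).symm)

omit [CharP F 2] [Finite F] in
theorem uniq5 {ι : Type*} {χ δ : ι → F} (hδ : ∀ x, x ≠ 0 → ∃ k, δ k = x) (h0 : ∀ k, χ k ≠ 0)
    (h1 : ∃ k, χ k ≠ 1) (h2 : ∀ k, δ k ≠ 0) {p p' : (F ≃+* F) × (F ≃+* F)}
    (h : ∀ k, p.1 (χ k) * p.2 (δ k) = δ k) (h' : ∀ k, p'.1 (χ k) * p'.2 (δ k) = δ k) : p = p' := by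
  rcases pair_eq (σ₁ := p'.1 * p.1⁻¹) (σ₂ := p'.2) (τ₁ := 1) (τ₂ := p'.1 * p.1⁻¹ * p.2) (fun x => by
    rcases eq_or_ne x 0 with rfl | hx
    · simp
    obtain ⟨k, rfl⟩ := hδ x hx
    have := congrArg (p'.1 * p.1⁻¹) (h k)
    rw [map_mul, ← RingAut.mul_apply, inv_mul_cancel_right, ← RingAut.mul_apply] at this
    rw [← this, RingAut.one_apply]
    nth_rw 3 [← h' k]
    ring) with e | e
  · exact Prod.ext (mul_inv_eq_one.1 e.1).symm (by rw [e.2, e.1, one_mul])
  · obtain ⟨k, hk⟩ := h1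
    have := h' k
    rw [e.2, RingAut.one_apply, mul_eq_right₀ (h2 k)] at this
    exact (hk (p'.1.injective (this.trans (map_one _).symm))).elim

noncomputable instance : Fintype (F ≃+* F) :=
  have := Finite.of_injective (fun f : F ≃+* F => (f : F → F)) DFunLike.coe_injective
  Fintype.ofFinite _

omit [CharP F 2] in
theorem eq_zero_of_sum {c : (F ≃+* F) → F} (h : ∀ x, ∑ σ, c σ * σ x = 0) (σ : F ≃+* F) : c σ = 0 :=
  Fintype.linearIndependent_iff.1 (indep (F := F)) c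
    (funext fun x => (Finset.sum_apply _ _ _).trans (h x)) σ

theorem exists_add (f : F →+ F) : ∃ c : (F ≃+* F) → F, ∀ x, f x = ∑ σ, c σ * σ x := by
  let _ := ZMod.algebra F 2
  let v : (F ≃+* F) → F →ₗ[ZMod 2] F := fun σ => (σ : F →+ F).toZModLinearMap 2
  have h1 : LinearIndependent F v := .of_comp (LinearMap.ltoFun (ZMod 2) F F F) indep
  have h2 : Fintype.card (F ≃+* F) = Module.finrank F (F →ₗ[ZMod 2] F) := by
    refine le_antisymm h1.fintype_card_le_finrank ?_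
    rw [Module.finrank_linearMap_self, ← IsGalois.card_aut_eq_finrank, ← Nat.card_eq_fintype_card]
    exact Nat.card_le_card_of_injective AlgEquiv.toRingEquiv fun _ _ e =>
      AlgEquiv.ext fun x => DFunLike.congr_fun e x
  obtain ⟨c, hc⟩ := (Submodule.mem_span_range_iff_exists_fun F).1
    ((h1.span_eq_top_of_card_eq_finrank h2).ge (Submodule.mem_top (x := f.toZModLinearMap 2)))
  exact ⟨c, fun x => by simpa [v] using (DFunLike.congr_fun hc x).symm⟩

theorem exists_bilin (B : F →+ F →+ F) : ∃ c : (F ≃+* F) × (F ≃+* F) → F,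
    ∀ x y, B x y = ∑ p, c p * (p.1 x * p.2 y) := by
  choose d hd using fun x => exists_add (B x)
  choose c hc using fun τ => exists_add (AddMonoidHom.mk' (fun x => d x τ) fun x y =>
    sub_eq_zero.1 (eq_zero_of_sum (c := fun τ => d (x + y) τ - (d x τ + d y τ)) (fun z => by
      simp only [sub_mul, add_mul, Finset.sum_sub_distrib, Finset.sum_add_distrib, ← hd, map_add,
        AddMonoidHom.add_apply, sub_self]) τ))
  refine ⟨fun p => c p.2 p.1, fun x y => ?_⟩
  rw [hd, Fintype.sum_prod_type_right]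
  refine Finset.sum_congr rfl fun τ _ => ?_
  rw [show d x τ = _ from hc τ x, Finset.sum_mul]
  simp only [mul_assoc]

omit [CharP F 2] in
theorem eq_zero_of_sum₂ {c : (F ≃+* F) × (F ≃+* F) → F} (h : ∀ x y, ∑ p, c p * (p.1 x * p.2 y) = 0)
    (p : (F ≃+* F) × (F ≃+* F)) : c p = 0 :=
  eq_zero_of_sum (c := fun σ => c (σ, p.2)) (fun x => eq_zero_of_sum
    (c := fun τ => ∑ σ, c (σ, τ) * σ x) (fun y => by
      rw [← h x y, Fintype.sum_prod_type_right]
      simp only [Finset.sum_mul, mul_assoc]) p.2) p.1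

variable {ι : Type*} {χ₁ χ₂ χ δ : ι → F} {B : F →+ F →+ F}

theorem exists_bilin_eqv (h : ∀ k x y, B (χ₁ k * x) (χ₂ k * y) = δ k * B x y) :
    ∃ c : (F ≃+* F) × (F ≃+* F) → F, (∀ x y, B x y = ∑ p, c p * (p.1 x * p.2 y)) ∧
      ∀ p, c p ≠ 0 → ∀ k, p.1 (χ₁ k) * p.2 (χ₂ k) = δ k := by
  obtain ⟨c, hc⟩ := exists_bilin B
  refine ⟨c, hc, fun p hp k => sub_eq_zero.1 ((mul_eq_zero.1 (eq_zero_of_sum₂
    (c := fun p => c p * (p.1 (χ₁ k) * p.2 (χ₂ k) - δ k)) (fun x y => ?_) p)).resolve_left hp)⟩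
  rw [← sub_eq_zero.2 (h k x y), hc, hc, Finset.mul_sum, ← Finset.sum_sub_distrib]
  exact Finset.sum_congr rfl fun p _ => by simp only [map_mul]; ring

theorem exists_mono (h : ∀ k x y, B (χ₁ k * x) (χ₂ k * y) = δ k * B x y)
    (hu : ∀ p p' : (F ≃+* F) × (F ≃+* F), (∀ k, p.1 (χ₁ k) * p.2 (χ₂ k) = δ k) →
      (∀ k, p'.1 (χ₁ k) * p'.2 (χ₂ k) = δ k) → p = p') :
    ∃ (c : F) (σ τ : F ≃+* F), ∀ x y, B x y = c * (σ x * τ y) := by
  obtain ⟨c, h1, h2⟩ := exists_bilin_eqv h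
  by_cases h3 : ∃ p, c p ≠ 0
  · obtain ⟨p, hp⟩ := h3
    exact ⟨c p, p.1, p.2, fun x y => (h1 x y).trans (Finset.sum_eq_single p (fun p' _ e => by
      rw [not_not.1 fun hp' => e (hu _ _ (h2 p' hp') (h2 p hp)), zero_mul]) (by simp))⟩
  · push Not at h3
    exact ⟨0, 1, 1, fun x y => by simp [h1, h3]⟩

theorem exists_ne_of_alt (h : ∀ k x y, B (χ k * x) (χ k * y) = δ k * B x y)
    (hχ : ∀ x, x ≠ 0 → ∃ k, χ k = x) (ha : ∀ x, B x x = 0) {x y : F} (h0 : B x y ≠ 0) :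
    ∃ σ τ : F ≃+* F, σ ≠ τ ∧ ∀ k, σ (χ k) * τ (χ k) = δ k := by
  by_contra! h1
  obtain ⟨c, σ, τ, h2⟩ := exists_mono h fun p p' e e' => by
    have e1 : p.1 = p.2 := not_not.1 fun h => (h1 _ _ h).elim fun k hk => hk (e k)
    have e2 : p'.1 = p'.2 := not_not.1 fun h => (h1 _ _ h).elim fun k hk => hk (e' k)
    have e3 : p.1 = p'.1 := RingEquiv.ext fun x => by
      rcases eq_or_ne x 0 with rfl | hx
      · simp
      obtain ⟨k, rfl⟩ := hχ x hx
      refine (Fr F).injective ?_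
      have e4 := (e k).trans (e' k).symm
      rwa [← e1, ← e2, ← Fr_apply, ← Fr_apply] at e4
    exact Prod.ext e3 (e1 ▸ e2 ▸ e3)
  have := ha 1
  simp only [h2, map_one, mul_one] at this
  simp [h2, this] at h0

omit [Finite F] in
theorem exists_bilin_of_quad {W : Type*} [AddCommGroup W] [Module (ZMod 2) W] (q : W → F)
    (h0 : q 0 = 0) (hq : ∀ x y z, q (x + y + z) + q (x + y) + q (x + z) + q (y + z) + q x + q y + q z = 0) :
    ∃ B : W →+ W →+ F, ∀ x, q x = B x x := by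
  let _ := ZMod.algebra F 2
  have e0 : (2 : F) = 0 := CharTwo.two_eq_zero
  have h2 : ∀ a : ZMod 2, a = 0 ∨ a = 1 := by decide
  let Q : QuadraticMap (ZMod 2) W F := .ofPolar q
    (fun a x => by rcases h2 a with rfl | rfl <;> simp [h0])
    (fun x y z => by
      simp only [QuadraticMap.polar]
      linear_combination hq x y z - (q (x + y) + q (x + z) + q (y + z)) * e0)
    (fun a x y => by rcases h2 a with rfl | rfl <;> simp [QuadraticMap.polar, h0])
  obtain ⟨B, hB⟩ := LinearMap.BilinMap.toQuadraticMap_surjective Q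
  exact ⟨LinearMap.toAddMonoidHom'.comp B.toAddMonoidHom,
    fun x => (DFunLike.congr_fun hB x).symm⟩

end Cfsg.Agent.Hig
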