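import Cfsg.Agent.Lib.Solv.Frob2
import Cfsg.Agent.Lib.BG.Meta
import Cfsg.Agent.Lib.Transfer.Invol
import Cfsg.Agent.Lib.FT.Final

/-!
Groups of odd order acting transitively on the nonidentity elements of an elementary abelian group.
-/

set_option autoImplicit false
set_option linter.unusedSectionVars false

namespace Cfsg.Agent.Hup

open MulAction Subgroup

variable {P E : Type*} [Group P] [Finite P] [CommGroup E] [Finite E] [MulDistribMulAction P E]

theorem isCyclic_of_abelian {S : Subgroup P} {F : Subgroup E} (hinv : ∀ s ∈ S, ∀ x ∈ F, s • x ∈ F)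
    (hf : ∀ s ∈ S, s ≠ 1 → ∀ x ∈ F, s • x = x → x = 1) (hF : F ≠ ⊥) (hS : IsMulCommutative S) :
    IsCyclic S := by
  let φ := MulDistribMulAction.toMulAut P E
  have : Finite (E ⋊[φ] P) := Finite.of_equiv _ SemidirectProduct.equivProd.symm
  have h1 := Solv.isCyclic_of_fpf_of_abelian (G := E ⋊[φ] P) (K := F.map SemidirectProduct.inl)
    (A := S.map SemidirectProduct.inr) ?_ ?_
    (fun e => hF ((map_eq_bot_iff_of_injective _ SemidirectProduct.inl_injective).1 e)) inferInstance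
  · exact isCyclic_of_surjective _
      (S.equivMapOfInjective (SemidirectProduct.inr : P →* E ⋊[φ] P)
        SemidirectProduct.inr_injective).symm.surjective
  · rintro _ ⟨s, hs, rfl⟩
    refine Transfer.mem_normalizer_of_conj_mem ?_
    rintro _ ⟨x, hx, rfl⟩
    exact ⟨s • x, hinv s hs x hx, by rw [← map_inv, ← SemidirectProduct.inl_aut]; rfl⟩
  · rintro _ ⟨s, hs, rfl⟩ h1
    rw [eq_bot_iff]
    rintro _ ⟨⟨x, hx, rfl⟩, h2⟩
    have h3 := Transfer.commute_iff_conj.1 (Transfer.mem_centralizer_singleton'.1 h2).symm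
    rw [← map_inv, ← SemidirectProduct.inl_aut] at h3
    rw [hf s hs (fun e => h1 (by rw [e, map_one])) x hx (SemidirectProduct.inl_injective h3), map_one]
    exact one_mem _

/-- The norm map of an element of order `p`. -/
def nm (p : ℕ) (x : P) (v : E) : E := ∏ i ∈ Finset.range p, x ^ i • v

theorem nm_mul (p : ℕ) (x : P) (v w : E) : nm p x (v * w) = nm p x v * nm p x w := by
  simp [nm, Finset.prod_mul_distrib]

theorem nm_of_fix (p : ℕ) {x : P} {v : E} (h : x • v = v) : nm p x v = v ^ p := by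
  rw [nm, Finset.prod_congr rfl fun i _ => show x ^ i • v = v from pow_mem (show x ∈ stabilizer P v from h) i]
  simp

theorem smul_nm (p : ℕ) (g x : P) (v : E) : g • nm p x v = nm p (g * x * g⁻¹) (g • v) := by
  simp [nm, Finset.smul_prod', mul_smul]

theorem nm_smul {p : ℕ} {x : P} (h : x ^ p = 1) (v : E) : nm p x (x • v) = nm p x v := by
  have h1 := Finset.prod_range_succ (fun i => x ^ i • v) p
  rw [Finset.prod_range_succ', h, pow_zero, mul_left_inj] at h1
  rw [nm, nm, ← h1]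
  simp [pow_succ, mul_smul]

theorem self_smul_nm {p : ℕ} {x : P} (h : x ^ p = 1) (v : E) : x • nm p x v = nm p x v := by
  rw [smul_nm, mul_inv_cancel_right, nm_smul h]

theorem nm_div {p : ℕ} {x : P} (h : x ^ p = 1) (v : E) : nm p x (x • v / v) = 1 := by
  have := nm_mul p x (x • v / v) v
  rwa [div_mul_cancel, nm_smul h, right_eq_mul] at this

section

variable {S : Subgroup P} {p : ℕ} (hE : ∀ v : E, v ^ p = 1 → v = 1)
  (hfa : ∀ g ∈ S, (∀ v : E, g • v = v) → g = 1)
  (hconst : ∀ a b : E, a ≠ 1 → b ≠ 1 →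
    Nat.card (S ⊓ stabilizer P a : Subgroup P) = Nat.card (S ⊓ stabilizer P b : Subgroup P))
include hE

theorem fix_of_pow {g : P} {a : E} (h : g • a ^ p = a ^ p) : g • a = a :=
  div_eq_one.1 (hE _ (by rw [div_pow, ← smul_pow', h, div_self']))

include hconst

omit hE in
theorem ge_of_le {a b : E} (ha : a ≠ 1) (hb : b ≠ 1)
    (h : ∀ g ∈ S, g • a = a → g • b = b) {g : P} (hg : g ∈ S) (h1 : g • b = b) : g • a = a :=
  ((eq_of_le_of_card_ge (H := S ⊓ stabilizer P a) (K := S ⊓ stabilizer P b)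
    (fun g hg => ⟨hg.1, h g hg.1 hg.2⟩) (hconst a b ha hb).ge).ge ⟨hg, h1⟩).2

include hfa

theorem fpf_of_central {z : P} (hz : z ∈ S) (h1 : z ≠ 1) (hp : z ^ p = 1)
    (hc : ∀ g ∈ S, Commute g z) {a : E} (ha : z • a = a) : a = 1 := by
  by_contra ha1
  obtain ⟨v, hv⟩ := not_forall.1 (mt (hfa z hz) h1)
  have h2 : nm p z (a * (z • v / v)) = a ^ p := by rw [nm_mul, nm_div hp, mul_one, nm_of_fix p ha]
  have h3 : a * (z • v / v) ≠ 1 := fun e => ha1 (hE a (by rw [← h2, e, nm_of_fix p (smul_one z), one_pow]))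
  have h4 := ge_of_le hconst h3 ha1 (fun g hg e => fix_of_pow hE (by
    rw [← h2, smul_nm, Transfer.commute_iff_conj.1 (hc g hg), e])) hz ha
  rw [smul_mul', ha, mul_right_inj] at h4
  exact hv (div_eq_one.1 (hE _ (by rw [← nm_of_fix p h4, nm_div hp])))

theorem isCyclic_of_const [hp : Fact p.Prime] (hp2 : p ≠ 2) (hS : IsPGroup p S) : IsCyclic S := by
  by_contra hnc
  obtain ⟨R, hRS, hR, hcomm, hexp, hn⟩ :=
    Solv.exists_normal_elementary_sq hp2 hS.isNilpotent hS le_rfl le_normalizer hnc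
  have hRc : ∀ x ∈ R, ∀ y ∈ R, Commute x y := fun x hx y hy =>
    congrArg Subtype.val (hcomm.1.1 ⟨x, hx⟩ ⟨y, hy⟩)
  have hR0 : R ≠ ⊥ := fun e => by
    rw [e, card_bot] at hR
    exact (Nat.one_lt_pow two_ne_zero hp.out.one_lt).ne hR
  obtain ⟨z, hz, hz1⟩ := (bot_or_exists_ne_one _).resolve_left
    (Solv.inf_centralizer_ne_bot_of_nilpotent hS.isNilpotent hRS hn hR0)
  have hord : ∀ x ∈ R, x ≠ 1 → Nat.card (zpowers x) = p := fun x hx h1 => by
    rw [Nat.card_zpowers]; exact orderOf_eq_prime (hexp x hx) h1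
  have hzp : ∀ x ∈ R, ∀ u ∈ zpowers x, u ≠ 1 → zpowers u = zpowers x := fun x hx u hu h1 =>
    eq_of_le_of_card_ge (zpowers_le.2 hu) (by
      rw [hord u (zpowers_le.2 hx hu) h1, hord x hx fun e => h1 (by simpa [e] using hu)])
  have hfix : ∀ x ∈ R, ∀ u ∈ R, x ≠ 1 → u ∉ zpowers x → ∀ w : E, x • w = w → u • w = w → w = 1 := by
    intro x hx u hu h1 h2 w e1 e2
    refine fpf_of_central hE hfa hconst (hRS hz.1) hz1 (hexp z hz.1) (fun g hg => hz.2 g hg) ?_
    have h3 : zpowers x < R ⊓ stabilizer P w :=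
      lt_of_le_not_ge (zpowers_le.2 ⟨hx, e1⟩) fun h => h2 (h ⟨hu, e2⟩)
    have h4 := Transfer.card_lt_of_lt h3
    obtain ⟨k, hk, h5⟩ := (Nat.dvd_prime_pow hp.out).1
      (hR ▸ card_dvd_of_le (inf_le_left : R ⊓ stabilizer P w ≤ R))
    rw [hord x hx h1, h5] at h4
    have h6 : k = 2 := by
      have := (Nat.pow_lt_pow_iff_right hp.out.one_lt).1 ((pow_one p).symm ▸ h4 : p ^ 1 < p ^ k)
      omega
    exact ((eq_of_le_of_card_ge inf_le_left (by rw [hR, h5, h6])).ge hz.1 : z ∈ R ⊓ stabilizer P w).2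
  have key : ∀ F : Subgroup E, (∀ s ∈ R, ∀ x ∈ F, s • x ∈ F) → F ≠ ⊥ →
      ∃ x ∈ R, x ≠ 1 ∧ ∃ a ∈ F, x • a = a ∧ a ≠ 1 := fun F h1 h2 => by
    by_contra! h
    exact Solv.not_isCyclic_of_card_sq hp.out hR hexp (isCyclic_of_abelian h1 h h2 hcomm)
  obtain ⟨v₀, hv₀⟩ := not_forall.1 (mt (hfa z (hRS hz.1)) hz1)
  obtain ⟨x, hx, hx1, a, -, hxa, ha⟩ := key ⊤ (fun _ _ _ _ => trivial) fun e => hv₀ (by
    rw [(eq_bot_iff_forall _).1 e v₀ trivial, smul_one])
  obtain ⟨v₁, hv₁⟩ := not_forall.1 (mt (hfa x (hRS hx)) hx1)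
  obtain ⟨y, hy, hy1, _, ⟨v, rfl⟩, hyb, hb⟩ := key
    (MulDistribMulAction.toMonoidHom E x / MonoidHom.id E).range (by
      rintro s hs _ ⟨v, rfl⟩
      exact ⟨s • v, by simp [smul_div', ← mul_smul, (hRc x hx s hs).eq]⟩) fun e =>
      hv₁ (div_eq_one.1 ((eq_bot_iff_forall _).1 e _ ⟨v₁, rfl⟩))
  change y • (x • v / v) = x • v / v at hyb
  change x • v / v ≠ 1 at hb
  have hyx : y ∉ zpowers x := fun h => hb (hE _ (by
    have : x ∈ stabilizer P (x • v / v) :=
      zpowers_le.2 hyb ((hzp x hx y h hy1).ge (mem_zpowers x))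
    rw [← nm_of_fix p this, nm_div (hexp x hx)]))
  have hxy : x ∉ zpowers y := fun h => hyx ((hzp y hy x h hx1).ge (mem_zpowers y))
  generalize x • v / v = b at hyb hb
  have h0 : ∀ x ∈ R, ∀ u ∈ R, x ≠ 1 → u ∉ zpowers x → ∀ w : E, x • w = w → nm p u w = 1 :=
    fun x hx u hu h1 h2 w e => hfix x hx u hu h1 h2 _ (by
      rw [smul_nm, Transfer.commute_iff_conj.1 (hRc x hx u hu), e]) (self_smul_nm (hexp u hu) w)
  have h1 : ∀ u ∈ zpowers x, u ≠ 1 → nm p u (a * b) = a ^ p := fun u hu h => by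
    rw [nm_mul, h0 y hy u (zpowers_le.2 hx hu) hy1 (fun h' => hxy (by
      rw [← hzp y hy u h' h, hzp x hx u hu h]; exact mem_zpowers x)) b hyb, mul_one]
    exact nm_of_fix p (zpowers_le.2 (show x ∈ stabilizer P a from hxa) hu)
  have h2 : nm p y (a * b) = b ^ p := by
    rw [nm_mul, h0 x hx y hy hx1 hyx a hxa, one_mul, nm_of_fix p hyb]
  have h3 : ∀ g ∈ S, g • (a * b) = a * b → ∀ u ∈ R, nm p u (a * b) ≠ 1 →
      g * u * g⁻¹ ∈ zpowers x ∨ g * u * g⁻¹ ∈ zpowers y := fun g hg e u hu h => by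
    by_contra! h'
    have hu' := Transfer.conj_mem_of_mem_normalizer (hn hg) hu
    refine h (smul_left_cancel g ?_)
    rw [smul_nm, e, nm_mul, h0 x hx _ hu' hx1 h'.1 a hxa, h0 y hy _ hu' hy1 h'.2 b hyb, smul_one,
      one_mul]
  have hconj : ∀ g u w c : P, g * w * g⁻¹ ∈ zpowers c → u ∈ zpowers w → g * u * g⁻¹ ∈ zpowers c := by
    rintro g u w c h ⟨n, rfl⟩
    simpa using zpow_mem h n
  have hab : a * b ≠ 1 := fun e => ha (hE a (by
    rw [← h1 x (mem_zpowers x) hx1, e, nm_of_fix p (smul_one x), one_pow]))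
  have h4 := ge_of_le hconst hab ha (fun g hg e => by
    have hgo : Odd (orderOf g) := by
      obtain ⟨n, hn⟩ := hS ⟨g, hg⟩
      exact ((hp.out.odd_of_ne_two hp2).pow (n := n)).of_dvd_nat
        (orderOf_dvd_of_pow_eq_one (congrArg Subtype.val hn))
    obtain ⟨n, hn'⟩ := Transfer.exists_sq_eq_of_odd hgo
    have hh : g ^ n ∈ S := pow_mem hg n
    have eh : g ^ n • (a * b) = a * b := pow_mem (show g ∈ stabilizer P (a * b) from e) n
    generalize g ^ n = h at *
    have h5 : g * x * g⁻¹ ∈ zpowers x := by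
      rw [← hn', show h * h * x * (h * h)⁻¹ = h * (h * x * h⁻¹) * h⁻¹ by group]
      rcases h3 h hh eh x hx (by rw [h1 x (mem_zpowers x) hx1]; exact mt (hE a) ha) with h6 | h6
      · exact hconj _ _ _ _ h6 h6
      · rcases h3 h hh eh y hy (by rw [h2]; exact mt (hE b) hb) with h7 | h7
        · exact hconj _ _ _ _ h7 h6
        · refine absurd ?_ hxy
          have h8 := Transfer.mem_normalizer_of_conj_mem (g := h) (H := zpowers y)
            fun u hu => hconj _ _ _ _ h7 hu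
          simpa [mul_assoc] using Transfer.inv_conj_mem_of_mem_normalizer h8 h6
    refine fix_of_pow hE ?_
    conv_lhs => rw [← h1 x (mem_zpowers x) hx1, smul_nm, e]
    exact h1 _ h5 (by simpa using hx1)) (hRS hx) hxa
  rw [smul_mul', hxa, mul_right_inj] at h4
  exact hb (hfix x hx y hy hx1 hyx b h4 hyb)

theorem fpf_of_const [hp : Fact p.Prime] (hp2 : p ≠ 2) (hS : IsPGroup p S) {g : P} (hg : g ∈ S)
    (h1 : g ≠ 1) {a : E} (ha : g • a = a) : a = 1 := by
  have hc := isCyclic_of_const hE hfa hconst hp2 hS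
  have h2 : p ∣ Nat.card (zpowers g) :=
    (hS.to_le (zpowers_le.2 hg)).card_eq_or_dvd.resolve_left fun e =>
      h1 (by simpa using card_eq_one.1 e)
  obtain ⟨z, hz⟩ := exists_prime_orderOf_dvd_card' p h2
  rw [← orderOf_coe] at hz
  have hzS := zpowers_le.2 hg z.2
  refine fpf_of_central hE hfa hconst hzS (fun e => ?_)
    (by rw [← hz, pow_orderOf_eq_one]) (fun k hk => ?_)
    (zpowers_le.2 (show g ∈ stabilizer P a from ha) z.2)
  · rw [e, orderOf_one] at hz; exact hp.out.one_lt.ne hz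
  · exact congrArg Subtype.val (hc.isMulCommutative.1.1 ⟨k, hk⟩ ⟨z, hzS⟩)

end

/-- A `p`-group, `p` odd, all of whose point stabilisers have the same order. -/
theorem cyclic_fpf {S : Subgroup P} {p q : ℕ} [hp : Fact p.Prime] (hp2 : p ≠ 2) (hS : IsPGroup p S)
    (hq : q.Prime) (hE : ∀ v : E, v ^ q = 1) (hfa : ∀ g ∈ S, (∀ v : E, g • v = v) → g = 1)
    (hconst : ∀ a b : E, a ≠ 1 → b ≠ 1 →
      Nat.card (S ⊓ stabilizer P a : Subgroup P) = Nat.card (S ⊓ stabilizer P b : Subgroup P)) :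
    IsCyclic S ∧ ∀ g ∈ S, g ≠ 1 → ∀ a : E, g • a = a → a = 1 := by
  by_cases hpq : p = q
  · subst hpq
    have h0 : ∀ g ∈ S, g = 1 := fun g hg => hfa g hg fun v => by
      by_cases hv : v = 1
      · rw [hv, smul_one]
      have hEp : IsPGroup p E := fun e => ⟨1, by rw [pow_one, hE]⟩
      have : Nontrivial E := ⟨v, 1, hv⟩
      obtain ⟨b, hb, hb1⟩ := hS.exists_fixed_point_of_prime_dvd_card_of_fixed_point E
        (hEp.card_eq_or_dvd.resolve_left Finite.one_lt_card.ne') (a := 1) fun s => smul_one s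
      exact ge_of_le hconst hv hb1.symm (fun g hg _ => hb ⟨g, hg⟩) hg (hb ⟨g, hg⟩)
    refine ⟨?_, fun g hg h1 => absurd (h0 g hg) h1⟩
    rw [(eq_bot_iff_forall S).2 h0]
    infer_instance
  · have hE' : ∀ v : E, v ^ p = 1 → v = 1 := fun v hv => orderOf_eq_one_iff.1
      (Nat.eq_one_of_dvd_coprimes ((Nat.coprime_primes hp.out hq).2 hpq)
        (orderOf_dvd_of_pow_eq_one hv) (orderOf_dvd_of_pow_eq_one (hE v)))
    exact ⟨isCyclic_of_const hE' hfa hconst hp2 hS, fun g hg h1 a => fpf_of_const hE' hfa hconst hp2 hS hg h1⟩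

theorem fitting (hodd : Odd (Nat.card P)) {q : ℕ} (hq : q.Prime) (hE : ∀ v : E, v ^ q = 1)
    (hfa : ∀ g : P, (∀ v : E, g • v = v) → g = 1)
    (htr : ∀ a b : E, a ≠ 1 → b ≠ 1 → ∃ d : P, d • a = b) :
    IsCyclic (fittingSubgroup P) ∧
      (∀ g ∈ fittingSubgroup P, g ≠ 1 → ∀ a : E, g • a = a → a = 1) ∧
      _root_.commutator P ≤ fittingSubgroup P := by
  have key : ∀ p : ℕ, p.Prime → ∀ S ≤ fittingSubgroup P, IsPGroup p S →
      IsCyclic S ∧ ∀ g ∈ S, g ≠ 1 → ∀ a : E, g • a = a → a = 1 := fun p hp S h1 hS => by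
    have := Fact.mk hp
    by_cases hp2 : p = 2
    · subst hp2
      have h0 : ∀ g ∈ S, g = 1 := fun g hg => Transfer.eq_one_of_odd_of_mem hS hg
        (hodd.of_dvd_nat (orderOf_dvd_natCard g))
      refine ⟨?_, fun g hg h1 => absurd (h0 g hg) h1⟩
      rw [(eq_bot_iff_forall S).2 h0]
      infer_instance
    have h2 : S ≤ pCore p P := Solv.isSylowIn_pCore_fitting.le_of_le_normalizer' hS h1
      le_normalizer_of_normal
    obtain ⟨h3, h4⟩ := cyclic_fpf (S := pCore p P) hp2 (Solv.isPGroup_pCore p P) hq hE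
      (fun g _ => hfa g) (fun a b ha hb => by
        obtain ⟨d, rfl⟩ := htr a b ha hb
        rw [← Transfer.card_cj d, Transfer.cj_inf, Transfer.cj_eq_of_normal,
          stabilizer_smul_eq_stabilizer_map_conj])
    exact ⟨isCyclic_of_le h2, fun g hg => h4 g (h2 hg)⟩
  have h1 : IsCyclic (fittingSubgroup P) := by
    have : IsZGroup (fittingSubgroup P) := ⟨fun p hp S =>
      have := (key p hp _ (map_subtype_le (S : Subgroup (fittingSubgroup P))) (S.2.map _)).1
      isCyclic_of_surjective _ (equivMapOfInjective _ _ (subtype_injective _)).symm.surjective⟩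
    have := Solv.isNilpotent_fitting P
    infer_instance
  refine ⟨h1, fun g hg hg1 a ha => ?_, ?_⟩
  · obtain ⟨p, hp, h2⟩ := Nat.exists_prime_and_dvd
      (show Nat.card (zpowers g) ≠ 1 from fun e => hg1 (by simpa using card_eq_one.1 e))
    have := Fact.mk hp
    obtain ⟨z, hz⟩ := exists_prime_orderOf_dvd_card' p h2
    rw [← orderOf_coe] at hz
    refine (key p hp (zpowers (z : P)) (zpowers_le.2 (zpowers_le.2 hg z.2))
      (IsPGroup.of_card (n := 1) (by rw [Nat.card_zpowers, hz, pow_one]))).2 z (mem_zpowers _)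
      (fun e => ?_) a (zpowers_le.2 (show g ∈ stabilizer P a from ha) z.2)
    rw [e, orderOf_one] at hz; exact hp.one_lt.ne hz
  · have := PF.odd_solvable hodd
    exact (BG.le_Ct_of_isCyclic h1 le_normalizer_of_normal le_normalizer_of_normal).trans
      Solv.centralizer_fitting_le

end Cfsg.Agent.Hup
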