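import Cfsg.Agent.Lib.Char.Coh2
import Cfsg.Agent.Lib.Char.Gallagher
import Cfsg.Agent.Lib.Char.PermLemma
import Cfsg.Agent.Lib.Char.Misc

/-!
Sets of characters induced from a normal subgroup, with conditions on the kernels.
-/

set_option autoImplicit false

namespace Cfsg.Agent.Char

open scoped ComplexConjugate

variable {L : Type*} [Group L] {G : Type*} [Group G]

/-- `θ` is constant on the elements of `K` lying in `M`. -/
def KerOn {K : Subgroup L} (M : Subgroup L) (θ : K → ℂ) : Prop := ∀ x : K, (x : L) ∈ M → θ x = θ 1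

section KerOn

variable {K H M M' : Subgroup L} {θ : K → ℂ}

theorem KerOn.mono (h : KerOn M θ) (hM : M' ≤ M) : KerOn M' θ := fun x hx => h x (hM hx)

theorem kerOn_bot (θ : K → ℂ) : KerOn ⊥ θ := fun x hx => by
  rw [Subgroup.mem_bot, OneMemClass.coe_eq_one] at hx; rw [hx]

theorem kerOn_one (M : Subgroup L) : KerOn M (fun _ : K => (1 : ℂ)) := fun _ _ => rfl

theorem kerOn_iff [Finite K] (hθ : IsCharacter K θ) : KerOn M θ ↔ M.subgroupOf K ≤ charKer θ :=
  ⟨fun h x hx => hθ.mem_charKer.2 (h x hx), fun h _ hx => hθ.mem_charKer.1 (h hx)⟩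

theorem kerOn_self_iff [Finite K] (hθ : IsIrrCharacter K θ) : KerOn K θ ↔ θ = fun _ => 1 :=
  ⟨fun h => hθ.eq_one_of_forall fun x => h x x.2, fun h => h ▸ kerOn_one K⟩

theorem kerOn_sup_iff [Finite K] (hθ : IsCharacter K θ) (hM : M ≤ K) (hH : H ≤ K) :
    KerOn (M ⊔ H) θ ↔ KerOn M θ ∧ KerOn H θ := by
  rw [kerOn_iff hθ, kerOn_iff hθ, kerOn_iff hθ, ← sup_le_iff, ← Subgroup.subgroupOf_sup hM hH]

theorem KerOn.conjFun (h : KerOn M θ) : KerOn M (conjFun θ) := fun x hx => congrArg conj (h x hx)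

theorem KerOn.map (h : KerOn M θ) (σ : ℂ → ℂ) : KerOn M fun x => σ (θ x) :=
  fun x hx => congrArg σ (h x hx)

theorem kerOn_map_iff (σ : ℂ →+* ℂ) : (KerOn M fun x => σ (θ x)) ↔ KerOn M θ :=
  ⟨fun h x hx => σ.injective (h x hx), fun h => h.map σ⟩

theorem KerOn.cj [K.Normal] [hM : M.Normal] (h : KerOn M θ) (g : L) : KerOn M (cj K g θ) :=
  fun x hx => by rw [cj_apply_one]; exact h _ (hM.conj_mem _ hx g)

theorem kerOn_cj_iff [K.Normal] [M.Normal] (g : L) : KerOn M (cj K g θ) ↔ KerOn M θ :=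
  ⟨fun h => cj_inv_cj g θ ▸ h.cj g⁻¹, fun h => h.cj g⟩

theorem kerOn_res_iff [Finite L] {χ : L → ℂ} (hχ : IsCharacter L χ) (hM : M ≤ K) :
    (KerOn M fun x : K => χ x) ↔ M ≤ charKer χ :=
  ⟨fun h x hx => hχ.mem_charKer.2 (h ⟨x, hM hx⟩ hx), fun h _ hx => hχ.mem_charKer.1 (h hx)⟩

theorem kerOn_iff_ind [Fintype L] [M.Normal] (hθ : IsIrrCharacter K θ) (hM : M ≤ K) :
    KerOn M θ ↔ M ≤ charKer (indFun K θ) :=
  ⟨le_charKer_indFun hM hθ.isCharacter, fun h x hx => by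
    obtain ⟨h1, h2⟩ := (mem_charKer_indFun_iff hθ.isCharacter hθ.ne_zero).1 (h hx) 1
    simpa using h2⟩

theorem KerOn.apply_one_eq_one [Finite K] (hθ : IsIrrCharacter K θ) (h : KerOn ⁅K, K⁆ θ) :
    θ 1 = 1 := by
  rw [hθ.apply_one_eq_one_iff]
  refine le_trans ?_ ((kerOn_iff hθ.isCharacter).1 h)
  rw [← Subgroup.map_subtype_commutator, Subgroup.subgroupOf, Subgroup.comap_map_eq_self_of_injective]
  exact K.subtype_injective

theorem kerOn_commutator [Finite K] (hθ : IsIrrCharacter K θ) (h : θ 1 = 1) : KerOn ⁅K, K⁆ θ := by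
  rw [kerOn_iff hθ.isCharacter, ← Subgroup.map_subtype_commutator, Subgroup.subgroupOf,
    Subgroup.comap_map_eq_self_of_injective K.subtype_injective]
  exact hθ.apply_one_eq_one_iff.1 h

/-- A constituent of the restriction. -/
theorem KerOn.of_under [Fintype K] {χ : K → ℂ} (hχ : IsCharacter K χ) (hθ : IsIrrCharacter K θ)
    (h : classInner χ θ ≠ 0) (hk : KerOn M χ) : KerOn M θ :=
  (kerOn_iff hθ.isCharacter).2 (((kerOn_iff hχ).1 hk).trans (hχ.charKer_le_of_constituent hθ h))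

open Classical in
theorem sum_le_charKer [Finite G] (N : Subgroup G) [N.Normal] (g : G) :
    ∑ θ : IrrCharacter G with N ≤ charKer θ.1, θ.1 1 * θ.1 g = if g ∈ N then (N.index : ℂ) else 0 := by
  have := Fintype.ofFinite G
  have := Fintype.ofFinite N
  have h1 := coset_average (N := N) isCharacter_regChar.isClassFunction g
  simp only [classInner_regChar_left, (Subtype.prop _ : IsIrrCharacter G _).isCharacter.conj_apply_one]
    at h1
  rw [← h1]
  split_ifs with hg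
  · rw [Finset.sum_eq_single ⟨g⁻¹, N.inv_mem hg⟩ (fun n _ hn => regChar_of_ne fun e =>
      hn (Subtype.ext (eq_inv_of_mul_eq_one_left e))) (by simp), inv_mul_cancel, regChar_one,
      ← N.card_mul_index, Nat.cast_mul, inv_mul_cancel_left₀ (card_ne_zero' N)]
  · rw [Finset.sum_eq_zero fun (n : N) _ => regChar_of_ne fun (e : n * g = 1) =>
      hg ((mul_mem_cancel_left n.2).1 (e ▸ N.one_mem)), mul_zero]

open Classical in
theorem sum_kerOn [Finite K] [(M.subgroupOf K).Normal] (x : K) :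
    ∑ θ : IrrCharacter K with KerOn M θ.1, θ.1 1 * θ.1 x =
      if (x : L) ∈ M then (M.relIndex K : ℂ) else 0 := by
  rw [Finset.filter_congr fun (θ : IrrCharacter K) _ => kerOn_iff θ.2.isCharacter]
  convert sum_le_charKer (M.subgroupOf K) x <;> rfl

open Classical in
theorem sum_kerOn_not [Finite K] [M.Normal] [H.Normal] (hM : M ≤ K) (hH : H ≤ K) (x : K) :
    ∑ θ : IrrCharacter K with KerOn M θ.1 ∧ ¬ KerOn H θ.1, θ.1 1 * θ.1 x =
      (if (x : L) ∈ M then (M.relIndex K : ℂ) else 0) -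
        if (x : L) ∈ M ⊔ H then ((M ⊔ H).relIndex K : ℂ) else 0 := by
  rw [← sum_kerOn, ← sum_kerOn, eq_sub_iff_add_eq,
    ← Finset.sum_filter_add_sum_filter_not (Finset.univ.filter fun θ : IrrCharacter K => KerOn M θ.1)
      (fun θ => KerOn H θ.1), add_comm,
    Finset.filter_filter, Finset.filter_filter,
    Finset.filter_congr fun (θ : IrrCharacter K) _ => kerOn_sup_iff θ.2.isCharacter hM hH]

end KerOn

variable [Fintype L]

/-- The characters induced from irreducible characters of `K` with `M` but not `H` in the kernel. -/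
def indD (K H M : Subgroup L) : Set (L → ℂ) :=
  {φ | ∃ θ : K → ℂ, IsIrrCharacter K θ ∧ KerOn M θ ∧ ¬ KerOn H θ ∧ φ = indFun K θ}

variable {K H H' M M' : Subgroup L}

theorem inducedIrrAbove_eq (K M : Subgroup L) : inducedIrrAbove K M = indD K K M := by
  ext φ
  refine exists_congr fun θ => and_congr_right fun hθ => ?_
  rw [kerOn_self_iff hθ, ← and_assoc, ← and_assoc, and_comm (a := θ ≠ _)]
  rfl

theorem ind_mem_indD {θ : K → ℂ} (hθ : IsIrrCharacter K θ) (h1 : KerOn M θ) (h2 : ¬ KerOn H θ) :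
    indFun K θ ∈ indD K H M := ⟨θ, hθ, h1, h2, rfl⟩

theorem indD_mono (hH : H ≤ H') (hM : M' ≤ M) : indD K H M ⊆ indD K H' M' :=
  fun _ ⟨θ, h1, h2, h3, h4⟩ => ⟨θ, h1, h2.mono hM, fun h => h3 (h.mono hH), h4⟩

theorem indD_subset_bot (K H M : Subgroup L) : indD K H M ⊆ indD K H ⊥ := indD_mono le_rfl bot_le

theorem indD_subset_self (K H M : Subgroup L) : indD K H M ⊆ indD K K M :=
  fun _ ⟨θ, h1, h2, h3, h4⟩ => ⟨θ, h1, h2, fun h => h3 fun x _ => h x x.2, h4⟩

theorem indD_subset (K H M : Subgroup L) : indD K H M ⊆ indD K K ⊥ :=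
  (indD_subset_self K H M).trans (indD_subset_bot K K M)

theorem indD_eq_empty (h : H ≤ M) : indD K H M = ∅ :=
  Set.eq_empty_of_forall_notMem fun _ ⟨_, _, h2, h3, _⟩ => h3 (h2.mono h)

theorem finite_indD (K H M : Subgroup L) : (indD K H M).Finite :=
  (Set.finite_range fun θ : IrrCharacter K => indFun K θ.1).subset
    fun _ ⟨θ, h1, _, _, h4⟩ => ⟨⟨θ, h1⟩, h4.symm⟩

/-- `indD` as a finite set. -/
noncomputable def indF (K H M : Subgroup L) : Finset (L → ℂ) := (finite_indD K H M).toFinset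

@[simp] theorem mem_indF {φ : L → ℂ} : φ ∈ indF K H M ↔ φ ∈ indD K H M := Set.Finite.mem_toFinset _

@[simp] theorem coe_indF : (indF K H M : Set (L → ℂ)) = indD K H M := Set.Finite.coe_toFinset _

theorem isCharacter_of_mem_indD {φ : L → ℂ} (h : φ ∈ indD K H M) : IsCharacter L φ := by
  obtain ⟨θ, h1, -, -, rfl⟩ := h
  exact h1.isCharacter.ind

theorem map_mem_indD {φ : L → ℂ} (h : φ ∈ indD K H M) (σ : ℂ →+* ℂ) :
    (fun x => σ (φ x)) ∈ indD K H M := by
  obtain ⟨θ, h1, h2, h3, rfl⟩ := h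
  exact ⟨_, h1.map_ringHom σ, h2.map σ, mt (kerOn_map_iff σ).1 h3, funext fun g =>
    (indFun_map K θ σ g).symm⟩

theorem conj_mem_indD {φ : L → ℂ} (h : φ ∈ indD K H M) : conjFun φ ∈ indD K H M :=
  map_mem_indD h (starRingEnd ℂ)

theorem conjSub_indD {S : Set (L → ℂ)} (h : indD K H M ⊆ S) : ConjSub (indD K H M) S :=
  ⟨h, fun _ => conj_mem_indD⟩

theorem exists_degree_of_mem_indD {φ : L → ℂ} (h : φ ∈ indD K H M) :
    ∃ d : ℕ, 0 < d ∧ φ 1 = K.index * d := by
  obtain ⟨θ, h1, -, -, rfl⟩ := h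
  obtain ⟨d, hd, e⟩ := h1.exists_degree
  exact ⟨d, hd, by rw [indFun_one, e]⟩

theorem ne_zero_of_mem_indD {φ : L → ℂ} (h : φ ∈ indD K H M) : φ ≠ 0 := by
  obtain ⟨d, hd, e⟩ := exists_degree_of_mem_indD h
  rintro rfl
  simp [hd.ne', Subgroup.index_ne_zero_of_finite] at e

theorem apply_one_of_mem_indD {φ : L → ℂ} (h : φ ∈ indD K H M) (hM : ⁅K, K⁆ ≤ M) :
    φ 1 = K.index := by
  obtain ⟨θ, h1, h2, -, rfl⟩ := h
  rw [indFun_one, (h2.mono hM).apply_one_eq_one h1, mul_one]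

theorem le_charKer_of_mem_indD [M.Normal] (hM : M ≤ K) {φ : L → ℂ} (h : φ ∈ indD K H M) :
    M ≤ charKer φ := by
  obtain ⟨θ, h1, h2, -, rfl⟩ := h
  exact (kerOn_iff_ind h1 hM).1 h2

theorem not_le_charKer_of_mem_indD [H.Normal] (hH : H ≤ K) {φ : L → ℂ} (h : φ ∈ indD K H M) :
    ¬ H ≤ charKer φ := by
  obtain ⟨θ, h1, -, h2, rfl⟩ := h
  exact mt (kerOn_iff_ind h1 hH).2 h2

theorem classInner_one_of_mem_indD {φ : L → ℂ} (h : φ ∈ indD K H M) :
    classInner φ (fun _ => 1) = 0 := by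
  obtain ⟨θ, h1, -, h2, rfl⟩ := h
  have := Fintype.ofFinite K
  rw [frobenius_left K θ (IsClassFunction.const 1)]
  exact h1.classInner_of_ne isIrrCharacter_one (by rintro rfl; exact h2 (kerOn_one H))

variable [hK : K.Normal]

theorem eq_zero_of_mem_indD {φ : L → ℂ} (h : φ ∈ indD K H M) {x : L} (hx : x ∉ K) : φ x = 0 := by
  obtain ⟨θ, -, -, -, rfl⟩ := h
  exact indFun_normal_of_not_mem θ hx

theorem ind_mem_indD_iff [H.Normal] [M.Normal] {θ : K → ℂ} (hθ : IsIrrCharacter K θ) :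
    indFun K θ ∈ indD K H M ↔ KerOn M θ ∧ ¬ KerOn H θ := by
  refine ⟨fun ⟨θ', h1, h2, h3, h4⟩ => ?_, fun h => ind_mem_indD hθ h.1 h.2⟩
  obtain ⟨g, rfl⟩ := mem_cjOrbit.1 (h1.mem_cjOrbit_of_ind_eq hθ h4)
  rw [kerOn_cj_iff, kerOn_cj_iff]
  exact ⟨h2, h3⟩

theorem mem_indD_iff [H.Normal] [M.Normal] (hH : H ≤ K) (hM : M ≤ K) {φ : L → ℂ}
    (h : φ ∈ indD K H' M') : φ ∈ indD K H M ↔ M ≤ charKer φ ∧ ¬ H ≤ charKer φ := by
  obtain ⟨θ, h1, -, -, rfl⟩ := h
  rw [ind_mem_indD_iff h1, kerOn_iff_ind h1 hM, kerOn_iff_ind h1 hH]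

theorem indD_diff [H.Normal] [M'.Normal] (h : M' ≤ H) : indD K H M \ indD K H M' = indD K M' M := by
  ext φ
  constructor
  · rintro ⟨⟨θ, h1, h2, h3, rfl⟩, h4⟩
    exact ind_mem_indD h1 h2 fun h5 => h4 (ind_mem_indD h1 h5 h3)
  · rintro ⟨θ, h1, h2, h3, rfl⟩
    exact ⟨ind_mem_indD h1 h2 fun h5 => h3 (h5.mono h), fun h5 => h3 ((ind_mem_indD_iff h1).1 h5).1⟩

theorem orth_ind {θ θ' : K → ℂ} (h : IsIrrCharacter K θ) (h' : IsIrrCharacter K θ')
    (hne : indFun K θ ≠ indFun K θ') : classInner (indFun K θ) (indFun K θ') = 0 :=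
  h'.classInner_ind_of_not_mem h fun e => by
    obtain ⟨g, rfl⟩ := mem_cjOrbit.1 e
    exact hne (indFun_cj g θ')

theorem orth_of_mem_indD {φ ψ : L → ℂ} (h : φ ∈ indD K H M) (h' : ψ ∈ indD K H' M') (hne : φ ≠ ψ) :
    classInner φ ψ = 0 := by
  obtain ⟨θ, h1, -, -, rfl⟩ := h
  obtain ⟨θ', h2, -, -, rfl⟩ := h'
  exact orth_ind h1 h2 hne

theorem conj_ne_of_mem_indD (hodd : Odd (Nat.card L)) {φ : L → ℂ} (h : φ ∈ indD K H M) :
    conjFun φ ≠ φ := fun e => by
  have h0 := ne_zero_of_mem_indD h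
  obtain ⟨θ, h1, -, h2, rfl⟩ := h
  have := h1.classInner_conj_ind hodd (by rintro rfl; exact h2 (kerOn_one H))
  rw [← conjFun_eq, e] at this
  exact h0 (classInner_self_eq_zero.1 this)

theorem classInner_ind_one_of_mem_indD {φ : L → ℂ} (h : φ ∈ indD K H M) :
    classInner φ (indFun K fun _ => 1) = 0 := by
  obtain ⟨θ, h1, -, h2, rfl⟩ := h
  refine isIrrCharacter_one.classInner_ind_of_not_mem h1 fun e => ?_
  obtain ⟨g, rfl⟩ := mem_cjOrbit.1 e
  exact h2 (kerOn_one H)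

theorem rip_ind_mul_card {θ : K → ℂ} (h : IsIrrCharacter K θ) :
    rip (indFun K θ) (indFun K θ) * (cjOrbit K θ).card = K.index := by
  rw [rip, h.classInner_ind_self, card_cjOrbit, Complex.natCast_re, ← Nat.cast_mul,
    Subgroup.relIndex_mul_index (le_inertia h.isClassFunction)]

open Classical in
/-- Sums over irreducible characters of `K` grouped by the induced character. -/
theorem sum_ind_eq [H.Normal] [M.Normal] {V : Type*} [AddCommGroup V] [Module ℝ V]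
    (F : (L → ℂ) → V) :
    ∑ θ : IrrCharacter K with KerOn M θ.1 ∧ ¬ KerOn H θ.1, F (indFun K θ.1) =
      ∑ φ ∈ indF K H M, ((K.index : ℝ) / rip φ φ) • F φ := by
  rw [← Finset.sum_fiberwise_of_maps_to (t := indF K H M) (g := fun θ => indFun K θ.1)
    (s := Finset.univ.filter fun θ : IrrCharacter K => KerOn M θ.1 ∧ ¬ KerOn H θ.1) (fun θ hθ => mem_indF.2 ((ind_mem_indD_iff θ.2).2 (Finset.mem_filter.1 hθ).2))]
  refine Finset.sum_congr rfl fun φ hφ => ?_
  rw [Finset.sum_congr rfl fun θ hθ => by rw [(Finset.mem_filter.1 hθ).2], Finset.sum_const]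
  have h0 := (rip_self_pos (ne_zero_of_mem_indD (mem_indF.1 hφ))).ne'
  obtain ⟨θ, h1, h2, h3, rfl⟩ := mem_indF.1 hφ
  rw [← rip_ind_mul_card h1, mul_div_cancel_left₀ _ h0, Nat.cast_smul_eq_nsmul]
  congr 1
  refine Finset.card_bij (fun θ _ => θ.1) (fun θ' h => ?_) (fun _ _ _ _ => Subtype.ext) fun θ' h => ?_
  · exact h1.mem_cjOrbit_of_ind_eq θ'.2 (Finset.mem_filter.1 h).2
  · obtain ⟨g, rfl⟩ := mem_cjOrbit.1 h
    exact ⟨⟨_, h1.cj g⟩, by simp [kerOn_cj_iff, h2, h3, indFun_cj], rfl⟩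

open Classical in
/-- Peterfalvi 1.5(d). -/
theorem sum_indF_apply [H.Normal] [M.Normal] (hH : H ≤ K) (hM : M ≤ K) (x : L) :
    ∑ φ ∈ indF K H M, ((deg φ / rip φ φ : ℝ) : ℂ) * φ x =
      K.index * ((if x ∈ M then (M.relIndex K : ℂ) else 0) -
        if x ∈ M ⊔ H then ((M ⊔ H).relIndex K : ℂ) else 0) := by
  have h0 : (K.index : ℝ) ≠ 0 := by exact_mod_cast Subgroup.index_ne_zero_of_finite
  have h1 := sum_ind_eq (K := K) (H := H) (M := M) fun φ => ((deg φ / K.index : ℝ) : ℂ) * φ x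
  have h2 : ∀ φ : L → ℂ, ((K.index : ℝ) / rip φ φ) • (((deg φ / K.index : ℝ) : ℂ) * φ x) =
      ((deg φ / rip φ φ : ℝ) : ℂ) * φ x := fun φ => by
    rw [Complex.real_smul, ← mul_assoc, ← Complex.ofReal_mul]
    congr 2
    field_simp
  simp only [h2] at h1
  have h3 : ∀ θ : IrrCharacter K, ((deg (indFun K θ.1) / K.index : ℝ) : ℂ) = θ.1 1 := fun θ => by
    rw [Complex.ofReal_div, θ.2.isCharacter.ind.coe_deg, indFun_one, Complex.ofReal_natCast,
      mul_div_cancel_left₀ _ (by exact_mod_cast h0)]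
  simp only [h3] at h1
  rw [← h1]
  by_cases hx : x ∈ K
  · have h4 : ∀ y : K, (∑ θ : IrrCharacter K with KerOn M θ.1 ∧ ¬ KerOn H θ.1, θ.1 1 • θ.1) y = _ :=
      fun y => by simpa only [Finset.sum_apply, Pi.smul_apply, smul_eq_mul] using sum_kerOn_not hM hH y
    have := res_indFun_of_invariant (N := K)
      (θ := ∑ θ : IrrCharacter K with KerOn M θ.1 ∧ ¬ KerOn H θ.1, θ.1 1 • θ.1) (fun g => by
        funext y
        rw [cj_apply, h4, h4]
        simp only [Subgroup.Normal.mem_comm_iff inferInstance (a := g * y), inv_mul_cancel_left]) ⟨x, hx⟩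
    rw [h4, indFun_sum, Finset.sum_apply] at this
    simpa only [indFun_smul, Pi.smul_apply, smul_eq_mul] using this
  · simp [indFun_normal_of_not_mem _ hx, mt (@hM x) hx, mt (@sup_le _ _ _ _ _ hM hH x) hx]

theorem sum_indF_deg_sq [H.Normal] [M.Normal] (hH : H ≤ K) (hM : M ≤ K) :
    ∑ φ ∈ indF K H M, deg φ ^ 2 / rip φ φ =
      K.index * ((M.relIndex K : ℝ) - (M ⊔ H).relIndex K) := by
  have := sum_indF_apply hH hM (1 : L)
  rw [if_pos M.one_mem, if_pos (M ⊔ H).one_mem, Finset.sum_congr rfl fun φ hφ => by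
    rw [← (isCharacter_of_mem_indD (mem_indF.1 hφ)).coe_deg]] at this
  have h2 : ∑ φ ∈ indF K H M, deg φ / rip φ φ * deg φ =
      K.index * ((M.relIndex K : ℝ) - (M ⊔ H).relIndex K) := by exact_mod_cast this
  rw [← h2]
  exact Finset.sum_congr rfl fun φ _ => by ring

theorem sum_indF_deg_sq_self [M.Normal] (hM : M ≤ K) :
    ∑ φ ∈ indF K K M, deg φ ^ 2 / rip φ φ = K.index * ((M.relIndex K : ℝ) - 1) := by
  rw [sum_indF_deg_sq le_rfl hM, sup_eq_right.2 hM, Subgroup.relIndex_self, Nat.cast_one]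

omit hK [Fintype L] in
theorem relIndex_lt_of_lt [Finite L] {A B : Subgroup L} (h : A < B) (hB : B ≤ K) :
    B.relIndex K < A.relIndex K := by
  rw [← Subgroup.relIndex_mul_relIndex A B K h.le hB]
  have h1 : A.relIndex B ≠ 1 := fun e => h.not_ge (Subgroup.relIndex_eq_one.1 e)
  have h2 : A.relIndex B ≠ 0 := Subgroup.index_ne_zero_of_finite
  have h3 : B.relIndex K ≠ 0 := Subgroup.index_ne_zero_of_finite
  nlinarith [Nat.pos_of_ne_zero h3, (by omega : 2 ≤ A.relIndex B)]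

theorem indD_nonempty [H.Normal] [M.Normal] (hH : H ≤ K) (hM : M ≤ K) (h : ¬ H ≤ M) :
    (indD K H M).Nonempty := by
  rw [← coe_indF, Finset.coe_nonempty, Finset.nonempty_iff_ne_empty]
  intro e
  have := sum_indF_deg_sq hH hM
  rw [e, Finset.sum_empty, eq_comm, mul_eq_zero, Nat.cast_eq_zero, sub_eq_zero, Nat.cast_inj] at this
  exact this.elim Subgroup.index_ne_zero_of_finite
    (relIndex_lt_of_lt (left_lt_sup.2 h) (sup_le hM hH)).ne'

omit [Fintype L] hK in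
theorem commutator_le_self' (K : Subgroup L) : ⁅K, K⁆ ≤ K := by
  rw [← Subgroup.map_subtype_commutator]; exact Subgroup.map_subtype_le _

theorem exists_mem_indD_index [H.Normal] [M.Normal] (hH : H ≤ K) (hM : M ≤ K)
    (h : ¬ H ≤ ⁅K, K⁆ ⊔ M) : ∃ φ ∈ indD K H M, φ 1 = K.index := by
  obtain ⟨φ, hφ⟩ := indD_nonempty hH (sup_le (commutator_le_self' K) hM) h
  exact ⟨φ, indD_mono le_rfl le_sup_right hφ, apply_one_of_mem_indD hφ le_sup_left⟩

omit [Fintype L] hK in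
theorem not_le_commutator_sup (hs : Group.IsSolvable K) [M.Normal] (hM : M < K) :
    ¬ K ≤ ⁅K, K⁆ ⊔ M := by
  intro h
  let f := (QuotientGroup.mk' M).comp K.subtype
  have h1 : f.range = K.map (QuotientGroup.mk' M) := by
    rw [MonoidHom.range_comp, Subgroup.range_subtype]
  have : Group.IsSolvable (K.map (QuotientGroup.mk' M)) := h1 ▸ Group.isSolvable_of_surjective f.rangeRestrict_surjective
  have h2 : K.map (QuotientGroup.mk' M) ≠ ⊥ := by
    rw [Ne, Subgroup.map_eq_bot_iff, QuotientGroup.ker_mk']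
    exact hM.not_ge
  have := (Subgroup.nontrivial_iff_ne_bot _).2 h2
  have h3 := Subgroup.map_subtype_lt_map_subtype.2
    (Group.IsSolvable.commutator_lt_top_of_nontrivial (K.map (QuotientGroup.mk' M)))
  rw [Subgroup.map_subtype_commutator, ← MonoidHom.range_eq_map, Subgroup.range_subtype] at h3
  refine h3.not_ge ?_
  have := Subgroup.map_mono (f := QuotientGroup.mk' M) h
  rwa [Subgroup.map_sup, Subgroup.map_commutator, (Subgroup.map_eq_bot_iff _).2
    (QuotientGroup.ker_mk' M).ge, sup_bot_eq] at this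

/-- An isometry defined on class functions with support in a set containing the supports of `S`. -/
theorem isoOn_of_supp [Fintype G] {S : Set (L → ℂ)} {τ : (L → ℂ) →ₗ[ℂ] (G → ℂ)} {A : Set L}
    (hS : ∀ χ ∈ S, IsCharacter L χ) (hA : ∀ χ ∈ S, ∀ x, x ≠ 1 → x ∉ A → χ x = 0)
    (iso : ∀ α β, IsClassFunction L α → IsClassFunction L β → (∀ x, x ∉ A → α x = 0) →
      (∀ x, x ∉ A → β x = 0) → classInner (τ α) (τ β) = classInner α β)
    (gen : ∀ α, IsGeneralizedCharacter L α → (∀ x, x ∉ A → α x = 0) → IsGeneralizedCharacter G (τ α))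
    (one : ∀ α, IsClassFunction L α → (∀ x, x ∉ A → α x = 0) → τ α 1 = 0) : IsoOn S τ := by
  have h1 : ∀ α ∈ Submodule.span ℂ S, α 1 = 0 → ∀ x, x ∉ A → α x = 0 := fun α hα e x hx => by
    by_cases e' : x = 1
    · rwa [e']
    · exact (Submodule.span_le (p := LinearMap.ker (LinearMap.proj x))).2
        (fun χ hχ => hA χ hχ x e' hx) hα
  have h2 := fun α hα => isClassFunction_of_mem_span (α := α) (fun χ hχ => (hS χ hχ).isClassFunction) hα
  exact ⟨hS, fun α hα β hβ e e' => iso α β (h2 α hα) (h2 β hβ) (h1 α hα e) (h1 β hβ e'),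
    fun α hα e => gen α (isGen_of_mem_span (fun χ hχ => (hS χ hχ).isGen) hα)
      (h1 α (mem_span_complex hα) e), fun α hα e => one α (h2 α hα) (h1 α hα e)⟩

theorem _root_.Cfsg.DadeHypothesis.isoOn [Fintype G] {A : Set G} {L : Subgroup G} [Fintype L]
    {H : G → Subgroup G} (hD : DadeHypothesis A L H) {S : Set (L → ℂ)}
    (hS : ∀ χ ∈ S, IsCharacter L χ) (hA : ∀ χ ∈ S, ∀ x : L, x ≠ 1 → (x : G) ∉ A → χ x = 0) :
    IsoOn S (dadeLin A L H) :=
  isoOn_of_supp (A := {x | (x : G) ∈ A}) hS hA (fun _ _ hα hβ _ h => hD.isometry hα hβ h)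
    (fun _ hα h => hD.isGen_dade hα h) fun α _ _ => hD.dade_one α

end Cfsg.Agent.Char
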