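import Cfsg.Agent.Lib.Char.Orth

/-!
Induction of class functions: linearity, Frobenius reciprocity, transitivity, inflation,
normal subgroups and trivial-intersection sets.
-/

set_option autoImplicit false

namespace Cfsg

open Agent.Char
open scoped ComplexConjugate

variable {G : Type*} [Group G] {G' : Type*} [Group G']

namespace Agent.Char

@[simp] theorem extendByZero_coe (H : Subgroup G) (θ : H → ℂ) (h : H) :
    extendByZero H θ h = θ h := Subtype.val_injective.extend_apply θ 0 h

theorem extendByZero_of_mem (H : Subgroup G) (θ : H → ℂ) {g : G} (h : g ∈ H) :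
    extendByZero H θ g = θ ⟨g, h⟩ := extendByZero_coe H θ ⟨g, h⟩

theorem extendByZero_of_not_mem (H : Subgroup G) (θ : H → ℂ) {g : G} (h : g ∉ H) :
    extendByZero H θ g = 0 := by
  rw [extendByZero, Function.extend_apply' _ _ _ (by rintro ⟨a, rfl⟩; exact h a.2)]; rfl

open Classical in
theorem extendByZero_eq (H : Subgroup G) (θ : H → ℂ) (g : G) :
    extendByZero H θ g = if h : g ∈ H then θ ⟨g, h⟩ else 0 := by
  split_ifs with h
  · exact extendByZero_of_mem H θ h
  · exact extendByZero_of_not_mem H θ h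

theorem extendByZero_add (H : Subgroup G) (θ ψ : H → ℂ) :
    extendByZero H (θ + ψ) = extendByZero H θ + extendByZero H ψ := by
  ext g; simp only [extendByZero_eq, Pi.add_apply]; split_ifs <;> simp

theorem extendByZero_smul (H : Subgroup G) (c : ℂ) (θ : H → ℂ) :
    extendByZero H (c • θ) = c • extendByZero H θ := by
  ext g; simp only [extendByZero_eq, Pi.smul_apply]; split_ifs <;> simp

theorem extendByZero_mul_res (H : Subgroup G) (θ : H → ℂ) (φ : G → ℂ) (g : G) :
    extendByZero H (fun h => θ h * φ h) g = extendByZero H θ g * φ g := by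
  simp only [extendByZero_eq]; split_ifs <;> simp

theorem extendByZero_map (H : Subgroup G) (θ : H → ℂ) (f : ℂ → ℂ) (hf : f 0 = 0) (g : G) :
    extendByZero H (fun h => f (θ h)) g = f (extendByZero H θ g) := by
  simp only [extendByZero_eq]; split_ifs <;> simp [hf]

theorem sum_extendByZero [Fintype G] (H : Subgroup G) [Fintype H] (θ : H → ℂ) :
    ∑ g, extendByZero H θ g = ∑ h, θ h := by
  classical
  symm
  refine Finset.sum_of_injOn (fun h : H => (h : G)) Subtype.val_injective.injOn (by simp)
    (fun g _ hg => extendByZero_of_not_mem H θ fun h => hg ⟨⟨g, h⟩, by simp, rfl⟩) (by simp)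

theorem sum_extendByZero_mul [Fintype G] (H : Subgroup G) [Fintype H] (θ : H → ℂ) (φ : G → ℂ) :
    ∑ g, extendByZero H θ g * φ g = ∑ h, θ h * φ h := by
  simp only [← extendByZero_mul_res, sum_extendByZero]

variable [Fintype G]

/-- Induction as a linear map. -/
noncomputable def indLin (H : Subgroup G) : (H → ℂ) →ₗ[ℂ] (G → ℂ) where
  toFun := indFun H
  map_add' θ ψ := by
    ext g; simp [indFun, extendByZero_add, Finset.sum_add_distrib, mul_add]
  map_smul' c θ := by
    ext g
    simp only [indFun, extendByZero_smul, Pi.smul_apply, smul_eq_mul, ← Finset.mul_sum,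
      RingHom.id_apply]
    ring

theorem indFun_add (H : Subgroup G) (θ ψ : H → ℂ) :
    indFun H (θ + ψ) = indFun H θ + indFun H ψ := (indLin H).map_add θ ψ

theorem indFun_sub (H : Subgroup G) (θ ψ : H → ℂ) :
    indFun H (θ - ψ) = indFun H θ - indFun H ψ := (indLin H).map_sub θ ψ

theorem indFun_neg (H : Subgroup G) (θ : H → ℂ) : indFun H (-θ) = -indFun H θ :=
  (indLin H).map_neg θ

@[simp] theorem indFun_zero (H : Subgroup G) : indFun H 0 = 0 := (indLin H).map_zero

theorem indFun_smul (H : Subgroup G) (c : ℂ) (θ : H → ℂ) :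
    indFun H (c • θ) = c • indFun H θ := (indLin H).map_smul c θ

theorem indFun_zsmul (H : Subgroup G) (c : ℤ) (θ : H → ℂ) :
    indFun H (c • θ) = c • indFun H θ := map_zsmul (indLin H) c θ

theorem indFun_nsmul (H : Subgroup G) (c : ℕ) (θ : H → ℂ) :
    indFun H (c • θ) = c • indFun H θ := map_nsmul (indLin H) c θ

theorem indFun_sum (H : Subgroup G) {ι : Type*} (s : Finset ι) (f : ι → H → ℂ) :
    indFun H (∑ i ∈ s, f i) = ∑ i ∈ s, indFun H (f i) := map_sum (indLin H) f s

theorem indFun_apply (H : Subgroup G) (θ : H → ℂ) (g : G) :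
    indFun H θ g = (Nat.card H : ℂ)⁻¹ * ∑ x : G, extendByZero H θ (x⁻¹ * g * x) := rfl

theorem indFun_apply' (H : Subgroup G) (θ : H → ℂ) (g : G) :
    indFun H θ g = (Nat.card H : ℂ)⁻¹ * ∑ x : G, extendByZero H θ (x * g * x⁻¹) := by
  rw [indFun_apply]
  congr 1
  exact Fintype.sum_equiv (Equiv.inv G) _ _ fun x => by simp

theorem isClassFunction_indFun (H : Subgroup G) (θ : H → ℂ) : IsClassFunction G (indFun H θ) := by
  intro g y
  simp only [indFun_apply']
  congr 1
  exact Fintype.sum_equiv (Equiv.mulRight y) _ _ fun x => by simp [mul_assoc]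

theorem indFun_one (H : Subgroup G) (θ : H → ℂ) : indFun H θ 1 = H.index * θ 1 := by
  have h1 : extendByZero H θ 1 = θ 1 := extendByZero_coe H θ 1
  have h2 := card_ne_zero' H
  simp only [indFun_apply, mul_one, inv_mul_cancel, h1, Finset.sum_const, Finset.card_univ,
    nsmul_eq_mul, Fintype.card_eq_nat_card, ← H.index_mul_card]
  push_cast
  field_simp

theorem indFun_mul_res (H : Subgroup G) (θ : H → ℂ) {φ : G → ℂ} (hφ : IsClassFunction G φ) :
    indFun H (fun h => θ h * φ h) = indFun H θ * φ := by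
  ext g
  simp only [indFun_apply, extendByZero_mul_res, hφ.apply_conj', Pi.mul_apply, ← Finset.sum_mul]
  rw [mul_assoc]

theorem indFun_res (H : Subgroup G) {φ : G → ℂ} (hφ : IsClassFunction G φ) :
    indFun H (fun h => φ h) = indFun H (fun _ => 1) * φ := by
  simpa using indFun_mul_res H (fun _ => 1) hφ

theorem indFun_map (H : Subgroup G) (θ : H → ℂ) (σ : ℂ →+* ℂ) (g : G) :
    indFun H (fun h => σ (θ h)) g = σ (indFun H θ g) := by
  simp [indFun_apply, extendByZero_map H θ σ (map_zero σ)]

theorem indFun_conj (H : Subgroup G) (θ : H → ℂ) :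
    indFun H (fun h => conj (θ h)) = fun g => conj (indFun H θ g) := by
  ext g; exact indFun_map H θ (starRingEnd ℂ) g

theorem indFun_eq_zero (H : Subgroup G) (θ : H → ℂ) (g : G)
    (h : ∀ x : G, ∀ hx : x * g * x⁻¹ ∈ H, θ ⟨_, hx⟩ = 0) : indFun H θ g = 0 := by
  rw [indFun_apply', Finset.sum_eq_zero, mul_zero]
  intro x _
  rw [extendByZero_eq]
  split_ifs with hx
  · exact h x hx
  · rfl

theorem exists_conj_of_indFun_ne_zero (H : Subgroup G) (θ : H → ℂ) (g : G)
    (h : indFun H θ g ≠ 0) : ∃ x : G, ∃ hx : x * g * x⁻¹ ∈ H, θ ⟨_, hx⟩ ≠ 0 := by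
  by_contra h1
  push Not at h1
  exact h (indFun_eq_zero H θ g h1)

theorem sum_indFun_mul (H : Subgroup G) [Fintype H] (θ : H → ℂ) {χ : G → ℂ}
    (hχ : IsClassFunction G χ) :
    ∑ g, indFun H θ g * χ g = H.index * ∑ h, θ h * χ h := by
  simp only [indFun_apply, mul_assoc (Nat.card H : ℂ)⁻¹, ← Finset.mul_sum, Finset.sum_mul]
  rw [Finset.sum_comm]
  have : ∀ x : G, ∑ g, extendByZero H θ (x⁻¹ * g * x) * χ g = ∑ h, θ h * χ h := by
    intro x
    rw [← sum_extendByZero_mul]
    refine Fintype.sum_equiv (MulAut.conj x⁻¹).toEquiv _ _ fun g => ?_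
    simp [hχ.apply_conj']
  have h2 := card_ne_zero' H
  simp only [this, Finset.sum_const, Finset.card_univ, nsmul_eq_mul, Fintype.card_eq_nat_card,
    ← H.index_mul_card]
  push_cast
  field_simp

/-- Frobenius reciprocity. -/
theorem frobenius_left (H : Subgroup G) [Fintype H] (θ : H → ℂ) {χ : G → ℂ}
    (hχ : IsClassFunction G χ) :
    classInner (indFun H θ) χ = classInner θ (fun h : H => χ h) := by
  rw [classInner, sum_indFun_mul H θ (hχ.map conj), classInner, ← H.index_mul_card]
  have h2 := card_ne_zero' H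
  have h3 : (H.index : ℂ) ≠ 0 := by exact_mod_cast Subgroup.FiniteIndex.index_ne_zero
  push_cast
  field_simp

theorem frobenius_right (H : Subgroup G) [Fintype H] (θ : H → ℂ) {χ : G → ℂ}
    (hχ : IsClassFunction G χ) :
    classInner χ (indFun H θ) = classInner (fun h : H => χ h) θ := by
  rw [← conj_classInner, frobenius_left H θ hχ, conj_classInner]

end Agent.Char

theorem IsCharacter.ind [Fintype G] {H : Subgroup G} {θ : H → ℂ} (hθ : IsCharacter H θ) :
    IsCharacter G (indFun H θ) := by
  have := Fintype.ofFinite H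
  refine (isClassFunction_indFun H θ).isCharacter_of_nat fun χ hχ => ?_
  rw [frobenius_left H θ hχ.isClassFunction]
  exact hθ.classInner_eq_nat (hχ.isCharacter.res H)

theorem IsGeneralizedCharacter.ind [Fintype G] {H : Subgroup G} {θ : H → ℂ}
    (hθ : IsGeneralizedCharacter H θ) : IsGeneralizedCharacter G (indFun H θ) := by
  obtain ⟨a, b, ha, hb, rfl⟩ := hθ
  exact ⟨_, _, ha.ind, hb.ind, indFun_sub H a b⟩

/-- If an induced character is irreducible, so is the character it is induced from. -/
theorem IsCharacter.isIrr_of_ind [Fintype G] {H : Subgroup G} {θ : H → ℂ} (hθ : IsCharacter H θ)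
    (h : IsIrrCharacter G (indFun H θ)) : IsIrrCharacter H θ := by
  have := Fintype.ofFinite H
  have h0 : θ ≠ 0 := by rintro rfl; exact h.ne_zero (indFun_zero H)
  obtain ⟨χ, hχ, h1⟩ := hθ.exists_irr_constituent h0
  have h2 := hθ.sub_irr hχ h1
  have h3 : indFun H θ = indFun H χ + indFun H (θ - χ) := by rw [← indFun_add]; simp
  rw [h3] at h
  rcases h.eq_zero_or_eq_zero_of_add hχ.isCharacter.ind h2.ind with h4 | h4
  · have := congrFun h4 1
    rw [indFun_one] at this
    exact absurd this (mul_ne_zero (by exact_mod_cast Subgroup.FiniteIndex.index_ne_zero)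
      hχ.apply_one_ne_zero)
  · have := congrFun h4 1
    rw [indFun_one] at this
    have h5 := h2.eq_zero_of_apply_one ((mul_eq_zero.1 this).resolve_left
      (by exact_mod_cast Subgroup.FiniteIndex.index_ne_zero))
    rw [sub_eq_zero] at h5
    rwa [h5]

/-- Every irreducible character of a subgroup lies under an irreducible character of the group. -/
theorem IsIrrCharacter.exists_irr_over [Fintype G] {H : Subgroup G} [Fintype H] {θ : H → ℂ}
    (hθ : IsIrrCharacter H θ) :
    ∃ χ, IsIrrCharacter G χ ∧ classInner (fun h : H => χ h) θ ≠ 0 := by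
  have h0 : indFun H θ ≠ 0 := by
    intro h
    have := congrFun h 1
    rw [indFun_one] at this
    exact (mul_ne_zero (by exact_mod_cast Subgroup.FiniteIndex.index_ne_zero)
      hθ.apply_one_ne_zero) this
  obtain ⟨χ, hχ, h1⟩ := hθ.isCharacter.ind.exists_irr_constituent h0
  rw [frobenius_left H θ hχ.isClassFunction, Ne, classInner_eq_zero_comm] at h1
  exact ⟨χ, hχ, h1⟩

/-- The restriction of an irreducible character has an irreducible constituent. -/
theorem IsIrrCharacter.exists_irr_under {χ : G → ℂ} (hχ : IsIrrCharacter G χ) (H : Subgroup G)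
    [Fintype H] : ∃ θ, IsIrrCharacter H θ ∧ classInner (fun h : H => χ h) θ ≠ 0 :=
  (hχ.isCharacter.res H).exists_irr_constituent fun h => hχ.apply_one_ne_zero (congrFun h 1)

namespace Agent.Char

variable [Fintype G]

/-- Induction from two subgroups matched by an isomorphism that is realised by conjugacy. -/
theorem indFun_comp_equiv {H K : Subgroup G} (e : H ≃* K) (he : ∀ h : H, IsConj (h : G) (e h))
    (θ : K → ℂ) : indFun H (fun h => θ (e h)) = indFun K θ := by
  have := Fintype.ofFinite H
  have := Fintype.ofFinite K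
  refine (isClassFunction_indFun _ _).ext_classInner (isClassFunction_indFun _ _) fun χ hχ => ?_
  rw [frobenius_left _ _ hχ.isClassFunction, frobenius_left _ _ hχ.isClassFunction,
    ← classInner_comp_equiv e]
  simp only [hχ.isClassFunction.eq_of_isConj (he _)]

theorem indFun_congr_subgroup {H K : Subgroup G} (h : H = K) (θ : K → ℂ) :
    indFun H (fun x => θ ⟨x, h ▸ x.2⟩) = indFun K θ := by
  subst h; rfl

/-- Transitivity of induction, for a subgroup of a subgroup. -/
theorem indFun_indFun (K : Subgroup G) [Fintype K] (L : Subgroup K) {H : Subgroup G}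
    (e : L ≃* H) (he : ∀ x : L, ((e x : H) : G) = ((x : K) : G)) (θ : H → ℂ) :
    indFun K (indFun L (fun x => θ (e x))) = indFun H θ := by
  have := Fintype.ofFinite H
  have := Fintype.ofFinite L
  refine (isClassFunction_indFun _ _).ext_classInner (isClassFunction_indFun _ _) fun χ hχ => ?_
  rw [frobenius_left _ _ hχ.isClassFunction, frobenius_left _ _ (hχ.isClassFunction.res K),
    frobenius_left _ _ hχ.isClassFunction, ← classInner_comp_equiv e]
  simp only [he]

theorem indFun_trans {H K : Subgroup G} [Fintype K] (hHK : H ≤ K) (θ : H → ℂ) :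
    indFun K (indFun (H.subgroupOf K)
      (fun x => θ ⟨(x : K), Subgroup.mem_subgroupOf.mp x.2⟩)) = indFun H θ :=
  indFun_indFun K (H.subgroupOf K) (Subgroup.subgroupOfEquivOfLe hHK) (fun _ => rfl) θ

theorem indFun_indFun_map (K : Subgroup G) [Fintype K] (L : Subgroup K) (θ : L → ℂ) :
    indFun K (indFun L θ) =
      indFun (L.map K.subtype) (fun x => θ ((L.equivMapOfInjective _ K.subtype_injective).symm x)) := by
  rw [← indFun_indFun K L (L.equivMapOfInjective _ K.subtype_injective) (fun _ => rfl)]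
  simp

theorem indFun_top (θ : (⊤ : Subgroup G) → ℂ) (hθ : IsClassFunction _ θ) (g : G) :
    indFun ⊤ θ g = θ ⟨g, trivial⟩ := by
  have h : ∀ x : G, extendByZero ⊤ θ (x * g * x⁻¹) = θ ⟨g, trivial⟩ := fun x => by
    rw [extendByZero_of_mem _ _ (Subgroup.mem_top _)]
    exact hθ ⟨g, trivial⟩ ⟨x, trivial⟩
  have h2 := card_ne_zero' G
  simp only [indFun_apply', h, Finset.sum_const, Finset.card_univ, nsmul_eq_mul,
    Fintype.card_eq_nat_card, Subgroup.card_top]
  field_simp

theorem indFun_res_of_eq_top {H : Subgroup G} (hH : H = ⊤) {φ : G → ℂ} (hφ : IsClassFunction G φ) :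
    indFun H (fun h => φ h) = φ := by
  subst hH
  ext g
  rw [indFun_top _ (hφ.res ⊤)]

theorem indFun_bot (θ : (⊥ : Subgroup G) → ℂ) : indFun ⊥ θ = θ 1 • regChar G := by
  ext g
  by_cases hg : g = 1
  · subst hg; simp [indFun_one, regChar_one, mul_comm]
  · rw [indFun_eq_zero _ _ _ (fun x hx => absurd (by simpa using hx) hg)]
    simp [regChar_of_ne hg]

omit [Fintype G] in
theorem sum_comp_surjective [Fintype G] [Fintype G'] (f : G →* G') (hf : Function.Surjective f)
    (F : G' → ℂ) : ∑ x, F (f x) = Nat.card f.ker * ∑ y, F y := by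
  classical
  rw [← Finset.sum_fiberwise' Finset.univ f F, Finset.mul_sum]
  refine Finset.sum_congr rfl fun y _ => ?_
  obtain ⟨x, rfl⟩ := hf y
  rw [Finset.sum_const, nsmul_eq_mul]
  congr 2
  rw [← Fintype.card_subtype, Fintype.card_eq_nat_card]
  refine Nat.card_congr ⟨fun a => ⟨x⁻¹ * a.1, by simp [MonoidHom.mem_ker, a.2]⟩,
    fun a => ⟨x * a.1, by simp [(MonoidHom.mem_ker.1 a.2)]⟩, fun a => by simp, fun a => by simp⟩

omit [Fintype G] in
theorem card_eq_card_ker_mul [Finite G] (f : G →* G') (hf : Function.Surjective f) :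
    Nat.card G = Nat.card f.ker * Nat.card G' := by
  rw [← f.ker.card_mul_index, Subgroup.index_ker, MonoidHom.range_eq_top.2 hf, Subgroup.card_top]

theorem classInner_comp_surjective [Fintype G'] (f : G →* G') (hf : Function.Surjective f)
    (φ ψ : G' → ℂ) : classInner (fun x => φ (f x)) (fun x => ψ (f x)) = classInner φ ψ := by
  rw [classInner, sum_comp_surjective f hf (fun y => φ y * conj (ψ y)), classInner,
    card_eq_card_ker_mul f hf]
  have := card_ne_zero' f.ker
  have := card_ne_zero' G'
  push_cast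
  field_simp

/-- Induction commutes with inflation. -/
theorem indFun_comap [Fintype G'] (f : G →* G') (hf : Function.Surjective f) (K : Subgroup G')
    (θ : K → ℂ) (g : G) :
    indFun (K.comap f) (fun x => θ ⟨f x, x.2⟩) g = indFun K θ (f g) := by
  have h1 : ∀ y : G, extendByZero (K.comap f) (fun x => θ ⟨f x, x.2⟩) y =
      extendByZero K θ (f y) := by
    intro y
    simp only [extendByZero_eq]
    rfl
  have h2 : Nat.card (K.comap f) = Nat.card f.ker * Nat.card K := by
    have h3 := (K.comap f).card_mul_index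
    rw [Subgroup.index_comap_of_surjective _ hf, card_eq_card_ker_mul f hf, ← K.card_mul_index,
      ← mul_assoc] at h3
    exact Nat.eq_of_mul_eq_mul_right (Nat.pos_of_ne_zero Subgroup.FiniteIndex.index_ne_zero) h3
  simp only [indFun_apply, h1, map_mul, map_inv]
  rw [sum_comp_surjective f hf (fun y => extendByZero K θ (y⁻¹ * f g * y)), h2]
  have := card_ne_zero' f.ker
  have := card_ne_zero' K
  push_cast
  field_simp

/-- Values of an induced function at a point whose outside conjugates avoid the support. -/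
theorem indFun_apply_of_TI (L : Subgroup G) {ψ : L → ℂ} (hψ : IsClassFunction L ψ) (a : L)
    (h : ∀ x : G, x ∉ L → ∀ hx : x * a * x⁻¹ ∈ L, ψ ⟨_, hx⟩ = 0) : indFun L ψ a = ψ a := by
  have := Fintype.ofFinite L
  have h1 : ∀ x : G, extendByZero L ψ (x * a * x⁻¹) = extendByZero L (fun _ => ψ a) x := by
    intro x
    by_cases hx : x ∈ L
    · rw [extendByZero_of_mem _ _ hx, ← hψ a ⟨x, hx⟩, ← extendByZero_coe L ψ]; rfl
    · rw [extendByZero_of_not_mem _ _ hx, extendByZero_eq]
      split_ifs with h2
      · exact h x hx h2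
      · rfl
  have h2 := card_ne_zero' L
  simp only [indFun_apply', h1, sum_extendByZero, Finset.sum_const, Finset.card_univ,
    nsmul_eq_mul, Fintype.card_eq_nat_card]
  field_simp

/-- The isometry property of induction. -/
theorem classInner_indFun_of_TI (L : Subgroup G) [Fintype L] (ψ : L → ℂ) {θ : L → ℂ}
    (hθ : IsClassFunction L θ)
    (h : ∀ a : L, ψ a ≠ 0 → ∀ x : G, x ∉ L → ∀ hx : x * a * x⁻¹ ∈ L, θ ⟨_, hx⟩ = 0) :
    classInner (indFun L ψ) (indFun L θ) = classInner ψ θ := by
  rw [frobenius_left _ _ (isClassFunction_indFun _ _)]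
  simp only [classInner]
  congr 1
  refine Finset.sum_congr rfl fun a _ => ?_
  by_cases ha : ψ a = 0
  · simp [ha]
  · rw [indFun_apply_of_TI L hθ a (h a ha)]

/-- Mackey's formula when `G = H K`. -/
theorem indFun_apply_of_mul_eq (H K : Subgroup G) [Fintype K] {θ : H → ℂ} (hθ : IsClassFunction H θ)
    (hHK : ∀ g : G, ∃ h ∈ H, ∃ k ∈ K, h * k = g) (k : K) :
    indFun H θ k = indFun (H.subgroupOf K) (fun x => θ ⟨(x : K), x.2⟩) k := by
  classical
  have := Fintype.ofFinite H
  set F : G → ℂ := fun x => extendByZero H θ (x * k * x⁻¹) with hF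
  have hFH : ∀ h : H, ∀ x, F (h * x) = F x := by
    intro h x
    simp only [hF]
    by_cases hx : x * k * x⁻¹ ∈ H
    · rw [extendByZero_of_mem _ _ hx, ← hθ ⟨_, hx⟩ h, ← extendByZero_coe H θ]
      congr 1; simp [mul_assoc]
    · rw [extendByZero_of_not_mem _ _ hx, extendByZero_of_not_mem]
      intro h2
      apply hx
      have := H.mul_mem (H.mul_mem (H.inv_mem h.2) h2) h.2
      simpa [mul_assoc] using this
  have hfib : ∀ g : G, (Finset.univ.filter fun p : H × K => (p.1 : G) * p.2 = g).card =
      Nat.card (H.subgroupOf K) := by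
    intro g
    obtain ⟨h, hh, k, hk, rfl⟩ := hHK g
    rw [← Fintype.card_subtype, Fintype.card_eq_nat_card]
    refine Nat.card_congr ⟨fun a => ⟨⟨k, hk⟩ * a.1.2⁻¹, ?_⟩,
      fun a => ⟨(⟨h, hh⟩ * ⟨a.1, a.2⟩, a.1⁻¹ * ⟨k, hk⟩), by simp [mul_assoc]⟩, fun a => ?_,
      fun a => by simp⟩
    · have h1 : k * (a.1.2 : G)⁻¹ = h⁻¹ * a.1.1 := by
        rw [eq_inv_mul_iff_mul_eq, ← mul_assoc, mul_inv_eq_iff_eq_mul, a.2]
      rw [Subgroup.mem_subgroupOf]
      simp only [Subgroup.coe_mul, Subgroup.coe_inv, h1]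
      exact H.mul_mem (H.inv_mem hh) a.1.1.2
    · ext
      · simp only [Subgroup.coe_mul, Subgroup.coe_inv]
        rw [← mul_assoc, mul_inv_eq_iff_eq_mul, a.2]
      · simp
  have h1 : ∑ p : H × K, F (p.1 * p.2) = Nat.card (H.subgroupOf K) * ∑ g, F g := by
    rw [← Finset.sum_fiberwise' Finset.univ (fun p : H × K => (p.1 : G) * p.2) F, Finset.mul_sum]
    refine Finset.sum_congr rfl fun g _ => ?_
    rw [Finset.sum_const, nsmul_eq_mul, hfib]
  rw [Fintype.sum_prod_type] at h1
  simp only [hFH, Finset.sum_const, Finset.card_univ, nsmul_eq_mul, Fintype.card_eq_nat_card] at h1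
  have h2 : ∀ y : K, extendByZero (H.subgroupOf K) (fun x => θ ⟨(x : K), x.2⟩) (y * k * y⁻¹) =
      F y := by
    intro y
    simp only [hF, extendByZero_eq, Subgroup.mem_subgroupOf]
    rfl
  simp only [indFun_apply', h2]
  have := card_ne_zero' H
  have := card_ne_zero' (H.subgroupOf K)
  field_simp
  rw [h1]
  ring

theorem indFun_one_eq_card_fixedBy (X : Type*) [MulAction G X] [Finite X]
    [MulAction.IsPretransitive G X] (x : X) (g : G) :
    indFun (MulAction.stabilizer G x) (fun _ => 1) g = Nat.card (MulAction.fixedBy X g) := by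
  classical
  have := Fintype.ofFinite X
  have h1 : ∀ y : G, extendByZero (MulAction.stabilizer G x) (fun _ => (1 : ℂ)) (y⁻¹ * g * y) =
      if g • y • x = y • x then 1 else 0 := by
    intro y
    simp [extendByZero_eq, mul_smul, inv_smul_eq_iff]
  have hfib : ∀ z : X, (Finset.univ.filter fun y : G => y • x = z).card =
      Nat.card (MulAction.stabilizer G x) := by
    intro z
    obtain ⟨a, rfl⟩ := MulAction.exists_smul_eq G x z
    rw [← Fintype.card_subtype, Fintype.card_eq_nat_card]
    exact Nat.card_congr ⟨fun y => ⟨a⁻¹ * y.1, by simp [mul_smul, y.2]⟩,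
      fun y => ⟨a * y.1, by simp [mul_smul, MulAction.mem_stabilizer_iff.1 y.2]⟩,
      fun y => by simp, fun y => by simp⟩
  simp only [indFun_apply, h1]
  rw [← Finset.sum_fiberwise' Finset.univ (fun y : G => y • x)
    (fun z => if g • z = z then (1 : ℂ) else 0)]
  simp only [Finset.sum_const, hfib, nsmul_eq_mul, ← Finset.mul_sum]
  rw [← mul_assoc, inv_mul_cancel₀ (card_ne_zero' _), one_mul, Nat.card_eq_fintype_card,
    Fintype.card_subtype, Finset.card_filter]
  simp

theorem indFun_one_eq_card_fixedBy_quotient (H : Subgroup G) (g : G) :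
    indFun H (fun _ => 1) g = Nat.card (MulAction.fixedBy (G ⧸ H) g) := by
  rw [← indFun_one_eq_card_fixedBy (G ⧸ H) ((1 : G) : G ⧸ H) g, MulAction.stabilizer_quotient]

end Agent.Char

end Cfsg
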