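import Cfsg.Agent.Lib.Char.Forms
import Cfsg.Agent.Lib.Char.Gallagher
import Cfsg.Agent.Lib.Char.Degree

/-!
Counting linear characters through an extendible character.
-/

set_option autoImplicit false

namespace Cfsg.Agent.Char

open scoped ComplexConjugate
open Subgroup

variable {G : Type*} [Group G] [Finite G]

theorem card_res_eq_le (I : Subgroup G) (S : Finset (IrrCharacter G)) (h1 : ∀ χ ∈ S, χ.1 1 = 1)
    (h : ∀ χ ∈ S, ∀ ψ ∈ S, ∀ i : I, χ.1 i = ψ.1 i) : S.card ≤ I.index := by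
  rcases S.eq_empty_or_nonempty with rfl | ⟨ψ, hψ⟩
  · simp
  have := Fintype.ofFinite (G ⧸ I)
  have h2 : LinearIndependent ℂ fun (χ : S) (q : G ⧸ I) => χ.1.1 q.out :=
    Fintype.linearIndependent_iff.2 fun c hc => Fintype.linearIndependent_iff.1
      (linearIndependent_irr.comp (fun χ : S => χ.1) Subtype.val_injective) c (funext fun g => by
      obtain ⟨i, hi⟩ := QuotientGroup.mk_out_eq_mul I g
      have := congrArg (· * ψ.1 (i⁻¹ : I)) (congrFun hc g)
      simp only [Finset.sum_apply, Finset.sum_mul, Pi.zero_apply, zero_mul] at this ⊢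
      refine (Finset.sum_congr rfl fun χ _ => ?_).trans this
      obtain ⟨l, hl⟩ := χ.1.2.isCharacter.exists_units_of_apply_one (h1 _ χ.2)
      rw [← h _ χ.2 _ hψ]
      simp [hl, hi, mul_assoc])
  simpa [index, Nat.card_eq_fintype_card] using h2.fintype_card_le_finrank

theorem card_lin_le [Fintype G] {N I : Subgroup G} [N.Normal] (hNG : N ≤ commutator G) {φ : N → ℂ}
    (hφ : IsIrrCharacter N φ) (hI : I = inertia N φ) (hNI : N ≤ I) {ψ : I → ℂ}
    (hψ : IsIrrCharacter I ψ) (hext : ∀ n : N, ψ ⟨n, hNI n.2⟩ = φ n) {A B : (G → ℂ) → Prop}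
    (hAB : ∀ l : G →* ℂˣ, A (fun g => l g) → IsIrrCharacter G (indFun I ((fun i : I => (l i : ℂ)) * ψ)) →
      B (indFun I ((fun i : I => (l i : ℂ)) * ψ))) :
    Nat.card {χ : IrrCharacter G // charDegree χ.1 = 1 ∧ A χ.1} ≤
      I.index * Nat.card {χ : IrrCharacter G // charDegree χ.1 = charDegree φ * I.index ∧ B χ.1} := by
  classical
  have := Fintype.ofFinite N
  have h1 : ∀ χ : {χ : IrrCharacter G // charDegree χ.1 = 1 ∧ A χ.1}, χ.1.1 1 = 1 := fun χ => by
    rw [← χ.1.2.isCharacter.cast_charDegree, χ.2.1, Nat.cast_one]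
  have h2 : ∀ χ : {χ : IrrCharacter G // charDegree χ.1 = 1 ∧ A χ.1}, ∀ n ∈ N, χ.1.1 n = 1 :=
    fun χ n hn => by
    obtain ⟨l, hl⟩ := χ.1.2.isCharacter.exists_units_of_apply_one (h1 χ)
    simp [hl, show l n = 1 from Abelianization.commutator_subset_ker l (hNG hn)]
  have h3 : ∀ χ : {χ : IrrCharacter G // charDegree χ.1 = 1 ∧ A χ.1},
      IsIrrCharacter I ((fun i : I => χ.1.1 i) * ψ) := fun χ =>
    hψ.mul_linear (χ.1.2.isCharacter.res I) (h1 χ)
  have h4 : ∀ χ : {χ : IrrCharacter G // charDegree χ.1 = 1 ∧ A χ.1}, classInner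
      (fun n : N => ((fun i : I => χ.1.1 i) * ψ) ⟨n, hNI n.2⟩) φ ≠ 0 := fun χ => by
    simp [h2 χ, hext, hφ.classInner_self]
  let F : {χ : IrrCharacter G // charDegree χ.1 = 1 ∧ A χ.1} →
      {χ : IrrCharacter G // charDegree χ.1 = charDegree φ * I.index ∧ B χ.1} := fun χ =>
    ⟨⟨_, (hφ.clifford_ind hI hNI (h3 χ) (h4 χ)).1⟩, by
      rw [← Nat.cast_inj (R := ℂ), (h3 χ).isCharacter.ind.cast_charDegree, indFun_one, Nat.cast_mul,
        hφ.isCharacter.cast_charDegree, ← hext, mul_comm]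
      simp [h1 χ]; exact .inl rfl, by
      obtain ⟨l, hl⟩ := χ.1.2.isCharacter.exists_units_of_apply_one (h1 χ)
      have := (hφ.clifford_ind hI hNI (h3 χ) (h4 χ)).1
      simp only [hl] at this ⊢
      exact hAB l (hl ▸ χ.2.2) this⟩
  rw [Nat.card_eq_fintype_card, Nat.card_eq_fintype_card]
  refine Finset.card_le_mul_card_image_of_maps_to (f := F) (fun _ _ => Finset.mem_univ _) _
    fun b _ => ?_
  rw [← Finset.card_map ⟨_, Subtype.val_injective⟩]
  refine card_res_eq_le I _ (fun χ hχ => ?_) fun χ hχ μ hμ => ?_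
  · obtain ⟨χ, -, rfl⟩ := Finset.mem_map.1 hχ
    exact h1 χ
  obtain ⟨χ, hχ', rfl⟩ := Finset.mem_map.1 hχ
  obtain ⟨μ, hμ', rfl⟩ := Finset.mem_map.1 hμ
  have h5 : ∀ χ : {χ : IrrCharacter G // charDegree χ.1 = 1 ∧ A χ.1},
      IsIrrCharacter I (fun i : I => χ.1.1 i) ∧ N.subgroupOf I ≤ charKer (fun i : I => χ.1.1 i) :=
    fun χ => ⟨(χ.1.2.isCharacter.res I).isIrr_of_mul hψ.isCharacter (h3 χ), fun n hn =>
      ((χ.1.2.isCharacter.res I).mem_charKer).2 ((h2 χ _ hn).trans (h1 χ).symm)⟩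
  exact congrFun (eq_of_mul_eq_of_le_charKer (h5 χ).1 (h5 χ).2 (h5 μ).1 (h5 μ).2 hψ.isCharacter
    (by simpa [← hext] using (isIrr_subgroupOf_iff hNI).2 hφ) (hφ.clifford_inj hI hNI (h3 χ) (h3 μ)
      (h4 χ) (h4 μ) (congrArg (·.1.1) ((Finset.mem_filter.1 hχ').2.trans
        (Finset.mem_filter.1 hμ').2.symm))))

omit [Finite G] in
theorem le_commutator_of_min {N : Subgroup G} [N.Normal]
    (hmin : ∀ M : Subgroup G, M.Normal → M ≤ N → M = ⊥ ∨ M = N) (hna : ¬ IsMulCommutative N) :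
    N ≤ commutator G := by
  rcases hmin ⁅N, N⁆ inferInstance (commutator_le_left _ _) with h | h
  · exact absurd (commutator_self_eq_bot_iff.1 h) hna
  · exact h.ge.trans (commutator_mono le_top le_top)

omit [Finite G] in
theorem eq_inertia_of_iff {N I : Subgroup G} [N.Normal] {φ : N → ℂ} (hI : ∀ g : G, g ∈ I ↔
    ∀ n n' : N, (n' : G) = g * (n : G) * g⁻¹ → φ n' = φ n) : I = inertia N φ := by
  ext g
  rw [hI, mem_inertia']
  exact ⟨fun h n => h n _ rfl, fun h n n' e => (congrArg φ (Subtype.ext e)).trans (h n)⟩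

end Cfsg.Agent.Char
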