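import Cfsg.Agent.Lib.Char.Sec7
import Cfsg.Agent.Lib.Char.Sec9B

/-!
The abstract set-up of Peterfalvi's Sections 10 and 11 (maximal subgroups of types III, IV, V).
-/

set_option autoImplicit false

namespace Cfsg.Agent.Char

variable {L : Type*} [Group L] {G : Type*} [Group G] {A : Type*} [Group A] {B : Type*} [Group B]
  [Fintype L] [Fintype G]

theorem PDade.mono {K H H' : Subgroup L} {f : A × B →* L}
    {μ : (A →* ℂˣ) → (B →* ℂˣ) → L → ℂ} {δ : (B →* ℂˣ) → ℤ} {g : A × B →* G}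
    {η : (A →* ℂˣ) → (B →* ℂˣ) → G → ℂ} {S₀ : Set L} {τ : (L → ℂ) →ₗ[ℂ] (G → ℂ)}
    (h : PDade K H f μ δ g η S₀ τ) [hH : H'.Normal] (h1 : H' ≤ H) (h2 : ∀ b, f (1, b) ∈ H') :
    PDade K H' f μ δ g η S₀ τ :=
  { h with
    normalH := hH
    HK := h1.trans h.HK
    BH := h2
    cent := fun x hx hx1 y hy => h.cent x hx hx1 y (h1 hy) }

/-- Hypothesis (10.1): `K = L'`, the set `S` is `indD K K ⊥`. -/
structure P10 (K : Subgroup L) (f : A × B →* L) (μ : (A →* ℂˣ) → (B →* ℂˣ) → L → ℂ)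
    (δ : (B →* ℂˣ) → ℤ) (g : A × B →* G) (η : (A →* ℂˣ) → (B →* ℂˣ) → G → ℂ) (S₀ : Set L)
    (τ : (L → ℂ) →ₗ[ℂ] (G → ℂ)) (R : (L → ℂ) → Finset (G → ℂ)) : Prop
    extends PDade K K f μ δ g η S₀ τ where
  odd : Odd (Nat.card L)
  oddG : Odd (Nat.card G)
  solv : Group.IsSolvable L
  sys : CohSys (indD K K ⊥) τ R
  red : RedR K μ δ η R
  primeB : (Nat.card B).Prime
  BK : ∀ b, f (1, b) ∈ ⁅K, K⁆
  map : ∀ (σ : ℂ →+* ℂ) (α : L → ℂ), τ (fun x => σ (α x)) = fun y => σ (τ α y)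
  tone : ∀ α, IsClassFunction L α → SuppIn S₀ α →
    classInner (τ α) (fun _ => 1) = classInner α fun _ => 1

/-- The function `α_ij = μ_ij - δ μ_i0 - n ζ` of (10.5). -/
noncomputable def alph (μ : (A →* ℂˣ) → (B →* ℂˣ) → L → ℂ) (δ : (B →* ℂˣ) → ℤ) (n : ℕ)
    (ζ : L → ℂ) (i : A →* ℂˣ) (j : B →* ℂˣ) : L → ℂ :=
  μ i j - (δ j : ℂ) • μ i 1 - (n : ℂ) • ζ

/-- The numbers `d`, `δ`, `n` of (10.3). -/
structure DN (μ : (A →* ℂˣ) → (B →* ℂˣ) → L → ℂ) (δ : (B →* ℂˣ) → ℤ) (d n : ℕ) (ε : ℤ) : Prop where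
  deg : ∀ j, j ≠ 1 → μ 1 j 1 = d
  sign : ∀ j, j ≠ 1 → δ j = ε
  eq : (d : ℤ) = n * Nat.card A + ε
  one_lt : 1 < d
  two_le : 2 ≤ n
  even : Even n

end Cfsg.Agent.Char
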