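import Cfsg.Agent.Lib.Char.CycBridge
import Cfsg.Agent.Lib.Char.Dade
import Cfsg.Agent.Lib.Char.Misc
import Cfsg.Agent.Lib.Char.PermLemma

/-!
Characters of a group `L = K ⋊ W₁` with `C_K(x) = W₂` for all non-identity `x ∈ W₁`
(Peterfalvi, Section 4).
-/

set_option autoImplicit false

namespace Cfsg.Agent.Char

open scoped ComplexConjugate

variable {L : Type*} [Group L] {G : Type*} [Group G] {A : Type*} [Group A] {B : Type*} [Group B]

/-- An irreducible character not containing `N` in its kernel vanishes at elements without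
non-trivial fixed points on `N`. -/
theorem _root_.Cfsg.IsIrrCharacter.eq_zero_of_fpf [Finite G] {χ : G → ℂ} (hχ : IsIrrCharacter G χ)
    {N : Subgroup G} [hN : N.Normal] (h : ¬ N ≤ charKer χ) {g : G}
    (hg : ∀ k ∈ N, g * k = k * g → k = 1) : χ g = 0 := by
  have := Fintype.ofFinite N
  have h1 := hχ.sum_mul_eq_zero h g
  have h2 : ∀ n : N, χ (n * g) = χ g := fun n => by
    obtain ⟨y, -, hy⟩ := exists_conj_eq_mul_of_fpf hg n.2
    rw [← hy, hχ.isCharacter.apply_conj]
  simp only [h2, Finset.sum_const, Finset.card_univ, nsmul_eq_mul, mul_eq_zero, Nat.cast_eq_zero,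
    Fintype.card_ne_zero, false_or] at h1
  exact h1

/-- Classes of `K` fixed by a coprime element meet the common centraliser. -/
theorem card_fixed_conjClasses_le [Finite L] (K W : Subgroup L) [hK : K.Normal] {x : L} (hx1 : x ≠ 1)
    (hx : (orderOf x).Coprime (Nat.card K))
    (hC : ∀ y ∈ Subgroup.zpowers x, y ≠ 1 → ∀ k ∈ K, y * k = k * y → k ∈ W) :
    Nat.card {C : ConjClasses K // ConjClasses.map
      (MulEquiv.toMonoidHom (MulAut.conjNormal x : MulAut K)) C = C} ≤ Nat.card W := by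
  classical
  have key : ∀ k : K, IsConj (MulAut.conjNormal x k) k → ∃ w : K, (w : L) ∈ W ∧ IsConj k w := by
    intro k hk
    by_contra hcon
    push Not at hcon
    let φ : Subgroup.zpowers x →* MulAut K := MulAut.conjNormal.comp (Subgroup.zpowers x).subtype
    have hinv : ∀ y : Subgroup.zpowers x, ∀ c : K, IsConj k c → IsConj k (φ y c) := by
      have h1 : ∀ c : K, IsConj k c → IsConj k (MulAut.conjNormal x c) := fun c hc =>
        hk.symm.trans ((MulAut.conjNormal x : MulAut K).toMonoidHom.map_isConj hc)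
      rintro ⟨y, hy⟩ c hc
      obtain ⟨n, rfl⟩ := (mem_powers_iff_mem_zpowers.2 hy)
      change IsConj k (MulAut.conjNormal (x ^ n) c)
      induction n with
      | zero => simpa using hc
      | succ n ih =>
        rw [pow_succ', map_mul, MulAut.mul_apply]
        exact h1 _ (ih (Subgroup.pow_mem _ (Subgroup.mem_zpowers x) n))
    let X := {c : K // IsConj k c}
    let : MulAction (Subgroup.zpowers x) X :=
      { smul := fun y c => ⟨φ y c.1, hinv y c.1 c.2⟩
        one_smul := fun c => Subtype.ext (by change φ 1 c.1 = c.1; simp)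
        mul_smul := fun y z c => Subtype.ext (by change φ (y * z) c.1 = φ y (φ z c.1); simp) }
    have hfree : ∀ c : X, MulAction.stabilizer (Subgroup.zpowers x) c = ⊥ := by
      intro c
      rw [eq_bot_iff]
      intro y hy
      by_contra hy1
      have h2 : (y : L) * c.1 * (y : L)⁻¹ = c.1 := congrArg (fun c : X => ((c.1 : K) : L)) hy
      exact hcon c.1 (hC y y.2 (fun h => hy1 (Subtype.ext h)) _ c.1.2
        (by rw [mul_inv_eq_iff_eq_mul] at h2; exact h2)) c.2
    have h3 : Nat.card (Subgroup.zpowers x) ∣ Nat.card X := by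
      rw [Nat.card_congr (MulAction.selfEquivOrbitsQuotientProd hfree), Nat.card_prod]
      exact Dvd.intro_left _ rfl
    have h4 : Nat.card X ∣ Nat.card K := Dvd.intro _ (card_isConj_mul_card_centralizer k)
    rw [Nat.card_zpowers] at h3
    exact hx1 (orderOf_eq_one_iff.1 (hx.eq_one_of_dvd (h3.trans h4)))
  let F : W → ConjClasses K := fun w => if h : (w : L) ∈ K then ConjClasses.mk ⟨w, h⟩ else 1
  refine (Nat.card_le_card_of_injective (β := Set.range F) (fun C => ⟨C.1, ?_⟩) ?_).trans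
    (Finite.card_range_le F)
  · obtain ⟨C, hC⟩ := C
    obtain ⟨k, rfl⟩ := ConjClasses.exists_rep C
    obtain ⟨w, hw, h⟩ := key k (ConjClasses.mk_eq_mk_iff_isConj.1 hC)
    exact ⟨⟨w, hw⟩, by simp only [F, dif_pos w.2]; exact ConjClasses.mk_eq_mk_iff_isConj.2 h.symm⟩
  · intro C D h
    exact Subtype.ext (congrArg (fun x : Set.range F => x.1) h)

/-- The group-theoretic hypothesis (4.2), with `W₁ × W₂` embedded by `f`. -/
structure PrimeTI (K : Subgroup L) (f : A × B →* L) : Prop where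
  normal : K.Normal
  inj : Function.Injective f
  cycA : IsCyclic A
  cycB : IsCyclic B
  oddA : Odd (Nat.card A)
  oddB : Odd (Nat.card B)
  ntA : 1 < Nat.card A
  ntB : 1 < Nat.card B
  memK : ∀ a b, f (a, b) ∈ K ↔ a = 1
  surj : ∀ x : L, ∃ k ∈ K, ∃ a, x = k * f (a, 1)
  cop : (Nat.card A).Coprime (Nat.card K)
  cent : ∀ a, a ≠ 1 → ∀ k ∈ K, f (a, 1) * k = k * f (a, 1) → ∃ b, k = f (1, b)

namespace PrimeTI

variable {K : Subgroup L} {f : A × B →* L} (h : PrimeTI K f)
include h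

theorem commA (a b : A) : a * b = b * a := comm_of_isCyclic h.cycA a b
theorem commB (a b : B) : a * b = b * a := comm_of_isCyclic h.cycB a b
theorem finiteA : Finite A := Nat.finite_of_card_ne_zero (by have := h.ntA; omega)
theorem finiteB : Finite B := Nat.finite_of_card_ne_zero (by have := h.ntB; omega)

theorem exists_ne_one : ∃ a : A, a ≠ 1 :=
  haveI := h.finiteA
  haveI := Finite.one_lt_card_iff_nontrivial.1 h.ntA
  exists_ne 1

theorem memB (b : B) : f (1, b) ∈ K := (h.memK 1 b).2 rfl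

theorem card_B_dvd : Nat.card B ∣ Nat.card K := by
  let g : B →* K := (f.comp (MonoidHom.inr A B)).codRestrict K h.memB
  refine Subgroup.card_dvd_of_injective g fun b c e => ?_
  exact (Prod.mk.inj (h.inj (congrArg Subtype.val e))).2

theorem coprime : (Nat.card A).Coprime (Nat.card B) := h.cop.coprime_dvd_right h.card_B_dvd

theorem eq_of_mul_eq {k k' : L} (hk : k ∈ K) (hk' : k' ∈ K) {a a' : A} {b b' : B}
    (e : k * f (a, b) = k' * f (a', b')) : a = a' := by
  have : f (a' * a⁻¹, b' * b⁻¹) = k'⁻¹ * k := by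
    rw [← Prod.mk_mul_mk, ← Prod.inv_mk, map_mul, map_inv, mul_inv_eq_iff_eq_mul, mul_assoc, e]
    simp
  have h2 := (h.memK _ _).1 (this ▸ K.mul_mem (K.inv_mem hk') hk)
  exact (mul_inv_eq_one.1 h2).symm

/-- `W - W₂` is a TI-subset. -/
theorem ti {a : A} (ha : a ≠ 1) (b : B) (g : L) (hg : g * f (a, b) * g⁻¹ ∈ f.range) :
    g ∈ f.range := by
  have := h.finiteA
  have := h.finiteB
  have hN := h.normal
  obtain ⟨⟨a', b'⟩, e⟩ := hg
  obtain ⟨n, h1, h2⟩ := Nat.chineseRemainder h.coprime 1 0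
  have hp : ∀ (a : A) (b : B), (a, b) ^ n = (a, 1) := fun a b => by
    rw [Prod.pow_mk, pow_eq_pow_iff_modEq.2 (h1.of_dvd (orderOf_dvd_natCard a)),
      pow_eq_pow_iff_modEq.2 (h2.of_dvd (orderOf_dvd_natCard b))]
    simp
  have e2 : f (a', 1) = g * f (a, 1) * g⁻¹ := by
    rw [← hp a' b', ← hp a b, map_pow, map_pow, e, conj_pow]
  obtain ⟨k, hk, c, rfl⟩ := h.surj g
  have e3 : f (a', 1) = k * f (a, 1) * k⁻¹ := by
    rw [e2, mul_assoc k, ← map_mul, Prod.mk_mul_mk, h.commA c, ← Prod.mk_mul_mk, map_mul]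
    group
  have e4 : a' = a := h.eq_of_mul_eq (b := 1) (b' := 1) K.one_mem
    (K.mul_mem hk (hN.conj_mem _ (K.inv_mem hk) (f (a, 1)))) (by rw [e3]; group)
  rw [e4, eq_mul_inv_iff_mul_eq] at e3
  obtain ⟨b, rfl⟩ := h.cent a ha k hk e3
  exact ⟨(1, b) * (c, 1), map_mul _ _ _⟩

theorem cycTI : CycTI f :=
  ⟨h.inj, h.cycA, h.cycB, h.oddA, h.oddB, h.coprime, h.ntA, h.ntB, fun _ b ha _ => h.ti ha b⟩

/-- The projection of `L` onto `W₁` with kernel `K`. -/
noncomputable def pr : L →* A :=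
  MonoidHom.mk' (fun x => (h.surj x).choose_spec.2.choose) fun x y => by
    have hN := h.normal
    obtain ⟨hx, ex⟩ := (h.surj x).choose_spec
    obtain ⟨hy, ey⟩ := (h.surj y).choose_spec
    obtain ⟨hz, ez⟩ := (h.surj (x * y)).choose_spec
    have ex := ex.choose_spec
    have ey := ey.choose_spec
    have ez := ez.choose_spec
    refine h.eq_of_mul_eq (b := 1) (b' := 1 * 1) hz (K.mul_mem hx (hN.conj_mem _ hy
      (f ((h.surj x).choose_spec.2.choose, 1)))) ?_
    rw [← ez, ← Prod.mk_mul_mk, map_mul]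
    conv_lhs => rw [ex, ey]
    group

theorem exists_eq_mul_pr (x : L) : ∃ k ∈ K, x = k * f (h.pr x, 1) :=
  ⟨_, (h.surj x).choose_spec.1, (h.surj x).choose_spec.2.choose_spec⟩

@[simp] theorem pr_f (a : A) (b : B) : h.pr (f (a, b)) = a := by
  obtain ⟨k, hk, e⟩ := h.exists_eq_mul_pr (f (a, b))
  exact (h.eq_of_mul_eq K.one_mem hk (by rw [one_mul]; exact e)).symm

theorem pr_eq_one_iff {x : L} : h.pr x = 1 ↔ x ∈ K := by
  obtain ⟨k, hk, e⟩ := h.exists_eq_mul_pr x
  constructor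
  · intro h1
    rw [e, h1]
    exact K.mul_mem hk (h.memB 1)
  · intro hx
    have : f (h.pr x, 1) = k⁻¹ * x := by rw [eq_inv_mul_iff_mul_eq, ← e]
    exact (h.memK _ 1).1 (this ▸ K.mul_mem (K.inv_mem hk) hx)

theorem pr_coe (k : K) : h.pr k = 1 := h.pr_eq_one_iff.2 k.2

theorem ker_pr : h.pr.ker = K := by ext x; exact h.pr_eq_one_iff

theorem pr_surjective : Function.Surjective h.pr := fun a => ⟨f (a, 1), h.pr_f a 1⟩

theorem index : K.index = Nat.card A := by
  rw [← h.ker_pr, Subgroup.index_ker, MonoidHom.range_eq_top.2 h.pr_surjective, Subgroup.card_top]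

theorem orderOf_coprime (a : A) : (orderOf (f (a, 1))).Coprime (Nat.card K) := by
  have := h.finiteA
  refine h.cop.coprime_dvd_left ((orderOf_map_dvd _ _).trans ?_)
  rw [Prod.orderOf_mk, orderOf_one, Nat.lcm_one_right]
  exact orderOf_dvd_natCard a

/-- Every element outside `K` is conjugate into `W - W₂`. -/
theorem exists_conj [Finite L] {x : L} (hx : x ∉ K) :
    ∃ y ∈ K, ∃ a b, a ≠ 1 ∧ y * x * y⁻¹ = f (a, b) := by
  have hN := h.normal
  obtain ⟨k, hk, a, rfl⟩ := h.surj x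
  have ha : a ≠ 1 := by
    rintro rfl
    exact hx (K.mul_mem hk (h.memB 1))
  obtain ⟨y, hy, c, hc, e1, e2⟩ := exists_conj_mul_eq (K := K) (b := f (a, 1))
    (by rw [Subgroup.normalizer_eq_top]; trivial) (h.orderOf_coprime a) hk
  obtain ⟨b, rfl⟩ := h.cent a ha c hc e1.symm
  exact ⟨y, hy, a, b, ha, by rw [e2, ← map_mul]; simp⟩

/-- The linear characters of `L` trivial on `K`. -/
noncomputable def lam (i : A →* ℂˣ) : L → ℂ := lc (i.comp h.pr)

theorem lam_apply (i : A →* ℂˣ) (x : L) : h.lam i x = i (h.pr x) := rfl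

@[simp] theorem lam_f (i : A →* ℂˣ) (a : A) (b : B) : h.lam i (f (a, b)) = i a := by
  rw [lam_apply, pr_f]

theorem lam_of_mem (i : A →* ℂˣ) {x : L} (hx : x ∈ K) : h.lam i x = 1 := by
  rw [lam_apply, h.pr_eq_one_iff.2 hx]; simp

@[simp] theorem lam_coe (i : A →* ℂˣ) (x : K) : h.lam i x = 1 := h.lam_of_mem i x.2

theorem isIrr_lam (i : A →* ℂˣ) : IsIrrCharacter L (h.lam i) := isIrr_lc _

theorem indFun_one [Fintype L] :
    indFun K (fun _ => 1) = haveI := h.finiteA; ∑ i : A →* ℂˣ, h.lam i := by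
  classical
  have := h.finiteA
  have hN := h.normal
  ext x
  simp only [Finset.sum_apply, lam_apply, sum_lc h.commA, h.pr_eq_one_iff]
  split_ifs with hx
  · rw [res_indFun_of_invariant (fun g => cj_const g 1) ⟨x, hx⟩, h.index, mul_one]
  · exact indFun_normal_of_not_mem _ hx

/-- An irreducible character containing `K` in its kernel is one of the `lam i`. -/
theorem exists_eq_lam [Finite L] {χ : L → ℂ} (hχ : IsIrrCharacter L χ) (hk : K ≤ charKer χ) :
    ∃ i, χ = h.lam i := by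
  obtain ⟨ψ, hψ, e⟩ := hχ.exists_descend h.pr h.pr_surjective (h.ker_pr.symm ▸ hk)
  obtain ⟨i, rfl⟩ := hψ.isCharacter.exists_units_of_apply_one (hψ.apply_one_of_comm h.commA)
  exact ⟨i, funext fun x => (e x).symm⟩

theorem ind_apply [Fintype L] (α : A × B → ℂ) {a : A} (ha : a ≠ 1) (b : B) :
    indHom f α (f (a, b)) = α (a, b) :=
  indHom_apply_of_TI h.inj (h.cycTI.isClassFunction α) (h.ti ha b)

theorem classInner_ind [Fintype L] [Fintype A] [Fintype B] {α : A × B → ℂ}
    (hα : ∀ b, α (1, b) = 0) (β : A × B → ℂ) :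
    classInner (indHom f α) (indHom f β) = classInner α β :=
  classInner_indHom_of_TI h.inj (h.cycTI.isClassFunction β) fun ⟨a, b⟩ hu =>
    h.ti (by rintro rfl; exact hu (hα b)) b

end PrimeTI

/-- The irreducible characters `μ i j` and signs `δ j` of Peterfalvi (4.3). -/
structure PrimeFam [Fintype L] (K : Subgroup L) (f : A × B →* L)
    (μ : (A →* ℂˣ) → (B →* ℂˣ) → L → ℂ) (δ : (B →* ℂˣ) → ℤ) : Prop where
  pti : PrimeTI K f
  irr : ∀ i j, IsIrrCharacter L (μ i j)
  sign : ∀ j, δ j = 1 ∨ δ j = -1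
  eq_on : ∀ i j a b, a ≠ 1 → μ i j (f (a, b)) = δ j * (i a * j b)

theorem PrimeTI.exists_fam [Fintype L] {K : Subgroup L} {f : A × B →* L} (h : PrimeTI K f) :
    ∃ μ δ, PrimeFam K f μ δ := by
  have := h.finiteA
  have := h.finiteB
  have := Fintype.ofFinite A
  have := Fintype.ofFinite B
  have hs : ∀ (i k : A →* ℂˣ) (j : B →* ℂˣ) (b : B), (om i j - om k j) (1, b) = 0 := by simp
  have col : ∀ j : B →* ℂˣ, ∃ ε : ℂ, (ε = 1 ∨ ε = -1) ∧ ∃ μ : (A →* ℂˣ) → L → ℂ,
      (∀ i, IsIrrCharacter L (μ i)) ∧ Function.Injective μ ∧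
      ∀ i, indHom f (om i j - om 1 j) = ε • (μ i - μ 1) := fun j =>
    isometry_lemma (1 : A →* ℂˣ) (τ := fun i => indHom f (om i j - om 1 j)) (by simp)
      (fun i => isGen_indHom h.inj ((isIrr_om _ _).isGen.sub (isIrr_om _ _).isGen))
      (fun i => by rw [indHom_one h.inj]; simp [← Prod.mk_one_one, -Prod.mk_one_one])
      (fun i k hi hk => by
        rw [h.classInner_ind (hs _ _ _)]
        simp only [classInner_sub_left, classInner_sub_right, classInner_om, hi, hk.symm]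
        split_ifs <;> simp_all <;> norm_num)
  choose ε hε μ hirr hinj hind using col
  have hε0 : ∀ j, ε j ≠ 0 := fun j => by rcases hε j with e | e <;> simp [e]
  have hεε : ∀ j, ε j * conj (ε j) = 1 := fun j => by rcases hε j with e | e <;> simp [e]
  have hdeg : ∀ j i, μ j i 1 = μ j 1 1 := fun j i => by
    have := congrFun (hind j i) 1
    rw [indHom_one h.inj] at this
    simpa [← Prod.mk_one_one, -Prod.mk_one_one, hε0, sub_eq_zero] using this.symm
  have horth : ∀ j l, j ≠ l → ∀ i k, classInner (μ j i) (μ l k) = 0 := by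
    intro j l hjl
    have key := fun (i k : A →* ℂˣ) (hi : i ≠ 1) (hk : k ≠ 1) =>
      orth_of_mixed (hirr j i).isDirr (hirr j 1).isDirr (hirr l k).isDirr (hirr l 1).isDirr
        one_ne_zero one_ne_zero ((hirr _ _).classInner_of_ne (hirr _ _) (hinj j |>.ne hi))
        ((hirr _ _).classInner_of_ne (hirr _ _) (hinj l |>.ne hk)) (by
          have := h.classInner_ind (hs i 1 j) (om k l - om 1 l)
          rw [hind, hind, classInner_smul_left, classInner_smul_right] at this
          simp only [classInner_sub_left (om _ _), classInner_sub_right _ (om _ _), classInner_om, hjl,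
            and_false, if_false, sub_self, mul_eq_zero, hε0, map_eq_zero, false_or] at this
          simpa using this) (hdeg j i) (by rw [hdeg l k])
    obtain ⟨i₀, hi₀⟩ := h.cycTI.exists_ne_oneA
    intro i k
    by_cases hi : i = 1 <;> by_cases hk : k = 1
    · rw [hi, hk]; exact (key _ _ hi₀ hi₀).2.2.2
    · rw [hi]; exact (key _ _ hi₀ hk).2.2.1
    · rw [hk]; exact (key _ _ hi hi₀).2.1
    · exact (key _ _ hi hk).1
  have hin : ∀ i j k l, classInner (μ j i) (μ l k) = if i = k ∧ j = l then 1 else 0 := by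
    intro i j k l
    by_cases hjl : j = l
    · subst hjl
      by_cases hik : i = k
      · simp [hik, (hirr _ _).classInner_self]
      · simp [hik, (hirr _ _).classInner_of_ne (hirr _ _) (hinj j |>.ne hik)]
    · simp [hjl, horth j l hjl]
  refine ⟨fun i j => μ j i, fun j => if ε j = 1 then 1 else -1, h, fun i j => hirr j i,
    fun j => by split_ifs <;> simp, fun k l a b ha => ?_⟩
  have h1 := eq_zero_of_orth_om_col h.commA h.commB
    (φ := ε l • (fun w => μ l k (f w)) - om k l) (fun i j => by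
      rw [← sub_eq_zero, ← classInner_sub_right, classInner_sub_left, classInner_smul_left,
        ← frobenius_hom' h.inj _ (hirr l k).isClassFunction, hind, classInner_smul_right]
      simp only [classInner_sub_right, hin, classInner_om]
      by_cases hlj : l = j
      · subst hlj
        rw [← mul_assoc, hεε]; simp
      · simp [hlj]) ha b
  simp only [Pi.sub_apply, Pi.smul_apply, smul_eq_mul, om_apply, sub_eq_zero] at h1
  rw [← h1]
  rcases hε l with e | e <;> norm_num [e]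

/-- The restriction to `K` of the characters in column `j`. -/
def pchi (K : Subgroup L) (μ : (A →* ℂˣ) → (B →* ℂˣ) → L → ℂ) (j : B →* ℂˣ) : K → ℂ :=
  fun k => μ 1 j k

/-- The sum of the characters in column `j`. -/
noncomputable def pmu [Fintype L] (K : Subgroup L) (μ : (A →* ℂˣ) → (B →* ℂˣ) → L → ℂ)
    (j : B →* ℂˣ) : L → ℂ := indFun K (pchi K μ j)

namespace PrimeFam

variable [Fintype L] {K : Subgroup L} {f : A × B →* L} {μ : (A →* ℂˣ) → (B →* ℂˣ) → L → ℂ}
  {δ : (B →* ℂˣ) → ℤ} (h : PrimeFam K f μ δ)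
include h

theorem signC (j : B →* ℂˣ) : (δ j : ℂ) = 1 ∨ (δ j : ℂ) = -1 := by
  rcases h.sign j with e | e <;> simp [e]

theorem delta_mul_self (j : B →* ℂˣ) : δ j * δ j = 1 := by
  rcases h.sign j with e | e <;> simp [e]

theorem delta_sq (j : B →* ℂˣ) : (δ j : ℂ) * δ j = 1 := by exact_mod_cast h.delta_mul_self j

theorem delta_sq_real (j : B →* ℂˣ) : (δ j : ℝ) * δ j = 1 := by exact_mod_cast h.delta_mul_self j

theorem delta_ne_zero (j : B →* ℂˣ) : (δ j : ℂ) ≠ 0 := by
  rcases h.sign j with e | e <;> simp [e]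

theorem delta_smul_smul (j : B →* ℂˣ) {X : Type*} (φ : X → ℂ) : (δ j : ℂ) • (δ j : ℂ) • φ = φ := by
  rw [smul_smul, h.delta_sq, one_smul]

theorem isGen (i : A →* ℂˣ) (j : B →* ℂˣ) : IsGeneralizedCharacter L (μ i j) := (h.irr i j).isGen

theorem isClassFunction (i : A →* ℂˣ) (j : B →* ℂˣ) : IsClassFunction L (μ i j) :=
  (h.irr i j).isClassFunction

theorem cycFam : CycFam f fun i j => (δ j : ℂ) • μ i j := by
  obtain ⟨η, hη⟩ := h.pti.cycTI.exists_fam
  have : (fun i j => (δ j : ℂ) • μ i j) = η := by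
    funext i j
    refine hη.eq_of_dirr ((h.irr i j).isDirr.sign_smul (h.signC j)) fun a b ha _ => ?_
    rw [Pi.smul_apply, h.eq_on i j a b ha, smul_eq_mul, ← mul_assoc, h.delta_sq, one_mul]
  rwa [this]

theorem classInner_mu (i k : A →* ℂˣ) (j l : B →* ℂˣ) :
    classInner (μ i j) (μ k l) = if i = k ∧ j = l then 1 else 0 := by
  split_ifs with e
  · rw [e.1, e.2, (h.irr _ _).classInner_self]
  · have := h.cycFam.orth i j k l
    simpa [classInner_smul_left, classInner_smul_right, e, h.sign, h.delta_ne_zero,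
      -Int.cast_eq_zero] using this

theorem rip_mu (i k : A →* ℂˣ) (j l : B →* ℂˣ) :
    rip (μ i j) (μ k l) = if i = k ∧ j = l then 1 else 0 := by
  rw [rip, h.classInner_mu]; split_ifs <;> simp

theorem inj {i k : A →* ℂˣ} {j l : B →* ℂˣ} (e : μ i j = μ k l) : i = k ∧ j = l := by
  by_contra hne
  have := h.classInner_mu i k j l
  rw [if_neg hne, e, (h.irr _ _).classInner_self] at this
  exact one_ne_zero this

/-- An irreducible character is identified by its values on `V`. -/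
theorem eq_of_irr {χ : L → ℂ} (hχ : IsIrrCharacter L χ) {ε : ℤ} (hε : ε = 1 ∨ ε = -1)
    {i : A →* ℂˣ} {j : B →* ℂˣ}
    (hV : ∀ a b, a ≠ 1 → b ≠ 1 → χ (f (a, b)) = ε * (i a * j b)) : χ = μ i j ∧ ε = δ j := by
  have h1 := h.cycFam.eq_of_dirr (χ := (ε : ℂ) • χ) (i := i) (j := j)
    (hχ.isDirr.sign_smul (by rcases hε with e | e <;> simp [e])) fun a b ha hb => by
      rw [Pi.smul_apply, hV a b ha hb]
      rcases hε with e | e <;> simp [e]
  have h2 : χ ≠ -μ i j := fun e => by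
    have := hχ.isCharacter.rip_nonneg (h.irr i j).isCharacter
    rw [e, rip_neg_left, (h.irr i j).rip_self] at this
    norm_num at this
  rcases hε with e | e <;> rcases h.sign j with e' | e' <;>
    simp only [e, e', Int.cast_one, one_smul, Int.cast_neg, neg_smul, neg_inj] at h1 ⊢
  · exact ⟨h1, trivial⟩
  · exact (h2 h1).elim
  · exact (h2 (neg_eq_iff_eq_neg.1 h1)).elim
  · exact ⟨h1, trivial⟩

theorem mu_eq_lam_mul (i : A →* ℂˣ) (j : B →* ℂˣ) : μ i j = h.pti.lam i * μ 1 j :=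
  (h.eq_of_irr ((h.irr 1 j).mul_units (i.comp h.pti.pr)) (h.sign j) fun a b ha _ => by
    simp only [MonoidHom.comp_apply, PrimeTI.pr_f, h.eq_on 1 j a b ha, MonoidHom.one_apply,
      Units.val_one]
    ring).1.symm

theorem mu_of_mem (i : A →* ℂˣ) (j : B →* ℂˣ) {x : L} (hx : x ∈ K) : μ i j x = μ 1 j x := by
  rw [h.mu_eq_lam_mul i j, Pi.mul_apply, h.pti.lam_of_mem i hx, one_mul]

theorem res_mu (i : A →* ℂˣ) (j : B →* ℂˣ) : (fun k : K => μ i j k) = pchi K μ j :=
  funext fun k => h.mu_of_mem i j k.2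

theorem mu_apply_one (i : A →* ℂˣ) (j : B →* ℂˣ) : μ i j 1 = μ 1 j 1 := h.mu_of_mem i j K.one_mem

theorem mu_one_right (i : A →* ℂˣ) : μ i 1 = h.pti.lam i :=
  (h.eq_of_irr (h.pti.isIrr_lam i) (Or.inl rfl) fun a b _ _ => by simp).1.symm

theorem delta_one : δ 1 = 1 :=
  (h.eq_of_irr (h.pti.isIrr_lam 1) (Or.inl rfl) (i := 1) fun a b _ _ => by simp).2.symm

theorem mu_one_one : μ 1 1 = fun _ => 1 := by rw [h.mu_one_right]; rfl

theorem pchi_one : pchi K μ 1 = fun _ => 1 := by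
  funext k; rw [pchi, h.mu_one_one]

theorem map (σ : ℂ →+* ℂ) (i : A →* ℂˣ) (j : B →* ℂˣ) :
    μ (autLc σ i) (autLc σ j) = fun g => σ (μ i j g) :=
  (h.eq_of_irr ((h.irr i j).map_ringHom σ) (h.sign j) fun a b ha _ => by
    simp [h.eq_on i j a b ha]).1.symm

theorem delta_map (σ : ℂ →+* ℂ) (j : B →* ℂˣ) : δ (autLc σ j) = δ j :=
  (h.eq_of_irr ((h.irr 1 j).map_ringHom σ) (h.sign j) (i := 1) fun a b ha _ => by
    simp [h.eq_on 1 j a b ha]).2.symm

theorem conjFun_mu (i : A →* ℂˣ) (j : B →* ℂˣ) : conjFun (μ i j) = μ i⁻¹ j⁻¹ := by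
  have := h.pti.finiteA
  have := h.pti.finiteB
  rw [← autLc_conj, ← autLc_conj, h.map]; rfl

theorem delta_inv (j : B →* ℂˣ) : δ j⁻¹ = δ j := by
  have := h.pti.finiteB
  rw [← autLc_conj, h.delta_map]

theorem pchi_map (σ : ℂ →+* ℂ) (j : B →* ℂˣ) :
    pchi K μ (autLc σ j) = fun g => σ (pchi K μ j g) := by
  funext k
  rw [pchi, pchi, ← autLc_one (W := A) σ, h.map, autLc_one]

theorem pmu_map (σ : ℂ →+* ℂ) (j : B →* ℂˣ) :
    pmu K μ (autLc σ j) = fun g => σ (pmu K μ j g) := by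
  funext g
  rw [pmu, h.pchi_map, indFun_map, pmu]

theorem conjFun_pchi (j : B →* ℂˣ) : conjFun (pchi K μ j) = pchi K μ j⁻¹ := by
  have := h.pti.finiteB
  rw [← autLc_conj, h.pchi_map]; rfl

theorem conjFun_pmu (j : B →* ℂˣ) : conjFun (pmu K μ j) = pmu K μ j⁻¹ := by
  have := h.pti.finiteB
  rw [← autLc_conj, h.pmu_map]; rfl

theorem mu_inv_apply_one (j : B →* ℂˣ) : μ 1 j⁻¹ 1 = μ 1 j 1 := by
  have := congrFun (h.conjFun_mu 1 j) 1
  rw [lc_inv_one, conjFun_apply, (h.irr 1 j).isCharacter.conj_apply_one] at this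
  exact this.symm

theorem pmu_eq_sum [Finite A] (j : B →* ℂˣ) : pmu K μ j = ∑ i, μ i j := by
  rw [pmu, ← h.res_mu 1 j, indFun_res K (h.isClassFunction 1 j), h.pti.indFun_one, Finset.sum_mul]
  exact Finset.sum_congr rfl fun i _ => (h.mu_eq_lam_mul i j).symm

theorem card_lcA [Finite A] : Fintype.card (A →* ℂˣ) = Nat.card A := by
  rw [← Nat.card_eq_fintype_card, h.pti.cycTI.card_lcA]

theorem classInner_pmu_mu (j l : B →* ℂˣ) (k : A →* ℂˣ) :
    classInner (pmu K μ j) (μ k l) = if j = l then 1 else 0 := by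
  have := h.pti.finiteA
  simp [h.pmu_eq_sum, classInner_sum_left, h.classInner_mu, ite_and]

theorem classInner_pmu (j l : B →* ℂˣ) :
    classInner (pmu K μ j) (pmu K μ l) = if j = l then (Nat.card A : ℂ) else 0 := by
  have := h.pti.finiteA
  rw [h.pmu_eq_sum l]
  simp [classInner_sum_right, h.classInner_pmu_mu, h.card_lcA]

theorem rip_pmu (j l : B →* ℂˣ) :
    rip (pmu K μ j) (pmu K μ l) = if j = l then (Nat.card A : ℝ) else 0 := by
  rw [rip, h.classInner_pmu]; split_ifs <;> simp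

theorem pmu_injective : Function.Injective (pmu K μ) := fun j l e => by
  by_contra hne
  have := h.classInner_pmu_mu j l 1
  rw [e, h.classInner_pmu_mu, if_pos rfl, if_neg hne] at this
  exact one_ne_zero this

theorem pchi_injective : Function.Injective (pchi K μ) := fun j l e =>
  h.pmu_injective (by rw [pmu, pmu, e])

theorem pchi_ne_one {j : B →* ℂˣ} (hj : j ≠ 1) : pchi K μ j ≠ fun _ => 1 :=
  h.pchi_one ▸ h.pchi_injective.ne hj

theorem pmu_apply_one (j : B →* ℂˣ) : pmu K μ j 1 = Nat.card A * μ 1 j 1 := by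
  rw [pmu, Char.indFun_one, h.pti.index]; rfl

theorem not_isIrr_pmu (j : B →* ℂˣ) : ¬ IsIrrCharacter L (pmu K μ j) := fun e => by
  have := h.classInner_pmu j j
  rw [e.classInner_self, if_pos rfl, eq_comm, Nat.cast_eq_one] at this
  exact h.pti.ntA.ne' this

theorem cj_pchi [K.Normal] (g : L) (j : B →* ℂˣ) : cj K g (pchi K μ j) = pchi K μ j :=
  cj_res (h.isClassFunction 1 j) g

theorem isCharacter_pchi (j : B →* ℂˣ) : IsCharacter K (pchi K μ j) := (h.irr 1 j).isCharacter.res K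

theorem isCharacter_pmu (j : B →* ℂˣ) : IsCharacter L (pmu K μ j) := (h.isCharacter_pchi j).ind

theorem isIrr_pchi (j : B →* ℂˣ) : IsIrrCharacter K (pchi K μ j) := by
  have := h.pti.normal
  have := Fintype.ofFinite K
  refine (h.isCharacter_pchi j).isIrr_of_classInner_self ?_
  have h1 := h.classInner_pmu j j
  rw [if_pos rfl, pmu, frobenius_left K _ (isClassFunction_indFun _ _),
    funext (res_indFun_of_invariant (h.cj_pchi · j)), h.pti.index] at h1
  erw [classInner_smul_right] at h1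
  have h2 : (Nat.card A : ℂ) ≠ 0 := by have := h.pti.ntA; exact_mod_cast by omega
  simpa [h2] using h1

/-- Peterfalvi 4.5(b): a character of `K` fixed by a non-identity element of `W₁`. -/
theorem exists_eq_pchi [K.Normal] {θ : K → ℂ} (hθ : IsIrrCharacter K θ) {a : A} (ha : a ≠ 1)
    (hfix : cj K (f (a, 1)) θ = θ) : ∃ j, θ = pchi K μ j := by
  have := h.pti.finiteB
  let F : (B →* ℂˣ) → {χ : IrrCharacter K // (χ : K → ℂ) ∘ (MulAut.conjNormal (f (a, 1))) = χ} :=
    fun j => ⟨⟨pchi K μ j, h.isIrr_pchi j⟩, h.cj_pchi _ j⟩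
  have hF : Function.Injective F := fun j l e =>
    h.pchi_injective (congrArg (fun x => x.1.1) e)
  have hb : Function.Bijective F := by
    refine hF.bijective_of_nat_card_le ?_
    rw [card_fixed_irr_equiv, h.pti.cycTI.card_lcB]
    refine (card_fixed_conjClasses_le K (f.comp (MonoidHom.inr A B)).range
      (fun e => ha (Prod.mk.inj (h.pti.inj (e.trans f.map_one.symm))).1) (h.pti.orderOf_coprime a)
      ?_).trans (Finite.card_range_le _)
    rintro y ⟨n, rfl⟩ hy k hk e
    simp only [← map_zpow, Prod.pow_mk, one_zpow] at hy e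
    obtain ⟨b, rfl⟩ := h.pti.cent _ (by intro e; exact hy (by rw [e]; exact f.map_one)) k hk e
    exact ⟨b, rfl⟩
  obtain ⟨j, hj⟩ := hb.2 ⟨⟨θ, hθ⟩, hfix⟩
  exact ⟨j, (congrArg (fun x => x.1.1) hj).symm⟩

theorem isIrr_ind {θ : K → ℂ} (hθ : IsIrrCharacter K θ) (hne : ∀ j, θ ≠ pchi K μ j) :
    IsIrrCharacter L (indFun K θ) := by
  have := h.pti.normal
  refine hθ.ind_of_inertia_le fun g hg => ?_
  obtain ⟨k, hk, a, rfl⟩ := h.pti.surj g
  by_contra hcon
  obtain ⟨j, hj⟩ := h.exists_eq_pchi hθ (a := a)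
    (by rintro rfl; exact hcon (K.mul_mem hk (h.pti.memB 1)))
    ((mul_mem_cancel_left (le_inertia hθ.isClassFunction hk)).1 hg)
  exact hne j hj

theorem ind_irr_or {θ : K → ℂ} (hθ : IsIrrCharacter K θ) :
    IsIrrCharacter L (indFun K θ) ∨ ∃ j, θ = pchi K μ j := by
  by_cases e : ∃ j, θ = pchi K μ j
  · exact Or.inr e
  · exact Or.inl (h.isIrr_ind hθ fun j e' => e ⟨j, e'⟩)

theorem ind_apply_f (θ : K → ℂ) {a : A} (ha : a ≠ 1) (b : B) : indFun K θ (f (a, b)) = 0 :=
  haveI := h.pti.normal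
  indFun_normal_of_not_mem θ (mt (h.pti.memK a b).1 ha)

theorem ind_ne_mu (θ : K → ℂ) (i : A →* ℂˣ) (j : B →* ℂˣ) : indFun K θ ≠ μ i j := fun e => by
  have := h.pti.finiteA
  obtain ⟨a, ha⟩ := h.pti.exists_ne_one
  have h1 := h.ind_apply_f θ ha 1
  rw [e, h.eq_on i j a 1 ha] at h1
  simp [h.delta_ne_zero, -Int.cast_eq_zero] at h1

theorem irr_cases {χ : L → ℂ} (hχ : IsIrrCharacter L χ) : (∃ i j, χ = μ i j) ∨
    ∃ θ, IsIrrCharacter K θ ∧ (∀ j, θ ≠ pchi K μ j) ∧ χ = indFun K θ := by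
  have := h.pti.finiteA
  have := Fintype.ofFinite K
  obtain ⟨θ, hθ, h1⟩ := hχ.exists_irr_under K
  rw [← frobenius_right K θ hχ.isClassFunction] at h1
  by_cases e : ∃ j, θ = pchi K μ j
  · obtain ⟨j, rfl⟩ := e
    rw [← pmu, h.pmu_eq_sum, classInner_sum_right] at h1
    obtain ⟨i, -, hi⟩ := Finset.exists_ne_zero_of_sum_ne_zero h1
    exact Or.inl ⟨i, j, hχ.eq_of_classInner_ne_zero (h.irr i j) hi⟩
  · push Not at e
    exact Or.inr ⟨θ, hθ, e, hχ.eq_of_classInner_ne_zero (h.isIrr_ind hθ e) h1⟩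

theorem eq_zero_of_ne {χ : L → ℂ} (hχ : IsIrrCharacter L χ) (hne : ∀ i j, χ ≠ μ i j) {a : A}
    (ha : a ≠ 1) (b : B) : χ (f (a, b)) = 0 := by
  rcases h.irr_cases hχ with ⟨i, j, e⟩ | ⟨θ, -, -, rfl⟩
  · exact (hne i j e).elim
  · exact h.ind_apply_f θ ha b

theorem classInner_ind_mu {θ : K → ℂ} (hθ : IsIrrCharacter L (indFun K θ)) (i : A →* ℂˣ)
    (j : B →* ℂˣ) : classInner (indFun K θ) (μ i j) = 0 :=
  hθ.classInner_of_ne (h.irr i j) (h.ind_ne_mu θ i j)

theorem ind_sub (i k : A →* ℂˣ) (j : B →* ℂˣ) :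
    indHom f (om i j - om k j) = (δ j : ℂ) • (μ i j - μ k j) := by
  have := h.pti.finiteA
  have := h.pti.finiteB
  have := Fintype.ofFinite A
  have := Fintype.ofFinite B
  refine (isClassFunction_indHom _ _).ext_classInner
    (((h.isClassFunction _ _).sub (h.isClassFunction _ _)).smul _) fun χ hχ => ?_
  rw [frobenius_hom h.pti.inj _ hχ.isClassFunction]
  by_cases e : ∃ i j, χ = μ i j
  · obtain ⟨m, l, rfl⟩ := e
    have : classInner (om i j - om k j) (fun w => μ m l (f w)) =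
        classInner (om i j - om k j) ((δ l : ℂ) • om m l) := by
      rw [classInner, classInner]
      congr 1
      refine Finset.sum_congr rfl fun ⟨a, b⟩ _ => ?_
      by_cases ha : a = 1
      · simp [ha]
      · rw [h.eq_on m l a b ha]; rfl
    rw [this]
    simp only [classInner_smul_left, classInner_smul_right, classInner_sub_left, classInner_om,
      h.classInner_mu, map_intCast]
    by_cases hjl : j = l <;> simp [hjl]
  · push Not at e
    rw [classInner_smul_left, classInner_sub_left (μ i j), (h.irr i j).classInner_of_ne hχ (e i j).symm,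
      (h.irr k j).classInner_of_ne hχ (e k j).symm, sub_self, mul_zero, classInner]
    rw [Finset.sum_eq_zero, mul_zero]
    rintro ⟨a, b⟩ -
    by_cases ha : a = 1
    · simp [ha]
    · simp [h.eq_zero_of_ne hχ e ha b]

/-- Peterfalvi 4.3(d). -/
theorem exists_degree (i : A →* ℂˣ) (j : B →* ℂˣ) :
    ∃ n : ℤ, μ i j 1 = δ j + n * (Nat.card A : ℂ) := by
  have := h.pti.finiteA
  have := Fintype.ofFinite A
  obtain ⟨n, hn⟩ := (((h.isGen 1 j).comp (f.comp (MonoidHom.inl A B))).sub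
    (isCharacter_one.isGen.intCast_smul (δ j))).classInner_eq_int isCharacter_one.isGen
  rw [classInner_one_right, Finset.sum_eq_single 1 (fun a _ ha => by simp [h.eq_on 1 j a 1 ha])
    (by simp), inv_mul_eq_iff_eq_mul₀ (card_ne_zero' A)] at hn
  simp only [Pi.sub_apply, map_one, Pi.smul_apply, smul_eq_mul, mul_one] at hn
  exact ⟨n, by rw [h.mu_apply_one]; linear_combination hn⟩

theorem delta_eq_of_degree {j l : B →* ℂˣ} (e : μ 1 j 1 = μ 1 l 1) : δ j = δ l := by
  obtain ⟨n, hn⟩ := h.exists_degree 1 j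
  obtain ⟨m, hm⟩ := h.exists_degree 1 l
  have h1 : δ j + n * Nat.card A = δ l + m * Nat.card A := by exact_mod_cast hn.symm.trans (e.trans hm)
  have h3 : (3 : ℤ) ≤ Nat.card A := by exact_mod_cast h.pti.cycTI.three_le_A
  have h2 : (Nat.card A : ℤ) ∣ δ j - δ l := ⟨m - n, by linear_combination h1⟩
  by_contra hne
  have := Int.le_abs_of_dvd (sub_ne_zero.2 hne) h2
  rcases h.sign j with e | e <;> rcases h.sign l with e' | e' <;> simp [e, e'] at this <;> omega

/-- Which normal subgroups of `L` inside `K` lie in the kernel of `μ i j`. -/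
theorem le_charKer_iff {M : Subgroup L} [M.Normal] (hM : M ≤ K) (i : A →* ℂˣ) (j : B →* ℂˣ) :
    M ≤ charKer (μ i j) ↔ ∀ b, f (1, b) ∈ M → j b = 1 := by
  have := h.pti.finiteA
  obtain ⟨a, ha⟩ := h.pti.exists_ne_one
  constructor
  · intro hk b hb
    have := hk hb (f (a, 1))
    rw [← map_mul, Prod.mk_mul_mk, one_mul, mul_one, h.eq_on _ _ _ _ ha, h.eq_on _ _ _ _ ha] at this
    simpa [h.delta_ne_zero, -Int.cast_eq_zero] using this
  · intro hj
    by_contra hk
    have := Fintype.ofFinite M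
    have h1 := avg_coset_eq (K := M) (b := f (a, 1)) (by rw [Subgroup.normalizer_eq_top]; trivial)
      ((h.pti.orderOf_coprime a).coprime_dvd_right (Subgroup.card_dvd_of_le hM))
      (h.isClassFunction i j)
    rw [avg_eq, (h.irr i j).sum_mul_eq_zero hk, mul_zero,
      avg_congr (f' := fun _ => (δ j : ℂ) * i a), avg_const] at h1
    · simp [h.delta_ne_zero, -Int.cast_eq_zero] at h1
    · rintro u ⟨hu, hc⟩
      obtain ⟨b, rfl⟩ := h.pti.cent a ha u (hM hu) (Subgroup.mem_centralizer_singleton_iff.1 hc).symm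
      rw [← map_mul, Prod.mk_mul_mk, one_mul, mul_one, h.eq_on _ _ _ _ ha, hj b hu]; simp

theorem le_charKer_pchi_iff {M : Subgroup L} [M.Normal] (hM : M ≤ K) (j : B →* ℂˣ) :
    (∀ x : K, (x : L) ∈ M → pchi K μ j x = pchi K μ j 1) ↔ ∀ b, f (1, b) ∈ M → j b = 1 := by
  rw [← h.le_charKer_iff hM 1 j]
  exact ⟨fun e x hx => (h.irr 1 j).isCharacter.mem_charKer.2 (e ⟨x, hM hx⟩ hx),
    fun e x hx => (h.irr 1 j).isCharacter.mem_charKer.1 (e hx)⟩

end PrimeFam

section bridge

variable {K W₁ W₂ : Subgroup L}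

theorem comm_of_inf_centralizer
    (hC : ∀ x ∈ W₁, x ≠ 1 → K ⊓ Subgroup.centralizer ({x} : Set L) = W₂) :
    ∀ a ∈ W₁, ∀ b ∈ W₂, a * b = b * a := fun a ha b hb => by
  by_cases h1 : a = 1
  · simp [h1]
  · exact (Subgroup.mem_centralizer_singleton_iff.1 (hC a ha h1 ▸ hb : b ∈ K ⊓ _).2).symm

theorem primeTI_of_subgroups [Finite L] [hK : K.Normal] (hKW₁ : K ⊓ W₁ = ⊥) (hKW₁' : K ⊔ W₁ = ⊤)
    (hW₁ : W₁ ≠ ⊥) (hW₁c : IsCyclic W₁) (hHall : Nat.Coprime (Nat.card W₁) W₁.index)
    (hW₂ : W₂ ≠ ⊥) (hW₂c : IsCyclic W₂) (hW₂K : W₂ ≤ K)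
    (hC : ∀ x ∈ W₁, x ≠ 1 → K ⊓ Subgroup.centralizer ({x} : Set L) = W₂)
    (hodd : Odd (Nat.card ↥(W₁ ⊔ W₂))) : PrimeTI K (prodHom (comm_of_inf_centralizer hC)) where
  normal := hK
  inj := prodHom_injective _ (eq_bot_iff.2 fun _ hx => hKW₁ ▸ ⟨hW₂K hx.2, hx.1⟩)
  cycA := hW₁c
  cycB := hW₂c
  oddA := hodd.of_dvd_nat (Subgroup.card_dvd_of_le le_sup_left)
  oddB := hodd.of_dvd_nat (Subgroup.card_dvd_of_le le_sup_right)
  ntA := (Subgroup.one_lt_card_iff_ne_bot _).2 hW₁
  ntB := (Subgroup.one_lt_card_iff_ne_bot _).2 hW₂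
  memK a b := by
    rw [prodHom_apply, mul_mem_cancel_right (hW₂K b.2)]
    exact ⟨fun h => Subtype.ext (Subgroup.mem_bot.1 (hKW₁ ▸ ⟨h, a.2⟩)), fun h => h ▸ K.one_mem⟩
  surj x := by
    have : x ∈ ((K ⊔ W₁ : Subgroup L) : Set L) := by rw [hKW₁']; trivial
    rw [Subgroup.normal_mul] at this
    obtain ⟨k, hk, a, ha, rfl⟩ := this
    exact ⟨k, hk, ⟨a, ha⟩, by simp⟩
  cop := by
    rwa [← (Subgroup.isComplement'_of_disjoint_and_mul_eq_univ (disjoint_iff.2 hKW₁)
      (by rw [← Subgroup.normal_mul, hKW₁']; rfl)).index_eq_card]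
  cent a ha k hk e := ⟨⟨k, hC a a.2 (fun h => ha (Subtype.ext h)) ▸
    ⟨hk, Subgroup.mem_centralizer_singleton_iff.2 (by simpa using e.symm)⟩⟩, by simp⟩

end bridge

end Cfsg.Agent.Char
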