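import Cfsg.Agent.Lib.Char.IndSet
import Cfsg.Agent.Lib.Char.PrimeTI

/-!
The Dade isometry for a subgroup satisfying Peterfalvi's hypothesis (4.6).
-/

set_option autoImplicit false

namespace Cfsg.Agent.Char

open scoped ComplexConjugate

variable {L : Type*} [Group L] {G : Type*} [Group G] {A : Type*} [Group A] {B : Type*} [Group B]

/-- The function vanishes outside `S`. -/
def SuppIn {X : Type*} (S : Set X) (α : X → ℂ) : Prop := ∀ x, x ∉ S → α x = 0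

namespace SuppIn

variable {X : Type*} {S S' : Set X} {α β : X → ℂ}

theorem add (h : SuppIn S α) (h' : SuppIn S β) : SuppIn S (α + β) := fun x hx => by
  simp [h x hx, h' x hx]
theorem sub (h : SuppIn S α) (h' : SuppIn S β) : SuppIn S (α - β) := fun x hx => by
  simp [h x hx, h' x hx]
theorem neg (h : SuppIn S α) : SuppIn S (-α) := fun x hx => by simp [h x hx]
theorem smul (h : SuppIn S α) (c : ℂ) : SuppIn S (c • α) := fun x hx => by simp [h x hx]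
theorem zero (S : Set X) : SuppIn S 0 := fun _ _ => rfl
theorem sum {ι : Type*} {s : Finset ι} {f : ι → X → ℂ} (h : ∀ i ∈ s, SuppIn S (f i)) :
    SuppIn S (∑ i ∈ s, f i) := fun x hx => by
  rw [Finset.sum_apply]; exact Finset.sum_eq_zero fun i hi => h i hi x hx
theorem mono (h : SuppIn S α) (hS : S ⊆ S') : SuppIn S' α := fun x hx => h x (mt (@hS x) hx)
theorem conjFun (h : SuppIn S α) : SuppIn S (conjFun α) := fun x hx => by
  simp [conjFun_apply, h x hx]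

end SuppIn

/-- Column sums. -/
noncomputable def ecol [Finite A] (η : (A →* ℂˣ) → (B →* ℂˣ) → G → ℂ) (j : B →* ℂˣ) : G → ℂ :=
  ∑ i, η i j

namespace CycFam

variable [Fintype G] {g : A × B →* G} {η : (A →* ℂˣ) → (B →* ℂˣ) → G → ℂ} (h : CycFam g η)
include h

theorem sum_rip_sq_le (Z : G → ℂ) (s : Finset ((A →* ℂˣ) × (B →* ℂˣ))) :
    ∑ p ∈ s, rip Z (η p.1 p.2) ^ 2 ≤ rip Z Z :=
  (Finset.sum_le_sum fun p _ => by
    rw [rip, ← sq_abs]; exact pow_le_pow_left₀ (abs_nonneg _) (Complex.abs_re_le_norm _) 2).trans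
    (bessel s _ (fun p _ q _ => h.orth' p q) Z)

theorem rip_self (i : A →* ℂˣ) (j : B →* ℂˣ) : rip (η i j) (η i j) = 1 := (h.dirr i j).rip_self

theorem rip_exchange {θ : G → ℂ} (hθ : IsClassFunction G θ)
    (hV : ∀ a b, a ≠ 1 → b ≠ 1 → θ (g (a, b)) = 0) (i k : A →* ℂˣ) (j l : B →* ℂˣ) :
    rip θ (η i j) + rip θ (η k l) = rip θ (η i l) + rip θ (η k j) := by
  simpa [rip] using congrArg Complex.re (h.exchange hθ hV i k j l)

theorem exists_two_ne (i : A →* ℂˣ) : ∃ x y : A →* ℂˣ, x ≠ i ∧ y ≠ i ∧ x ≠ y := by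
  have := h.ti.finiteA
  obtain ⟨x, hx⟩ := exists_not_mem_image {i} id (by
    rw [h.ti.card_lcA]; have := h.ti.three_le_A; simp; omega)
  obtain ⟨y, hy⟩ := exists_not_mem_image {i, x} id (by
    rw [h.ti.card_lcA]; have := h.ti.three_le_A; have := Finset.card_le_two (a := i) (b := x); omega)
  exact ⟨x, y, (hx i (by simp)).symm, (hy i (by simp)).symm, hy x (by simp)⟩

/-- A virtual character of norm two with the values of `η i j - η i k` on `V`. -/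
theorem eq_sub_of_norm_two {Z : G → ℂ} (hZ : IsGeneralizedCharacter G Z) (h2 : rip Z Z = 2)
    {i : A →* ℂˣ} {j k : B →* ℂˣ} (hjk : j ≠ k)
    (hV : ∀ a b, a ≠ 1 → b ≠ 1 → Z (g (a, b)) = i a * j b - i a * k b) : Z = η i j - η i k := by
  obtain ⟨x, y, hx, hy, hxy⟩ := h.exists_two_ne i
  have key := h.rip_exchange (θ := Z - (η i j - η i k))
    (hZ.isClassFunction.sub ((h.isClassFunction _ _).sub (h.isClassFunction _ _)))
    fun a b ha hb => by simp [hV a b ha hb, h.eq_on _ _ a b ha hb]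
  have h3 := key x i j k
  have h4 := key y i j k
  have h5 := h.sum_rip_sq_le Z ({i, x, y} ×ˢ {j, k})
  simp only [rip_sub_left, h.rip_eq, hx.symm, hy.symm, hjk, hjk.symm] at h3 h4
  rw [Finset.sum_product, Finset.sum_insert (by simp [hx.symm, hy.symm]), Finset.sum_pair hxy] at h5
  simp only [Finset.sum_pair hjk] at h5
  have h6 : ∀ i j, rip Z (η i j) ≤ rip Z (η i j) ^ 2 ∧ -rip Z (η i j) ≤ rip Z (η i j) ^ 2 :=
    fun i j => by
      obtain ⟨n, hn⟩ := hZ.rip_eq_int (h.isGen i j)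
      have := int_le_sq (-n)
      rw [hn]
      exact ⟨int_le_sq n, by simpa using this⟩
  refine eq_of_rip_eq h2.le (by simp [h.rip_eq, hjk, hjk.symm]; norm_num) ?_
  have := (h6 i j).1; have := (h6 i k).2; have := (h6 x j).2; have := (h6 x k).1
  have := (h6 y j).2; have := (h6 y k).1
  simp only [rip_sub_right]
  norm_num at h3 h4
  linarith

variable [Finite A]

theorem classInner_ecol_eta (j l : B →* ℂˣ) (k : A →* ℂˣ) :
    classInner (ecol η j) (η k l) = if j = l then 1 else 0 := by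
  simp [ecol, classInner_sum_left, h.orth, ite_and]

theorem rip_ecol_eta (j l : B →* ℂˣ) (k : A →* ℂˣ) :
    rip (ecol η j) (η k l) = if j = l then 1 else 0 := by
  rw [rip, h.classInner_ecol_eta]; split_ifs <;> simp

theorem card_lcA : Fintype.card (A →* ℂˣ) = Nat.card A := by
  rw [← Nat.card_eq_fintype_card, h.ti.card_lcA]

theorem classInner_ecol (j l : B →* ℂˣ) :
    classInner (ecol η j) (ecol η l) = if j = l then (Nat.card A : ℂ) else 0 := by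
  rw [ecol.eq_1 η l]
  simp [classInner_sum_right, h.classInner_ecol_eta, h.card_lcA]

theorem rip_ecol (j l : B →* ℂˣ) :
    rip (ecol η j) (ecol η l) = if j = l then (Nat.card A : ℝ) else 0 := by
  rw [rip, h.classInner_ecol]; split_ifs <;> simp

theorem isGen_ecol (j : B →* ℂˣ) : IsGeneralizedCharacter G (ecol η j) :=
  .sum fun i _ => h.isGen i j

theorem conjFun_ecol (j : B →* ℂˣ) : conjFun (ecol η j) = ecol η j⁻¹ := by
  rw [ecol, ecol, conjFun_sum]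
  exact Fintype.sum_bijective (fun i => i⁻¹) (Function.Involutive.bijective lc_inv_inv) _ _
    fun i => h.conjFun_eq i j

theorem orth_ecol {Z : G → ℂ} {j : B →* ℂˣ} (h0 : ∀ i, classInner Z (η i j) = 0) :
    classInner Z (ecol η j) = 0 := by
  rw [ecol, classInner_sum_right]; exact Finset.sum_eq_zero fun i _ => h0 i

theorem eq_ecol {X : G → ℂ} {j : B →* ℂˣ} (h1 : rip X X ≤ Nat.card A) (h2 : ∀ i, rip X (η i j) = 1) :
    X = ecol η j :=
  eq_of_rip_eq h1 (by rw [h.rip_ecol, if_pos rfl]) (by simp [ecol, rip_sum_right, h2, h.card_lcA])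

end CycFam

/-- Hypothesis (4.6), for an abstract isometry `τ` defined on class functions supported in `S₀`. -/
structure PDade [Fintype L] [Fintype G] (K H : Subgroup L) (f : A × B →* L)
    (μ : (A →* ℂˣ) → (B →* ℂˣ) → L → ℂ) (δ : (B →* ℂˣ) → ℤ) (g : A × B →* G)
    (η : (A →* ℂˣ) → (B →* ℂˣ) → G → ℂ) (S₀ : Set L) (τ : (L → ℂ) →ₗ[ℂ] (G → ℂ)) : Prop where
  fam : PrimeFam K f μ δ
  cyc : CycFam g η
  normalH : H.Normal
  HK : H ≤ K
  BH : ∀ b, f (1, b) ∈ H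
  cent : ∀ x ∈ K, x ≠ 1 → ∀ y ∈ H, y ≠ 1 → x * y = y * x → x ∈ S₀
  memV : ∀ a b x, a ≠ 1 → b ≠ 1 → x * f (a, b) * x⁻¹ ∈ S₀
  iso : ∀ α β, IsClassFunction L α → IsClassFunction L β → SuppIn S₀ α → SuppIn S₀ β →
    classInner (τ α) (τ β) = classInner α β
  gen : ∀ α, IsGeneralizedCharacter L α → SuppIn S₀ α → IsGeneralizedCharacter G (τ α)
  cls : ∀ α, IsClassFunction L α → SuppIn S₀ α → IsClassFunction G (τ α)
  one : ∀ α, IsClassFunction L α → SuppIn S₀ α → τ α 1 = 0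
  onV : ∀ α, IsClassFunction L α → SuppIn S₀ α → ∀ a b, a ≠ 1 → b ≠ 1 →
    τ α (g (a, b)) = α (f (a, b))

theorem pDade_of_dade [Fintype G] {L : Subgroup G} [Fintype L] {K H : Subgroup L} {f : A × B →* L}
    {μ : (A →* ℂˣ) → (B →* ℂˣ) → L → ℂ} {δ : (B →* ℂˣ) → ℤ} {g : A × B →* G}
    {η : (A →* ℂˣ) → (B →* ℂˣ) → G → ℂ} {A₀ : Set G} {R : G → Subgroup G}
    (hD : DadeHypothesis A₀ L R) (fam : PrimeFam K f μ δ) (cyc : CycFam g η)
    (hg : ∀ w, g w = f w) [hH : H.Normal] (HK : H ≤ K) (BH : ∀ b, f (1, b) ∈ H)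
    (cent : ∀ x ∈ K, x ≠ 1 → ∀ y ∈ H, y ≠ 1 → x * y = y * x → (x : G) ∈ A₀)
    (memV : ∀ a b, a ≠ 1 → b ≠ 1 → g (a, b) ∈ A₀) :
    PDade K H f μ δ g η {x | (x : G) ∈ A₀} (dadeLin A₀ L R) where
  fam := fam
  cyc := cyc
  normalH := hH
  HK := HK
  BH := BH
  cent := cent
  memV a b x ha hb := hD.conj_mem x x.2 _ (hg _ ▸ memV a b ha hb)
  iso _ _ hα hβ _ h := hD.isometry hα hβ h
  gen _ hα h := hD.isGen_dade hα h
  cls _ hα _ := hD.isClassFunction_dade hα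
  one α _ _ := hD.dade_one α
  onV α hα _ a b ha hb := by rw [hg]; exact hD.dade_apply_coe hα (hg _ ▸ memV a b ha hb)

/-- Peterfalvi 4.7, for a character of `K`. -/
theorem exists_comm_of_ne_zero [Finite L] {K H : Subgroup L} [H.Normal] {θ : K → ℂ}
    (hθ : IsIrrCharacter K θ) (hk : ¬ KerOn H θ) {x : K} (hx : θ x ≠ 0) :
    ∃ y ∈ H, y ≠ 1 ∧ x * y = y * x := by
  by_contra hcon
  push Not at hcon
  refine hx (hθ.eq_zero_of_fpf (mt (kerOn_iff hθ.isCharacter).2 hk) fun y hy e => ?_)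
  by_contra h1
  exact hcon y hy (fun e => h1 (Subtype.ext e)) (congrArg Subtype.val e)

/-- Peterfalvi 4.7. -/
theorem exists_comm_of_mem_indD [Fintype L] {K H M : Subgroup L} [hK : K.Normal] [hH : H.Normal]
    {φ : L → ℂ} (hφ : φ ∈ indD K H M) {x : L} (hx : φ x ≠ 0) :
    x ∈ K ∧ ∃ y ∈ H, y ≠ 1 ∧ x * y = y * x := by
  refine ⟨by_contra fun h => hx (eq_zero_of_mem_indD hφ h), ?_⟩
  obtain ⟨θ, h1, -, h2, rfl⟩ := hφ
  obtain ⟨z, hz, h3⟩ := exists_conj_of_indFun_ne_zero K θ x hx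
  obtain ⟨y, hy, h4, h5⟩ := exists_comm_of_ne_zero h1 h2 h3
  refine ⟨z⁻¹ * y * z, hH.conj_mem' y hy z, by simpa [mul_assoc, inv_mul_eq_one] using h4, ?_⟩
  calc x * (z⁻¹ * y * z) = z⁻¹ * (z * x * z⁻¹ * y) * z := by group
    _ = _ := by rw [h5]; group

/-- The description of `R (pmu j)`. -/
def RedR [Fintype L] (K : Subgroup L) (μ : (A →* ℂˣ) → (B →* ℂˣ) → L → ℂ) (δ : (B →* ℂˣ) → ℤ)
    (η : (A →* ℂˣ) → (B →* ℂˣ) → G → ℂ) (R : (L → ℂ) → Finset (G → ℂ)) : Prop :=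
  ∀ j, j ≠ 1 → ∀ α ∈ R (pmu K μ j), ∃ i, α = (δ j : ℂ) • η i j ∨ α = -((δ j : ℂ) • η i j⁻¹)

namespace PDade

variable [Fintype L] [Fintype G] {K H : Subgroup L} {f : A × B →* L}
  {μ : (A →* ℂˣ) → (B →* ℂˣ) → L → ℂ} {δ : (B →* ℂˣ) → ℤ} {g : A × B →* G}
  {η : (A →* ℂˣ) → (B →* ℂˣ) → G → ℂ} {S₀ : Set L} {τ : (L → ℂ) →ₗ[ℂ] (G → ℂ)}
  (h : PDade K H f μ δ g η S₀ τ)
include h

theorem normalK : K.Normal := h.fam.pti.normal

theorem rip_eq {α β : L → ℂ} (hα : IsClassFunction L α) (hβ : IsClassFunction L β)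
    (h1 : SuppIn S₀ α) (h2 : SuppIn S₀ β) : rip (τ α) (τ β) = rip α β := by
  rw [rip, h.iso α β hα hβ h1 h2, rip]

theorem eq_zero_of_mem {M : Subgroup L} {φ : L → ℂ} (hφ : φ ∈ indD K H M) {x : L} (h1 : x ≠ 1)
    (hx : x ∉ S₀) : φ x = 0 := by
  have := h.normalK
  have := h.normalH
  by_contra e
  obtain ⟨h2, y, h3, h4, h5⟩ := exists_comm_of_mem_indD hφ e
  exact hx (h.cent x h2 h1 y h3 h4 h5)

theorem isoOn (M : Subgroup L) : IsoOn (indD K H M) τ :=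
  isoOn_of_supp (fun _ => isCharacter_of_mem_indD) (fun _ hχ _ => h.eq_zero_of_mem hχ) h.iso h.gen
    h.one

theorem suppIn_span {M : Subgroup L} {α : L → ℂ} (hα : α ∈ Submodule.span ℂ (indD K H M))
    (h1 : α 1 = 0) : SuppIn S₀ α := fun x hx => by
  by_cases e : x = 1
  · rwa [e]
  · exact (Submodule.span_le (p := LinearMap.ker (LinearMap.proj x))).2
      (fun χ hχ => h.eq_zero_of_mem hχ e hx) hα

theorem not_kerOn_pchi {j : B →* ℂˣ} (hj : j ≠ 1) : ¬ KerOn H (pchi K μ j) := fun e =>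
  haveI := h.normalH
  hj (MonoidHom.ext fun b => (h.fam.le_charKer_pchi_iff h.HK j).1 e b (h.BH b))

theorem pmu_mem {j : B →* ℂˣ} (hj : j ≠ 1) : pmu K μ j ∈ indD K H ⊥ :=
  ind_mem_indD (h.fam.isIrr_pchi j) (kerOn_bot _) (h.not_kerOn_pchi hj)

theorem ne_one_of_mem {M : Subgroup L} {j : B →* ℂˣ} (hj : pmu K μ j ∈ indD K H M) : j ≠ 1 := by
  have := h.normalK
  have := h.normalH
  rintro rfl
  exact ((ind_mem_indD_iff (h.fam.isIrr_pchi 1)).1 (indD_subset_bot K H M hj)).2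
    (h.fam.pchi_one ▸ kerOn_one H)

theorem irr_or {M : Subgroup L} {φ : L → ℂ} (hφ : φ ∈ indD K H M) :
    IsIrrCharacter L φ ∨ ∃ j, j ≠ 1 ∧ φ = pmu K μ j := by
  obtain ⟨θ, h1, h2, h3, rfl⟩ := hφ
  refine (h.fam.ind_irr_or h1).imp_right ?_
  rintro ⟨j, rfl⟩
  exact ⟨j, h.ne_one_of_mem (ind_mem_indD h1 h2 h3), rfl⟩

theorem mu_eq_zero (i : A →* ℂˣ) {j : B →* ℂˣ} (hj : j ≠ 1) {x : L} (hx : x ∈ K) (h1 : x ≠ 1)
    (h2 : x ∉ S₀) : μ i j x = 0 := by
  have := h.normalH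
  by_contra e
  rw [h.fam.mu_of_mem i j hx] at e
  obtain ⟨y, h3, h4, h5⟩ := exists_comm_of_ne_zero (h.fam.isIrr_pchi j) (h.not_kerOn_pchi hj)
    (x := ⟨x, hx⟩) e
  exact h2 (h.cent x hx h1 y h3 h4 h5)

/-- A class function vanishing on `K - S₀` and on `W₁ - 1` is supported in `S₀`. -/
theorem suppIn_of {α : L → ℂ} (hα : IsClassFunction L α) (h1 : ∀ x ∈ K, x ∉ S₀ → α x = 0)
    (h2 : ∀ a, a ≠ 1 → α (f (a, 1)) = 0) : SuppIn S₀ α := fun x hx => by
  by_cases e : x ∈ K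
  · exact h1 x e hx
  obtain ⟨y, -, a, b, ha, e⟩ := h.fam.pti.exists_conj e
  by_cases hb : b = 1
  · rw [← hα.apply_conj x y, e, hb, h2 a ha]
  · exact (hx (by simpa [← e, mul_assoc] using h.memV a b y⁻¹ ha hb)).elim

theorem suppIn_mu_sub (i : A →* ℂˣ) {j k : B →* ℂˣ} (hj : j ≠ 1) (hk : k ≠ 1)
    (e : μ 1 j 1 = μ 1 k 1) : SuppIn S₀ (μ i j - μ i k) :=
  h.suppIn_of ((h.fam.isClassFunction _ _).sub (h.fam.isClassFunction _ _)) (fun x hx h2 => by
    by_cases h1 : x = 1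
    · simp [h1, h.fam.mu_apply_one i, e]
    · simp [h.mu_eq_zero i hj hx h1 h2, h.mu_eq_zero i hk hx h1 h2])
    fun a ha => by simp [h.fam.eq_on _ _ a 1 ha, h.fam.delta_eq_of_degree e]

/-- Peterfalvi 4.8. -/
theorem tau_mu_sub (i : A →* ℂˣ) {j k : B →* ℂˣ} (hj : j ≠ 1) (hk : k ≠ 1)
    (e : μ 1 j 1 = μ 1 k 1) : τ (μ i j - μ i k) = (δ j : ℂ) • (η i j - η i k) := by
  by_cases hjk : j = k
  · simp [hjk]
  have h1 := h.suppIn_mu_sub i hj hk e
  have h2 := (h.fam.isGen i j).sub (h.fam.isGen i k)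
  rw [← h.cyc.eq_sub_of_norm_two (Z := (δ j : ℂ) • τ (μ i j - μ i k))
    ((h.gen _ h2 h1).intCast_smul _) ?_ hjk fun a b ha hb => ?_, h.fam.delta_smul_smul]
  · rw [rip_intCast_smul_left, rip_intCast_smul_right, ← mul_assoc, h.fam.delta_sq_real,
      h.rip_eq h2.isClassFunction h2.isClassFunction h1 h1]
    simp [h.fam.rip_mu, hjk, Ne.symm hjk]; norm_num
  · rw [Pi.smul_apply, h.onV _ h2.isClassFunction h1 a b ha hb, Pi.sub_apply, h.fam.eq_on _ _ a b ha,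
      h.fam.eq_on _ _ a b ha, ← h.fam.delta_eq_of_degree e, ← mul_sub, smul_eq_mul, ← mul_assoc,
      h.fam.delta_sq, one_mul]

theorem tau_pmu_sub [Finite A] {j k : B →* ℂˣ} (hj : j ≠ 1) (hk : k ≠ 1) (e : μ 1 j 1 = μ 1 k 1) :
    τ (pmu K μ j - pmu K μ k) = (δ j : ℂ) • (ecol η j - ecol η k) := by
  rw [h.fam.pmu_eq_sum, h.fam.pmu_eq_sum, ← Finset.sum_sub_distrib, map_sum, ecol, ecol,
    ← Finset.sum_sub_distrib, Finset.smul_sum]
  exact Finset.sum_congr rfl fun i _ => h.tau_mu_sub i hj hk e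

/-- Peterfalvi 4.9. -/
theorem exists_cohWith_pmu [Finite A] {k : B →* ℂˣ} (hk : k ≠ 1) :
    ∃ ν, CohWith {φ | ∃ j, j ≠ 1 ∧ μ 1 j 1 = μ 1 k 1 ∧ φ = pmu K μ j} τ ν ∧
      ∀ j, j ≠ 1 → μ 1 j 1 = μ 1 k 1 → ν (pmu K μ j) = (δ k : ℂ) • ecol η j := by
  obtain ⟨ν, hν, e⟩ := exists_isExt τ (χ := pmu K μ k) (fun e => ne_zero_of_mem_indD (h.pmu_mem hk)
    ((h.fam.isCharacter_pmu k).eq_zero_of_apply_one e)) ((δ k : ℂ) • ecol η k)
  have key : ∀ j, j ≠ 1 → μ 1 j 1 = μ 1 k 1 → ν (pmu K μ j) = (δ k : ℂ) • ecol η j := by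
    intro j hj e'
    have := h.tau_pmu_sub hj hk e'
    rwa [hν.sub (by rw [h.fam.pmu_apply_one, h.fam.pmu_apply_one, e']), e,
      h.fam.delta_eq_of_degree e', smul_sub, sub_left_inj] at this
  refine ⟨ν, ⟨hν, ?_, ?_⟩, key⟩
  · rintro _ ⟨j, hj, ej, rfl⟩ _ ⟨l, hl, el, rfl⟩
    rw [key j hj ej, key l hl el, classInner_smul_left, classInner_smul_right, map_intCast,
      ← mul_assoc, h.fam.delta_sq, one_mul, h.cyc.classInner_ecol, h.fam.classInner_pmu]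
  · rintro _ ⟨j, hj, ej, rfl⟩
    exact key j hj ej ▸ (h.cyc.isGen_ecol j).intCast_smul _

theorem suppIn_ind {α : A × B → ℂ} (hα : ∀ a b, α (a, b) ≠ 0 → a ≠ 1 ∧ b ≠ 1) :
    SuppIn S₀ (indHom f α) := fun x hx =>
  indHom_eq_zero h.fam.pti.inj α fun y ⟨a, b⟩ e => by
    by_contra h1
    exact hx (by simpa [← e, mul_assoc] using h.memV a b y⁻¹ (hα a b h1).1 (hα a b h1).2)

theorem tau_ind {α : A × B → ℂ} (hα : ∀ a b, α (a, b) ≠ 0 → a ≠ 1 ∧ b ≠ 1) :
    τ (indHom f α) = indHom g α := by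
  have := h.cyc.ti.finiteA
  have := h.cyc.ti.finiteB
  have := Fintype.ofFinite A
  have := Fintype.ofFinite B
  have h1 := h.suppIn_ind hα
  have h2 := isClassFunction_indHom f α
  refine eq_of_rip_eq (r := rip α α) ?_ ?_ ?_
  · rw [h.rip_eq h2 h2 h1 h1, rip, h.fam.pti.cycTI.classInner_ind hα, rip]
  · rw [rip, h.cyc.ti.classInner_ind hα, rip]
  · rw [rip, rip, frobenius_hom' h.cyc.ti.inj _ (h.cls _ h2 h1), classInner, classInner]
    refine le_of_eq (congrArg _ (congrArg _ (Finset.sum_congr rfl fun ⟨a, b⟩ _ => ?_)))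
    by_cases e : α (a, b) = 0
    · simp [e]
    · rw [h.onV _ h2 h1 a b (hα a b e).1 (hα a b e).2, h.fam.pti.ind_apply α (hα a b e).1]

/-- Peterfalvi 4.10. -/
theorem tau_rect (i : A →* ℂˣ) (j : B →* ℂˣ) :
    τ (μ 1 1 - μ i 1 - (δ j : ℂ) • μ 1 j + (δ j : ℂ) • μ i j) = η 1 1 - η i 1 - η 1 j + η i j := by
  have := h.tau_ind (supp_alpha i j)
  rw [h.fam.cycFam.ind_alpha, h.cyc.ind_alpha, h.fam.delta_one] at this
  simpa [h.cyc.one, h.fam.mu_one_one] using this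

theorem suppIn_rect (i : A →* ℂˣ) (j : B →* ℂˣ) :
    SuppIn S₀ (μ 1 1 - μ i 1 - (δ j : ℂ) • μ 1 j + (δ j : ℂ) • μ i j) := by
  have := h.suppIn_ind (supp_alpha i j)
  rw [h.fam.cycFam.ind_alpha, h.fam.delta_one] at this
  simpa [h.fam.mu_one_one] using this

/-- Images of combinations of induced characters vanish on `V`. -/
theorem tau_apply_V {M : Subgroup L} {α : L → ℂ} (hα : α ∈ Submodule.span ℂ (indD K H M))
    (h1 : α 1 = 0) {a : A} {b : B} (ha : a ≠ 1) (hb : b ≠ 1) : τ α (g (a, b)) = 0 := by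
  have := h.normalK
  rw [h.onV α (isClassFunction_of_mem_span
    (fun _ hχ => (isCharacter_of_mem_indD hχ).isClassFunction) hα) (h.suppIn_span hα h1) a b ha hb]
  exact (Submodule.span_le (p := LinearMap.ker (LinearMap.proj (f (a, b))))).2
    (fun χ hχ => eq_zero_of_mem_indD hχ (mt (h.fam.pti.memK a b).1 ha)) hα

theorem tau_sub_conj_orth {M : Subgroup L} {φ : L → ℂ} (hφ : φ ∈ indD K H M)
    (hi : IsIrrCharacter L φ) (i : A →* ℂˣ) (j : B →* ℂˣ) :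
    classInner (τ (φ - conjFun φ)) (η i j) = 0 := by
  by_cases e : conjFun φ = φ
  · simp [e]
  have h0 : (φ - conjFun φ) 1 = 0 := by simp [hi.isCharacter.conjFun_one]
  have hm := sub_mem_span (R := ℂ) hφ (conj_mem_indD hφ)
  exact h.cyc.orth_of_rip_le_two ((h.isoOn M).gen _ (sub_mem_span hφ (conj_mem_indD hφ)) h0)
    (fun a b => h.tau_apply_V hm h0) (by rw [(h.isoOn M).rip_eq hm hm h0 h0, rip_sub_conj hi e]) i j

/-- Peterfalvi 5.3(b). -/
theorem exists_cohSys (hodd : Odd (Nat.card L)) :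
    ∃ R, CohSys (indD K H ⊥) τ R ∧ RedR K μ δ η R := by
  classical
  have := h.normalK
  have := h.cyc.ti.finiteA
  let R₁ : (B →* ℂˣ) → Finset (G → ℂ) := fun j =>
    (Finset.univ.image fun i => (δ j : ℂ) • η i j) ∪ Finset.univ.image fun i => -((δ j : ℂ) • η i j⁻¹)
  have hm : ∀ j α, α ∈ R₁ j ↔ ∃ i, α = (δ j : ℂ) • η i j ∨ α = -((δ j : ℂ) • η i j⁻¹) := by
    simp [R₁, exists_or, eq_comm]
  let R₀ : (L → ℂ) → Finset (G → ℂ) := fun φ => R₁ (Function.invFun (pmu K μ) φ)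
  have hR : ∀ j, R₀ (pmu K μ j) = R₁ j := fun j =>
    congrArg R₁ (Function.leftInverse_invFun h.fam.pmu_injective j)
  have hδ := h.fam.delta_ne_zero
  refine ((h.isoOn ⊥).exists_cohSys (fun _ => conj_mem_indD)
    (fun _ => conj_ne_of_mem_indD hodd) (fun _ h _ h' => orth_of_mem_indD h h') R₀ ?_ ?_).imp
    fun R ⟨h1, h2⟩ => ⟨h1, fun j hj α hα => (hm j α).1 (by
      rwa [h2 _ (h.pmu_mem hj) (h.fam.not_isIrr_pmu j), hR] at hα)⟩
  · intro χ hχ hi
    obtain ⟨j, hj, rfl⟩ := (h.irr_or hχ).resolve_left hi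
    have hj' := h.cyc.ti.inv_neB hj
    rw [hR]
    refine ⟨⟨fun α hα => ?_, fun α hα β hβ e => ?_⟩, ?_, fun φ hφ hi α hα => ?_⟩
    · obtain ⟨i, rfl | rfl⟩ := (hm j α).1 hα
      exacts [(h.cyc.dirr _ _).sign_smul (h.fam.signC j),
        ((h.cyc.dirr _ _).sign_smul (h.fam.signC j)).neg]
    · obtain ⟨i, rfl | rfl⟩ := (hm j α).1 hα <;> obtain ⟨k, rfl | rfl⟩ := (hm j β).1 hβ <;>
        simp only [classInner_neg_left, classInner_neg_right, classInner_smul_left,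
          classInner_smul_right, h.cyc.orth, hj', hj'.symm, and_false, and_true, if_false, mul_zero,
          neg_zero] <;>
        rw [if_neg (by rintro rfl; exact e rfl)] <;> simp
    · rw [h.fam.conjFun_pmu, h.tau_pmu_sub hj (lc_inv_ne_one hj) (h.fam.mu_inv_apply_one j).symm,
        Finset.sum_union, Finset.sum_image, Finset.sum_image, smul_sub, ecol, ecol,
        Finset.smul_sum, Finset.smul_sum, Finset.sum_neg_distrib, sub_eq_add_neg]
      · intro i _ k _ e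
        exact (h.cyc.inj (smul_right_injective _ (hδ j) (neg_injective e))).1
      · intro i _ k _ e
        exact (h.cyc.inj (smul_right_injective _ (hδ j) e)).1
      · simp only [Finset.disjoint_left, Finset.mem_image]
        rintro _ ⟨i, -, rfl⟩ ⟨k, -, e⟩
        have := congrArg (classInner · (η i j)) e
        simp [classInner_neg_left, classInner_smul_left, h.cyc.orth, hj', (hδ j).symm,
          -Int.cast_eq_zero] at this
    · obtain ⟨i, rfl | rfl⟩ := (hm j α).1 hα <;>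
        simp only [classInner_neg_right, classInner_smul_right, h.tau_sub_conj_orth hφ hi, mul_zero,
          neg_zero]
  · intro χ hχ φ hφ hi hi' e₁ e₂ α hα β hβ
    obtain ⟨j, hj, rfl⟩ := (h.irr_or hχ).resolve_left hi
    obtain ⟨l, hl, rfl⟩ := (h.irr_or hφ).resolve_left hi'
    rw [hR] at hα hβ
    rw [h.fam.conjFun_pmu] at e₂
    have a1 : l ≠ j := by rintro rfl; exact e₁ rfl
    have a2 : l ≠ j⁻¹ := by rintro rfl; exact e₂ rfl
    have a3 : l⁻¹ ≠ j := by rintro rfl; exact a2 (lc_inv_inv l).symm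
    obtain ⟨i, rfl | rfl⟩ := (hm l α).1 hα <;> obtain ⟨k, rfl | rfl⟩ := (hm j β).1 hβ <;>
      simp [classInner_neg_left, classInner_neg_right, classInner_smul_left,
        classInner_smul_right, h.cyc.orth, a1, a2, a3]

variable {S S₁ : Set (L → ℂ)} {ν : (L → ℂ) →ₗ[ℂ] (G → ℂ)} {R : (L → ℂ) → Finset (G → ℂ)}

theorem R_orth (hS : CohSys S τ R) (hSH : S ⊆ indD K H ⊥) {φ : L → ℂ} (hφ : φ ∈ S)
    (hi : IsIrrCharacter L φ) {α : G → ℂ} (hα : α ∈ R φ) (i : A →* ℂˣ) (j : B →* ℂˣ) :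
    classInner α (η i j) = 0 :=
  (hS.on φ hφ).orth_of_sum (h.cyc.dirr i j) (hS.sum_eq φ hφ ▸ h.tau_sub_conj_orth (hSH hφ) hi i j) hα

theorem coh_orth (hS : CohSys S τ R) (hSH : S ⊆ indD K H ⊥) (hS₁ : ConjSub S₁ S)
    (hν : CohWith S₁ τ ν) {φ : L → ℂ} (hφ : φ ∈ S₁) (hi : IsIrrCharacter L φ) (i : A →* ℂˣ)
    (j : B →* ℂˣ) : classInner (ν φ) (η i j) = 0 :=
  hS.orth_of_tau hS₁ hν hφ (h.cyc.dirr i j) (h.tau_sub_conj_orth (hSH (hS₁.sub hφ)) hi i j)

theorem coh_apply_V (hS : CohSys S τ R) (hSH : S ⊆ indD K H ⊥) (hS₁ : ConjSub S₁ S)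
    (hν : CohWith S₁ τ ν) {ζ : L → ℂ} (hζ : ζ ∈ S₁) (hi : IsIrrCharacter L ζ) {φ : L → ℂ}
    (hφ : φ ∈ Submodule.span ℂ (indD K H ⊥)) {a : A} {b : B} (ha : a ≠ 1) (hb : b ≠ 1) :
    ν φ (g (a, b)) = 0 := by
  have h1 := h.cyc.eq_zero_of_orth (hν.gen ζ hζ).isClassFunction (h.coh_orth hS hSH hS₁ hν hζ hi) ha hb
  have h2 := h.tau_apply_V (α := ζ 1 • φ - φ 1 • ζ) (Submodule.sub_mem _ (Submodule.smul_mem _ _ hφ)
    (Submodule.smul_mem _ _ (Submodule.subset_span (hSH (hS₁.sub hζ))))) (by simp [mul_comm]) ha hb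
  rw [hν.ext.smul_sub_smul (mul_comm _ _)] at h2
  simpa [h1, hi.apply_one_ne_zero] using h2

/-- Peterfalvi 5.8. -/
theorem coh_pmu [Finite A] (hS : CohSys S τ R) (hR : RedR K μ δ η R) (hSH : S ⊆ indD K H ⊥)
    (hS₁ : ConjSub S₁ S) (hν : CohWith S₁ τ ν) {ζ : L → ℂ} (hζ : ζ ∈ S₁) (hi : IsIrrCharacter L ζ)
    {k : B →* ℂˣ} (hk : pmu K μ k ∈ S₁) : ν (pmu K μ k) = (δ k : ℂ) • ecol η k ∨
      (ν (pmu K μ k) = -((δ k : ℂ) • ecol η k⁻¹) ∧
        ∀ l, pmu K μ l ∈ S₁ → μ 1 l 1 = μ 1 k 1 → l = k ∨ l = k⁻¹) := by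
  have hk1 := h.ne_one_of_mem (hSH (hS₁.sub hk))
  obtain ⟨E, hE, e, hc⟩ := hS.exists_sum hS₁ hν hk
  have hon := (hS.on _ (hS₁.sub hk)).mono hE
  have h1 : ∀ i, rip (ν (pmu K μ k)) (η i 1) = 0 := fun i =>
    rip_eq_zero (hS.orth_of_R hS₁ hν hk fun α hα => by
      obtain ⟨m, rfl | rfl⟩ := hR k hk1 α hα <;>
        simp [classInner_neg_left, classInner_smul_left, h.cyc.orth, hk1])
  have h2 : ∀ i m l, rip (ν (pmu K μ k)) (η i l) = rip (ν (pmu K μ k)) (η m l) := fun i m l => by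
    have := h.cyc.rip_exchange (hν.gen _ hk).isClassFunction (fun a b =>
      h.coh_apply_V hS hSH hS₁ hν hζ hi (Submodule.subset_span (h.pmu_mem hk1))) i m l 1
    simpa [h1] using this
  have h3 : rip (ν (pmu K μ k)) (ν (pmu K μ k)) = Nat.card A := by
    rw [hν.rip_eq hk hk, h.fam.rip_pmu, if_pos rfl]
  obtain ⟨α, hα⟩ : E.Nonempty := by
    rw [← Finset.card_pos, ← Nat.cast_pos (α := ℝ), hc]
    exact hS.rip_pos (hS₁.sub hk)
  have h4 : rip (ν (pmu K μ k)) α = 1 := e ▸ rip_eq_one (hon.classInner_sum hα)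
  obtain ⟨m, rfl | rfl⟩ := hR k hk1 α (hE hα)
  · left
    rw [← h.cyc.eq_ecol (X := (δ k : ℂ) • ν (pmu K μ k)) (by
      rw [rip_intCast_smul_left, rip_intCast_smul_right, ← mul_assoc, h.fam.delta_sq_real, one_mul, h3])
      fun i => by rw [rip_intCast_smul_left, h2 i m, ← rip_intCast_smul_right, h4],
      h.fam.delta_smul_smul]
  · have h5 : ν (pmu K μ k) = -((δ k : ℂ) • ecol η k⁻¹) := by
      rw [← h.cyc.eq_ecol (X := -((δ k : ℂ) • ν (pmu K μ k))) (by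
        rw [rip_neg_left, rip_neg_right, neg_neg, rip_intCast_smul_left, rip_intCast_smul_right,
          ← mul_assoc, h.fam.delta_sq_real, one_mul, h3])
        fun i => by
          rw [rip_neg_left, rip_intCast_smul_left, h2 i m, ← rip_intCast_smul_right, ← rip_neg_right,
            h4], smul_neg, neg_neg, h.fam.delta_smul_smul]
    refine Or.inr ⟨h5, fun l hl e => ?_⟩
    by_contra hcon
    push Not at hcon
    have h6 := congrArg (rip · (ν (pmu K μ k)))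
      (h.tau_pmu_sub hk1 (h.ne_one_of_mem (hSH (hS₁.sub hl))) e.symm)
    simp only [hν.ext.sub (show pmu K μ k 1 = pmu K μ l 1 by
      rw [h.fam.pmu_apply_one, h.fam.pmu_apply_one, e]), rip_sub_left, h3, hν.rip_eq hl hk,
      h.fam.rip_pmu] at h6
    have := h.cyc.ti.ntA
    simp [h5, h.cyc.rip_ecol, hcon.1, hcon.2, (h.cyc.ti.inv_neB hk1).symm] at h6
    omega

end PDade

end Cfsg.Agent.Char
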