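import Cfsg.Agent.Lib.Transfer.ZStar
import Cfsg.Agent.Lib.Solv.PGrp

/-!
Groups with generalized quaternion or dihedral Sylow 2-subgroups: the subgroup `S'`.
-/

set_option autoImplicit false

namespace Cfsg.Agent.Transfer.InvData

open Subgroup Cfsg.Agent.Blk Cfsg.Agent.Char
open scoped commutatorElement

variable {G : Type*} [Group G] [Finite G] {S : Subgroup G} {a b : G} {m : ℕ}

omit [Finite G] in
theorem mul_self_mem {c : G} (hc : c ∈ zpowers a) : c * c ∈ zpowers (a * a) := by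
  obtain ⟨k, rfl⟩ := hc
  exact ⟨k, (Commute.refl a).mul_zpow k⟩

omit [Finite G] in
theorem cent_zpowers (y : G) : centralizer (zpowers y : Set G) = Ce1 y := by
  rw [zpowers_eq_closure, centralizer_closure]

variable (h : InvData S a b m)
include h

theorem commutator_eq : ⁅S, S⁆ = zpowers (a * a) := by
  refine le_antisymm (commutator_le.2 fun x hx y hy => ?_) (zpowers_le.2 ?_)
  · have h1 : ∀ x ∈ S, x ∉ zpowers a → ∀ c ∈ zpowers a, ⁅x, c⁆ ∈ zpowers (a * a) := fun x hx h1 c hc => by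
      rw [commutatorElement_def, h.inverts hx h1 hc]; exact mul_self_mem (inv_mem hc)
    by_cases h2 : x ∈ zpowers a <;> by_cases h3 : y ∈ zpowers a
    · obtain ⟨i, rfl⟩ := h2
      obtain ⟨j, rfl⟩ := h3
      rw [commutatorElement_eq_one_iff_commute.2 (Commute.zpow_zpow_self a i j)]; exact one_mem _
    · rw [← commutatorElement_inv]; exact inv_mem (h1 y hy h3 x h2)
    · exact h1 x hx h2 y h3
    · have := (mul_mem_iff_of_index_two h.relIndex (a := ⟨y, hy⟩) (b := ⟨x, hx⟩⁻¹)).2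
        (by simp [mem_subgroupOf, h2, h3])
      simpa [commutatorElement_def, mul_assoc] using h1 x hx h2 _ this
  · have := commutator_mem_commutator h.mem_a h.mem_b
    rwa [commutatorElement_def, mul_assoc, mul_assoc, ← mul_assoc b, h.inverts h.mem_b h.notMem
      (inv_mem (mem_zpowers a)), inv_inv] at this

theorem ord_sq : orderOf (a * a) = 2 ^ m := by
  rw [← pow_two, orderOf_pow, h.ord, pow_succ, Nat.gcd_mul_left_left, Nat.mul_div_cancel _ two_pos]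

theorem sq_sq_ne (hm : 2 ≤ m) : a * a * (a * a) ≠ 1 := fun h1 => by
  have := orderOf_dvd_of_pow_eq_one ((pow_two _).trans h1)
  rw [h.ord_sq] at this
  exact absurd (Nat.le_of_dvd two_pos this) (not_le.2 (Nat.pow_lt_pow_right one_lt_two hm))

theorem le_cent : zpowers a ≤ Ce1 (a * a) :=
  zpowers_le.2 (mem_centralizer_singleton_iff.2 (mul_assoc _ _ _).symm)

theorem sq_mem : a * a ∈ zpowers a := mul_mem (mem_zpowers a) (mem_zpowers a)

theorem b_notMem (hm : 2 ≤ m) : b ∉ Ce1 (a * a) := fun h1 => h.sq_sq_ne hm (by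
  have := h.inverts h.mem_b h.notMem h.sq_mem
  rw [mem_centralizer_singleton_iff.1 h1, mul_inv_cancel_right] at this
  nth_rw 2 [this]; exact mul_inv_cancel _)

theorem le_norm : S ≤ normalizer (zpowers (a * a) : Set G) :=
  h.commutator_eq ▸ fun _ hx => mem_normalizer_commutator (le_normalizer hx) (le_normalizer hx)

theorem cent_le_norm : Ce1 (a * a) ≤ normalizer (zpowers (a * a) : Set G) :=
  cent_zpowers (a * a) ▸ centralizer_le_normalizer _

theorem norm_cases {g : G} (hg : g ∈ normalizer (zpowers (a * a) : Set G)) :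
    g ∈ Ce1 (a * a) ∨ g * b⁻¹ ∈ Ce1 (a * a) := by
  refine ((h.conj_iff h.sq_mem (zpowers_le.2 h.sq_mem (conj_mem_of_mem_normalizer hg
    (mem_zpowers _)))).1 (isConj_iff.2 ⟨g, rfl⟩)).imp (fun h1 => mem_centralizer_singleton_iff.2
      (mul_inv_eq_iff_eq_mul.1 h1)) fun h1 => mem_centralizer_singleton_iff.2 ?_
  have h2 := h.inverts (inv_mem h.mem_b) (mt (inv_mem_iff.1) h.notMem) h.sq_mem
  calc g * b⁻¹ * (a * a) = g * (b⁻¹ * (a * a) * b⁻¹⁻¹) * g⁻¹ * g * b⁻¹ := by group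
    _ = (g * (a * a) * g⁻¹)⁻¹ * g * b⁻¹ := by rw [h2]; group
    _ = _ := by rw [h1, inv_inv, mul_assoc]

theorem relIndex_cent (hm : 2 ≤ m) :
    (Ce1 (a * a)).relIndex (normalizer (zpowers (a * a) : Set G)) = 2 :=
  index_eq_two_iff.2 ⟨⟨b, h.le_norm h.mem_b⟩⁻¹, fun g => by
    by_cases h1 : (g : G) ∈ Ce1 (a * a)
    · exact .inr ⟨h1, fun h2 => h.b_notMem hm (inv_mem_iff.1 ((mul_mem_cancel_left h1).1 h2))⟩
    · exact .inl ⟨(h.norm_cases g.2).resolve_left h1, h1⟩⟩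

theorem inf_cent (hm : 2 ≤ m) : S ⊓ Ce1 (a * a) = zpowers a :=
  (h.isSyl_cent h.sq_mem (h.sq_sq_ne hm)).eq_of_le (h.syl.pgroup.to_le inf_le_left) inf_le_right
    (le_inf h.le h.le_cent)

omit h in
theorem eq_of_le_zpowers {A B : Subgroup G} {y : G} (hA : A ≤ zpowers y) (hB : B ≤ zpowers y)
    (h : Nat.card A = Nat.card B) : A = B := Solv.eq_of_isCyclic_of_card_eq inferInstance hA hB h

theorem le_zpowers (hm : 2 ≤ m) {y : G} (hy : y ∈ Ce1 (a * a)) (ho : 2 ^ m ∣ orderOf y) :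
    zpowers (a * a) ≤ zpowers y := by
  have h1 : orderOf (y ^ (orderOf y / 2 ^ m)) = 2 ^ m := orderOf_pow_orderOf_div (orderOf_pos y).ne' ho
  obtain ⟨c, hc, h2⟩ := (h.isSyl_cent h.sq_mem (h.sq_sq_ne hm)).exists_cj_le
    (IsPGroup.of_card ((Nat.card_zpowers _).trans h1)) (zpowers_le.2 (pow_mem hy _))
  have h3 := eq_of_le_zpowers h2 (zpowers_le.2 h.sq_mem) (by
    rw [card_cj, Nat.card_zpowers, Nat.card_zpowers, h1, h.ord_sq])
  rw [cj_eq_iff_eq_cj_inv, cj_eq_of_mem_normalizer (h.cent_le_norm (inv_mem hc))] at h3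
  exact h3 ▸ zpowers_le.2 (pow_mem (mem_zpowers y) _)

theorem mem_norm_of_conj (hm : 2 ≤ m) {g y : G} (hy : y ∈ Ce1 (a * a)) (ho : 2 ^ m ∣ orderOf y)
    (hg : g * y * g⁻¹ ∈ Ce1 (a * a)) : g ∈ normalizer (zpowers (a * a) : Set G) :=
  mem_normalizer_iff_cj.2 (eq_of_le_zpowers (cj_zpowers g y ▸ cj_mono g (h.le_zpowers hm hy ho))
    (h.le_zpowers hm hg (by rwa [(SemiconjBy.conj_mk g y).orderOf_eq] at ho)) (card_cj _ _))

theorem oddCore_sup (hm : 2 ≤ m) : oddCore (Ce1 (a * a)) ⊔ (zpowers a).subgroupOf _ = ⊤ := by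
  obtain ⟨k, hk⟩ := hasNPC_iff_index.1 (h.npc_cent h.sq_mem (h.sq_sq_ne hm))
  obtain ⟨P, hP⟩ := (h.isSyl_cent h.sq_mem (h.sq_sq_ne hm)).exists_sylow_sub
  rw [← hP]
  exact (isSyl_top P).sup_eq_of_relIndex le_top ((relIndex_top_right _).trans hk)

theorem exists_M (hq : b ^ 2 = a ^ 2 ^ m) :
    ∃ M : Subgroup G, M.Normal ∧ a ^ 2 ^ m ∈ M ∧ ¬ 4 ∣ Nat.card M := by
  have h1 := zstar (isolated_of_uniq (h.uniq hq) h.ord_t)
  refine ⟨zpowers (a ^ 2 ^ m) ⊔ oddCore G, normalizer_eq_top_iff.1 (eq_top_iff.2 fun g _ =>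
    mem_normalizer_of_cj_le (by
      rw [cj_sup, cj_eq_of_normal g (oddCore G), cj_zpowers]
      refine sup_le (zpowers_le.2 ?_) le_sup_right
      exact (mul_mem_cancel_right (inv_mem (mem_sup_left (mem_zpowers _)))).1
        (mem_sup_right (by simpa [mul_assoc] using inv_mem (h1 g))))),
    mem_sup_left (mem_zpowers _), fun h2 => ?_⟩
  have := h2.mul_right (Nat.card (zpowers (a ^ 2 ^ m) ⊓ oddCore G : Subgroup G))
  rw [card_sup_mul_card_inf le_normalizer_of_normal, Nat.card_zpowers, h.ord_t] at this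
  have := odd_card_oddCore (G := G)
  rw [Nat.odd_iff] at this
  omega

theorem exists_lin (hm : 2 ≤ m) : ∃ l : Ce1 (a * a) →* ℂˣ, l ⟨a * a, h.le_cent h.sq_mem⟩ ≠ 1 ∧
    ∀ x : Ce1 (a * a), ¬ 2 ^ m ∣ orderOf (x : G) → l x = 1 := by
  let K := oddCore (Ce1 (a * a))
  have h1 : Odd (Nat.card K) := odd_card_oddCore
  have h2 := h.oddCore_sup hm
  have h0 := h.npc_cent h.sq_mem (h.sq_sq_ne hm)
  let a' : Ce1 (a * a) := ⟨a, h.le_cent (mem_zpowers a)⟩
  have : IsCyclic (Ce1 (a * a) ⧸ K) := ⟨a', fun q => by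
    obtain ⟨x, rfl⟩ := QuotientGroup.mk_surjective q
    obtain ⟨k, hk, y, ⟨i, hi⟩, rfl⟩ := mem_sup_of_normal_left.1 (h2.ge (mem_top x))
    exact ⟨i, by
      rw [QuotientGroup.mk_mul, (QuotientGroup.eq_one_iff k).2 hk, one_mul]
      exact congrArg QuotientGroup.mk (Subtype.ext hi : a' ^ i = y)⟩⟩
  have ht : orderOf (a' ^ 2 ^ m) = 2 := (orderOf_coe _).symm.trans h.ord_t
  obtain ⟨μ, hμ⟩ := @CommGroup.exists_apply_ne_one_of_hasEnoughRootsOfUnity (Ce1 (a * a) ⧸ K) ℂ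
    IsCyclic.commGroup _ _ inferInstance (a' ^ 2 ^ m : Ce1 (a * a))
    fun h3 => h1.not_two_dvd_nat (ht ▸ orderOf_dvd_natCard K ((QuotientGroup.eq_one_iff _).1 h3))
  obtain ⟨m, rfl⟩ := Nat.exists_eq_add_of_le' (one_le_two.trans hm)
  refine ⟨(μ.comp (QuotientGroup.mk' K)) ^ 2 ^ m, ?_, fun x hx => ?_⟩
  · rw [MonoidHom.pow_apply, ← map_pow]
    rwa [show (⟨a * a, h.le_cent h.sq_mem⟩ : Ce1 (a * a)) ^ 2 ^ m = a' ^ 2 ^ (m + 1) from
      Subtype.ext (by simp only [a', SubmonoidClass.mk_pow]; rw [← pow_two, ← pow_mul, pow_succ'])]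
  · obtain ⟨k, r, hr, e⟩ := Nat.exists_eq_two_pow_mul_odd (orderOf_pos x).ne'
    have h3 : k ≤ m := by_contra fun h3 => hx (by
      rw [orderOf_coe, e]; exact (pow_dvd_pow 2 (not_le.1 h3)).mul_right _)
    have h4 : x ^ 2 ^ m ∈ K := (mem_pPrimeCore_iff_of_hasNPC h0).2 fun h4 => hr.not_two_dvd_nat
      (h4.trans (orderOf_dvd_of_pow_eq_one (by
        rw [← pow_mul]; exact orderOf_dvd_iff_pow_eq_one.1 (e ▸ Nat.mul_dvd_mul_right (pow_dvd_pow 2 h3) r))))
    rw [MonoidHom.pow_apply, ← map_pow, MonoidHom.comp_apply, QuotientGroup.mk'_apply,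
      (QuotientGroup.eq_one_iff _).2 h4, map_one]

end Cfsg.Agent.Transfer.InvData
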