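import Cfsg.Agent.Lib.Transfer.Invol
import Cfsg.Agent.Lib.Perm.Basic
import Cfsg.Agent.Lib.Solv.Schmidt
import Cfsg.Agent.S1124
import Cfsg.Prelude.Def_LieRecognition

/-!
The split rank-one set-up: general properties.
-/

set_option autoImplicit false
set_option linter.unusedSectionVars false

namespace Cfsg.Agent.RankOne

open MulAction Subgroup Cfsg.Agent.Perm Cfsg.Agent.Transfer

variable {G Ω : Type*} [Group G] [Finite G] [MulAction G Ω] {a : Ω} {t : G} {Q : Subgroup G}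

/-- The stabiliser of the two points `a` and `t • a`. -/
abbrev D (a : Ω) (t : G) : Subgroup G := stabilizer G a ⊓ stabilizer G (t • a)

theorem mem_D {g : G} : g ∈ D a t ↔ g • a = a ∧ g • t • a = t • a := Iff.rfl

theorem mem_invol {S : Set G} {x : G} : x ∈ involutionsIn S ↔ x ∈ S ∧ orderOf x = 2 :=
  ⟨fun h => ⟨h.1, orderOf_eq_two h.2.2 h.2.1⟩, fun h =>
    ⟨h.1, ne_one_of_orderOf h.2, mul_self_of_orderOf h.2⟩⟩

variable (hS : IsRankOneSetup G Ω a t Q)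
include hS

theorem two {b c b' c' : Ω} (h : b ≠ c) (h' : b' ≠ c') : ∃ g : G, g • b = b' ∧ g • c = c' :=
  two_trans_iff.1 hS.two_transitive b c b' c' h h'

theorem ta_ne : t • a ≠ a := hS.not_mem

theorem ord_t : orderOf t = 2 := orderOf_eq_two hS.mul_self hS.ne_one

theorem inv_t : t⁻¹ = t := inv_eq_of_orderOf (ord_t hS)

theorem tt_smul (c : Ω) : t • t • c = c := by rw [← mul_smul, hS.mul_self, one_smul]

theorem pretrans : IsPretransitive G Ω := ⟨fun b c => by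
  have key : ∀ b : Ω, ∃ d, b ≠ d := fun b => by
    by_cases h : b = a
    · exact ⟨t • a, h ▸ (ta_ne hS).symm⟩
    · exact ⟨a, h⟩
  obtain ⟨b', hb⟩ := key b
  obtain ⟨c', hc⟩ := key c
  exact (two hS hb hc).imp fun _ h => h.1⟩

theorem finite_Ω : Finite Ω :=
  Finite.of_surjective (fun g : G => g • a) fun c => (pretrans hS).exists_smul_eq a c

theorem Q_smul {x : G} (hx : x ∈ Q) : x • a = a := hS.le hx

theorem conj_mem' {h x : G} (hh : h • a = a) (hx : x ∈ Q) : h⁻¹ * x * h ∈ Q := by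
  simpa using hS.conj_mem h⁻¹ (inv_mem (show h ∈ stabilizer G a from hh)) x hx

theorem H_le_normalizer : stabilizer G a ≤ normalizer (Q : Set G) := fun h hh =>
  mem_normalizer_of_cj_le (by
    rintro _ ⟨x, hx, rfl⟩
    exact hS.conj_mem h hh x hx)

theorem conj_t_mem {d : G} (hd : d ∈ D a t) : t * d * t⁻¹ ∈ D a t := by
  rw [inv_t hS]
  exact mem_D.2 ⟨by rw [mul_smul, mul_smul, hd.2, tt_smul hS],
    by rw [mul_smul, mul_smul, tt_smul hS, hd.1]⟩

theorem conj_t_mem' {d : G} (hd : d ∈ D a t) : t * d * t ∈ D a t := by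
  simpa [inv_t hS] using conj_t_mem hS hd

theorem eq_one_of_fix {x : G} (hx : x ∈ Q) {b : Ω} (hb : b ≠ a) (h : x • b = b) : x = 1 := by
  obtain ⟨g, hg1, hg2⟩ := two hS (ta_ne hS).symm hb.symm
  have h1 : g⁻¹ * x * g ∈ Q ⊓ stabilizer G (t • a) := ⟨conj_mem' hS hg1 hx, by
    show (g⁻¹ * x * g) • t • a = t • a
    rw [mul_smul, mul_smul, hg2, h, ← hg2, inv_smul_smul]⟩
  rw [hS.inf_eq_bot, mem_bot] at h1
  simpa [mul_assoc, inv_mul_eq_one, eq_comm] using h1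

theorem eq_one_of_mem_D {x : G} (hx : x ∈ Q) (hd : x ∈ D a t) : x = 1 :=
  eq_one_of_fix hS hx (ta_ne hS) hd.2

theorem exists_mul {h : G} (hh : h • a = a) : ∃ x ∈ Q, ∃ d ∈ D a t, h = x * d := by
  have h1 : h ∈ Q ⊔ D a t := by rw [hS.sup_eq]; exact hh
  exact (mem_sup_iff_of_le_normalizer' (inf_le_left.trans (H_le_normalizer hS))).1 h1

theorem exists_Q {b : Ω} (hb : b ≠ a) : ∃ x ∈ Q, x • t • a = b := by
  obtain ⟨g, hg1, hg2⟩ := two hS (ta_ne hS).symm hb.symm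
  obtain ⟨x, hx, d, hd, rfl⟩ := exists_mul hS hg1
  exact ⟨x, hx, by rw [← hg2, mul_smul, hd.2]⟩

theorem Q_inj {x y : G} (hx : x ∈ Q) (hy : y ∈ Q) {b : Ω} (hb : b ≠ a) (h : x • b = y • b) :
    x = y := by
  have := eq_one_of_fix hS (mul_mem (inv_mem hy) hx) hb (by rw [mul_smul, h, inv_smul_smul])
  rwa [inv_mul_eq_one, eq_comm] at this

theorem smul_ne {h : G} (hh : h • a = a) {b : Ω} (hb : b ≠ a) : h • b ≠ a := fun e =>
  hb (smul_left_cancel h (e.trans hh.symm))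

theorem exists_Q' {b c : Ω} (hb : b ≠ a) (hc : c ≠ a) : ∃ x ∈ Q, x • b = c := by
  obtain ⟨x, hx, rfl⟩ := exists_Q hS hb
  obtain ⟨y, hy, rfl⟩ := exists_Q hS hc
  exact ⟨y * x⁻¹, mul_mem hy (inv_mem hx), by rw [mul_smul, inv_smul_smul]⟩

theorem regular {b c : Ω} (hb : b ≠ a) (hc : c ≠ a) : ∃! x : Q, (x : G) • b = c := by
  obtain ⟨x, hx, e⟩ := exists_Q' hS hb hc
  exact ⟨⟨x, hx⟩, e, fun y hy => Subtype.ext (Q_inj hS y.2 hx hb (hy.trans e.symm))⟩

theorem card_Ω : Nat.card Ω = Nat.card Q + 1 := by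
  classical
  have := finite_Ω hS
  have e : Q ≃ {b : Ω // b ≠ a} := Equiv.ofBijective
    (fun x => ⟨(x : G) • t • a, smul_ne hS (Q_smul hS x.2) (ta_ne hS)⟩)
    ⟨fun x y h => Subtype.ext (Q_inj hS x.2 y.2 (ta_ne hS) (congrArg Subtype.val h)), fun b => by
      obtain ⟨x, hx, e⟩ := exists_Q hS b.2
      exact ⟨⟨x, hx⟩, Subtype.ext e⟩⟩
  rw [Nat.card_congr e, ← Nat.card_congr (Equiv.optionSubtypeNe a), Finite.card_option]

theorem card_H : Nat.card (stabilizer G a) = Nat.card Q * Nat.card (D a t) := by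
  rw [← Nat.card_prod]
  refine (Nat.card_congr (Equiv.ofBijective (fun p : Q × D a t =>
    (⟨p.1 * p.2, mul_mem (hS.le p.1.2) p.2.2.1⟩ : stabilizer G a)) ⟨?_, ?_⟩)).symm
  · rintro ⟨x, d⟩ ⟨y, e⟩ h
    have h1 : (x : G) * d = y * e := congrArg Subtype.val h
    have h2 : (y : G)⁻¹ * x = e * d⁻¹ := by
      rw [inv_mul_eq_iff_eq_mul, ← mul_assoc, ← h1]; simp
    have h3 := eq_one_of_mem_D hS (mul_mem (inv_mem y.2) x.2) (h2 ▸ mul_mem e.2 (inv_mem d.2))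
    rw [inv_mul_eq_one] at h3
    rw [← h3, mul_right_inj] at h1
    exact Prod.ext (Subtype.ext h3.symm) (Subtype.ext h1)
  · intro h
    obtain ⟨x, hx, d, hd, e⟩ := exists_mul hS h.2
    exact ⟨(⟨x, hx⟩, ⟨d, hd⟩), Subtype.ext e.symm⟩

theorem card_G : Nat.card G = Nat.card Q * Nat.card (D a t) * (Nat.card Q + 1) := by
  have := pretrans hS
  rw [card_eq_mul_stab (G := G) a, card_Ω hS, card_H hS, mul_comm]

theorem exists_canon {g : G} (hg : g • a ≠ a) :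
    ∃ x ∈ Q, ∃ d ∈ D a t, ∃ y ∈ Q, g = x * d * t * y := by
  have h1 : g⁻¹ • a ≠ a := fun e => hg (by rw [inv_smul_eq_iff] at e; exact e.symm)
  obtain ⟨y, hy, e⟩ := exists_Q hS h1
  obtain ⟨x, hx, d, hd, e'⟩ := exists_mul hS (h := g * y * t) (by
    rw [mul_smul, mul_smul, e, smul_inv_smul])
  exact ⟨x, hx, d, hd, y⁻¹, inv_mem hy, by rw [← e']; simp [mul_assoc, hS.mul_self]⟩

theorem canon_unique' {h h' y y' : G} (hh : h • a = a) (hh' : h' • a = a) (hy : y ∈ Q)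
    (hy' : y' ∈ Q) (e : h * t * y = h' * t * y') : h = h' ∧ y = y' := by
  have h1 : y⁻¹ • t • a = y'⁻¹ • t • a := by
    have := congrArg (fun g : G => g⁻¹ • a) e
    simpa [mul_smul, inv_t hS, inv_smul_eq_iff.2 hh.symm, inv_smul_eq_iff.2 hh'.symm] using this
  have h2 := inv_injective (Q_inj hS (inv_mem hy) (inv_mem hy') (ta_ne hS) h1)
  subst h2
  exact ⟨by simpa using e, rfl⟩

theorem mul_unique {x x' d d' : G} (hx : x ∈ Q) (hx' : x' ∈ Q) (hd : d ∈ D a t) (hd' : d' ∈ D a t)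
    (e : x * d = x' * d') : x = x' ∧ d = d' := by
  have h2 : x'⁻¹ * x = d' * d⁻¹ := by
    rw [inv_mul_eq_iff_eq_mul, ← mul_assoc, ← e]; simp
  have h3 := eq_one_of_mem_D hS (mul_mem (inv_mem hx') hx) (h2 ▸ mul_mem hd' (inv_mem hd))
  rw [inv_mul_eq_one] at h3
  subst h3
  exact ⟨rfl, by simpa using e⟩

theorem canon_unique {x x' d d' y y' : G} (hx : x ∈ Q) (hx' : x' ∈ Q) (hd : d ∈ D a t)
    (hd' : d' ∈ D a t) (hy : y ∈ Q) (hy' : y' ∈ Q) (e : x * d * t * y = x' * d' * t * y') :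
    x = x' ∧ d = d' ∧ y = y' := by
  obtain ⟨h1, h2⟩ := canon_unique' hS (mul_mem (hS.le hx) hd.1) (mul_mem (hS.le hx') hd'.1) hy hy' e
  obtain ⟨h3, h4⟩ := mul_unique hS hx hx' hd hd' h1
  exact ⟨h3, h4, h2⟩

theorem odd_of_mem_D {d : G} (hd : d ∈ D a t) : Odd (orderOf d) :=
  odd_orderOf_of_mem hS.odd_card hd

theorem odd_of_fix {g : G} {b c : Ω} (hbc : b ≠ c) (hb : g • b = b) (hc : g • c = c) :
    Odd (orderOf g) := by
  obtain ⟨k, hk1, hk2⟩ := two hS hbc (ta_ne hS).symm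
  have : k * g * k⁻¹ ∈ D a t := by
    rw [mem_D, ← hk2, ← hk1]
    simp [mul_smul, hb, hc]
  simpa [orderOf_conj] using odd_of_mem_D hS this

theorem fix_unique {u : G} (hu : orderOf u = 2) {b c : Ω} (hb : u • b = b) (hc : u • c = c) :
    b = c := by
  by_contra h
  have := odd_of_fix hS h hb hc
  rw [hu] at this
  exact absurd this (by decide)

theorem exists_invol_Q : ∃ s ∈ Q, orderOf s = 2 := exists_invol_mem hS.even_card

theorem se : IsStronglyEmbedded (stabilizer G a) := by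
  rw [stronglyEmbedded_iff]
  refine ⟨fun e => hS.not_mem (e ▸ mem_top t), ?_, fun s hs h2 g hg => ?_⟩
  · rw [card_H hS]; exact hS.even_card.mul_right _
  · have h1 : s • g⁻¹ • a = g⁻¹ • a := by
      rw [eq_inv_smul_iff, ← mul_smul, ← mul_smul]; exact hg
    have := fix_unique hS h2 h1 hs
    rw [inv_smul_eq_iff] at this
    exact this.symm

theorem exists_fix {u : G} (hu : orderOf u = 2) : ∃ c : Ω, u • c = c := by
  obtain ⟨s, hs, h2⟩ := exists_invol_Q hS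
  obtain ⟨g, rfl⟩ := isConj_iff.1 (se_isConj (se hS) h2 hu)
  exact ⟨g • a, by rw [mul_smul, mul_smul, inv_smul_smul, Q_smul hS hs]⟩

theorem mem_Q_of_two {s : G} (hs : s • a = a) {n : ℕ} (h2 : s ^ 2 ^ n = 1) : s ∈ Q := by
  have hn : (Q.subgroupOf (stabilizer G a)).Normal := ⟨fun x hx g => hS.conj_mem g g.2 x hx⟩
  have hi : (Q.subgroupOf (stabilizer G a)).index = Nat.card (D a t) := by
    have h1 := (Q.subgroupOf (stabilizer G a)).index_mul_card
    rw [card_H hS, Nat.card_congr (subgroupOfEquivOfLe hS.le).toEquiv, mul_comm] at h1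
    exact Nat.eq_of_mul_eq_mul_left Nat.card_pos h1
  have h3 : (⟨s, hs⟩ : stabilizer G a) ^ Nat.card (D a t) ∈ Q.subgroupOf (stabilizer G a) :=
    hi ▸ pow_index_mem _ _
  have h4 : s ^ Nat.card (D a t) ∈ Q := h3
  have h5 : (Nat.card (D a t)).Coprime (orderOf s) :=
    ((odd_iff_coprime_two.1 hS.odd_card).pow_right n).coprime_dvd_right (orderOf_dvd_of_pow_eq_one h2)
  obtain ⟨m, hm⟩ := exists_pow_eq_self_of_coprime h5
  exact hm ▸ pow_mem h4 m

theorem invol_mem_Q {s : G} (hs : s • a = a) (h2 : orderOf s = 2) : s ∈ Q :=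
  mem_Q_of_two hS hs (n := 1) (by rw [pow_one, ← h2, pow_orderOf_eq_one])

theorem exists_sylow_le : ∃ P : Sylow 2 G, (P : Subgroup G) ≤ Q := by
  obtain ⟨P, hP⟩ := exists_isSyl 2 (stabilizer G a)
  have h1 := se_isSyl (se hS) hP
  obtain ⟨R, rfl⟩ := h1.exists_sylow
  refine ⟨R, fun x hx => ?_⟩
  obtain ⟨n, hn⟩ := R.2 ⟨x, hx⟩
  exact mem_Q_of_two hS (hP.le hx) (n := n) (congrArg Subtype.val hn)

theorem normalizer_le {X : Set G} (hX : X ⊆ Q) {x : G} (hx : x ∈ X) (h1 : x ≠ 1) :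
    normalizer X ≤ stabilizer G a := fun g hg => by
  by_contra h
  have h2 : g * x * g⁻¹ ∈ X := (mem_set_normalizer_iff.1 hg x).1 hx
  have h3 := eq_one_of_fix hS (hX h2) h (by
    rw [mul_smul, mul_smul, inv_smul_smul, Q_smul hS (hX hx)])
  exact h1 (by simpa using h3)

theorem centralizer_le {x : G} (hx : x ∈ Q) (h1 : x ≠ 1) {g : G} (hg : Commute g x) : g • a = a := by
  by_contra h
  exact h1 (eq_one_of_fix hS hx h (by rw [← mul_smul, ← hg.eq, mul_smul, Q_smul hS hx]))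

theorem normalizer_Q : normalizer (Q : Set G) = stabilizer G a := by
  obtain ⟨s, hs, h2⟩ := exists_invol_Q hS
  exact le_antisymm (normalizer_le hS subset_rfl hs (ne_one_of_orderOf h2)) (H_le_normalizer hS)

theorem normalizer_H : normalizer (stabilizer G a : Set G) = stabilizer G a :=
  le_antisymm (se_normalizer_le (se hS) le_rfl (se hS).2.1) le_normalizer

/-- The elements of `D` inverted by `t`. -/
abbrev K (a : Ω) (t : G) : Set G := invertedBy (D a t) t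

/-- The involutions fixing `a`. -/
abbrev I (G : Type*) [Group G] [MulAction G Ω] (a : Ω) : Set G :=
  involutionsIn (stabilizer G a : Set G)

theorem I_Q {s : G} (hs : s ∈ I G a) : s ∈ Q := invol_mem_Q hS hs.1 (mem_invol.1 hs).2

omit hS in
theorem K_one : (1 : G) ∈ K a t := ⟨one_mem _, by simp⟩

omit hS in
theorem K_inv {k : G} (hk : k ∈ K a t) : k⁻¹ ∈ K a t :=
  ⟨inv_mem hk.1, by rw [← conj_inv, hk.2]⟩

omit hS in
theorem K_pow {k : G} (hk : k ∈ K a t) (n : ℕ) : k ^ n ∈ K a t :=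
  ⟨pow_mem hk.1 n, conj_pow_of_inverts hk.2 n⟩

omit hS in
theorem K_zpowers {k x : G} (hk : k ∈ K a t) (hx : x ∈ zpowers k) : x ∈ K a t := by
  obtain ⟨n, rfl⟩ := mem_powers_iff_mem_zpowers.2 hx
  exact K_pow hk n

theorem K_mul_t {k : G} (hk : k ∈ K a t) : t * k = k⁻¹ * t := by
  rw [← hk.2]; simp

theorem K_mul_t' {k : G} (hk : k ∈ K a t) : k * t = t * k⁻¹ := by
  rw [K_mul_t hS (K_inv hk), inv_inv]

theorem K_sqrt {k : G} (hk : k ∈ K a t) : ∃ l ∈ K a t, l * l = k := by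
  obtain ⟨n, hn⟩ := exists_sq_eq_of_odd (odd_of_mem_D hS hk.1)
  exact ⟨k ^ n, K_pow hk n, hn⟩

theorem K_conj_V {k v : G} (hk : k ∈ K a t) (hv : v ∈ D a t) (hvt : Commute v t) :
    v * k * v⁻¹ ∈ K a t :=
  ⟨mul_mem (mul_mem hv hk.1) (inv_mem hv), by
    calc t * (v * k * v⁻¹) * t⁻¹ = (t * v * t⁻¹) * (t * k * t⁻¹) * (t * v * t⁻¹)⁻¹ := by group
      _ = _ := by rw [hk.2, commute_iff_conj.1 hvt.symm]; group⟩

theorem K_mul_K {k l : G} (hk : k ∈ K a t) (hl : l ∈ K a t) : l * k * l ∈ K a t :=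
  ⟨mul_mem (mul_mem hl.1 hk.1) hl.1, by
    calc t * (l * k * l) * t⁻¹ = (t * l * t⁻¹) * (t * k * t⁻¹) * (t * l * t⁻¹) := by group
      _ = _ := by rw [hk.2, hl.2]; group⟩

theorem ord_mul_t {k : G} (hk : k ∈ K a t) : orderOf (k * t) = 2 :=
  orderOf_eq_two (by
    rw [mul_assoc, ← mul_assoc t, K_mul_t hS hk]; simp [mul_assoc, hS.mul_self]) fun e => ta_ne hS (by
      rw [← inv_eq_of_mul_eq_one_right e]; exact (K_inv hk).1.1)

theorem mul_t_smul {k : G} (hk : k ∈ D a t) : (k * t) • a = t • a := by rw [mul_smul, hk.2]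

theorem mem_K_of_swap {u : G} (hu : u * u = 1) (h : u • a = t • a) : u * t ∈ K a t := by
  refine ⟨mem_D.2 ⟨?_, ?_⟩, ?_⟩
  · rw [mul_smul, ← h, ← mul_smul, hu, one_smul]
  · rw [mul_smul, tt_smul hS, h]
  · rw [mul_inv_rev, inv_t hS, inv_eq_of_mul_eq_one_right hu]; simp [mul_assoc, hS.mul_self]

omit hS in
theorem I_conj {s h : G} (hs : s ∈ I G a) (hh : h • a = a) : h * s * h⁻¹ ∈ I G a :=
  mem_invol.2 ⟨mul_mem (mul_mem hh hs.1) (inv_mem (show h ∈ stabilizer G a from hh)), by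
    rw [orderOf_conj, (mem_invol.1 hs).2]⟩

omit hS in
theorem I_conj' {s h : G} (hs : s ∈ I G a) (hh : h • a = a) : h⁻¹ * s * h ∈ I G a := by
  simpa using I_conj hs (inv_mem (show h ∈ stabilizer G a from hh))

theorem K_inj {s k l : G} (hs : s ∈ I G a) (hk : k ∈ K a t) (hl : l ∈ K a t)
    (h : k⁻¹ * s * k = l⁻¹ * s * l) : k = l := by
  have h1 := se_eq_of_conj_eq (se hS) hs.1 (mem_invol.1 hs).2 (u := k * t) (v := l * t)
    (fun e => ta_ne hS ((mul_t_smul hS hk.1).symm.trans e)) (ord_mul_t hS hk) (ord_mul_t hS hl) (by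
      rw [K_mul_t' hS hk, K_mul_t' hS hl]
      calc _ = t * (k⁻¹ * s * k) * t⁻¹ := by group
        _ = _ := by rw [h]; group)
  simpa using h1

theorem K_surj {s s' : G} (hs : s ∈ I G a) (hs' : s' ∈ I G a) :
    ∃ k ∈ K a t, k⁻¹ * s * k = s' := by
  obtain ⟨d, hd, h1, h2⟩ := se_exists_inverted_conj (se hS) hS.not_mem (ord_t hS) hs.1
    (mem_invol.1 hs).2 hs'.1 (mem_invol.1 hs').2
  refine ⟨d⁻¹, K_inv ⟨mem_D.2 ⟨hd, ?_⟩, h1⟩, by simpa using h2⟩
  have : d * t = t * d⁻¹ := by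
    rw [← h1, inv_t hS]; simp [← mul_assoc, hS.mul_self]
  rw [← mul_smul, this, mul_smul, show d⁻¹ • a = a from inv_mem hd]

theorem I_nonempty : ∃ s, s ∈ I G a := by
  obtain ⟨s, hs, h2⟩ := exists_invol_Q hS
  exact ⟨s, mem_invol.2 ⟨hS.le hs, h2⟩⟩

theorem card_K : Nat.card (K a t) = Nat.card (I G a) := by
  obtain ⟨s, hs⟩ := I_nonempty hS
  exact Nat.card_congr (Equiv.ofBijective
    (fun k : K a t => (⟨(k : G)⁻¹ * s * k, I_conj' hs k.2.1.1⟩ : I G a))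
    ⟨fun k l h => Subtype.ext (K_inj hS hs k.2 l.2 (congrArg Subtype.val h)), fun s' => by
      obtain ⟨k, hk, e⟩ := K_surj hS hs s'.2
      exact ⟨⟨k, hk⟩, Subtype.ext e⟩⟩)

theorem eq_one_of_K_commute {s k : G} (hs : s ∈ I G a) (hk : k ∈ K a t) (h : Commute k s) :
    k = 1 :=
  K_inj hS hs hk K_one (by rw [mul_assoc, ← h.eq]; simp)

/-- An involution moving `a` is conjugate to `k * t` by an element of `Q`. -/
theorem invol_canon {u : G} (hu : u * u = 1) (h : u • a ≠ a) :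
    ∃ r ∈ Q, ∃ k ∈ K a t, u = r⁻¹ * (k * t) * r := by
  obtain ⟨r, hr, e⟩ := exists_Q' hS h (ta_ne hS)
  refine ⟨r, hr, r * u * r⁻¹ * t, mem_K_of_swap hS (conj_mul_self hu r) ?_, ?_⟩
  · rw [mul_smul, mul_smul, show r⁻¹ • a = a from Q_smul hS (inv_mem hr), e]
  · simp [mul_assoc, hS.mul_self]

theorem invol_canon_unique {r r' k k' : G} (hr : r ∈ Q) (hr' : r' ∈ Q) (hk : k ∈ D a t)
    (hk' : k' ∈ D a t) (e : r⁻¹ * (k * t) * r = r'⁻¹ * (k' * t) * r') : k = k' ∧ r = r' :=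
  (canon_unique hS (inv_mem hr) (inv_mem hr') hk hk' hr hr' (by simpa [mul_assoc] using e)).2

theorem exists_conj_t {u : G} (hu : u * u = 1) (h : u • a ≠ a) :
    ∃ g : G, g • a = a ∧ g * u * g⁻¹ = t := by
  obtain ⟨r, hr, k, hk, rfl⟩ := invol_canon hS hu h
  obtain ⟨l, hl, rfl⟩ := K_sqrt hS hk
  refine ⟨l⁻¹ * r, by rw [mul_smul, Q_smul hS hr]; exact (K_inv hl).1.1, ?_⟩
  calc _ = l * t * l := by group
    _ = t := by rw [K_mul_t' hS hl]; group

theorem tst_ne {s : G} (hs : s ∈ Q) (h1 : s ≠ 1) : (t * s * t) • a ≠ a := fun e => by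
  rw [mul_smul, mul_smul, ← eq_inv_smul_iff, inv_t hS] at e
  exact h1 (eq_one_of_fix hS hs (ta_ne hS) e)

theorem structure_conj {s r k l : G} (hl : l ∈ K a t) (e : t * s * t = r⁻¹ * (k * t) * r) :
    t * (l⁻¹ * s * l) * t = (l * r * l⁻¹)⁻¹ * (l * k * l * t) * (l * r * l⁻¹) := by
  calc t * (l⁻¹ * s * l) * t = (t * l⁻¹) * s * (l * t) := by group
    _ = l * (t * s * t) * l⁻¹ := by rw [K_mul_t hS (K_inv hl), K_mul_t' hS hl]; group
    _ = l * r⁻¹ * k * (t * l⁻¹) * l * r * l⁻¹ := by rw [e]; group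
    _ = _ := by rw [K_mul_t hS (K_inv hl)]; group

/-- The structure equation. -/
theorem structure_eq : ∃! p : G × G, p.1 ∈ I G a ∧ p.2 ∈ Q ∧ t * p.1 * t = p.2⁻¹ * t * p.2 := by
  obtain ⟨s, hs⟩ := I_nonempty hS
  obtain ⟨r, hr, k, hk, e⟩ := invol_canon hS (u := t * s * t)
    (by simpa [inv_t hS] using conj_mul_self hs.2.2 t) (tst_ne hS (I_Q hS hs) hs.2.1)
  obtain ⟨l, hl, e2⟩ := K_sqrt hS (K_inv hk)
  have e3 : l * k * l = 1 := by rw [← inv_inv k, ← e2]; group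
  have h1 := structure_conj hS hl e
  rw [e3, one_mul] at h1
  refine ⟨(l⁻¹ * s * l, l * r * l⁻¹), ⟨I_conj' hs hl.1.1, hS.conj_mem l hl.1.1 r hr, h1⟩, ?_⟩
  rintro ⟨s', r'⟩ ⟨hs', hr', e'⟩
  dsimp only at hs' hr' e'
  obtain ⟨m, hm, rfl⟩ := K_surj hS hs hs'
  have h2 := structure_conj hS hm e
  rw [e'] at h2
  obtain ⟨h3, h4⟩ := invol_canon_unique hS hr' (hS.conj_mem m hm.1.1 r hr) (one_mem _)
    (K_mul_K hS hk hm).1 (by simpa using h2)
  have h5 : m = l := eq_of_sq_eq_of_odd (odd_of_mem_D hS hm.1) (odd_of_mem_D hS hl.1) (by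
    rw [e2]
    calc m * m = m * (k * m * m⁻¹ * k⁻¹) * m := by group
      _ = (m * k * m) * m⁻¹ * k⁻¹ * m := by group
      _ = m⁻¹ * k⁻¹ * m := by rw [← h3]; group
      _ = m⁻¹ * (m * (m * k * m)⁻¹ * m * k) * k⁻¹ * m := by
        have : m * k * m = 1 := h3.symm
        have h6 : k = m⁻¹ * m⁻¹ := by
          calc k = m⁻¹ * (m * k * m) * m⁻¹ := by group
            _ = _ := by rw [this]; group
        rw [h6]; group
      _ = k⁻¹ := by
        have h6 : k = m⁻¹ * m⁻¹ := by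
          calc k = m⁻¹ * (m * k * m) * m⁻¹ := by group
            _ = _ := by rw [← h3]; group
        rw [h6]; group)
  subst h5
  rw [h4]

/-- The centraliser of `t` in `D`. -/
abbrev V (a : Ω) (t : G) : Subgroup G := D a t ⊓ centralizer {t}

omit hS in
theorem V_commute {v : G} (hv : v ∈ V a t) : Commute v t := mem_centralizer_singleton'.1 hv.2

theorem exists_VK {d : G} (hd : d ∈ D a t) : ∃ v ∈ V a t, ∃ k ∈ K a t, d = v * k := by
  obtain ⟨⟨v, k⟩, ⟨h1, h2, h3⟩, -⟩ :=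
    (S1124.result t (ord_t hS) (D a t) hS.odd_card fun _ hx => conj_t_mem hS hx).1 d hd
  exact ⟨v, h1, k, h2, h3⟩

theorem VK_unique {v v' k k' : G} (hv : v ∈ V a t) (hv' : v' ∈ V a t) (hk : k ∈ K a t)
    (hk' : k' ∈ K a t) (e : v * k = v' * k') : v = v' ∧ k = k' := by
  have := ((S1124.result t (ord_t hS) (D a t) hS.odd_card fun _ hx => conj_t_mem hS hx).1 _
    (mul_mem hv.1 hk.1)).unique (y₁ := (v, k)) (y₂ := (v', k')) ⟨hv, hk, rfl⟩ ⟨hv', hk', e⟩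
  exact ⟨congrArg Prod.fst this, congrArg Prod.snd this⟩

theorem card_D : Nat.card (D a t) = Nat.card (V a t) * Nat.card (K a t) :=
  (S1124.result t (ord_t hS) (D a t) hS.odd_card fun _ hx => conj_t_mem hS hx).2.1

theorem exists_KV {d : G} (hd : d ∈ D a t) : ∃ k ∈ K a t, ∃ v ∈ V a t, d = k * v := by
  obtain ⟨v, hv, k, hk, e⟩ := exists_VK hS (inv_mem hd)
  exact ⟨k⁻¹, K_inv hk, v⁻¹, inv_mem hv, by rw [← mul_inv_rev, ← e, inv_inv]⟩

theorem eq_one_of_V_K {x : G} (hv : x ∈ V a t) (hk : x ∈ K a t) : x = 1 :=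
  (VK_unique hS hv (one_mem _) K_one hk (by simp)).1

theorem V_commute_s {s r v : G} (hs : s ∈ I G a) (hr : r ∈ Q) (e : t * s * t = r⁻¹ * t * r)
    (hv : v ∈ V a t) : Commute v s ∧ Commute v r := by
  have h0 := commute_iff_conj.1 (V_commute hv)
  have := (structure_eq hS).unique (y₁ := (v * s * v⁻¹, v * r * v⁻¹)) (y₂ := (s, r))
    ⟨I_conj hs hv.1.1, hS.conj_mem v hv.1.1 r hr, by
      calc t * (v * s * v⁻¹) * t = (v * t * v⁻¹) * (v * s * v⁻¹) * (v * t * v⁻¹) := by rw [h0]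
        _ = v * (t * s * t) * v⁻¹ := by group
        _ = (v * r * v⁻¹)⁻¹ * (v * t * v⁻¹) * (v * r * v⁻¹) := by rw [e]; group
        _ = _ := by rw [h0]⟩ ⟨hs, hr, e⟩
  exact ⟨commute_iff_conj.2 (congrArg Prod.fst this), commute_iff_conj.2 (congrArg Prod.snd this)⟩

theorem mem_V_of_commute_s {s r d : G} (hs : s ∈ I G a) (hr : r ∈ Q) (e : t * s * t = r⁻¹ * t * r)
    (hd : d ∈ D a t) (h : Commute d s) : d ∈ V a t := by
  obtain ⟨v, hv, k, hk, rfl⟩ := exists_VK hS hd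
  have h1 : Commute k s := by
    simpa using ((V_commute_s hS hs hr e hv).1.inv_left.mul_left h)
  rw [eq_one_of_K_commute hS hs hk h1, mul_one]
  exact hv

theorem V_eq {s r : G} (hs : s ∈ I G a) (hr : r ∈ Q) (e : t * s * t = r⁻¹ * t * r) :
    V a t = D a t ⊓ centralizer {s} :=
  le_antisymm (fun _ hv => ⟨hv.1, mem_centralizer_singleton'.2 (V_commute_s hS hs hr e hv).1⟩)
    fun _ hd => mem_V_of_commute_s hS hs hr e hd.1 (mem_centralizer_singleton'.1 hd.2)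

/-- The centraliser of `K` in `V`. -/
abbrev W (a : Ω) (t : G) : Subgroup G := V a t ⊓ centralizer (K a t)

theorem W_eq : W a t = D a t ⊓ centralizer (I G a) := by
  obtain ⟨⟨s, r⟩, ⟨hs, hr, e⟩, -⟩ := structure_eq hS
  dsimp only at hs hr e
  refine le_antisymm (fun v hv => mem_inf.2 ⟨hv.1.1, mem_centralizer_iff.2 fun s' hs' => ?_⟩)
    fun d hd => ?_
  · obtain ⟨k, hk, rfl⟩ := K_surj hS hs hs'
    have h1 : Commute k v := hv.2 k hk
    exact ((h1.inv_left.mul_left (V_commute_s hS hs hr e hv.1).1.symm).mul_left h1).eq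
  · have h1 : Commute s d := hd.2 s hs
    have hv := mem_V_of_commute_s hS hs hr e hd.1 h1.symm
    refine mem_inf.2 ⟨hv, mem_centralizer_iff.2 fun k hk => ?_⟩
    have h2 : Commute (k⁻¹ * s * k) d := hd.2 _ (I_conj' hs hk.1.1)
    have h3 := K_inj hS hs (K_conj_V hS hk hd.1 (V_commute hv)) hk (by
      calc _ = d * k⁻¹ * (d⁻¹ * s * d) * k * d⁻¹ := by group
        _ = d * (k⁻¹ * s * k) * d⁻¹ := by rw [mul_assoc d⁻¹, h1.eq]; group
        _ = _ := commute_iff_conj.1 h2.symm)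
    exact (commute_iff_conj.2 h3).symm.eq

section fix

variable {X : Set G} (hX : X ⊆ (D a t : Subgroup G))
include hX

theorem exists_CQ {b c : Ω} (hb : b ≠ a) (hc : c ≠ a) (hb' : ∀ x ∈ X, x • b = b)
    (hc' : ∀ x ∈ X, x • c = c) : ∃ y ∈ centralizer X ⊓ Q, y • b = c := by
  obtain ⟨y, hy, e⟩ := exists_Q' hS hb hc
  refine ⟨y, ⟨fun x hx => ?_, hy⟩, e⟩
  have := Q_inj hS (hS.conj_mem x (hX hx).1 y hy) hy hb (by
    rw [mul_smul, mul_smul, inv_smul_eq_iff.2 (hb' x hx).symm, e, hc' x hx])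
  exact (commute_iff_conj.2 this).eq

theorem exists_CQ' {b c : Ω} (hb : b ≠ t • a) (hc : c ≠ t • a) (hb' : ∀ x ∈ X, x • b = b)
    (hc' : ∀ x ∈ X, x • c = c) : ∃ y ∈ centralizer X, y • t • a = t • a ∧ y • b = c := by
  have key : ∀ {b : Ω}, b ≠ t • a → t • b ≠ a := fun hb e => hb (by rw [← e, tt_smul hS])
  have key2 : ∀ {b : Ω}, (∀ x ∈ X, x • b = b) →
      ∀ x ∈ (fun x => t * x * t) '' X, x • t • b = t • b := by
    rintro b hb _ ⟨x, hx, rfl⟩
    rw [mul_smul, mul_smul, tt_smul hS, hb x hx]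
  obtain ⟨y, hy, e⟩ := exists_CQ hS (X := (fun x => t * x * t) '' X) (by
    rintro _ ⟨x, hx, rfl⟩
    exact conj_t_mem' hS (hX hx)) (key hb) (key hc) (key2 hb') (key2 hc')
  refine ⟨t * y * t, fun x hx => ?_, ?_, ?_⟩
  · have h1 : t * x * t * y = y * (t * x * t) := hy.1 _ ⟨x, hx, rfl⟩
    calc x * (t * y * t) = (t * t) * x * (t * y * t) := by rw [hS.mul_self, one_mul]
      _ = t * (t * x * t * y) * t := by group
      _ = t * y * t * x * (t * t) := by rw [h1]; group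
      _ = _ := by rw [hS.mul_self, mul_one]
  · rw [mul_smul, mul_smul, tt_smul hS, Q_smul hS hy.2]
  · rw [mul_smul, mul_smul, e, tt_smul hS]

theorem exists_third
    (h3 : ∃ b c d : Ω, b ≠ c ∧ b ≠ d ∧ c ≠ d ∧ ∀ x ∈ X, x • b = b ∧ x • c = c ∧ x • d = d) :
    ∃ c : Ω, c ≠ a ∧ c ≠ t • a ∧ ∀ x ∈ X, x • c = c := by
  obtain ⟨b, c, d, h1, h2, h3, h⟩ := h3
  by_contra! hn
  have hb := hn b
  have hc := hn c
  have hd := hn d
  simp only [ne_eq, ← not_forall, ← Classical.not_imp, not_not] at hb hc hd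
  by_cases b1 : b = a <;> by_cases b2 : b = t • a <;> by_cases c1 : c = a <;>
    by_cases c2 : c = t • a <;> by_cases d1 : d = a <;> by_cases d2 : d = t • a <;>
    first
      | exact hb b1 b2 fun x hx => (h x hx).1
      | exact hc c1 c2 fun x hx => (h x hx).2.1
      | exact hd d1 d2 fun x hx => (h x hx).2.2
      | simp_all

variable {c : Ω} (hc : c ≠ a) (hc' : c ≠ t • a) (hcX : ∀ x ∈ X, x • c = c)
include hc hc' hcX

theorem exists_C_to {b : Ω} (hb : ∀ x ∈ X, x • b = b) : ∃ y ∈ centralizer X, y • b = a := by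
  by_cases h : b = t • a
  · obtain ⟨y, hy, e⟩ := exists_CQ hS hX (ta_ne hS) hc (fun x hx => (hX hx).2) hcX
    obtain ⟨z, hz, -, e'⟩ := exists_CQ' hS hX hc' (ta_ne hS).symm hcX (fun x hx => (hX hx).1)
    exact ⟨z * y, mul_mem hz hy.1, by rw [h, mul_smul, e, e']⟩
  · obtain ⟨z, hz, -, e'⟩ := exists_CQ' hS hX h (ta_ne hS).symm hb (fun x hx => (hX hx).1)
    exact ⟨z, hz, e'⟩

omit hS hX hc hc' hcX in
theorem fix_smul {y : G} (hy : y ∈ centralizer X) {b : Ω} (hb : ∀ x ∈ X, x • b = b) :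
    ∀ x ∈ X, x • y • b = y • b := fun x hx => by
  rw [← mul_smul, hy x hx, mul_smul, hb x hx]

theorem exists_C_to_pair {b₁ b₂ : Ω} (h1 : ∀ x ∈ X, x • b₁ = b₁) (h2 : ∀ x ∈ X, x • b₂ = b₂)
    (h : b₁ ≠ b₂) : ∃ y ∈ centralizer X, y • b₁ = a ∧ y • b₂ = t • a := by
  obtain ⟨y, hy, e⟩ := exists_C_to hS hX hc hc' hcX h1
  obtain ⟨z, hz, e'⟩ := exists_CQ hS hX (b := y • b₂) (fun e2 => h (smul_left_cancel y (e.trans e2.symm)))
    (ta_ne hS) (fix_smul hy h2) (fun x hx => (hX hx).2)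
  exact ⟨z * y, mul_mem hz.1 hy, by rw [mul_smul, e, Q_smul hS hz.2], by rw [mul_smul, e']⟩

theorem C_two {b₁ b₂ c₁ c₂ : Ω} (h1 : ∀ x ∈ X, x • b₁ = b₁) (h2 : ∀ x ∈ X, x • b₂ = b₂)
    (h3 : ∀ x ∈ X, x • c₁ = c₁) (h4 : ∀ x ∈ X, x • c₂ = c₂) (h : b₁ ≠ b₂) (h' : c₁ ≠ c₂) :
    ∃ y ∈ centralizer X, y • b₁ = c₁ ∧ y • b₂ = c₂ := by
  obtain ⟨y, hy, e1, e2⟩ := exists_C_to_pair hS hX hc hc' hcX h1 h2 h
  obtain ⟨z, hz, e3, e4⟩ := exists_C_to_pair hS hX hc hc' hcX h3 h4 h'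
  exact ⟨z⁻¹ * y, mul_mem (inv_mem hz) hy, by rw [mul_smul, e1, inv_smul_eq_iff, e3],
    by rw [mul_smul, e2, inv_smul_eq_iff, e4]⟩

theorem exists_invol_C : ∃ u ∈ centralizer X, orderOf u = 2 := by
  obtain ⟨y, hy, e1, e2⟩ := C_two hS hX hc hc' hcX (fun x hx => (hX hx).1) (fun x hx => (hX hx).2)
    (fun x hx => (hX hx).2) (fun x hx => (hX hx).1) (ta_ne hS).symm (ta_ne hS)
  refine exists_invol_mem (Nat.not_odd_iff_even.1 fun ho => ?_)
  obtain ⟨n, hn⟩ := exists_sq_eq_of_odd (odd_orderOf_of_mem ho hy)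
  have h1 : (y * y) • a = a := by rw [mul_smul, e1, e2]
  have h2 : y ∈ stabilizer G a := by
    rw [← hn, ← (Commute.refl y).mul_pow]
    exact pow_mem h1 n
  exact ta_ne hS (e1.symm.trans h2)

theorem exists_invol_CQ : ∃ u ∈ centralizer X ⊓ Q, orderOf u = 2 := by
  obtain ⟨u, hu, h2⟩ := exists_invol_C hS hX hc hc' hcX
  obtain ⟨b, hb⟩ := exists_fix hS h2
  have hb' : ∀ x ∈ X, x • b = b := fun x hx => fix_unique hS h2 (by
    rw [← mul_smul, ← hu x hx, mul_smul, hb]) hb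
  obtain ⟨y, hy, e⟩ := exists_C_to hS hX hc hc' hcX hb'
  refine ⟨y * u * y⁻¹, mem_inf.2 ⟨mul_mem (mul_mem hy hu) (inv_mem hy), invol_mem_Q hS ?_ ?_⟩, ?_⟩
  · rw [← e, mul_smul, mul_smul, inv_smul_smul, hb]
  all_goals rw [orderOf_conj, h2]

theorem exists_invol_swap : ∃ k ∈ K a t, k * t ∈ centralizer X := by
  obtain ⟨u, hu, h2⟩ := exists_invol_CQ hS hX hc hc' hcX
  have h1 : t • a ≠ u • t • a := fun e =>
    ne_one_of_orderOf h2 (eq_one_of_fix hS hu.2 (ta_ne hS) e.symm)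
  obtain ⟨y, hy, e1, e2⟩ := exists_C_to_pair hS hX hc hc' hcX (fun x hx => (hX hx).2)
    (fix_smul hu.1 fun x hx => (hX hx).2) h1
  refine ⟨y * u * y⁻¹ * t, mem_K_of_swap hS (conj_mul_self (mul_self_of_orderOf h2) y) ?_, ?_⟩
  · rw [mul_smul, mul_smul, inv_smul_eq_iff.2 e1.symm, e2]
  · rw [mul_assoc, hS.mul_self, mul_one]
    exact mul_mem (mul_mem hy hu.1) (inv_mem hy)

theorem exists_conj_V : ∃ l ∈ K a t, ∀ x ∈ X, Commute (l * x * l⁻¹) t := by
  obtain ⟨k, hk, h⟩ := exists_invol_swap hS hX hc hc' hcX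
  obtain ⟨l, hl, rfl⟩ := K_sqrt hS hk
  refine ⟨l⁻¹, K_inv hl, fun x hx => ?_⟩
  have h1 : x * (l * l * t) = l * l * t * x := h x hx
  rw [mul_assoc l l t, K_mul_t' hS hl] at h1
  calc l⁻¹ * x * l⁻¹⁻¹ * t = l⁻¹ * (x * (l * (t * l⁻¹))) * l := by group
    _ = _ := by rw [h1]; group

omit hc hc' hcX in
theorem CH_eq : (centralizer X ⊓ Q) ⊔ (centralizer X ⊓ D a t) = centralizer X ⊓ stabilizer G a := by
  refine le_antisymm (sup_le (inf_le_inf_left _ hS.le) (inf_le_inf_left _ inf_le_left)) fun h hh => ?_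
  obtain ⟨y, hy, e⟩ := exists_CQ hS hX (ta_ne hS) (smul_ne hS hh.2 (ta_ne hS))
    (fun x hx => (hX hx).2) (fix_smul hh.1 fun x hx => (hX hx).2)
  have : y⁻¹ * h ∈ centralizer X ⊓ D a t :=
    mem_inf.2 ⟨mul_mem (inv_mem (mem_inf.1 hy).1) (mem_inf.1 hh).1,
    mem_inf.2 ⟨mul_mem (hS.le (inv_mem (mem_inf.1 hy).2)) (mem_inf.1 hh).2, by
      show (y⁻¹ * h) • t • a = t • a
      rw [mul_smul, ← e, inv_smul_smul]⟩⟩
  simpa using mul_mem (mem_sup_left (T := centralizer X ⊓ D a t) hy)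
    (mem_sup_right (S := centralizer X ⊓ Q) this)

end fix

theorem K_fpf {x : G} (hx : x ∈ K a t) (h1 : x ≠ 1) : Q ⊓ centralizer {x} = ⊥ := by
  rw [eq_bot_iff]
  intro y hy
  by_contra hy1
  have hc : Commute y x := mem_centralizer_singleton'.1 hy.2
  obtain ⟨u, hu, h2⟩ := exists_invol_CQ hS (X := {x}) (Set.singleton_subset_iff.2 hx.1)
    (c := y • t • a) (smul_ne hS (Q_smul hS hy.1) (ta_ne hS))
    (fun e => hy1 (eq_one_of_fix hS hy.1 (ta_ne hS) e)) (by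
      rintro _ rfl
      rw [← mul_smul, ← hc.eq, mul_smul, hx.1.2])
  exact h1 (eq_one_of_K_commute hS (mem_invol.2 ⟨hS.le hu.2, h2⟩) hx
    (mem_centralizer_singleton'.1 hu.1).symm)

theorem conj_V {X : Set G} (hX : X ⊆ (V a t : Subgroup G)) {g : G}
    (hY : (fun x => g * x * g⁻¹) '' X ⊆ (V a t : Subgroup G)) :
    ∃ v ∈ V a t, (fun x => v * x * v⁻¹) '' X = (fun x => g * x * g⁻¹) '' X := by
  obtain ⟨⟨s, r⟩, ⟨hs, hr, e⟩, -⟩ := structure_eq hS
  dsimp only at hs hr e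
  have hc : ∀ v ∈ V a t, v • s • t • a = s • t • a := fun v hv => by
    rw [← mul_smul, (V_commute_s hS hs hr e hv).1.eq, mul_smul, hv.1.2]
  have key : ∀ b : Ω, (∀ v ∈ V a t, v • b = b) →
      ∀ y ∈ (fun x => g * x * g⁻¹) '' X, y • g • b = g • b := by
    rintro b hb _ ⟨x, hx, rfl⟩
    rw [mul_smul, mul_smul, inv_smul_smul, hb x (hX hx)]
  obtain ⟨y, hy, e1, e2⟩ := exists_C_to_pair hS (X := (fun x => g * x * g⁻¹) '' X)
    (fun y hy => (hY hy).1) (smul_ne hS hs.1 (ta_ne hS))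
    (fun e => hs.2.1 (eq_one_of_fix hS (I_Q hS hs) (ta_ne hS) e)) (fun y hy => hc y (hY hy))
    (key a fun v hv => hv.1.1) (key (t • a) fun v hv => hv.1.2)
    (fun e => ta_ne hS (smul_left_cancel g e).symm)
  obtain ⟨k, hk, v, hv, e3⟩ := exists_KV hS (d := y * g) (mem_D.2 ⟨by rw [mul_smul, e1],
    by rw [mul_smul, e2]⟩)
  refine ⟨v, hv, Set.image_congr fun x hx => ?_⟩
  have h1 : g * x * g⁻¹ = k * (v * x * v⁻¹) * k⁻¹ := by
    calc g * x * g⁻¹ = y * (g * x * g⁻¹) * y⁻¹ :=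
          (commute_iff_conj.1 (show Commute y _ from (hy _ ⟨x, hx, rfl⟩).symm)).symm
      _ = (y * g) * x * (y * g)⁻¹ := by group
      _ = _ := by rw [e3]; group
  have h2 : v * x * v⁻¹ ∈ V a t := mul_mem (mul_mem hv (hX hx)) (inv_mem hv)
  have h3 : k * (v * x * v⁻¹) * k⁻¹ ∈ V a t := h1 ▸ hY ⟨x, hx, rfl⟩
  generalize v * x * v⁻¹ = z at *
  have h4 := commute_iff_conj.1 (V_commute h3).symm
  have h5 : Commute (k * k) z := by
    refine commute_iff_conj.2 ?_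
    calc k * k * z * (k * k)⁻¹ = k * (k * z * k⁻¹) * k⁻¹ := by group
      _ = k * ((t * k * t⁻¹) * (t * z * t⁻¹) * (t * k * t⁻¹)⁻¹) * k⁻¹ := by
        conv_lhs => rw [← h4]
        group
      _ = z := by rw [hk.2, commute_iff_conj.1 (V_commute h2).symm]; group
  rw [h1, commute_iff_conj.1 (commute_of_commute_sq_of_odd (odd_of_mem_D hS hk.1) h5)]

theorem exists_conj_I {u : G} (hu : orderOf u = 2) : ∃ g : G, g * u * g⁻¹ ∈ I G a := by
  obtain ⟨s, hs⟩ := I_nonempty hS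
  obtain ⟨g, hg⟩ := isConj_iff.1 (se_isConj (se hS) hu (mem_invol.1 hs).2)
  exact ⟨g, hg ▸ hs⟩

theorem mem_I_of_commute {s u : G} (hs : s ∈ I G a) (hu : orderOf u = 2) (h : Commute u s) :
    u ∈ I G a := mem_invol.2 ⟨se_mem_of_commute (se hS) hs.1 (mem_invol.1 hs).2 h, hu⟩

theorem exists_four
    (h2 : ∃ x y : G, x ≠ 1 ∧ y ≠ 1 ∧ x ≠ y ∧ x * x = 1 ∧ y * y = 1 ∧ x * y = y * x) :
    ∃ x ∈ I G a, ∃ y ∈ I G a, x ≠ y ∧ Commute x y := by
  obtain ⟨x, y, hx, hy, hxy, hx2, hy2, hc⟩ := h2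
  obtain ⟨g, hg⟩ := exists_conj_I hS (orderOf_eq_two hx2 hx)
  have h1 : Commute (g * y * g⁻¹) (g * x * g⁻¹) := by
    show _ = _
    rw [conj_mul, conj_mul, hc]
  exact ⟨_, hg, _, mem_I_of_commute hS hg (by rw [orderOf_conj, orderOf_eq_two hy2 hy]) h1,
    by simpa using hxy, h1.symm⟩

theorem normal_odd_le
    (h2 : ∃ x y : G, x ≠ 1 ∧ y ≠ 1 ∧ x ≠ y ∧ x * x = 1 ∧ y * y = 1 ∧ x * y = y * x)
    (N : Subgroup G) [N.Normal] (hN : Odd (Nat.card N)) : N ≤ stabilizer G a := fun g hg => by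
  by_contra h
  obtain ⟨x, hx, y, hy, hxy, hc⟩ := exists_four hS h2
  have h1 := se_odd (se hS) hy.1 (mem_invol.1 hy).2 (u := g * x * g⁻¹)
    (fun e => h (se_mem (se hS) hx.1 (mem_invol.1 hx).2 e))
    (by rw [orderOf_conj, (mem_invol.1 hx).2])
  have h3 : (QuotientGroup.mk' N) g = 1 := (QuotientGroup.eq_one_iff g).2 hg
  have h4 := h1.of_dvd_nat (orderOf_map_dvd (QuotientGroup.mk' N) _)
  rw [map_mul, map_mul, map_mul, map_inv, h3, one_mul, inv_one, mul_one, ← map_mul] at h4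
  have h5 : (y * x) * (y * x) = 1 := by
    rw [← sq, hc.symm.mul_pow, sq, sq, hx.2.2, hy.2.2, mul_one]
  have h6 := eq_one_of_odd_of_mul_self h4 (by rw [← map_mul, h5, map_one])
  have h7 := eq_one_of_odd_of_mul_self
    (odd_orderOf_of_mem hN ((QuotientGroup.eq_one_iff _).1 h6)) h5
  exact hxy (by rw [← inv_eq_of_mul_eq_one_right h7, inv_eq_of_mul_eq_one_right hy.2.2])

theorem normalCore_le_D : (stabilizer G a).normalCore ≤ D a t := fun g hg =>
  mem_D.2 ⟨normalCore_le _ hg, by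
    have : (t⁻¹ * g * t⁻¹⁻¹) • a = a := hg t⁻¹
    rwa [inv_inv, mul_smul, mul_smul, inv_smul_eq_iff] at this⟩

section rank

variable (h2 : ∃ x y : G, x ≠ 1 ∧ y ≠ 1 ∧ x ≠ y ∧ x * x = 1 ∧ y * y = 1 ∧ x * y = y * x)
include h2

theorem exists_K_ne : ∃ k ∈ K a t, k ≠ 1 := by
  obtain ⟨x, hx, y, hy, hxy, -⟩ := exists_four hS h2
  obtain ⟨k, hk, e⟩ := K_surj hS hx hy
  exact ⟨k, hk, fun h => hxy (by simpa [h] using e)⟩

theorem nilpotent_Q : Group.IsNilpotent Q := by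
  obtain ⟨k, hk, h1⟩ := exists_K_ne hS h2
  exact Solv.thompson_fpf (H := zpowers k)
    ((zpowers_le.2 hk.1.1).trans (H_le_normalizer hS)) (zpowers_ne_bot.2 h1)
    fun h hh h1 => K_fpf hS (K_zpowers hk hh) h1

theorem exists_central : ∃ z ∈ I G a, ∀ x ∈ Q, Commute z x := by
  have := nilpotent_Q hS h2
  obtain ⟨P⟩ : Nonempty (Sylow 2 Q) := inferInstance
  have h0 : (P : Subgroup Q) ≠ ⊥ := P.ne_bot_of_dvd_card hS.even_card.two_dvd
  have h1 := Solv.inf_centralizer_ne_bot_of_nilpotent (L := ⊤) (N := (P : Subgroup Q))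
    (Group.nilpotent_of_mulEquiv Subgroup.topEquiv.symm) le_top Subgroup.le_normalizer_of_normal h0
  obtain ⟨z, hz, h3⟩ := exists_invol_mem_of_isPGroup (P.2.to_le inf_le_left) h1
  refine ⟨z, mem_invol.2 ⟨hS.le z.2, by rw [orderOf_coe, h3]⟩, fun x hx => ?_⟩
  exact (congrArg Subtype.val (hz.2 ⟨x, hx⟩ trivial)).symm

theorem I_central {s : G} (hs : s ∈ I G a) {x : G} (hx : x ∈ Q) : Commute s x := by
  obtain ⟨z, hz, h⟩ := exists_central hS h2
  obtain ⟨k, hk, rfl⟩ := K_surj hS hz hs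
  have h1 := h _ (hS.conj_mem k hk.1.1 x hx)
  calc k⁻¹ * z * k * x = k⁻¹ * (z * (k * x * k⁻¹)) * k := by group
    _ = _ := by rw [h1.eq]; group

theorem I_mul {s s' : G} (hs : s ∈ I G a) (hs' : s' ∈ I G a) : s * s' = 1 ∨ s * s' ∈ I G a := by
  by_cases h : s * s' = 1
  · exact Or.inl h
  · refine Or.inr ⟨mul_mem hs.1 hs'.1, h, ?_⟩
    rw [← sq, (I_central hS h2 hs (I_Q hS hs')).mul_pow, sq, sq, hs.2.2, hs'.2.2, mul_one]

theorem exists_conj_mul {u v : G} (hu : orderOf u = 2) (hv : orderOf v = 2)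
    (hx : u * v * (u * v) ≠ 1) : ∃ g : G, g * u * g⁻¹ ∈ I G a ∧ g * v * g⁻¹ = t := by
  obtain ⟨g, hg⟩ := exists_conj_I hS hu
  have h1 : (g * v * g⁻¹) • a ≠ a := fun e => hx (by
    have h3 : g * v * g⁻¹ ∈ I G a := mem_invol.2 ⟨e, by rw [orderOf_conj, hv]⟩
    have h4 : g * u * g⁻¹ * (g * v * g⁻¹) * (g * u * g⁻¹ * (g * v * g⁻¹)) = 1 := by
      rcases I_mul hS h2 hg h3 with h | h
      · rw [h, one_mul]
      · exact h.2.2
    simpa [conj_mul] using h4)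
  obtain ⟨h, hh, e⟩ := exists_conj_t hS (conj_mul_self (mul_self_of_orderOf hv) g) h1
  refine ⟨h * g, ?_, ?_⟩
  · have := I_conj hg hh
    rwa [show h * (g * u * g⁻¹) * h⁻¹ = h * g * u * (h * g)⁻¹ by group] at this
  · rw [← e]; group

end rank

theorem odd_centralizer {u : G} (hu : u ∈ I G a) : Odd (Nat.card (centralizer {u * t})) := by
  by_contra he
  rw [Nat.not_odd_iff_even] at he
  have hn : zpowers u ≤ normalizer (centralizer {u * t} : Set G) := zpowers_le.2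
    (mem_normalizer_of_conj_mem fun x hx => mem_centralizer_singleton'.2 (by
      have h1 : Commute x (u * t) := mem_centralizer_singleton'.1 hx
      have h3 := inverts_mul_left hu.2.2 hS.mul_self
      have h4 : u * t = u * (u * t)⁻¹ * u⁻¹ := by rw [← conj_inv, h3, inv_inv]
      rw [h4]
      show _ = _
      rw [conj_mul, conj_mul, h1.inv_right.eq]))
  obtain ⟨P, hP, hle⟩ := exists_isSyl_ge (p := 2) (isPGroup_two_zpowers hu.2.2)
    (le_sup_left : zpowers u ≤ zpowers u ⊔ centralizer {u * t})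
  have h1 := hP.inf_of_le_normalizer le_sup_right (sup_le hn le_normalizer)
  have h3 : P ⊓ centralizer {u * t} ≠ ⊥ := fun e =>
    h1.eq_bot_iff.1 e he.two_dvd
  have h4 := Solv.inf_centralizer_ne_bot_of_nilpotent (L := P) hP.pgroup.isNilpotent inf_le_left
    (fun g hg => mem_normalizer_inf (le_normalizer hg) ((sup_le hn le_normalizer :) (hP.le hg))) h3
  obtain ⟨z, hz, h5⟩ := exists_invol_mem_of_isPGroup
    (hP.pgroup.to_le (inf_le_left.trans inf_le_left)) h4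
  have h6 : Commute u z := hz.2 u (hle (mem_zpowers u))
  have h7 : Commute z (u * t) := mem_centralizer_singleton'.1 hz.1.2
  have h8 : Commute z t := by
    have := h6.symm.mul_right h7
    rwa [← mul_assoc, hu.2.2, one_mul] at this
  exact hS.not_mem (mem_I_of_commute hS (mem_I_of_commute hS hu h5 h6.symm) (ord_t hS) h8.symm).1

end Cfsg.Agent.RankOne
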