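import Cfsg.Agent.Lib.Char.U3

/-!
The split rank-one set-up: the inductive statement and its transfer lemmas.
-/

set_option autoImplicit false
set_option linter.unusedSectionVars false
set_option linter.style.haveILetI false

namespace Cfsg.Agent.RankOne

open MulAction Subgroup Cfsg.Agent.Perm Cfsg.Agent.Transfer

variable {G Ω : Type*} [Group G] [Finite G] [MulAction G Ω] {a : Ω} {t : G} {Q : Subgroup G}
  {x y z s r k d u : G}

/-- The structure of `Q ⊓ M` given by Suzuki's theorem. -/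
def St (a : Ω) (t : G) (Q M : Subgroup G) : Prop :=
  IsPGroup 2 (Q ⊓ M :) ∧ ((∀ x ∈ Q ⊓ M, x * x = 1) ∨ ((∃ x ∈ Q ⊓ M, ∃ y ∈ Q ⊓ M, x * y ≠ y * x) ∧
    ((∀ s ∈ I G a, s ∈ M → t * s * t ≠ s * t * s) ∨
      ∃ w ∈ D a t ⊓ M, (∀ s ∈ I G a, s ∈ M → Commute w s) ∧ ∃ x ∈ Q ⊓ M, ¬ Commute w x)))

theorem st_top : St a t Q ⊤ ↔ IsPGroup 2 Q ∧ ((∀ x ∈ Q, x * x = 1) ∨ ((∃ x ∈ Q, ∃ y ∈ Q, x * y ≠ y * x) ∧
    ((∀ s ∈ I G a, t * s * t ≠ s * t * s) ∨
      ∃ w ∈ D a t, (∀ s ∈ I G a, Commute w s) ∧ ∃ x ∈ Q, ¬ Commute w x))) := by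
  rw [St, inf_top_eq, inf_top_eq]
  simp only [mem_top, forall_true_left]

theorem St.of_sub {M : Subgroup G} (ht : t ∈ M) {Ω' : Type*} [MulAction M Ω'] {a' : Ω'} {f : Ω' → Ω}
    (hf : Function.Injective f) (h : ∀ (g : M) c, f (g • c) = (g : G) • f c) (ha : f a' = a)
    (hSt : St a' (⟨t, ht⟩ : M) (Q.subgroupOf M) ⊤) : St a t Q M := by
  obtain ⟨h1, h3⟩ := hSt
  have hI : ∀ s ∈ I G a, ∀ hs : s ∈ M, (⟨s, hs⟩ : M) ∈ I M a' := fun s h1 hs =>
    ⟨hf (by rw [h, ha]; exact h1.1), fun e => h1.2.1 (congrArg Subtype.val e), Subtype.ext h1.2.2⟩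
  refine ⟨Solv.isPGroup_iff_forall_mem.2 fun x hx => ?_, h3.imp (fun h3 x hx =>
    congrArg Subtype.val (h3 ⟨x, hx.2⟩ ⟨hx.1, trivial⟩)) ?_⟩
  · obtain ⟨n, hn⟩ := Solv.isPGroup_iff_forall_mem.1 h1 ⟨x, hx.2⟩ ⟨hx.1, trivial⟩
    exact ⟨n, congrArg Subtype.val hn⟩
  rintro ⟨⟨x, hx, y, hy, h4⟩, h5⟩
  refine ⟨⟨x, ⟨hx.1, x.2⟩, y, ⟨hy.1, y.2⟩, fun e => h4 (Subtype.ext e)⟩,
    h5.imp (fun h5 s hs hM e => h5 _ (hI s hs hM) trivial (Subtype.ext e)) ?_⟩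
  rintro ⟨w, hw, h6, x, hx, h7⟩
  refine ⟨w, ⟨⟨?_, ?_⟩, w.2⟩, fun s hs hM => congrArg Subtype.val (h6 _ (hI s hs hM) trivial).eq,
    x, ⟨hx.1, x.2⟩, fun e => h7 (Subtype.ext e.eq)⟩
  · have := congrArg f (mem_D.1 hw.1).1
    rwa [h, ha] at this
  · have := congrArg f (mem_D.1 hw.1).2
    rwa [h, h, ha] at this

variable (hS : IsRankOneSetup G Ω a t Q)
include hS

theorem St.top {M : Subgroup G} (hQ : Q ≤ M) (h : St a t Q M) : St a t Q ⊤ := by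
  rw [St, inf_eq_left.2 hQ] at h
  exact st_top.2 ⟨h.1, h.2.imp_right fun h => ⟨h.1, h.2.imp (fun h s hs => h s hs (hQ (I_Q hS hs)))
    fun ⟨w, h1, h3, h4⟩ => ⟨w, h1.1, fun s hs => h3 s hs (hQ (I_Q hS hs)), h4⟩⟩⟩

theorem St.of_map {G' : Type*} [Group G'] [Finite G'] [MulAction G' Ω] (φ : G →* G')
    (hφ : Function.Surjective φ) (h : ∀ g (c : Ω), φ g • c = g • c) (hSt : St a (φ t) (Q.map φ) ⊤) :
    St a t Q ⊤ := by
  rw [st_top] at hSt ⊢
  obtain ⟨h1, h3⟩ := hSt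
  have hi : ∀ x ∈ Q, ∀ y ∈ Q, φ x = φ y → x = y := fun x hx y hy e =>
    Q_inj hS hx hy (ta_ne hS) (by rw [← h, e, h])
  have hI : ∀ s ∈ I G a, φ s ∈ I G' a := fun s hs => ⟨(h s a).trans hs.1, fun e =>
    hs.2.1 (hi _ (I_Q hS hs) _ (one_mem _) (by rw [e, map_one])), by rw [← map_mul, hs.2.2, map_one]⟩
  refine ⟨Solv.isPGroup_iff_forall_mem.2 fun x hx => ?_, h3.imp (fun h3 x hx =>
    hi _ (mul_mem hx hx) _ (one_mem _) (by rw [map_mul, h3 _ ⟨x, hx, rfl⟩, map_one])) ?_⟩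
  · obtain ⟨n, hn⟩ := Solv.isPGroup_iff_forall_mem.1 h1 _ ⟨x, hx, rfl⟩
    exact ⟨n, hi _ (pow_mem hx _) _ (one_mem _) (by rw [map_pow, hn, map_one])⟩
  rintro ⟨⟨_, ⟨x, hx, rfl⟩, _, ⟨y, hy, rfl⟩, h4⟩, h5⟩
  refine ⟨⟨x, hx, y, hy, fun e => h4 (by rw [← map_mul, e, map_mul])⟩,
    h5.imp (fun h5 s hs e => h5 _ (hI s hs) (by simpa using congrArg φ e)) ?_⟩
  rintro ⟨w, hw, h6, _, ⟨x, hx, rfl⟩, h7⟩
  obtain ⟨w, rfl⟩ := hφ w
  have hw' : w ∈ D a t := by simpa only [mem_D, h] using hw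
  exact ⟨w, hw', fun s hs => commute_iff_conj.2 (hi _ (hS.conj_mem w hw'.1 s (I_Q hS hs)) _ (I_Q hS hs)
    (by simpa using commute_iff_conj.1 (h6 _ (hI s hs)))), x, hx, fun e => h7 (e.map φ)⟩

theorem R2_map (h2 : R2 G) {G' : Type*} [Group G'] [MulAction G' Ω] (φ : G →* G')
    (h : ∀ g (c : Ω), φ g • c = g • c) : R2 G' := by
  obtain ⟨x, hx, y, hy, h1, h3⟩ := exists_four hS h2
  have hi : ∀ x ∈ Q, ∀ y ∈ Q, φ x = φ y → x = y := fun x hx y hy e =>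
    Q_inj hS hx hy (ta_ne hS) (by rw [← h, e, h])
  exact ⟨φ x, φ y, fun e => hx.2.1 (hi _ (I_Q hS hx) _ (one_mem _) (by rw [e, map_one])),
    fun e => hy.2.1 (hi _ (I_Q hS hy) _ (one_mem _) (by rw [e, map_one])),
    fun e => h1 (hi _ (I_Q hS hx) _ (I_Q hS hy) e), by rw [← map_mul, hx.2.2, map_one],
    by rw [← map_mul, hy.2.2, map_one], (h3.map φ).eq⟩

omit hS in
/-- The fixed points of `u`. -/
def fixS (Ω : Type*) [MulAction G Ω] (u : G) : SubMulAction (centralizer {u}) Ω where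
  carrier := {c | u • c = c}
  smul_mem' g c hc := by
    change u • (g : G) • c = (g : G) • c
    rw [← mul_smul, ← (mem_centralizer_singleton'.1 g.2).eq, mul_smul, show u • c = c from hc]

theorem setup_C (hu : u ∈ V a t) :
    IsRankOneSetup (centralizer {u}) (fixS Ω u) ⟨a, hu.1.1⟩
      ⟨t, mem_centralizer_singleton'.2 (V_commute hu).symm⟩ (Q.subgroupOf _) := by
  obtain ⟨⟨s, r⟩, ⟨hs, hr, e⟩, -⟩ := structure_eq hS
  refine setup_mk (Subtype.ext hS.mul_self) (fun e => ta_ne hS (congrArg Subtype.val e))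
    (fun x hx => Subtype.ext (hS.le hx)) (fun d hd x hx => hS.conj_mem d (congrArg Subtype.val hd.1) x hx)
    (fun x hx e => Subtype.ext (eq_one_of_fix hS hx (ta_ne hS) (congrArg Subtype.val e))) (fun c hc => ?_)
    (even_iff_two_dvd.2 (orderOf_eq_two (x := (⟨s, mem_centralizer_singleton'.2
      (V_commute_s hS hs hr e hu).1.symm⟩ : centralizer {u})) (Subtype.ext hs.2.2)
      (fun e => hs.2.1 (congrArg Subtype.val e)) ▸ Solv.orderOf_dvd_card_of_mem (I_Q hS hs)))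
    (hS.odd_card.of_dvd_nat (card_dvd_of_injective (((centralizer {u}).subtype.comp
      (Subgroup.subtype _)).codRestrict (D a t) fun x =>
        ⟨congrArg Subtype.val x.2.1, congrArg Subtype.val x.2.2⟩)
      fun x y e => Subtype.ext (Subtype.ext (Subtype.ext_iff.1 e :))))
  obtain ⟨y, hy, e⟩ := exists_CQ hS (X := {u}) (Set.singleton_subset_iff.2 hu.1) (ta_ne hS)
    (fun e => hc (Subtype.ext e)) (by simpa using hu.1.2) (by rintro _ rfl; exact c.2)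
  exact ⟨⟨y, hy.1⟩, hy.2, Subtype.ext e⟩

omit hS in
/-- The reduction to simple groups. -/
theorem st_of_simple.{u, v} (H : ∀ (G : Type u) [Group G] [Finite G] (Ω : Type v) [MulAction G Ω]
      [FaithfulSMul G Ω] [IsSimpleGroup G] (a : Ω) (t : G) (Q : Subgroup G), IsRankOneSetup G Ω a t Q →
      R2 G → (∀ u ∈ V a t, u ≠ 1 → R2 (centralizer {u}) → St a t Q (centralizer {u})) → St a t Q ⊤)
    (n : ℕ) : ∀ (G : Type u) [Group G] [Finite G] (Ω : Type v) [MulAction G Ω] (a : Ω) (t : G)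
      (Q : Subgroup G), Nat.card G = n → IsRankOneSetup G Ω a t Q → R2 G → St a t Q ⊤ := by
  induction n using Nat.strong_induction_on with | _ n ih
  intro G _ _ Ω _ a t Q hn hS h2
  have hlt : ∀ M : Subgroup G, M ≠ ⊤ → Nat.card M < n := fun M h =>
    hn ▸ card_top (G := G) ▸ Solv.card_lt_of_lt (lt_top_iff_ne_top.2 h)
  by_cases hf : (toPermHom G Ω).ker = ⊥
  swap
  · let _ := MulAction.compHom Ω (QuotientGroup.kerLift (toPermHom G Ω))
    refine St.of_map hS (QuotientGroup.mk' (toPermHom G Ω).ker) (QuotientGroup.mk'_surjective _)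
      (fun _ _ => rfl) (ih _ ?_ _ _ _ _ _ rfl (setup_map hS _ (QuotientGroup.mk'_surjective _)
        fun _ _ => rfl) (R2_map hS h2 (QuotientGroup.mk' _) fun _ _ => rfl))
    exact hn ▸ Solv.card_quotient_lt hf
  have : FaithfulSMul G Ω := ⟨fun {g h} e => (MonoidHom.ker_eq_bot_iff _).1 hf (Equiv.ext e)⟩
  have ht : t ∈ LL t Q := mem_sup_right (mem_zpowers t)
  by_cases hL : LL t Q = ⊤
  swap
  · exact St.top hS le_sup_left (St.of_sub ht Function.injective_id (fun _ _ => rfl) rfl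
      (ih _ (hlt _ hL) _ _ _ _ _ rfl (setup_sub hS le_sup_left ht) (R2_sub hS h2 le_sup_left)))
  have : IsSimpleGroup G := by
    have := simple_LL hS h2
    exact ((MulEquiv.subgroupCongr hL).trans topEquiv).symm.isSimpleGroup
  refine H G Ω a t Q hS h2 fun u hu h1 h3 => St.of_sub _ Subtype.val_injective (fun _ _ => rfl) rfl
    (ih _ (hlt _ fun e => h1 (eq_one_of_fix_all hS hu.1 fun x _ => ?_)) _ _ _ _ _ rfl (setup_C hS hu) h3)
  exact (mem_centralizer_singleton'.1 (e.ge trivial)).symm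

end Cfsg.Agent.RankOne
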