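import Cfsg.Agent.Lib.Char.RankOne10
import Cfsg.Agent.Lib.BG.Sec3

/-!
The split rank-one set-up: Galois action of `V` and the structure of `H` when `Q` is a `2`-group.
-/

set_option autoImplicit false
set_option linter.unusedSectionVars false
set_option linter.style.haveILetI false

namespace Cfsg.Agent.RankOne

open MulAction Subgroup Cfsg.Agent.Perm Cfsg.Agent.Transfer

variable {G Ω : Type*} [Group G] [Finite G] [MulAction G Ω] {a : Ω} {t : G} {Q : Subgroup G}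
  {x y z s r k d u w : G}

theorem comm_of_prime {X : Subgroup G} (hX : IsMulCommutative X) (hu : u ∈ normalizer (X : Set G))
    (hc : (orderOf u).Coprime (Nat.card X)) (h : ∀ x ∈ X, (orderOf x).Prime → Commute u x)
    (hx : x ∈ X) : Commute u x := by
  have h1 := Solv.coprime_abelian_inf_eq_bot hX (zpowers_le.2 hu) (by rwa [Nat.card_zpowers])
  have h2 : ⁅X, zpowers u⁆ ≤ X := Solv.commutator_le_left_of_le_normalizer (zpowers_le.2 hu)
  have h3 : ⁅X, zpowers u⁆ = ⊥ := by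
    by_contra h3
    obtain ⟨y, hy, h4⟩ := Solv.exists_orderOf_prime_of_ne_bot h3
    refine Solv.ne_one_of_orderOf_prime h4 (mem_bot.1 (h1.le ⟨⟨h2 hy, ?_⟩, hy⟩))
    rintro _ ⟨n, rfl⟩
    exact ((h y (h2 hy) h4).zpow_left n).eq
  exact (commutator_eq_bot_iff_le_centralizer.1 h3 hx u (mem_zpowers u))

theorem mem_zpowers_of_prime (hp : (orderOf u).Prime) (hx : x ∈ zpowers u) (h1 : x ≠ 1)
    (hy : y ∈ zpowers u) : y ∈ zpowers x := by
  have h2 : Nat.card (zpowers x) ∣ orderOf u := Nat.card_zpowers u ▸ card_dvd_of_le (zpowers_le.2 hx)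
  rwa [eq_of_le_of_card_ge (zpowers_le.2 hx) (by
    rw [(hp.eq_one_or_self_of_dvd _ h2).resolve_left (by simpa using h1), Nat.card_zpowers])]

theorem commute_of_pow_prime (hp : (orderOf u).Prime) {n : ℤ} (h1 : u ^ n ≠ 1) (h : Commute (u ^ n) x) :
    Commute u x := by
  obtain ⟨m, hm⟩ : u ∈ zpowers (u ^ n) := mem_zpowers_of_prime hp ⟨n, rfl⟩ h1 (mem_zpowers u)
  exact hm ▸ h.zpow_left m

variable (hS : IsRankOneSetup G Ω a t Q) (h2 : R2 G)
include hS h2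

theorem exists_gal : ∃ (F : Type) (_ : Field F) (_ : Fintype F) (φ : F → G) (ρ : V a t →* (F ≃+* F)),
    Function.Injective φ ∧ (∀ x, x ∈ Q0 G a ↔ ∃ c, φ c = x) ∧ ∀ v c, φ (ρ v c) = v * φ c * (v : G)⁻¹ := by
  obtain ⟨⟨s, r⟩, ⟨hs, hr, e⟩, -⟩ := structure_eq hS
  dsimp only at hs hr e
  obtain ⟨F, _, _, φ, δ, h1, h3, h4, h5, h6⟩ := exists_field hS h2 hs
  have h0 : φ 0 = 1 := by simpa using h4 0 0
  have key : ∀ v : V a t, ∀ c, ∃ b, φ b = v * φ c * (v : G)⁻¹ := fun v c =>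
    (h3 _).1 (conj_mem_of_mem_normalizer (H_le_normalizer_Q0 v.2.1.1) ((h3 _).2 ⟨c, rfl⟩))
  choose σ hσ using key
  have hσ1 : ∀ c, σ 1 c = c := fun c => h1 (by simp [hσ])
  have hσm : ∀ v w c, σ (v * w) c = σ v (σ w c) := fun v w c => h1 (by simp [hσ, mul_assoc])
  have hσ0 : ∀ v, σ v 0 = 0 := fun v => h1 (by simp [hσ, h0])
  have hmul : ∀ v b c, σ v (b * c) = σ v b * σ v c := fun v b c => by
    by_cases hb : b = 0
    · simp [hb, hσ0]
    have hb' : σ v b ≠ 0 := fun e => hb (h1 (by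
      have := hσ v b
      rw [e, h0] at this
      simpa [h0] using this.symm))
    have h7 := K_inj hS hs (K_inv (K_conj_V hS (h6 b hb).1 v.2.1 (V_commute v.2)))
      (K_inv (h6 _ hb').1) (by
        rw [inv_inv, inv_inv, ← h5, (h6 _ hb').2, mul_one, hσ, h5]
        conv_rhs => rw [← mul_one b, ← (h6 b hb).2, h5]
        conv_lhs => rw [← commute_iff_conj.1 (V_commute_s hS hs hr e v.2).1]
        group)
    apply h1
    rw [← (h6 _ hb').2, ← inv_injective h7, hσ, hσ, ← (h6 b hb).2]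
    group
  exact ⟨F, inferInstance, inferInstance, φ,
    { toFun := fun v =>
        { toFun := σ v
          invFun := σ v⁻¹
          left_inv := fun c => by rw [← hσm, inv_mul_cancel, hσ1]
          right_inv := fun c => by rw [← hσm, mul_inv_cancel, hσ1]
          map_mul' := hmul v
          map_add' := fun b c => h1 (by rw [h4, hσ, hσ, hσ, h4, conj_mul]) }
      map_one' := RingEquiv.ext hσ1
      map_mul' := fun v w => RingEquiv.ext (hσm v w) }, h1, h3, hσ⟩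

theorem gal_mem (hu : u ∈ V a t) (hw : w ∈ V a t) (h : ∀ x ∈ I G a, Commute u x → Commute w x) :
    ∃ n : ℤ, w * (u ^ n)⁻¹ ∈ W a t := by
  obtain ⟨F, _, _, φ, ρ, h1, h3, h4⟩ := exists_gal hS h2
  have h5 : ∀ v c, ρ v c = c ↔ Commute (v : G) (φ c) := fun v c => by
    rw [commute_iff_conj, ← h4, h1.eq_iff]
  have hc : IsCyclic (F ≃+* F) := isCyclic_ringAut F
  obtain ⟨τ, hτ⟩ := (Subgroup.isCyclic_iff_exists_zpowers_eq_top
    (zpowers (ρ ⟨u, hu⟩) ⊔ zpowers (ρ ⟨w, hw⟩))).1 inferInstance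
  have h6 : ∀ σ ∈ zpowers (ρ ⟨u, hu⟩) ⊔ zpowers (ρ ⟨w, hw⟩), ∀ c, ρ ⟨u, hu⟩ c = c → σ c = c :=
    fun σ hσ c hc => (sup_le (zpowers_le.2 hc) (zpowers_le.2 ((h5 _ _).2 (by
      rcases (mem_Q0 hS h2).1 ((h3 _).2 ⟨c, rfl⟩) with e | e
      · rw [e]; exact Commute.one_right _
      · exact h _ e ((h5 _ _).1 hc)))) : _ ≤ stabilizer (F ≃+* F) c) hσ
  have h7 : orderOf τ = orderOf (ρ ⟨u, hu⟩) := by
    have h7 := (Zass.card_eq_pow_orderOf τ).symm.trans (Zass.card_eq_pow_orderOf (ρ ⟨u, hu⟩))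
    rw [Nat.card_congr (Equiv.subtypeEquivRight fun c => (⟨fun hc => (zpowers_le.2 hc :
      _ ≤ stabilizer (F ≃+* F) c) (hτ.ge (mem_sup_left (mem_zpowers _))),
      h6 τ (hτ.le (mem_zpowers τ)) c⟩ : τ c = c ↔ ρ ⟨u, hu⟩ c = c))] at h7
    exact Nat.pow_right_injective (Finite.one_lt_card_iff_nontrivial.2
      ⟨⟨0, map_zero _⟩, ⟨1, map_one _⟩, by simp⟩) h7
  obtain ⟨n, hn⟩ : ρ ⟨w, hw⟩ ∈ zpowers (ρ ⟨u, hu⟩) := by
    rw [eq_of_le_of_card_ge (le_sup_left.trans hτ.ge) (by rw [Nat.card_zpowers, Nat.card_zpowers, h7])]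
    exact hτ.ge (mem_sup_right (mem_zpowers _))
  refine ⟨n, (W_eq' hS).ge (mem_inf.2 ⟨mul_mem hw.1 (inv_mem (zpow_mem (mem_inf.1 hu).1 n)), fun y hy => ?_⟩)⟩
  obtain ⟨c, rfl⟩ := (h3 y).1 hy
  exact ((h5 (⟨w, hw⟩ * (⟨u, hu⟩ ^ n)⁻¹) c).1 (by
    rw [map_mul, map_inv, map_zpow, ← show _ = ρ ⟨w, hw⟩ from hn, mul_inv_cancel]; rfl)).symm.eq

omit h2 in
theorem conj_eq_of_fix (hu : u ∈ V a t) (hk : k ∈ K a t) (h2 : R2 G) (hx : x ∈ Q) (h1 : x ≠ 1)
    (h : Commute (k * u) x) : ∃ l ∈ K a t, l * (k * u) * l⁻¹ = u := by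
  have h3 : k * u ∈ D a t := mul_mem hk.1 hu.1
  obtain ⟨l, hl, h4⟩ := exists_conj_V hS (X := {k * u}) (Set.singleton_subset_iff.2 h3)
    (smul_ne hS (hS.le hx) (ta_ne hS)) (fun e => h1 (eq_one_of_fix hS hx (ta_ne hS) e)) (by
      rintro _ rfl
      rw [← mul_smul, h.eq, mul_smul, h3.2])
  have h5 : l * (k * u) * l⁻¹ ∈ V a t := mem_inf.2 ⟨mul_mem (mul_mem hl.1 h3) (inv_mem hl.1),
    mem_centralizer_singleton'.2 (h4 _ rfl)⟩
  refine ⟨l, hl, mul_inv_eq_one.1 (eq_one_of_V_K hS (mul_mem h5 (inv_mem hu)) ?_)⟩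
  simpa only [mul_assoc] using K_mul hS h2 (K_mul hS h2 hl hk) (K_conj hS h2 (K_inv hl) hu.1)

theorem zpowers_K_conj (hk : k ∈ K a t) (hd : d ∈ D a t) : d ∈ normalizer (zpowers k : Set G) := by
  have := isCyclic_KK hS h2
  exact Solv.normalizer_le_normalizer_of_le_isCyclic this (zpowers_le.2 ((mem_KK hS h2).2 hk))
    (Solv.mem_normalizer_of_conj_mem fun x hx => (mem_KK hS h2).2 (K_conj hS h2 ((mem_KK hS h2).1 hx) hd))

theorem le_Q0_of_C (hQ : IsPGroup 2 Q) (hu : u ∈ V a t) (hp : (orderOf u).Prime) (hW : u ∉ W a t)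
    (h : ∀ x ∈ Q, Commute u x → x * x = 1) : Q ≤ Q0 G a := by
  have hD : ∀ {X : Subgroup G}, X ≤ D a t → X ≤ normalizer (Q : Set G) := fun h =>
    h.trans (inf_le_left.trans (H_le_normalizer hS))
  have hc : ∀ {X Y : Subgroup G}, X ≤ D a t → Y ≤ Q → (Nat.card X).Coprime (Nat.card Y) := fun h h' =>
    Solv.coprime_card_of_isPGroup' (hQ.to_le h')
      (Nat.coprime_two_right.2 (hS.odd_card.of_dvd_nat (card_dvd_of_le h)))
  by_cases h3 : ∃ k ∈ K a t, (orderOf k).Prime ∧ ¬ Commute u k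
  · obtain ⟨k, hk, h3, h4⟩ := h3
    have h5 : zpowers k ⊔ zpowers u ≤ D a t := sup_le (zpowers_le.2 hk.1) (zpowers_le.2 hu.1)
    have key : ∀ M ≤ Q, D a t ≤ normalizer (M : Set G) →
        Nat.card M = Nat.card (M ⊓ centralizer (zpowers u : Set G) :) ^ Nat.card (zpowers u) :=
      fun M h6 h7 => BG.card_eq_pow_of_fpf (zpowers_le.2 (zpowers_K_conj hS h2 hk hu.1)) (by
        rintro _ ⟨n, rfl⟩ h8
        refine eq_bot_iff.2 ?_
        rintro _ ⟨⟨m, rfl⟩, h9⟩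
        by_contra h10
        exact h4 (commute_of_pow_prime hp h8 (commute_of_pow_prime h3 h10
          (mem_centralizer_singleton'.1 h9)).symm))
        (have := (hQ.to_le h6).isNilpotent; inferInstance) ((le_sup_left.trans h5).trans h7)
        ((le_sup_right.trans h5).trans h7) (hc h5 h6) (eq_bot_iff.2 ((inf_le_inf h6 (Subgroup.centralizer_le
          (by simp))).trans (K_fpf hS hk (Solv.ne_one_of_orderOf_prime h3)).le))
    refine (eq_of_le_of_card_ge (Q0_le hS) ?_).ge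
    rw [key Q le_rfl (hD le_rfl), key _ (Q0_le hS) (inf_le_left.trans H_le_normalizer_Q0)]
    refine Nat.pow_le_pow_left (card_le_of_le ?_) _
    exact fun x hx => ⟨mem_Q0_of_sq hS h2 (hS.le hx.1) (h x hx.1 (hx.2 u (mem_zpowers u))), hx.2⟩
  push Not at h3
  by_cases h4 : orderOf u ∣ Nat.card (KK a t)
  · obtain ⟨k, hk, h5⟩ := Solv.exists_subgroup_card_prime hp h4
    rw [mem_KK hS h2] at hk
    have h6 : u ∈ centralizer (zpowers k : Set G) := by
      rintro _ ⟨n, rfl⟩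
      exact ((h3 k hk (h5 ▸ hp)).zpow_right n).symm.eq
    have h7 : zpowers k ⊔ zpowers u ≤ D a t := sup_le (zpowers_le.2 hk.1) (zpowers_le.2 hu.1)
    refine Solv.le_of_forall_centralizer_le (Solv.isMulCommutative_sup_zpowers inferInstance h6)
      (fun h8 => Solv.ne_one_of_orderOf_prime hp (eq_one_of_V_K hS hu (K_zpowers hk
        ((Solv.eq_of_isCyclic_of_card_eq h8 le_sup_left le_sup_right (by simp [h5])).ge (mem_zpowers u)))))
      (hD h7) (hc h7 le_rfl) fun x hx h1 y hy => ?_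
    obtain ⟨k', h8, _, ⟨n, rfl⟩, rfl⟩ := (Solv.mem_sup_of_le_normalizer'
      (zpowers_le.2 (centralizer_le_normalizer _ h6))).1 hx
    by_cases h9 : y = 1
    · exact h9 ▸ one_mem _
    have h10 := (mem_centralizer_singleton'.1 hy.2).symm
    obtain ⟨l, hl, e⟩ := conj_eq_of_fix hS (zpow_mem hu n) (K_zpowers hk h8) h2 hy.1 h9 h10
    have h11 := h _ (hS.conj_mem l hl.1.1 y hy.1) (commute_of_pow_prime hp (n := n)
      (fun h => h1 (by simpa [h] using e)) (e ▸ h10.conj l))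
    exact mem_Q0_of_sq hS h2 (hS.le hy.1) (by simpa using h11)
  · exact absurd ⟨hu, fun k hk => (comm_of_prime (X := KK a t) (isCyclic_KK hS h2).isMulCommutative
      (Solv.mem_normalizer_of_conj_mem fun x hx => (mem_KK hS h2).2 (K_conj hS h2 ((mem_KK hS h2).1 hx) hu.1))
      ((Nat.Prime.coprime_iff_not_dvd hp).2 h4) (fun x hx => h3 x ((mem_KK hS h2).1 hx))
      ((mem_KK hS h2).2 hk)).symm.eq⟩ hW

variable [FaithfulSMul G Ω]

theorem st_of_W (hQ : IsPGroup 2 Q) (hW : W a t ≠ ⊥) : St a t Q ⊤ := by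
  obtain ⟨⟨w, hw⟩, h1⟩ := ne_bot_iff_exists_ne_one.1 hW
  obtain ⟨x, hx, h3⟩ : ∃ x ∈ Q, ¬ Commute w x := by
    by_contra! h
    exact h1 (Subtype.ext (eq_one_of_fix_all hS hw.1.1 h))
  have h4 : ∀ s ∈ I G a, Commute w s := fun s hs => W_commute hS hw (subset_closure hs)
  refine st_top.2 ⟨hQ, Or.inr ⟨by_contra fun h => h3 (comm_of_prime (X := Q)
    ⟨⟨fun x y => Subtype.ext (by_contra fun e => h ⟨x, x.2, y, y.2, e⟩)⟩⟩ (H_le_normalizer hS hw.1.1.1)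
    (Solv.coprime_card_of_isPGroup' hQ (Nat.coprime_two_right.2 (odd_of_mem_D hS hw.1.1)))
    (fun y hy h5 => h4 y (mem_invol.2 ⟨hS.le hy, ?_⟩)) hx), Or.inr ⟨w, hw.1.1, h4, x, hx, h3⟩⟩⟩
  obtain ⟨m, hm⟩ := Solv.exists_orderOf_eq_pow hQ hy
  exact (Nat.prime_dvd_prime_iff_eq h5 Nat.prime_two).1 (h5.dvd_of_dvd_pow hm.dvd)

theorem st_of_C (hQ : IsPGroup 2 Q) (hu : u ∈ V a t) (hp : (orderOf u).Prime)
    (h : St a t Q (centralizer {u})) : St a t Q ⊤ := by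
  by_cases hW : W a t = ⊥
  swap
  · exact st_of_W hS h2 hQ hW
  have hC : ∀ {x}, x ∈ centralizer {u} ↔ Commute x u := mem_centralizer_singleton'
  obtain ⟨⟨s, r⟩, ⟨hs, hr, e⟩, -⟩ := structure_eq hS
  dsimp only at hs hr e
  have h3 := hC.2 (V_commute_s hS hs hr e hu).1.symm
  refine st_top.2 ⟨hQ, h.2.imp (fun h x hx => Q0_sq hS h2 (le_Q0_of_C hS h2 hQ hu hp
    (fun h => Solv.ne_one_of_orderOf_prime hp (hW.le h)) (fun x hx h1 => h x ⟨hx, hC.2 h1.symm⟩) hx)) ?_⟩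
  rintro ⟨⟨x, hx, y, hy, h4⟩, h5 | ⟨w, hw, h5, z, hz, h6⟩⟩
  · exact ⟨⟨x, hx.1, y, hy.1, h4⟩, Or.inl fun s' hs' e' =>
      h5 s' hs' ((SP_unique hS hs hr e hs' e').1 ▸ h3) e'⟩
  · obtain ⟨n, hn⟩ := gal_mem hS h2 hu (mem_V_of_commute_s hS hs hr e hw.1 (h5 s hs h3))
      fun x hx h => h5 x hx (hC.2 h.symm)
    exact absurd (mul_inv_eq_one.1 (hW.le hn) ▸ (hC.1 hz.2).symm.zpow_left n) h6

theorem st_of_V [IsSimpleGroup G] (hV : V a t = ⊥) : St a t Q ⊤ := by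
  have hD : ∀ d ∈ D a t, d ∈ K a t := fun d hd => by
    obtain ⟨v, hv, k, hk, rfl⟩ := exists_VK hS hd
    rwa [mem_bot.1 (hV.le hv), one_mul]
  have := finite_Ω hS
  rcases Zass.feit_zass (ta_ne hS).symm _ G Q rfl (zk_of_zass hS (zass_of_D hS h2 hD)) hS.odd_card with
    h | ⟨h3, ⟨x, y, h4⟩, -⟩
  · have h3 : Q0 G a = Q := by
      obtain ⟨m, hm⟩ := card_dvd_of_le (Q0_le hS)
      have h4 := card_Q0 hS h2
      have h5 : KK a t = D a t := le_antisymm (KK_le hS h2) fun d hd => subset_closure (hD d hd)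
      have h6 : 0 < Nat.card Q := Nat.card_pos
      rw [card_Ω hS, ← show KK a t = Zass.E G a (t • a) from h5] at h
      refine eq_of_le_of_card_ge (Q0_le hS) ?_
      rcases m with _ | _ | m <;> nlinarith
    exact st_top.2 ⟨Solv.isPGroup_of_pow_eq_one fun x hx => by rw [sq, Q0_sq hS h2 (h3.ge hx)],
      Or.inl fun x hx => Q0_sq hS h2 (h3.ge hx)⟩
  · have hn : ∃ x ∈ Q, ∃ y ∈ Q, x * y ≠ y * x := ⟨x, x.2, y, y.2, fun e => h4 (Subtype.ext e)⟩
    exact st_top.2 ⟨h3, Or.inr ⟨hn, Or.inl fun s hs e => not_three hS h2 hs h3 hn e hD⟩⟩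

end Cfsg.Agent.RankOne
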