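import Cfsg.Agent.Lib.Char.Sec6B
import Cfsg.Agent.Lib.Char.FS

/-!
Character-theoretic lemmas for the split rank-one set-up.
-/

set_option autoImplicit false
set_option linter.unusedSectionVars false
set_option linter.style.haveILetI false

namespace Cfsg.Agent.Char

open scoped ComplexConjugate

section
variable {X Γ : Type*} [Group X] [Fintype X] [Group Γ] [Fintype Γ] (ψ : Γ →* MulAut X) {θ : X → ℂ}

open Classical in
/-- The function `2 F - 1`, truncated at `1`. -/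
noncomputable def tu (F : X → ℂ) : X → ℂ := fun x => if x = 1 then 0 else 2 * F x - 1

theorem sum_image_aut [DecidableEq (X → ℂ)] (hθ : ∀ γ, (∀ x, θ (ψ γ x) = θ x) → γ = 1)
    (f : (X → ℂ) → ℝ) (h : ∀ γ, f (fun x => θ (ψ γ x)) = f θ) :
    ∑ φ ∈ Finset.univ.image (fun γ x => θ (ψ γ x)), f φ = Nat.card Γ * f θ := by
  rw [Finset.sum_image fun γ _ δ _ e => mul_inv_eq_one.1 (hθ _ fun x => by
    simpa using congrFun e (ψ δ⁻¹ x))]
  simp [h]

open Classical in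
theorem int_eq_zero_of_bessel {F : X → ℂ} (hF : IsCharacter X F) (hψ : ∀ γ x, F (ψ γ x) = F x)
    (hb : rip (tu F) (tu F) < 2 * Nat.card Γ) (hi : IsIrrCharacter X θ) (h1 : θ ≠ fun _ => 1)
    (hθ : ∀ γ, (∀ x, θ (ψ γ x) = θ x) → γ = 1) {S : Finset (X → ℂ)} {c : ℝ}
    (hS : ∀ φ ∈ S, IsIrrCharacter X φ ∧ (φ ≠ fun _ => 1) ∧ rip F φ = c * deg φ)
    (hA : Nat.card Γ * deg θ ^ 2 ≤ ∑ φ ∈ S, deg φ ^ 2) {y : ℤ} (hy : rip F θ - c * deg θ = y) : y = 0 := by
  by_contra h0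
  set u := tu F with hu
  set κ : ℝ := (2 * deg F - 1) / Nat.card X
  have h2 : ∀ φ, IsIrrCharacter X φ → (φ ≠ fun _ => 1) →
      ‖classInner u φ‖ ^ 2 = (2 * rip F φ - κ * deg φ) ^ 2 := fun φ h3 h4 => by
    rw [show u = (2 : ℂ) • F - (fun _ => 1) - (κ : ℂ) • regChar X by
        ext x
        by_cases h : x = 1
        · simp [hu, tu, h, regChar_one, κ, hF.coe_deg, card_ne_zero']
        · simp [hu, tu, h, regChar_of_ne h],
      classInner_sub_left, classInner_sub_left, classInner_smul_left, classInner_smul_left,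
      isIrrCharacter_one.classInner_of_ne h3 h4.symm, classInner_regChar_left,
      h3.isCharacter.conj_apply_one, ← h3.isCharacter.coe_deg, hF.isGen.classInner_eq_rip h3.isGen,
      ← sq_abs (2 * _ - _), ← Real.norm_eq_abs, ← Complex.norm_real]
    push_cast
    simp only [sub_zero]
  have h3 : ∀ γ, rip F (fun x => θ (ψ γ x)) = rip F θ := fun γ => by
    rw [rip, rip, ← classInner_comp_equiv (ψ γ) F θ]
    simp only [hψ]
  have h4 : ∀ γ, deg (fun x => θ (ψ γ x)) = deg θ := fun γ => by simp [deg]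
  have h5 : ∀ γ, (fun x => θ (ψ γ x)) ≠ fun _ => 1 := fun γ e => h1 (funext fun x => by
    simpa using congrFun e (ψ γ⁻¹ x))
  have h6 : ∀ φ ∈ S ∪ Finset.univ.image (fun γ x => θ (ψ γ x)), IsIrrCharacter X φ := fun φ hφ => by
    rcases Finset.mem_union.1 hφ with h | h
    · exact (hS φ h).1
    · obtain ⟨γ, -, rfl⟩ := Finset.mem_image.1 h
      exact hi.comp_equiv (ψ γ)
  have h7 := bessel _ id (fun φ hφ χ hχ => by
    convert (h6 φ hφ).classInner_eq_ite (h6 χ hχ) <;> rfl) u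
  rw [Finset.sum_union (Finset.disjoint_left.2 fun φ hφ h => by
      obtain ⟨γ, -, rfl⟩ := Finset.mem_image.1 h
      have := (hS _ hφ).2.2
      rw [h3, h4] at this
      exact h0 (by exact_mod_cast (by rw [← hy, this, sub_self] : (y : ℝ) = 0))),
    sum_image_aut ψ hθ _ fun γ => by rw [id, id, h2 _ (hi.comp_equiv (ψ γ)) (h5 γ), h2 _ hi h1, h3, h4],
    Finset.sum_congr rfl (g := fun φ => (2 * c - κ) ^ 2 * deg φ ^ 2) fun φ hφ => by
      rw [id, h2 _ (hS φ hφ).1 (hS φ hφ).2.1, (hS φ hφ).2.2]; ring,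
    ← Finset.mul_sum, id, h2 _ hi h1, show rip F θ = y + c * deg θ by rw [← hy]; ring] at h7
  have h8 : (1 : ℝ) ≤ (y : ℝ) ^ 2 := by exact_mod_cast (one_le_sq_iff_one_le_abs y).2 (Int.one_le_abs h0)
  have h9 : (0 : ℝ) < Nat.card Γ := by exact_mod_cast Nat.card_pos
  have h10 := mul_le_mul_of_nonneg_left hA (sq_nonneg (2 * c - κ))
  have h11 : (2 : ℝ) ≤ ((2 * c - κ) * deg θ) ^ 2 + (2 * (y + c * deg θ) - κ * deg θ) ^ 2 := by
    nlinarith [sq_nonneg ((2 * c - κ) * deg θ + y)]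
  nlinarith

end

section
variable {R T Γ : Type*} [Group R] [Fintype R] [Group T] [Fintype T] [Group Γ] [Fintype Γ]
  (σ : Γ →* MulAut R) {Z : Subgroup R} (hZ : Z ≤ Subgroup.center R)
  (hσ : ∀ γ, ∀ z ∈ Z, σ γ z ∈ Z) (hf : ∀ γ, γ ≠ 1 → ∀ z ∈ Z, ∃ w ∈ Z, σ γ w = z * w)
include hZ hf

theorem eq_one_of_aut_fix {β : R → ℂ} (hβ : IsIrrCharacter R β) (h : ¬ Z ≤ charKer β) (γ : Γ)
    (e : ∀ x, β (σ γ x) = β x) : γ = 1 := by_contra fun h1 => h fun z hz => by
  obtain ⟨w, hw, h2⟩ := hf γ h1 z hz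
  have h3 := IsCharacter.apply_mul_of_mem_charCenter (hβ.center_le_charCenter (hZ hz)) w
  rw [← h2, e, mul_comm] at h3
  refine hβ.isCharacter.mem_charKer.2 (mul_right_cancel₀ (fun h4 => hβ.apply_one_ne_zero ?_) h3).symm
  rw [← norm_eq_zero, ← hβ.isCharacter.mem_charCenter.1 (hβ.center_le_charCenter (hZ hw)), h4, norm_zero]

include hσ

open Classical in
theorem card_mul_deg_sq_le {p k : ℕ} (hp : p.Prime) (hk : Nat.card R = p ^ k) (hc : (Nat.card Γ).Coprime p)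
    {β β₁ : IrrCharacter R} (h : ¬ Z ≤ charKer β.1) (h₁ : ¬ Z ≤ charKer β₁.1) (hlt : deg β₁.1 < deg β.1) :
    Nat.card Γ * deg β.1 ^ 2 ≤
      ∑ χ : IrrCharacter R with ¬ Z ≤ charKer χ.1 ∧ deg χ.1 < deg β.1, deg χ.1 ^ 2 := by
  have hN : Z.Normal := ⟨fun z hz g => by rwa [Subgroup.mem_center_iff.1 (hZ hz) g, mul_inv_cancel_right]⟩
  choose m hm using fun χ : IrrCharacter R => show ∃ m : ℕ, χ.1 1 = (p ^ m : ℕ) by
    obtain ⟨c, -, hc⟩ := χ.2.exists_degree
    obtain ⟨m, -, rfl⟩ := (Nat.dvd_prime_pow hp).1 (hk ▸ χ.2.degree_dvd_card hc)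
    exact ⟨m, hc⟩
  have h0 : ∀ χ : IrrCharacter R, deg χ.1 < deg β.1 ↔ m χ < m β := fun χ => by
    rw [deg_eq_nat (hm χ), deg_eq_nat (hm β), Nat.cast_lt, Nat.pow_lt_pow_iff_right hp.one_lt]
  simp only [fun χ => deg_eq_nat (hm χ)]
  norm_cast
  simp only [Nat.pow_lt_pow_iff_right hp.one_lt]
  have h2 : ∑ χ : IrrCharacter R with Z ≤ charKer χ.1, (p ^ m χ) ^ 2 = Z.index := by
    have := sum_le_charKer Z 1
    simp only [hm, one_mem, if_true, ← sq] at this
    exact_mod_cast this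
  have h3 : ∑ χ : IrrCharacter R, (p ^ m χ) ^ 2 = Nat.card R := by
    have := sum_degree_sq (G := R)
    simp only [hm] at this
    exact_mod_cast this
  have h4 : (p ^ m β) ^ 2 ∣ Z.index := by
    obtain ⟨i, -, hi⟩ := (Nat.dvd_prime_pow hp).1 (hk ▸ Z.index_dvd_card)
    have := β.2.degree_sq_le_index (hZ.trans β.2.center_le_charCenter) (hm β)
    rw [hi, ← pow_mul, Nat.pow_le_pow_iff_right hp.one_lt] at this
    rw [hi, ← pow_mul]
    exact pow_dvd_pow p this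
  rw [← Finset.sum_filter_add_sum_filter_not _ fun χ : IrrCharacter R => Z ≤ charKer χ.1, h2,
    ← Finset.sum_filter_add_sum_filter_not _ fun χ : IrrCharacter R => m χ < m β, Finset.filter_filter] at h3
  refine Nat.le_of_dvd (Finset.sum_pos' (fun _ _ => Nat.zero_le _) ⟨β₁, Finset.mem_filter.2
    ⟨Finset.mem_univ _, h₁, (h0 _).1 hlt⟩, by have := hp.pos; positivity⟩)
    (((hc.pow_right _).pow_right _).mul_dvd_of_dvd_of_dvd ?_ ((Nat.dvd_add_left (Finset.dvd_sum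
      fun χ hχ => pow_dvd_pow_of_dvd (pow_dvd_pow p (not_lt.1 (Finset.mem_filter.1 hχ).2)) 2)).1
      ((Nat.dvd_add_right h4).1 (h3 ▸ h4.trans Z.index_dvd_card))))
  let _ : MulAction (MulAut R) (R → ℂ) := arrowAction
  have hs : ∀ (g : MulAut R) (χ : R → ℂ), g • χ = fun x => χ (g⁻¹ x) := fun _ _ => rfl
  obtain ⟨ω, h5, h6⟩ := exists_integral_sum_free σ (fun χ : R → ℂ => χ 1 ^ 2)
    ((Finset.univ.filter fun χ : IrrCharacter R => ¬ Z ≤ charKer χ.1 ∧ m χ < m β).image Subtype.val) (by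
      simp only [Finset.mem_image, Finset.mem_filter, Finset.mem_univ, true_and, ← h0]
      rintro γ _ ⟨χ, h5, rfl⟩
      refine ⟨⟨_, χ.2.comp_equiv (σ γ)⁻¹⟩, ⟨fun h6 => h5.1 fun z hz x => ?_, by simpa [deg] using h5.2⟩, rfl⟩
      simpa using h6 (hσ γ z hz) (σ γ x)) (by
      simp only [Finset.mem_image, Finset.mem_filter, Finset.mem_univ, true_and]
      rintro _ ⟨χ, h5, rfl⟩ γ e
      exact inv_eq_one.1 (eq_one_of_aut_fix σ hZ hf χ.2 h5.1 γ⁻¹ fun x => by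
        simpa [hs] using congrFun e x)) (by
      simp only [Finset.mem_image]
      rintro _ ⟨χ, -, rfl⟩
      exact (χ.2.isCharacter.isIntegral 1).pow 2) (by simp [hs])
  rw [Finset.sum_image Subtype.val_injective.injOn] at h6
  simp only [hm] at h6
  refine Int.natCast_dvd_natCast.1 (int_dvd_of_isIntegral_div (by exact_mod_cast Nat.card_pos.ne') ?_)
  rw [(div_eq_iff (by exact_mod_cast Nat.card_pos.ne')).2 (show _ = ω * _ by
    push_cast at h6 ⊢; rw [h6, mul_comm])]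
  exact h5

omit hZ hσ hf in
/-- The outer product of two functions. -/
abbrev op (β : R → ℂ) (α : T → ℂ) : R × T → ℂ := fun x => β x.1 * α x.2

omit hZ hσ hf in
theorem deg_op (β : IrrCharacter R) (α : IrrCharacter T) : deg (op β.1 α.1) = deg β.1 * deg α.1 :=
  deg_eq_of (by simp [op, β.2.isCharacter.coe_deg, α.2.isCharacter.coe_deg])

open Classical

variable (τ : Γ →* MulAut T) {p k : ℕ} (hp : p.Prime) (hk : Nat.card R = p ^ k)
  (hc : (Nat.card Γ).Coprime p) {F : R × T → ℂ} (hF : IsCharacter (R × T) F)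
  (hψ : ∀ γ x y, F (σ γ x, τ γ y) = F (x, y))
  (hb : rip (tu F) (tu F) < 2 * Nat.card Γ) {z z' : R} (hz : z ∈ Z) (h1 : z ≠ 1)
include hp hk hc hF hψ hb hz h1

theorem exists_prop_op (α : IrrCharacter T) : ∃ c : ℝ, ∀ β : IrrCharacter R, ¬ Z ≤ charKer β.1 →
    rip F (op β.1 α.1) = c * deg (op β.1 α.1) := by
  obtain ⟨ψ, hψ'⟩ : ∃ ψ : Γ →* MulAut (R × T), ∀ γ x, ψ γ x = (σ γ x.1, τ γ x.2) :=
    ⟨MonoidHom.mk' (fun γ => MulEquiv.prodCongr (σ γ) (τ γ)) fun γ δ => by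
      rw [map_mul, map_mul]; rfl, fun _ _ => rfl⟩
  replace hψ : ∀ γ x, F (ψ γ x) = F x := fun γ x => by rw [hψ', hψ]
  obtain ⟨β₀, h2, h3⟩ := exists_irr_apply_ne h1
  choose d hd0 hd using fun β : IrrCharacter R => β.2.exists_degree
  obtain ⟨β₁, h4, h5⟩ := Set.exists_min_image {β : IrrCharacter R | ¬ Z ≤ charKer β.1} d (Set.toFinite _)
    ⟨⟨β₀, h2⟩, fun h => h3 (h2.isCharacter.mem_charKer.1 (h hz))⟩
  have hα := α.2.deg_pos
  have hne : ∀ β : IrrCharacter R, ¬ Z ≤ charKer β.1 → op β.1 α.1 ≠ fun _ => 1 := fun β h e =>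
    h fun w _ x => mul_right_cancel₀ α.2.apply_one_ne_zero ((congrFun e (w * x, 1)).trans (congrFun e (x, 1)).symm)
  have hfr : ∀ β : IrrCharacter R, ¬ Z ≤ charKer β.1 → ∀ γ, (∀ x, op β.1 α.1 (ψ γ x) = op β.1 α.1 x) → γ = 1 :=
    fun β h γ e => eq_one_of_aut_fix σ hZ hf β.2 h γ fun x =>
      mul_right_cancel₀ α.2.apply_one_ne_zero (by simpa only [hψ', map_one] using e (x, 1))
  obtain ⟨c, hc'⟩ : ∃ c, rip F (op β₁.1 α.1) = c * deg (op β₁.1 α.1) :=
    ⟨_, (div_mul_cancel₀ _ (β₁.2.prod α.2).deg_pos.ne').symm⟩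
  refine ⟨c, fun β => ?_⟩
  induction hn : d β using Nat.strong_induction_on generalizing β with | _ n ih
  intro hβ
  obtain ⟨a, ha⟩ : d β₁ ∣ d β := by
    obtain ⟨i, -, hi⟩ := (Nat.dvd_prime_pow hp).1 (hk ▸ β.2.degree_dvd_card (hd β))
    obtain ⟨j, -, hj⟩ := (Nat.dvd_prime_pow hp).1 (hk ▸ β₁.2.degree_dvd_card (hd β₁))
    have := h5 β hβ
    rw [hi, hj] at this ⊢
    exact pow_dvd_pow p ((Nat.pow_le_pow_iff_right hp.one_lt).1 this)
  obtain ⟨y, hy⟩ := hF.isGen.rip_eq_int (β.2.prod α.2).isGen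
  obtain ⟨y₁, hy₁⟩ := hF.isGen.rip_eq_int (β₁.2.prod α.2).isGen
  have hy' : rip F (op β.1 α.1) - c * deg (op β.1 α.1) = (y - a * y₁ : ℤ) := by
    push_cast
    rw [← hy, ← hy₁, hc', deg_op, deg_op, deg_eq_nat (hd β), deg_eq_nat (hd β₁), ha]
    push_cast
    ring
  suffices ∃ S : Finset (R × T → ℂ), (∀ φ ∈ S, IsIrrCharacter _ φ ∧ (φ ≠ fun _ => 1) ∧ rip F φ = c * deg φ) ∧
      Nat.card Γ * deg (op β.1 α.1) ^ 2 ≤ ∑ φ ∈ S, deg φ ^ 2 by
    obtain ⟨S, h6, h7⟩ := this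
    rw [int_eq_zero_of_bessel ψ hF hψ hb (β.2.prod α.2) (hne β hβ) (hfr β hβ)
      h6 h7 hy', Int.cast_zero, sub_eq_zero] at hy'
    exact hy'
  rcases (h5 β hβ).eq_or_lt with h6 | h6
  · refine ⟨Finset.univ.image fun γ x => op β₁.1 α.1 (ψ γ x), fun φ hφ => ?_, ?_⟩
    · obtain ⟨γ, -, rfl⟩ := Finset.mem_image.1 hφ
      refine ⟨(β₁.2.prod α.2).comp_equiv (ψ γ), fun e => hne β₁ h4 (funext fun x => by
        simpa using congrFun e (ψ γ⁻¹ x)), ?_⟩
      rw [show deg _ = deg (op β₁.1 α.1) by simp [deg], ← hc', rip, rip,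
        ← classInner_comp_equiv (ψ γ) F (op β₁.1 α.1)]
      simp only [hψ]
    · rw [sum_image_aut ψ (hfr β₁ h4) _ fun γ => by simp [deg], deg_op, deg_op, deg_eq_nat (hd β),
        deg_eq_nat (hd β₁), h6]
  · refine ⟨(Finset.univ.filter fun χ : IrrCharacter R => ¬ Z ≤ charKer χ.1 ∧ deg χ.1 < deg β.1).image
      fun χ => op χ.1 α.1, fun φ hφ => ?_, ?_⟩
    · obtain ⟨χ, h7, rfl⟩ := Finset.mem_image.1 hφ
      obtain ⟨-, h7, h8⟩ := Finset.mem_filter.1 h7
      rw [deg_eq_nat (hd β), deg_eq_nat (hd χ), Nat.cast_lt] at h8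
      exact ⟨χ.2.prod α.2, hne χ h7, ih _ (hn ▸ h8) χ rfl h7⟩
    · rw [Finset.sum_image fun χ _ χ' _ e => Subtype.ext (funext fun x =>
        mul_right_cancel₀ α.2.apply_one_ne_zero (congrFun e (x, 1)))]
      simp only [deg_op, mul_pow, ← Finset.sum_mul, ← mul_assoc]
      exact mul_le_mul_of_nonneg_right (card_mul_deg_sq_le σ hZ hσ hf hp hk hc hβ h4 (by
        rwa [deg_eq_nat (hd β), deg_eq_nat (hd β₁), Nat.cast_lt])) (sq_nonneg _)

theorem const_on_center (hz' : z' ∈ Z) (h1' : z' ≠ 1) : F (z, 1) = F (z', 1) := by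
  have hN : Z.Normal := ⟨fun z hz g => by rwa [Subgroup.mem_center_iff.1 (hZ hz) g, mul_inv_cancel_right]⟩
  have h2 : ∀ x : R, F (x, 1) = ∑ α : IrrCharacter T, classInner (fun y => F (x, y)) α * α.1 1 := fun x => by
    simpa using congrFun (IsClassFunction.eq_sum (φ := fun y => F (x, y)) fun y g => by
      simpa using hF.apply_conj (x, y) (1, g)) 1
  rw [h2, h2]
  refine Finset.sum_congr rfl fun α _ => congrArg (· * _) ?_
  obtain ⟨c, h3⟩ := exists_prop_op σ hZ hσ hf τ hp hk hc hF hψ hb hz h1 α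
  suffices ∀ w ∈ Z, w ≠ 1 → classInner (fun y => F (w, y)) α =
      ∑ β : IrrCharacter R with Z ≤ charKer β.1, rip F (op β.1 α.1) * β.1 1 - c * α.1 1 * Z.index by
    rw [this z hz h1, this z' hz' h1']
  intro w hw h4
  have h5 := congrFun (IsClassFunction.eq_sum (φ := fun x => classInner (fun y => F (x, y)) α) fun x g =>
    congrArg (classInner · _) (funext fun y => by simpa using hF.apply_conj (x, y) (g, 1))) w
  have h6 : ∀ β : IrrCharacter R, classInner (fun x => classInner (fun y => F (x, y)) α) β =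
      rip F (op β.1 α.1) := fun β => by
    rw [← hF.isGen.classInner_eq_rip (β.2.prod α.2).isGen]
    simp only [classInner, Fintype.sum_prod_type, Nat.card_prod, Finset.mul_sum, Finset.sum_mul, map_mul]
    refine Finset.sum_congr rfl fun x _ => Finset.sum_congr rfl fun y _ => ?_
    push_cast
    ring
  have h7 := sum_degree_mul w
  rw [regChar_of_ne h4, ← Finset.sum_filter_add_sum_filter_not _ fun χ : IrrCharacter R => Z ≤ charKer χ.1,
    sum_le_charKer, if_pos hw] at h7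
  simp only [h6, Finset.sum_apply, Pi.smul_apply, smul_eq_mul] at h5
  rw [h5, ← Finset.sum_filter_add_sum_filter_not _ fun χ : IrrCharacter R => Z ≤ charKer χ.1,
    sub_eq_add_neg, ← mul_neg, neg_eq_of_add_eq_zero_right h7, Finset.mul_sum]
  congr 1
  · exact Finset.sum_congr rfl fun β hβ => by
      rw [β.2.isCharacter.mem_charKer.1 ((Finset.mem_filter.1 hβ).2 hw)]
  · exact Finset.sum_congr rfl fun β hβ => by
      rw [h3 β (Finset.mem_filter.1 hβ).2, deg_op]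
      push_cast
      rw [β.2.isCharacter.coe_deg, α.2.isCharacter.coe_deg]
      ring

end

/-- A variant of Peterfalvi 6.7 for Hall subgroups. -/
theorem hall_TI_congr {G : Type*} [Group G] [Finite G] {P Z L : Subgroup G} (hP : (Nat.card P).Coprime P.index)
    (hPL : P ≤ L) (hN : ∀ {x g : G}, x ∈ P → x ≠ 1 → g * x * g⁻¹ ∈ L → g ∈ L) (hZP : Z ≤ P)
    (hZn : ∀ x ∈ L, ∀ z ∈ Z, x * z * x⁻¹ ∈ Z)
    (hZc : ∀ z ∈ Z, ∀ y ∈ P, z * y = y * z) {ψ : G → ℂ} (hψ : IsIrrCharacter G ψ)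
    (hconst : ∀ z ∈ Z, ∀ z' ∈ Z, z ≠ 1 → z' ≠ 1 → ψ z = ψ z') {z : G} (hz : z ∈ Z) (hz1 : z ≠ 1)
    (h4 : ¬ IsConj z⁻¹ z) :
    ∃ n d : ℤ, ψ z = n ∧ ψ 1 = d ∧ (Nat.card P : ℤ) ∣ d - n := by
  classical
  have := Fintype.ofFinite G
  have h1 : ∀ b ∈ Z, b ≠ 1 → ∀ u, IsConj b u → ∀ x : P, x ≠ 1 → x * u * (x : G)⁻¹ = u → u ∈ Z := by
    intro b hb hb1 u hu x hx e
    obtain ⟨g, rfl⟩ := isConj_iff.1 hu
    have h2 : g⁻¹ * x * g⁻¹⁻¹ ∈ L := hN (hZP hb) hb1 (by
      convert hPL (hZP hb) using 1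
      calc _ = g⁻¹ * (x * (g * b * g⁻¹) * (x : G)⁻¹) * g := by group
        _ = b := by rw [e]; group)
    exact hZn g (Subgroup.inv_mem_iff _ |>.1 (hN x.2 (by simpa using hx) h2)) b hb
  set c := (Subgroup.centralizer ({z} : Set G)).index with hc
  have key : ∀ b ∈ Z, b ≠ 1 → ∃ N : ℕ, ∀ χ, IsIrrCharacter G χ →
      (∀ z ∈ Z, ∀ z' ∈ Z, z ≠ 1 → z' ≠ 1 → χ z = χ z') → ∃ ω, IsIntegral ℤ ω ∧
        c * (Subgroup.centralizer ({b} : Set G)).index * (χ z * χ z / χ 1) =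
          (if IsConj z⁻¹ b then c else 0) * χ 1 + N * χ z + Nat.card P * ω := by
    intro b hb hb1
    let s : Finset (G × G) := Finset.univ.filter fun w => IsConj z w.1 ∧ IsConj b w.2
    let Q : G × G → Prop := fun w => ∃ y ∈ Z, IsConj y (w.1 * w.2)
    refine ⟨((s.filter Q).filter fun w => ¬ w.1 * w.2 = 1).card, fun χ hχ hχc => ?_⟩
    obtain ⟨ω, h2, h3⟩ := exists_integral_sum_free (MulAut.conj.comp P.subtype)
      (fun w : G × G => χ (w.1 * w.2)) (s.filter fun w => ¬ Q w) (by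
        rintro g ⟨u, v⟩ hw
        simp only [s, Q, Finset.mem_filter, Finset.mem_univ, true_and, MonoidHom.comp_apply,
          Prod.smul_mk, MulAut.smul_def, MulAut.conj_apply, conj_mul] at hw ⊢
        exact ⟨⟨hw.1.1.trans (isConj_iff.2 ⟨_, rfl⟩), hw.1.2.trans (isConj_iff.2 ⟨_, rfl⟩)⟩,
          fun ⟨y, hy, h⟩ => hw.2 ⟨y, hy, h.trans (isConj_iff.2 ⟨_, rfl⟩).symm⟩⟩) (by
        rintro ⟨u, v⟩ hw g e
        simp only [s, Q, Finset.mem_filter, Finset.mem_univ, true_and, MonoidHom.comp_apply,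
          Prod.smul_mk, MulAut.smul_def, MulAut.conj_apply, Prod.mk.injEq] at hw e
        by_contra h
        exact hw.2 ⟨_, Z.mul_mem (h1 z hz hz1 u hw.1.1 g h e.1) (h1 b hb hb1 v hw.1.2 g h e.2),
          IsConj.refl _⟩) (fun w _ => hχ.isCharacter.isIntegral _) (by
        rintro g ⟨u, v⟩
        simp only [MonoidHom.comp_apply, Prod.smul_mk, MulAut.smul_def, MulAut.conj_apply, conj_mul,
          hχ.isCharacter.apply_conj])
    refine ⟨ω, h2, ?_⟩
    have h4 := sum_classInd_mul_mul hχ z b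
    rw [hχc b hb z hz hb1 hz1, ← Fintype.sum_prod_type', ← hc] at h4
    rw [← h4, ← h3, show ∑ w : G × G, classInd z w.1 * classInd b w.2 * χ (w.1 * w.2) =
      ∑ w ∈ s, χ (w.1 * w.2) by
        rw [Finset.sum_filter]
        refine Finset.sum_congr rfl fun w _ => ?_
        by_cases e1 : IsConj z w.1 <;> by_cases e2 : IsConj b w.2 <;>
          simp [classInd, e1, e2, -isConj_iff],
      ← Finset.sum_filter_add_sum_filter_not s Q,
      ← Finset.sum_filter_add_sum_filter_not (s.filter Q) fun w => w.1 * w.2 = 1]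
    congr 2
    · rw [Finset.sum_congr rfl (g := fun _ => χ 1) fun w hw => by rw [(Finset.mem_filter.1 hw).2],
        Finset.sum_const, nsmul_eq_mul]
      congr 1
      split_ifs with e
      · rw [hc, ← card_isConj_eq_index, Nat.card_eq_fintype_card, Fintype.card_subtype]
        congr 1
        refine Finset.card_bij (fun w _ => w.1) (fun w hw => ?_) (fun w hw w' hw' e => ?_)
          fun u hu => ⟨(u, u⁻¹), ?_, rfl⟩
        · simp only [s, Finset.mem_filter, Finset.mem_univ, true_and] at hw ⊢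
          exact hw.1.1.1
        · exact Prod.ext e (by
            rw [eq_inv_of_mul_eq_one_right (Finset.mem_filter.1 hw).2,
              eq_inv_of_mul_eq_one_right (Finset.mem_filter.1 hw').2, e])
        · simp only [s, Q, Finset.mem_filter, Finset.mem_univ, true_and, mul_inv_cancel,
            and_true] at hu ⊢
          obtain ⟨g, rfl⟩ := isConj_iff.1 hu
          exact ⟨⟨hu, e.symm.trans (isConj_iff.2 ⟨g, by group⟩)⟩, 1, Z.one_mem, IsConj.refl _⟩
      · rw [Nat.cast_inj, Finset.card_eq_zero, Finset.eq_empty_iff_forall_notMem]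
        intro w hw
        simp only [s, Finset.mem_filter, Finset.mem_univ, true_and] at hw
        obtain ⟨g, hg⟩ := isConj_iff.1 hw.1.1.1
        refine e (IsConj.trans (isConj_iff.2 ⟨g, ?_⟩) hw.1.1.2.symm)
        rw [eq_inv_of_mul_eq_one_right hw.2, ← hg]; group
    · rw [Finset.sum_congr rfl (g := fun _ => χ z) fun w hw => by
        obtain ⟨hw, e⟩ := Finset.mem_filter.1 hw
        obtain ⟨y, hy, h⟩ := (Finset.mem_filter.1 hw).2
        rw [← hχ.isClassFunction.eq_of_isConj h, hχc y hy z hz (by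
          rintro rfl; exact e (isConj_one_right.1 h)) hz1], Finset.sum_const, nsmul_eq_mul]
  obtain ⟨N₁, h2⟩ := key z hz hz1
  obtain ⟨N₂, h3⟩ := key z⁻¹ (Z.inv_mem hz) (inv_ne_one.2 hz1)
  have h5 : (Subgroup.centralizer ({z⁻¹} : Set G)).index = c := by
    congr 1
    ext x
    simp only [Subgroup.mem_centralizer_singleton_iff]
    exact Commute.inv_right_iff
  simp only [if_neg h4, h5, IsConj.refl, if_true, ← hc] at h2 h3
  obtain ⟨ω₁, i₁, e₁⟩ := h2 ψ hψ hconst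
  obtain ⟨ω₂, i₂, e₂⟩ := h3 ψ hψ hconst
  obtain ⟨ω₃, i₃, e₃⟩ := h2 _ isIrrCharacter_one (by simp)
  obtain ⟨ω₄, i₄, e₄⟩ := h3 _ isIrrCharacter_one (by simp)
  obtain ⟨n, hn⟩ := hψ.isGen.exists_int_of_forall_pow z fun k hk =>
    hconst _ (Z.pow_mem hz k) z hz (fun h => hz1 (orderOf_eq_one_iff.1
      (Nat.eq_one_of_dvd_coprimes hk (orderOf_dvd_of_pow_eq_one h) dvd_rfl))) hz1
  obtain ⟨d, hd⟩ := hψ.isGen.exists_degree
  refine ⟨n, d, hn, hd, ?_⟩
  have h6 : (Nat.card P : ℤ) ∣ c * (d - n) := int_dvd_of_isIntegral_div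
    (by exact_mod_cast Nat.card_pos.ne') (by
      rw [hn, hd] at e₁ e₂
      rw [(div_eq_iff (by exact_mod_cast Nat.card_pos.ne')).2 (show _ = (ω₁ - ω₂ - (ω₃ - ω₄) * n) * _
        by push_cast; linear_combination e₁ - e₂ - n * e₃ + n * e₄)]
      exact (i₁.sub i₂).sub ((i₃.sub i₄).mul (isIntegral_algebraMap (x := n))))
  refine IsCoprime.dvd_of_dvd_mul_left (Nat.isCoprime_iff_coprime.2 ?_) h6
  exact Nat.Coprime.coprime_dvd_right (Subgroup.index_dvd_of_le (H := P) fun y hy =>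
    Subgroup.mem_centralizer_singleton_iff.2 (hZc z hz y hy).symm) hP

end Cfsg.Agent.Char
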