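import Cfsg.Agent.Lib.Char.RankOne11
import Cfsg.Agent.Lib.Char.RankOne12
import Cfsg.Agent.Lib.Char.CycBridge
import Cfsg.Agent.Lib.Char.PermCh
import Cfsg.Agent.Lib.FT.Final

/-!
The split rank-one set-up: `Q` is a `2`-group when `D` acts fixed-point-freely on its odd part.
-/

set_option autoImplicit false
set_option linter.unusedSectionVars false
set_option linter.style.haveILetI false

namespace Cfsg.Agent.RankOne

open MulAction Subgroup Cfsg.Agent.Perm Cfsg.Agent.Transfer Cfsg.Agent.Char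

variable {G Ω : Type*} [Group G] [Finite G] [MulAction G Ω] {a : Ω} {t : G} {Q : Subgroup G}
  {x y z s r k d u w : G}

variable (hS : IsRankOneSetup G Ω a t Q)
include hS

theorem fusion_mem {N : Subgroup G} (hQ : Q ≤ N) (hK : ∀ k ∈ K a t, k ∈ N)
    (hN : ∀ x ∈ stabilizer G a, ∀ y ∈ stabilizer G a, x * y * x⁻¹ * y⁻¹ ∈ N) {g : G} (hx : x • a = a)
    (hg : (g * x * g⁻¹) • a = a) : g * x * g⁻¹ * x⁻¹ ∈ N := by
  by_cases h : g • a = a
  · exact hN g h x hx
  obtain ⟨y, hy, d, hd, z, hz, rfl⟩ := exists_canon hS h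
  have h1 : y * d ∈ stabilizer G a := mul_mem (hS.le hy) hd.1
  have h2 : z * x * z⁻¹ ∈ stabilizer G a := mul_mem (mul_mem (hS.le hz) hx) (inv_mem (hS.le hz))
  have h3 : t * (z * x * z⁻¹) * t⁻¹ ∈ stabilizer G a := by
    simpa [mul_assoc] using mul_mem (mul_mem (inv_mem h1) (mem_stabilizer_iff.2 hg)) h1
  have h4 : z * x * z⁻¹ ∈ D a t := ⟨h2, by
    have := mem_stabilizer_iff.1 h3
    rwa [mul_smul, mul_smul, ← eq_inv_smul_iff, inv_t hS] at this⟩
  have := mul_mem (mul_mem (hN _ h1 _ h3) (inv_mem (hK _ (comm_t_mem hS h4)))) (hN z (hS.le hz) x hx)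
  have h5 : ∀ g, t * (t * g) = g := fun g => by rw [← mul_assoc, hS.mul_self, one_mul]
  simpa [mul_assoc, inv_t hS, h5] using this

theorem exists_lam (h2 : R2 G) (hV : V a t ≠ ⊥) : ∃ l : stabilizer G a →* ℂˣ, l ≠ 1 ∧
    (∀ x : stabilizer G a, (x : G) ∈ Q → l x = 1) ∧ ∀ x : stabilizer G a, (x : G) ∈ K a t → l x = 1 := by
  have h1 : ∀ {x}, x ∈ Q ⊔ KK a t ↔ ∃ y ∈ Q, ∃ k ∈ KK a t, x = y * k :=
    Solv.mem_sup_of_le_normalizer' ((KK_le hS h2).trans (inf_le_left.trans (H_le_normalizer hS)))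
  have hN : ((Q ⊔ KK a t).subgroupOf (stabilizer G a)).Normal := ⟨fun x hx g => by
    obtain ⟨y, hy, k, hk, e : (x : G) = _⟩ := h1.1 hx
    obtain ⟨z, hz, d, hd, e'⟩ := exists_mul hS g.2
    have := mul_mem (mul_mem (mem_sup_left hz) (mul_mem_sup (hS.conj_mem d hd.1 y hy)
      ((mem_KK hS h2).2 (K_conj hS h2 ((mem_KK hS h2).1 hk) hd)))) (mem_sup_left (inv_mem hz))
    simpa [mem_subgroupOf, e, e', mul_assoc] using this⟩
  have h3 : Group.IsSolvable (stabilizer G a ⧸ (Q ⊔ KK a t).subgroupOf _) := PF.odd_solvable (by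
    refine hS.odd_card.of_dvd_nat ((index_dvd_of_le (H := Q.subgroupOf _) (subgroupOf_mono _ le_sup_left)).trans
      (Nat.eq_of_mul_eq_mul_left (Nat.card_pos (α := Q)) ?_).dvd)
    rw [← card_H hS, ← Solv.card_subgroupOf_of_le hS.le, card_mul_index])
  obtain ⟨⟨v, hv⟩, h4⟩ := ne_bot_iff_exists_ne_one.1 hV
  have : Nontrivial (stabilizer G a ⧸ (Q ⊔ KK a t).subgroupOf _) := ⟨(⟨v, hv.1.1⟩ : stabilizer G a), 1, fun e => by
    obtain ⟨y, hy, k, hk, e⟩ := h1.1 ((QuotientGroup.eq_one_iff (⟨v, hv.1.1⟩ : stabilizer G a)).1 e)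
    have := (mul_unique hS (one_mem _) hy hv.1 (KK_le hS h2 hk) ((one_mul v).trans e)).2
    exact h4 (Subtype.ext (eq_one_of_V_K hS hv ((mem_KK hS h2).1 (this ▸ hk))))⟩
  obtain ⟨g, -, hg⟩ := SetLike.exists_of_lt (Group.IsSolvable.commutator_lt_top_of_nontrivial
    (stabilizer G a ⧸ (Q ⊔ KK a t).subgroupOf _))
  obtain ⟨φ, hφ⟩ := CommGroup.exists_apply_ne_one_of_hasEnoughRootsOfUnity _ ℂ (a := Abelianization.of g)
    fun e => hg ((QuotientGroup.eq_one_iff _).1 e)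
  obtain ⟨g, rfl⟩ := QuotientGroup.mk_surjective g
  have h5 : ∀ x : stabilizer G a, (x : G) ∈ Q ⊔ KK a t →
      φ (Abelianization.of (QuotientGroup.mk' ((Q ⊔ KK a t).subgroupOf _) x)) = 1 := fun x hx => by
    rw [QuotientGroup.mk'_apply, (QuotientGroup.eq_one_iff x).2 hx, map_one, map_one]
  exact ⟨φ.comp (Abelianization.of.comp (QuotientGroup.mk' _)), fun e => hφ (DFunLike.congr_fun e g),
    fun x hx => h5 x (mem_sup_left hx), fun x hx => h5 x (mem_sup_right (subset_closure hx))⟩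

theorem exists_pair [Fintype G] (h2 : R2 G) (hV : V a t ≠ ⊥) : ∃ f₁ f₂ : G → ℂ, IsIrrCharacter G f₁ ∧
    IsIrrCharacter G f₂ ∧ f₁ ≠ f₂ ∧ (f₁ ≠ fun _ => 1) ∧ (f₂ ≠ fun _ => 1) ∧ f₁ 1 + f₂ 1 = Nat.card Q + 1 ∧
      ∀ x ∈ Q, x ≠ 1 → f₁ x + f₂ x = 1 := by
  classical
  obtain ⟨l, h1, h3, h4⟩ := exists_lam hS h2 hV
  have := finite_Ω hS
  have := pretrans hS
  set f := indFun (stabilizer G a) (lc l) with hf
  have h5 : ∀ x : stabilizer G a, f x = l x * pc G Ω x := fun x => by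
    rw [pc, ← indFun_one_eq_card_fixedBy Ω a, hf, indFun_apply', indFun_apply', mul_left_comm,
      Finset.mul_sum _ _ (l x : ℂ)]
    refine congrArg _ (Finset.sum_congr rfl fun g _ => ?_)
    by_cases h : g * x * g⁻¹ ∈ stabilizer G a
    · obtain ⟨y, hy, e⟩ := fusion_mem hS (N := l.ker.map (Subgroup.subtype _))
        (fun y hy => ⟨⟨y, hS.le hy⟩, h3 _ hy, rfl⟩) (fun y hy => ⟨⟨y, hy.1.1⟩, h4 _ hy, rfl⟩)
        (fun y hy z hz => ⟨⟨y, hy⟩ * ⟨z, hz⟩ * ⟨y, hy⟩⁻¹ * ⟨z, hz⟩⁻¹, by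
          simp only [SetLike.mem_coe, MonoidHom.mem_ker, map_mul, map_inv, mul_inv_cancel_comm, mul_inv_cancel], rfl⟩) x.2 h
      rw [extendByZero_of_mem _ _ h, extendByZero_of_mem _ _ h, mul_one, lc_apply,
        show (⟨_, h⟩ : stabilizer G a) = y * x from Subtype.ext (by simp [show (y : G) = _ from e]),
        map_mul, MonoidHom.mem_ker.1 hy, one_mul]
    · rw [extendByZero_of_not_mem _ _ h, extendByZero_of_not_mem _ _ h, mul_zero]
  have hc : IsCharacter G f := (isIrr_lc l).isCharacter.ind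
  have h6 : rip f f = 2 := by
    refine rip_eq_of_classInner ?_
    rw [hf, frobenius_left _ _ hc.isClassFunction, show classInner (lc l) _ = classInner (fun _ => 1)
      fun h : stabilizer G a => pc G Ω h by
        simp only [classInner, h5, map_mul, lc_apply, ← mul_assoc, conj_units_hom, Units.mul_inv],
      ← classInner_pc_left a (isCharacter_perm Ω).isClassFunction, classInner_pc_self a,
      (Nat.card_eq_two_iff.2 ⟨Quotient.mk _ a, Quotient.mk _ (t • a), fun e => ?_,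
        Set.eq_univ_of_forall fun c => ?_⟩ :)]
    · simp
    · obtain ⟨g, hg⟩ := Quotient.exact e.symm
      exact ta_ne hS (hg.symm.trans g.2)
    · obtain ⟨c, rfl⟩ := Quotient.exists_rep c
      by_cases h : c = a
      · exact Or.inl (h ▸ rfl)
      · obtain ⟨x, hx, e⟩ := exists_Q hS h
        exact Or.inr (Quotient.sound ⟨⟨x, hS.le hx⟩, e⟩)
  have h7 : rip f (fun _ => 1) = 0 := rip_eq_zero (by
    rw [hf, frobenius_left _ _ (IsClassFunction.const 1), ← lc_one, classInner_lc, if_neg h1])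
  obtain ⟨f₁, h8, h9⟩ := hc.exists_irr_constituent fun e => by simp [e] at h6
  have h10 := hc.sub_irr h8 h9
  have h11 : rip f f₁ = 1 := (h8.isDirr.rip_mem hc.isGen (by rw [h6]; norm_num)).elim
    (fun h => by have := hc.rip_nonneg h8.isCharacter; linarith) fun h => h.resolve_left fun h =>
      h9 (hc.isGen.classInner_eq_zero h8.isGen h)
  have h12 : IsIrrCharacter G (f - f₁) := h10.isIrr_of_classInner_self (by
    rw [classInner_self_eq_rip]
    simp [h6, h11, rip_comm f₁ f, h8.rip_self]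
    norm_num)
  refine ⟨f₁, f - f₁, h8, h12, fun e => ?_, fun e => ?_, fun e => ?_, ?_, fun x hx h => ?_⟩
  · have := h8.rip_self
    nth_rw 1 [e] at this
    simp [h11, h8.rip_self] at this
  · rw [← e, h11] at h7
    simp at h7
  · rw [← e] at h7
    simp [h6, h11] at h7
    linarith
  · simp [hf, indFun_one, index_stabilizer_of_transitive, card_Ω hS]
  · rw [Pi.sub_apply, add_sub_cancel, h5 ⟨x, hS.le hx⟩, h3 _ hx, pc, (Nat.card_eq_one_iff_exists (α := fixedBy Ω x)).2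
      ⟨⟨a, hS.le hx⟩, fun c => Subtype.ext (by_contra fun e => h (eq_one_of_fix hS hx e c.2))⟩]
    simp

theorem rip_tu_lt [Fintype G] {X : Type*} [Group X] [Fintype X] {φ : X →* G} (hφ : Function.Injective φ)
    (hQ : φ.range = Q) {f₁ f₂ : G → ℂ} (h1 : IsIrrCharacter G f₁) (h3 : IsIrrCharacter G f₂) (h4 : f₁ ≠ f₂)
    (h5 : f₁ 1 + f₂ 1 = Nat.card Q + 1) (h6 : ∀ x ∈ Q, x ≠ 1 → f₁ x + f₂ x = 1) :
    rip (tu fun x => f₁ (φ x)) (tu fun x => f₁ (φ x)) < 2 * Nat.card (D a t) := by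
  classical
  have := finite_Ω hS
  have := Fintype.ofFinite Ω
  choose g hg using (pretrans hS).exists_smul_eq a
  have hm : ∀ w, φ w ∈ Q := fun w => hQ.le ⟨w, rfl⟩
  have h7 : rip (f₁ - f₂) (f₁ - f₂) = 2 := by
    simp [h1.rip_self, h3.rip_self, h1.rip_of_ne h3 h4, h3.rip_of_ne h1 h4.symm]
    norm_num
  have h8 : 0 < ‖(f₁ - f₂) 1‖ ^ 2 := by
    obtain ⟨m, -, hm⟩ := h1.exists_degree
    obtain ⟨n, -, hn⟩ := h3.exists_degree
    rw [hm, hn] at h5
    norm_cast at h5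
    obtain ⟨k, hk⟩ := hS.even_card
    refine pow_pos (norm_pos_iff.2 ?_) 2
    rw [Pi.sub_apply, hm, hn, sub_ne_zero, Ne, Nat.cast_inj]
    omega
  rw [rip, classInner_self_re, ← Finset.sum_erase_add _ _ (Finset.mem_univ 1),
    inv_mul_eq_iff_eq_mul₀ (by exact_mod_cast Nat.card_pos.ne')] at h7
  have h9 := Finset.sum_le_sum_of_subset_of_nonneg (f := fun x => ‖(f₁ - f₂) x‖ ^ 2)
    (s := (Finset.univ ×ˢ Finset.univ.erase 1).image fun w : Ω × X => g w.1 * φ w.2 * (g w.1)⁻¹)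
    (t := Finset.univ.erase 1) (fun x hx => by
      obtain ⟨w, hw, rfl⟩ := Finset.mem_image.1 hx
      simpa [map_eq_one_iff _ hφ] using hw) fun _ _ _ => sq_nonneg _
  rw [Finset.sum_image fun w hw w' hw' e => by
      have h9 : w.1 = w'.1 := by
        rw [← hg w.1, ← hg w'.1, ← inv_smul_eq_iff]
        by_contra h
        refine (Finset.mem_erase.1 (Finset.mem_product.1 hw').2).1 ((map_eq_one_iff _ hφ).1
          (eq_one_of_fix hS (hm _) h ?_))
        rw [show φ w'.2 = (g w'.1)⁻¹ * (g w.1 * φ w.2 * (g w.1)⁻¹) * g w'.1 by rw [e]; group]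
        simp only [mul_smul, smul_inv_smul, inv_smul_smul, Q_smul hS (hm _)]
      exact Prod.ext h9 (hφ (by simpa [h9] using e)),
    Finset.sum_product, Finset.sum_congr rfl (g := fun _ => ∑ w, ‖tu (fun x => f₁ (φ x)) w‖ ^ 2) fun c _ => by
      rw [← Finset.sum_erase_add Finset.univ _ (Finset.mem_univ 1)]
      simp only [tu, if_true, norm_zero, ne_eq, OfNat.ofNat_ne_zero, not_false_eq_true, zero_pow, add_zero]
      refine Finset.sum_congr rfl fun w hw => ?_
      have h := (Finset.mem_erase.1 hw).1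
      rw [if_neg h, (h1.isClassFunction.sub h3.isClassFunction).apply_conj, Pi.sub_apply,
        ← h6 _ (hm w) ((map_ne_one_iff _ hφ).2 h)]
      ring_nf,
    Finset.sum_const, Finset.card_univ, ← Nat.card_eq_fintype_card, nsmul_eq_mul] at h9
  have h10 : Nat.card X = Nat.card Q := by rw [← hQ]; exact Nat.card_congr (MonoidHom.ofInjective hφ).toEquiv
  rw [card_G hS, ← card_Ω hS] at h7
  rw [rip, classInner_self_re, inv_mul_lt_iff₀ (by exact_mod_cast Nat.card_pos), h10]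
  have : Nonempty Ω := ⟨a⟩
  refine lt_of_mul_lt_mul_left (a := (Nat.card Ω : ℝ)) ?_ (Nat.cast_nonneg _)
  push_cast at h7
  linarith

theorem two_of_fpf [IsSimpleGroup G] (h2 : R2 G) (hV : V a t ≠ ⊥)
    (hf : ∀ d ∈ D a t, d ≠ 1 → ∀ x ∈ Q, Odd (orderOf x) → Commute d x → x = 1) : IsPGroup 2 Q := by
  classical
  have := Fintype.ofFinite G
  have hnil := nilpotent_Q hS h2
  have hO : ∀ π, stabilizer G a ≤ normalizer (BG.Opi π Q : Set G) := fun π =>
    BG.le_normalizer_Opi (H_le_normalizer hS)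
  have hfp : ∀ {p : ℕ}, p.Prime → p ≠ 2 → ∀ {X : Subgroup G}, X ≤ BG.Opi {p} Q → ∀ d ∈ D a t, d ≠ 1 →
      X ⊓ centralizer {d} = ⊥ := fun hp h1 X hX d hd h3 => eq_bot_iff.2 fun x hx =>
    hf d hd h3 x (BG.Opi_le _ _ (hX hx.1)) (Nat.coprime_two_right.1
      (((BG.isPi_Opi _ _).orderOf (hX hx.1)).coprime_prime Nat.prime_two h1.symm))
      (mem_centralizer_singleton'.1 hx.2).symm
  have hne : ∀ {p : ℕ}, p.Prime → p ∣ Nat.card Q → BG.Opi {p} Q ≠ ⊥ := fun hp h e => by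
    obtain ⟨x, hx, h1⟩ := Solv.exists_subgroup_card_prime hp h
    exact Solv.ne_one_of_orderOf_prime (h1 ▸ hp) (e.le (BG.le_Opi_of_isNilpotent hnil (zpowers_le.2 hx)
      (BG.isPi_zpowers.2 (by rw [h1]; exact (BG.piN_prime hp).2 rfl)) (mem_zpowers x)))
  have hcop : ∀ {p : ℕ}, p.Prime → p ∣ Nat.card Q → ¬ p ∣ Nat.card (D a t) := fun {p} hp h h1 => by
    have := Fact.mk hp
    by_cases h3 : p = 2
    · exact Nat.not_even_iff_odd.2 hS.odd_card (even_iff_two_dvd.2 (h3 ▸ h1))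
    have h4 := h1.trans (Solv.card_dvd_sub_one_of_fpf (inf_le_left.trans (hO _)) (hfp hp h3 le_rfl))
    exact hp.not_dvd_one ((Nat.dvd_sub_iff_right Nat.card_pos (Solv.dvd_card_of_isPGroup
      (BG.isPi_singleton.1 (BG.isPi_Opi _ _)) (hne hp h))).1 h4)
  refine BG.isPi_singleton.1 fun p hp h => by_contra fun h3 => ?_
  have := Fact.mk hp
  set R := BG.Opi {p} Q
  set T := BG.Opi {p}ᶜ Q
  have := Fintype.ofFinite R
  have := Fintype.ofFinite T
  have := Fintype.ofFinite (D a t)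
  have hR : IsPGroup p R := BG.isPi_singleton.1 (BG.isPi_Opi _ _)
  obtain ⟨k, hk⟩ := IsPGroup.iff_card.1 hR
  have hc : ∀ x ∈ R, ∀ y ∈ T, x * y = y * x := fun x hx y hy => (BG.Opi_le_Ct_Opi_compl _ Q hx y hy).symm
  have hr : (prodHom hc).range = Q := (range_prodHom hc).trans (BG.Opi_sup_Opi_compl hnil _)
  have hZ : ∀ z ∈ R ⊓ centralizer (R : Set G), ∀ y ∈ Q, z * y = y * z := fun z hz y hy =>
    mem_centralizer_singleton_iff.1 ((sup_le (fun x hx => mem_centralizer_singleton_iff.2 (hz.2 x hx))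
      (fun x hx => mem_centralizer_singleton_iff.2 (hc z hz.1 x hx).symm) : _ ≤ centralizer {z})
      ((BG.Opi_sup_Opi_compl hnil {p}).ge hy)) |>.symm
  have hZn : stabilizer G a ≤ normalizer ((R ⊓ centralizer (R : Set G) :) : Set G) :=
    Solv.le_normalizer_inf (hO _) ((hO _).trans (Solv.normalizer_le_normalizer_centralizer _))
  have : Nontrivial R := (nontrivial_iff_ne_bot _).2 (hne hp h)
  obtain ⟨⟨z, hz⟩, hz1⟩ := @exists_ne _ hR.center_nontrivial 1
  replace hz1 : (z : G) ≠ 1 := fun e => hz1 (Subtype.ext (Subtype.ext e))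
  have hm : ∀ {x : G} (hx : x ∈ R), (⟨x, hx⟩ : R) ∈ center R ↔ x ∈ R ⊓ centralizer (R : Set G) := fun hx =>
    ⟨fun h => ⟨hx, fun y hy => congrArg Subtype.val (mem_center_iff.1 h ⟨y, hy⟩)⟩,
      fun h => mem_center_iff.2 fun y => Subtype.ext (h.2 y y.2)⟩
  replace hz := (hm z.2).1 hz
  have hzQ := BG.Opi_le _ _ z.2
  have hodd : Odd (orderOf (z : G)) := Nat.coprime_two_right.1
    (((BG.isPi_Opi _ _).orderOf z.2).coprime_prime Nat.prime_two (Ne.symm h3))
  have key : ∀ f₁ f₂ : G → ℂ, IsIrrCharacter G f₁ → IsIrrCharacter G f₂ → f₁ ≠ f₂ →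
      f₁ 1 + f₂ 1 = Nat.card Q + 1 → (∀ x ∈ Q, x ≠ 1 → f₁ x + f₂ x = 1) → (f₁ ≠ fun _ => 1) →
      ∃ n d : ℤ, f₁ z = n ∧ f₁ 1 = d ∧ Nat.card Q ≤ d - n := fun f₁ f₂ h4 h5 h6 h7 h8 h9 => by
    obtain ⟨n, d, hn, hd, h10⟩ := hall_TI_congr (P := Q) (L := stabilizer G a) (by
        rw [show Q.index = Nat.card (D a t) * (Nat.card Q + 1) from Nat.eq_of_mul_eq_mul_left
          (Nat.card_pos (α := Q)) (by rw [card_mul_index, card_G hS, mul_assoc])]
        exact Nat.Coprime.mul_right (Nat.coprime_of_dvd fun q hq => hcop hq) (by simp))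
      hS.le (fun {x g} hx h1 e => inv_mem_iff.1 (by_contra fun h => h1 (eq_one_of_fix hS hx h (by
        rwa [mem_stabilizer_iff, mul_smul, mul_smul, ← eq_inv_smul_iff] at e))))
      (inf_le_left.trans (BG.Opi_le _ _)) (fun x hx y hy => conj_mem_of_mem_normalizer (hZn hx) hy) hZ h4
      (fun x hx y hy h1 h1' => by
        simpa using const_on_center (R.normalizerMonoidHom.comp (inclusion (inf_le_left.trans (hO _))))
          le_rfl (fun γ w hw => (characteristic_iff_map_le.1 inferInstance _) ⟨w, hw, rfl⟩) (fun γ h1 w hw => by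
            obtain ⟨v, hv, e⟩ := Solv.exists_conj_eq_mul_of_fpf (hZn γ.2.1) (hfp hp h3 inf_le_left γ γ.2
              fun e => h1 (Subtype.ext e)) ((hm w.2).1 hw)
            refine ⟨⟨_, inv_mem hv.1⟩, (hm _).2 (inv_mem hv), Subtype.ext ?_⟩
            change γ * v⁻¹ * (γ : G)⁻¹ = w * v⁻¹
            rw [(Commute.inv_right (hv.2 w w.2)).eq, eq_mul_inv_of_mul_eq e.symm]
            group)
          (T.normalizerMonoidHom.comp (inclusion (inf_le_left.trans (hO _)))) hp hk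
          ((Nat.Prime.coprime_iff_not_dvd hp).2 (hcop hp h)).symm (h4.isCharacter.comp (prodHom hc))
          (fun γ x y => by
            rw [← h4.isCharacter.apply_conj (prodHom hc (x, y)) γ, prodHom_apply, prodHom_apply, ← conj_mul]
            rfl)
          (rip_tu_lt hS (prodHom_injective hc (BG.Opi_inf_Opi_compl _ _)) hr h4 h5 h6 h7 h8)
          ((hm hx.1).2 hx) (fun e => h1 (congrArg Subtype.val e)) ((hm hy.1).2 hy)
          fun e => h1' (congrArg Subtype.val e)) hz hz1 fun e => by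
        obtain ⟨g, hg⟩ := isConj_iff.1 e.symm
        obtain ⟨x, hx, d, hd, rfl⟩ := exists_mul hS (h := g) (by_contra fun h => hz1 (inv_eq_one.1
          (eq_one_of_fix hS (inv_mem hzQ) h (by rw [← hg]; simp [mul_smul, Q_smul hS hzQ]))))
        have h1 : d * z * d⁻¹ = (z : G)⁻¹ := by
          rw [← commute_iff_conj.1 (Commute.inv_inv (hZ z hz x hx).symm), ← hg]
          group
        have h10 := commute_of_commute_sq_of_odd (odd_of_mem_D hS hd) (b := (z : G)) (commute_iff_conj.2 (by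
          calc _ = d * (d * z * d⁻¹) * d⁻¹ := by simp only [mul_inv_rev, mul_assoc]
            _ = _ := by rw [h1, ← conj_inv, h1, inv_inv]))
        exact hz1 (eq_one_of_odd_of_mul_self hodd (eq_inv_iff_mul_eq_one.1 ((commute_iff_conj.1 h10).symm.trans h1)))
    have h11 := h4.isCharacter.norm_le z
    have h12 := h4.isCharacter.degree_re_nonneg
    rw [hn, hd, Complex.norm_intCast, Complex.norm_intCast] at h11
    rw [hd, Complex.intCast_re] at h12
    norm_cast at h11 h12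
    refine ⟨n, d, hn, hd, Int.le_of_dvd (sub_pos.2 (lt_of_le_of_ne (((le_abs_self n).trans h11).trans
      (abs_of_nonneg h12).le) fun e => ?_)) h10⟩
    rcases h4.isClassFunction.normal_charKer.eq_bot_or_eq_top with h13 | h13
    · exact hz1 (h13.le (h4.isCharacter.mem_charKer.2 (by rw [hn, hd, e])))
    · exact h4.charKer_ne_top h9 h13
  obtain ⟨f₁, f₂, h4, h5, h6, h7, h8, h9, h10⟩ := exists_pair hS h2 hV
  obtain ⟨n, d, hn, hd, h11⟩ := key f₁ f₂ h4 h5 h6 h9 h10 h7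
  obtain ⟨n', d', hn', hd', h12⟩ := key f₂ f₁ h5 h4 h6.symm (add_comm (f₁ 1) _ ▸ h9)
    (fun x hx h => add_comm (f₁ x) _ ▸ h10 x hx h) h8
  have h13 := h10 z hzQ hz1
  rw [hn, hn'] at h13
  rw [hd, hd'] at h9
  have : 0 < Nat.card Q := Nat.card_pos
  norm_cast at h9 h13
  omega

end Cfsg.Agent.RankOne
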