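import Cfsg.Agent.S2792
import Cfsg.Agent.Lib.Char.RankOne11
import Cfsg.Agent.Lib.Solv.Super
import Cfsg.Agent.Lib.Solv.FrobCount

/-!
Group-theoretic lemmas for the first case of Suzuki's theorem.
-/

set_option autoImplicit false
set_option linter.unusedSectionVars false
set_option linter.style.haveILetI false

namespace Cfsg.Agent.RankOne

open MulAction Subgroup Cfsg.Agent.Perm Cfsg.Agent.Transfer

variable {G : Type*} [Group G] [Finite G] {x y z s u : G} {p m : ℕ}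

open scoped IsMulCommutative in
theorem pow_index_eq_one {A : Subgroup G} (hA : IsMulCommutative A) (hz : z ∈ center G)
    (h : z ∈ _root_.commutator G) : z ^ A.index = 1 := by
  have h1 := MonoidHom.transfer_eq_pow (MonoidHom.id A) z fun k g _ => by
    rw [mul_assoc, ← mem_center_iff.1 (pow_mem hz k) g, inv_mul_cancel_left]
  rw [Abelianization.commutator_subset_ker _ h] at h1
  exact (congrArg Subtype.val h1).symm

theorem card_le_pow_fixed {A : Type*} [AddCommGroup A] [Finite A] (hp : p.Prime) (hp2 : p ≠ 2)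
    (hA : ∀ a : A, p • a = 0) (φ : AddMonoid.End A) (hφ : φ ^ p = 1) :
    Nat.card A ≤ Nat.card {a // φ a = a} ^ p := by
  have h1 : ∀ k, Nat.card ((φ - 1) ^ k).ker ≤ Nat.card {a // φ a = a} ^ k := fun k => by
    induction k with
    | zero => simp [show (1 : AddMonoid.End A).ker = ⊥ from AddMonoidHom.ker_id]
    | succ k ih =>
      rw [pow_succ, pow_succ, AddSubgroup.card_eq_card_quotient_mul_card_addSubgroup
        (((φ - 1 :).comp ((φ - 1) ^ k * (φ - 1)).ker.subtype).ker),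
        Nat.card_congr (QuotientAddGroup.quotientKerEquivRange _).toEquiv]
      refine Nat.mul_le_mul (le_trans (AddSubgroup.card_le_of_le ?_) ih) (Nat.card_le_card_of_injective
        (fun a => ⟨a.1.1, sub_eq_zero.1 a.2⟩) fun a b e => Subtype.ext (Subtype.ext (Subtype.ext_iff.1 e :)))
      rintro _ ⟨a, rfl⟩
      exact a.2
  obtain ⟨r, hr⟩ := (Commute.neg_one_right φ).exists_add_pow_prime_eq hp
  rw [hφ, (hp.odd_of_ne_two hp2).neg_one_pow, add_neg_cancel, zero_add, ← sub_eq_add_neg,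
    show (p : AddMonoid.End A) = 0 from AddMonoidHom.ext hA, zero_mul, zero_mul, zero_mul] at hr
  simpa [hr, show (0 : AddMonoid.End A).ker = ⊤ from AddMonoidHom.ker_zero] using h1 p

section
variable (hp : p.Prime) (hu : orderOf u = p) (h1 : ∀ g, g * u * g⁻¹ ∈ zpowers u → g * u * g⁻¹ = u)
include hp hu h1

theorem card_conj_le {O : Set G} {T Y : Subgroup G} (hT : T ≤ Y) (hO : ∀ c ∈ O, c ∈ Y ∧ c ∉ T ∧ IsConj u c) :
    Nat.card O * (p - 1) + Nat.card T ≤ Nat.card Y ∧ (Nat.card Y ≤ Nat.card O * (p - 1) + Nat.card T →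
      ∀ y ∈ Y, y ∉ T → ∃ c ∈ O, c ∈ zpowers y) := by
  have h2 : ∀ c ∈ O, orderOf c = p := fun c hc => by
    obtain ⟨g, rfl⟩ := isConj_iff.1 (hO c hc).2.2
    rw [← hu, ← MulAut.conj_apply, MulEquiv.orderOf_eq]
  have h3 : ∀ (c : O) (k : Fin (p - 1)), (c : G) ∈ zpowers ((c : G) ^ (k + 1 : ℕ)) := fun c k =>
    mem_zpowers_of_prime (h2 c c.2 ▸ hp) (pow_mem (mem_zpowers _) _)
      (pow_ne_one_of_lt_orderOf (by omega) (by rw [h2 c c.2]; omega)) (mem_zpowers _)
  let f : (O × Fin (p - 1)) ⊕ T → Y := Sum.elim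
    (fun w => ⟨(w.1 : G) ^ (w.2 + 1 : ℕ), pow_mem (hO _ w.1.2).1 _⟩) fun y => ⟨y, hT y.2⟩
  have h4 : ∀ (w : O × Fin (p - 1)) (y : T), f (.inl w) ≠ f (.inr y) := fun w y e =>
    (hO _ w.1.2).2.1 (zpowers_le.2 ((congrArg Subtype.val e).symm ▸ y.2 :) (h3 w.1 w.2))
  have h5 : Function.Injective f := by
    rintro (⟨c, k⟩ | y) (⟨c', k'⟩ | y') e
    · replace e : (c : G) ^ (k + 1 : ℕ) = (c' : G) ^ (k' + 1 : ℕ) := congrArg Subtype.val e
      obtain rfl : c = c' := by
        obtain ⟨g, hg⟩ := isConj_iff.1 (hO c c.2).2.2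
        obtain ⟨g', hg'⟩ := isConj_iff.1 (hO c' c'.2).2.2
        obtain ⟨n, hn⟩ := zpowers_le.2 (pow_mem (mem_zpowers (c : G)) (k + 1 : ℕ)) (e ▸ h3 c' k')
        have := h1 (g⁻¹ * g') ⟨n, by
          rw [← hg, ← hg'] at hn
          simp only [conj_zpow] at hn
          rw [mul_inv_rev, inv_inv, mul_assoc, mul_assoc, ← mul_assoc u, ← mul_assoc g', ← mul_assoc g', ← hn]
          group⟩
        refine Subtype.ext ?_
        rw [← hg, ← hg']
        conv_lhs => rw [← this]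
        group
      have := pow_injOn_Iio_orderOf (by simp [h2 c c.2]; omega) (by simp [h2 c c.2]; omega) e
      rw [show k = k' from Fin.ext (by omega)]
    · exact absurd e (h4 _ _)
    · exact absurd e.symm (h4 _ _)
    · rw [show y = y' from Subtype.ext (congrArg Subtype.val e :)]
  have h6 : Nat.card ((O × Fin (p - 1)) ⊕ T) = Nat.card O * (p - 1) + Nat.card T := by simp
  refine ⟨h6 ▸ Nat.card_le_card_of_injective f h5, fun h y hy h7 => ?_⟩
  rcases ((Nat.bijective_iff_injective_and_card f).2 ⟨h5, le_antisymm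
    (Nat.card_le_card_of_injective f h5) (h6 ▸ h)⟩).2 ⟨y, hy⟩ with ⟨w | y', e⟩
  · exact ⟨w.1, w.1.2, (show _ = y from congrArg Subtype.val e) ▸ h3 w.1 w.2⟩
  · exact absurd ((show _ = y from congrArg Subtype.val e) ▸ y'.2) h7

theorem not_perfect (hp2 : p ≠ 2) {R U : Subgroup G} (hR : BG.Chief (centralizer {u}) R (zpowers u))
    (hRL : R ≤ centralizer {u}) (hcR : Nat.card R = p ^ (m + 1)) (hL : ¬ p ∣ R.relIndex (centralizer {u}))
    (hG : (Nat.card G).factorization p = m + 2) (hU : U ≤ centralizer {u}) (hcU : Nat.card U + 1 = p ^ m)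
    (h3 : ∀ z ∈ U, ∀ x ∈ R, z * x * z⁻¹ * x⁻¹ ∈ zpowers u → z = 1 ∨ x ∈ zpowers u)
    (hs : s ∈ U) (hs1 : s ≠ 1) (hs2 : s * s = 1)
    (h5 : ∀ l ∈ centralizer {u}, (∀ x ∈ R, l * x * l⁻¹ * x⁻¹ ∈ zpowers u) → l ∈ R) :
    _root_.commutator G ≠ ⊤ := fun hG' => by
  have := Fact.mk hp
  have hp3 : 3 ≤ p := by have := hp.two_le; omega
  have hC : ∀ {x}, x ∈ centralizer {u} ↔ Commute x u := mem_centralizer_singleton'
  have hRp : IsPGroup p R := IsPGroup.of_card hcR
  have huR : u ∈ R := hR.lt.le (mem_zpowers u)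
  have hu1 : u ≠ 1 := Solv.ne_one_of_orderOf_prime (hu ▸ hp)
  have pL : ∀ {Y : Subgroup G}, IsPGroup p Y → ∀ x ∈ Y, Commute x u → x ∈ R := fun hY x hx h =>
    (Comp.sylIn_of_not_dvd hRL hRp hL).le_of_normalizer (hY.to_le (zpowers_le.2 hx))
      (zpowers_le.2 (hC.2 h)) (zpowers_le.2 (hR.nU (hC.2 h))) (mem_zpowers x)
  obtain ⟨X, hX⟩ := hRp.exists_le_sylow
  have hcX : Nat.card X = p ^ (m + 2) := by rw [X.card_eq_multiplicity, hG]
  have hlt : R < X := lt_of_le_of_ne hX fun e => by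
    rw [← e, hcR] at hcX
    simpa using Nat.pow_right_injective hp.two_le hcX
  have hXN : (X : Subgroup G) ≤ normalizer (R : Set G) := by
    have h6 := Solv.card_lt_of_lt (Solv.lt_normalizer_inf_of_isPGroup X.isPGroup' hlt)
    obtain ⟨k, h7, h8⟩ := (Nat.dvd_prime_pow hp).1 (hcX ▸ card_dvd_of_le
      (inf_le_right : normalizer (R : Set G) ⊓ X ≤ X))
    rw [h8, hcR, Nat.pow_lt_pow_iff_right hp.one_lt] at h6
    exact inf_eq_right.1 (eq_of_le_of_card_ge inf_le_right (by rw [h8, hcX, show k = m + 2 by omega]))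
  have hX' : ∀ x ∈ (X : Subgroup G), x ∉ R → x * u * x⁻¹ ∉ zpowers u := fun x hx h e =>
    h (pL X.isPGroup' x hx (commute_iff_conj.2 (h1 x e)))
  obtain ⟨x₀, hx₀, hx₀'⟩ := SetLike.exists_of_lt hlt
  have hab : ∀ x ∈ R, ∀ y ∈ R, Commute x y := by
    rcases hR.min (R ⊓ centralizer (R : Set G)) (Solv.le_normalizer_inf hR.nU (hR.nU.trans
      (Solv.normalizer_le_normalizer_centralizer _))) (zpowers_le.2 ⟨huR, fun y hy => hC.1 (hRL hy)⟩)
      inf_le_left with h | h
    · refine absurd ?_ (hX' x₀ hx₀ hx₀')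
      rw [← h]
      exact conj_mem_of_mem_normalizer (Solv.le_normalizer_inf le_rfl
        (Solv.normalizer_le_normalizer_centralizer _) (hXN hx₀)) (h.ge (mem_zpowers u))
    · exact fun x hx y hy => (h.ge hy).2 x hx
  have key : ∀ g, g * u * g⁻¹ ∈ R → g ∈ normalizer (R : Set G) := fun g hg =>
    inv_mem_iff.1 (Solv.mem_normalizer_of_conj_mem fun x hx => pL (hRp.map (MulAut.conj g⁻¹).toMonoidHom)
      _ ⟨x, hx, rfl⟩ (by simpa [mul_assoc] using (hab x hx _ hg).conj g⁻¹))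
  have hsi : s⁻¹ = s := inv_eq_of_mul_eq_one_right hs2
  have hsR : ∀ x ∈ R, s * x * s⁻¹ ∈ R := fun x => conj_mem_of_mem_normalizer (hR.nU (hU hs))
  obtain ⟨T, hT⟩ : ∃ T : Subgroup G, ∀ x, x ∈ T ↔ x ∈ R ∧ s * x * s⁻¹ = x⁻¹ :=
    ⟨{ carrier := {x | x ∈ R ∧ s * x * s⁻¹ = x⁻¹}
       mul_mem' := fun {x y} hx hy => ⟨mul_mem hx.1 hy.1, by
         rw [← conj_mul, hx.2, hy.2, ← mul_inv_rev, (hab x hx.1 y hy.1).eq]⟩
       one_mem' := ⟨one_mem _, by simp⟩
       inv_mem' := fun {x} hx => ⟨inv_mem hx.1, by rw [← conj_inv, hx.2]⟩ }, fun _ => Iff.rfl⟩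
  have hTR : T ≤ R := fun x hx => ((hT x).1 hx).1
  have hodd : Odd (orderOf u) := hu ▸ hp.odd_of_ne_two hp2
  have T1 : ∀ g, g * u * g⁻¹ ∉ T := fun g hg => by
    have h6 : (g⁻¹ * s * g) * u * (g⁻¹ * s * g)⁻¹ = u⁻¹ := by
      calc _ = g⁻¹ * (s * (g * u * g⁻¹) * s⁻¹) * g := by group
        _ = _ := by rw [((hT _).1 hg).2]; group
    exact hu1 (eq_one_of_odd_of_mul_self hodd (eq_inv_iff_mul_eq_one.1
      ((h1 _ (h6 ▸ inv_mem (mem_zpowers u))).symm.trans h6)))
  have huT : u ∉ T := by simpa using T1 1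
  have T2 : ∀ x ∈ R, ∃ y ∈ T, ∃ v ∈ zpowers u, x = y * v := fun x hx => by
    have h6 : s * x * s⁻¹ * x ∈ zpowers u := (h3 s hs _ (mul_mem (hsR x hx) hx) (by
      rw [← conj_mul, (hab _ (hsR x hx) x hx).eq]
      simp [hsi, mul_assoc, ← mul_assoc s s, hs2])).resolve_left hs1
    obtain ⟨n, hn⟩ := exists_sq_eq_of_odd (hodd.of_dvd_nat (orderOf_dvd_of_mem_zpowers h6))
    have h7 := pow_mem h6 n
    set v := (s * x * s⁻¹ * x) ^ n
    have h8 : Commute s v := by obtain ⟨k, hk⟩ := h7; exact hk ▸ (hC.1 (hU hs)).zpow_right k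
    refine ⟨x * v⁻¹, (hT _).2 ⟨mul_mem hx (inv_mem (hR.lt.le h7)), ?_⟩, v, h7, by simp⟩
    rw [← conj_mul, commute_iff_conj.1 h8.inv_right, eq_mul_inv_of_mul_eq hn.symm, mul_assoc,
      (hab _ (inv_mem hx) _ (inv_mem (hR.lt.le h7))).eq]
    group
  have hcT : Nat.card T = p ^ m := by
    have h6 := Solv.card_sup_mul_card_inf (H := T) (N := zpowers u) (hTR.trans (hRL.trans hR.nV))
    rw [show T ⊔ zpowers u = R from le_antisymm (sup_le hTR hR.lt.le) fun x hx => by
        obtain ⟨y, hy, v, hv, rfl⟩ := T2 x hx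
        exact mul_mem_sup hy hv,
      show T ⊓ zpowers u = ⊥ from eq_bot_iff.2 fun x hx => by_contra fun h =>
        huT (zpowers_le.2 hx.1 (mem_zpowers_of_prime (hu ▸ hp) hx.2 h (mem_zpowers u))),
      hcR, Nat.card_zpowers, hu, card_bot, mul_one, pow_succ] at h6
    exact (Nat.eq_of_mul_eq_mul_right hp.pos h6).symm
  set N := normalizer (R : Set G)
  have hCN := Solv.card_class_eq_relIndex N u
  obtain ⟨h6, h7⟩ := card_conj_le hp hu h1 (O := {y | ∃ h ∈ N, h * u * h⁻¹ = y}) hTR (by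
    rintro _ ⟨g, hg, rfl⟩
    exact ⟨conj_mem_of_mem_normalizer hg huR, T1 g, isConj_iff.2 ⟨g, rfl⟩⟩)
  let f : Option U → {y // ∃ h ∈ N, h * u * h⁻¹ = y} := fun o => o.elim ⟨u, 1, one_mem _, by simp⟩
    fun z => ⟨_, z * x₀, mul_mem (hR.nU (hU z.2)) (hXN hx₀), rfl⟩
  have h8 : ∀ z : U, f (some z) ≠ f none := fun z e => hX' x₀ hx₀ hx₀' (by
    rw [show x₀ * u * x₀⁻¹ = (z : G)⁻¹ * (z * x₀ * u * (z * x₀)⁻¹) * z by group,
      show z * x₀ * u * (z * x₀)⁻¹ = u from congrArg Subtype.val e, (hC.1 (hU (inv_mem z.2))).eq]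
    simp)
  have h9 : ∀ x ∈ (X : Subgroup G), x ∉ R → ∀ z ∈ U, z * (x * u * x⁻¹) * z⁻¹ = x * u * x⁻¹ → z = 1 :=
    fun x hx h z hz e => (h3 z hz _ (conj_mem_of_mem_normalizer (hXN hx) huR) (by
      rw [e, mul_inv_cancel]; exact one_mem _)).resolve_right (hX' x hx h)
  have h10 : Function.Injective f := by
    rintro (_ | z) (_ | z') e
    · rfl
    · exact absurd e.symm (h8 _)
    · exact absurd e (h8 _)
    · refine congrArg _ (Subtype.ext (inv_mul_eq_one.1 (h9 x₀ hx₀ hx₀' _ (mul_mem (inv_mem z.2) z'.2) ?_)))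
      calc _ = (z : G)⁻¹ * (z' * x₀ * u * (z' * x₀)⁻¹) * z := by group
        _ = _ := by
          rw [← show z * x₀ * u * (z * x₀)⁻¹ = z' * x₀ * u * (z' * x₀)⁻¹ from congrArg Subtype.val e]
          group
  have h11 := Nat.card_le_card_of_injective f h10
  change Nat.card {y // ∃ h ∈ N, h * u * h⁻¹ = y} * _ + _ ≤ _ at h6
  change _ ≤ Nat.card {y // ∃ h ∈ N, h * u * h⁻¹ = y} * _ + _ → _ at h7
  rw [Finite.card_option, hcU] at h11
  rw [hcT, hcR] at h6 h7
  obtain ⟨q, rfl⟩ : ∃ q, p = q + 1 := ⟨p - 1, by omega⟩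
  rw [pow_succ, Nat.add_sub_cancel] at h6 h7
  have h12 : Nat.card {y // ∃ h ∈ N, h * u * h⁻¹ = y} = (q + 1) ^ m :=
    le_antisymm (Nat.le_of_mul_le_mul_right (c := q) (by linarith) (by omega)) h11
  replace h7 := h7 (by rw [h12]; linarith)
  have h13 := ((Nat.bijective_iff_injective_and_card f).2 ⟨h10, by rw [Finite.card_option, hcU, h12]⟩).2
  obtain rfl : m = 1 := by
    have h14 := Solv.card_mul_relIndex hR.nU
    rw [← hCN, h12, ← Solv.card_mul_relIndex hRL, hcR, mul_right_comm, ← pow_add] at h14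
    have h15 := (hp.pow_dvd_iff_le_factorization Nat.card_pos.ne').1
      ((Dvd.intro _ h14).trans (card_subgroup_dvd_card N))
    have h16 := Solv.card_lt_of_lt hR.lt
    rw [hcR, Nat.card_zpowers, hu] at h16
    rcases m with _ | m
    · simp at h16
    · omega
  rw [pow_one] at hcT hcU h12
  have hNT : N ≤ normalizer (T : Set G) := Solv.le_normalizer_of_conj_mem fun g hg y hy => by
    by_contra h
    obtain ⟨_, ⟨k, -, rfl⟩, n, hn⟩ := h7 _ (conj_mem_of_mem_normalizer hg (hTR hy)) h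
    refine T1 (g⁻¹ * k) ?_
    replace hn : (g * y * g⁻¹) ^ n = k * u * k⁻¹ := hn
    rw [show g⁻¹ * k * u * (g⁻¹ * k)⁻¹ = g⁻¹ * (k * u * k⁻¹) * g by group, ← hn, conj_zpow,
      show g⁻¹ * (g * y ^ n * g⁻¹) * g = y ^ n by group]
    exact zpow_mem hy n
  have hco : (Nat.card X).Coprime (q + 1 - 1) := by rw [hcX]; simp
  have hTX := Solv.le_centralizer_of_card_prime_of_coprime hp hcT (hXN.trans hNT) hco
  have hZ : ∀ y ∈ R, (∀ x ∈ (X : Subgroup G), Commute y x) → y ∈ T := fun y hy h => by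
    obtain ⟨y, hy', v, hv, rfl⟩ := T2 y hy
    by_contra h14
    obtain ⟨n, hn⟩ := mem_zpowers_of_prime (hu ▸ hp) hv (fun e => h14 (by simpa [e])) (mem_zpowers u)
    refine hx₀' (pL X.isPGroup' _ hx₀ (hn ▸ (Commute.zpow_right ?_ n)))
    simpa using (Commute.inv_left (hTX hx₀ y hy')).symm.mul_right (h x₀ hx₀).symm
  have h14 : ∀ g ∈ N, g * u * g⁻¹ * u⁻¹ ∈ T := fun g hg => by
    obtain ⟨_ | z, e⟩ := h13 ⟨_, g, hg, rfl⟩ <;> rw [← show _ = g * u * g⁻¹ from congrArg Subtype.val e]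
    · simp [f]
    have h14 := Solv.commutator_lt_of_nilpotent X.isPGroup'.isNilpotent hX le_rfl hXN
      (ne_bot_of_gt hR.lt)
    have h15 : x₀ * u * x₀⁻¹ * u⁻¹ ∈ ⁅R, (X : Subgroup G)⁆ := by
      simpa [commutatorElement_def, mul_assoc] using inv_mem (commutator_mem_commutator huR hx₀)
    obtain ⟨k, h16, h17⟩ := (Nat.dvd_prime_pow hp).1 (hcR ▸ card_dvd_of_le h14.le)
    have h18 := Solv.card_lt_of_lt h14
    rw [h17, hcR, Nat.pow_lt_pow_iff_right hp.one_lt] at h18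
    have h19 : x₀ * u * x₀⁻¹ * u⁻¹ ∈ T := hZ _ (h14.le h15) fun x hx => by
      rcases k with _ | _ | k
      · rw [mem_bot.1 ((card_eq_one.1 h17).le h15)]; exact Commute.one_left x
      · exact Solv.le_centralizer_of_card_prime_of_coprime hp (by simpa using h17)
          (Solv.le_normalizer_commutator hXN le_normalizer) hco hx _ h15
      · omega
    have := conj_mem_of_mem_normalizer (hNT (hR.nU (hU z.2))) h19
    rw [← conj_mul, commute_iff_conj.1 (hC.1 (hU z.2)).inv_right] at this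
    simpa [f, mul_assoc] using this
  have h15 : N ⊓ centralizer (T : Set G) = X := X.is_maximal' (Solv.isPGroup_iff_forall_mem.2 fun g hg => by
    have h15 : ∀ k : ℕ, g ^ k * u * (g ^ k)⁻¹ = (g * u * g⁻¹ * u⁻¹) ^ k * u := fun k => by
      induction k with
      | zero => simp
      | succ k ih =>
        rw [pow_succ', pow_succ _ k, mul_inv_rev, mul_assoc g, mul_assoc g, ← mul_assoc _ _ g⁻¹, ih,
          ← mul_assoc, ← mul_assoc, ← hg.2 _ (pow_mem (h14 g hg.1) k)]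
        group
    have h16 := h15 (q + 1)
    rw [show (g * u * g⁻¹ * u⁻¹) ^ (q + 1) = 1 from
      hcT ▸ congrArg Subtype.val (pow_card_eq_one' (x := (⟨_, h14 g hg.1⟩ : T))), one_mul] at h16
    obtain ⟨k, hk⟩ := Solv.isPGroup_iff_forall_mem.1 hRp _ (h5 _ (hC.2 (commute_iff_conj.2 h16)) fun x hx => by
      obtain ⟨y, hy, v, ⟨n, rfl⟩, rfl⟩ := T2 x hx
      rw [commute_iff_conj.1 (Commute.mul_right (pow_mem hg.2 _ y hy).symm
        ((commute_iff_conj.2 h16).zpow_right n)), mul_inv_cancel]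
      exact one_mem _)
    exact ⟨k + 1, by rw [pow_succ', pow_mul, hk]⟩) (le_inf hXN hTX)
  set M := normalizer ((X : Subgroup G) : Set G)
  have hNM : N ≤ M := by
    unfold M
    rw [← h15]
    exact Solv.le_normalizer_inf le_normalizer (hNT.trans (Solv.normalizer_le_normalizer_centralizer _))
  have hXp : ∀ {Y : Subgroup G}, (X : Subgroup G) ≤ Y → ¬ q + 1 ∣ (X : Subgroup G).relIndex Y := fun h' h =>
    X.not_dvd_index (h.trans (Dvd.intro _ (relIndex_mul_index h')))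
  have hMN : M ≤ N := by
    have h16 := Solv.card_class_eq_relIndex M u
    rw [← relIndex_mul_relIndex _ _ _ hR.nU hNM, ← hCN, h12] at h16
    have h17 := (card_conj_le hp hu h1 (O := {y | ∃ h ∈ M, h * u * h⁻¹ = y}) (hTR.trans hX) (by
      rintro _ ⟨g, hg, rfl⟩
      exact ⟨conj_mem_of_mem_normalizer hg (hX huR), T1 g, isConj_iff.2 ⟨g, rfl⟩⟩)).1
    let _ := MulAction.compHom G (MulAut.conj.comp U.subtype)
    have h18 := card_dvd_ncard_of_semiregular (G := U) (S := {y | ∃ h ∈ M, h * u * h⁻¹ = y} \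
      {y | ∃ h ∈ N, h * u * h⁻¹ = y}) (Set.toFinite _) (by
        rintro z _ ⟨⟨g, hg, rfl⟩, h⟩
        exact ⟨⟨z * g, mul_mem (hNM (hR.nU (hU z.2))) hg, by change _ = z * _ * (z : G)⁻¹; group⟩,
          fun ⟨k, hk, e⟩ => h ⟨(z : G)⁻¹ * k, mul_mem (inv_mem (hR.nU (hU z.2))) hk, by
            rw [show (z : G)⁻¹ * k * u * ((z : G)⁻¹ * k)⁻¹ = (z : G)⁻¹ * (k * u * k⁻¹) * z by group, e]
            change _ * (z * _ * (z : G)⁻¹) * _ = _
            group⟩⟩) (by
        rintro _ ⟨⟨g, hg, rfl⟩, h⟩ z e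
        refine Subtype.ext (h9 _ (conj_mem_of_mem_normalizer hg (hX huR)) (fun h' => h ⟨g, key g h', rfl⟩)
          z z.2 (commute_iff_conj.1 ?_))
        have : Commute (z : G) (g * u * g⁻¹) := commute_iff_conj.2 e
        exact (this.mul_right (hC.1 (hU z.2))).mul_right this.inv_right)
    rw [Set.ncard_sdiff (by rintro _ ⟨g, hg, rfl⟩; exact ⟨g, hNM hg, rfl⟩), ← Nat.card_coe_set_eq,
      ← Nat.card_coe_set_eq, show Nat.card U = q by omega] at h18
    erw [h16, h12] at h18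
    erw [h16] at h17
    have h19 : ¬ q + 1 ∣ N.relIndex M := fun h => hXp le_normalizer (h.trans (relIndex_dvd_of_le_left _ hXN))
    rw [← relIndex_eq_one]
    generalize N.relIndex M = i at h17 h18 h19
    rw [hcT, hcX, Nat.add_sub_cancel] at h17
    obtain ⟨j, hj⟩ : q ∣ i - 1 := Nat.Coprime.dvd_of_dvd_mul_left
      (show q.Coprime (q + 1) by simp) (by rwa [Nat.mul_sub_one])
    rcases i with _ | i
    · simp at h19
    obtain rfl : i = q * j := hj
    rcases j with _ | _ | j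
    · rfl
    · simp at h19
    · have h20 : 2 ≤ q := by omega
      rw [show 1 + 2 = 3 from rfl] at h17
      nlinarith [Nat.zero_le (q * q * q * j), Nat.zero_le (q * q * j), Nat.mul_le_mul h20 h20,
        Nat.mul_le_mul (Nat.mul_le_mul h20 h20) (le_refl q)]
  have hTn : (T.subgroupOf N).Normal := normal_subgroupOf_of_le_normalizer hNT
  have h16 : IsMulCommutative (((X : Subgroup G).subgroupOf N).map (QuotientGroup.mk' (T.subgroupOf N))) :=
    IsPGroup.isMulCommutative_of_card_eq_prime_sq (p := q + 1) (by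
      rw [Solv.card_map_mk_eq_relIndex, relIndex_subgroupOf hXN]
      have := Solv.card_mul_relIndex (hTR.trans hX)
      rw [hcT, hcX] at this
      exact Nat.eq_of_mul_eq_mul_left hp.pos (by rw [this]; ring))
  obtain ⟨x, hx, z, hz, W, -, -, h17⟩ := S2792.result X X ⟨le_rfl, fun g hg => eq_of_le_of_card_ge hg
    (card_map_of_injective (MulAut.conj g).injective).ge⟩ fun e => huT (by
      have h17 : u ∈ ⁅N, N⁆ := commutator_mono hMN hMN (e.le ⟨hX huR, hG'.ge trivial⟩).2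
      rw [← map_subtype_commutator] at h17
      obtain ⟨v, hv, rfl⟩ := h17
      have h18 := pow_index_eq_one h16 (z := QuotientGroup.mk' _ v) (mem_center_iff.2 fun g => by
        obtain ⟨g, rfl⟩ := QuotientGroup.mk_surjective g
        rw [← mul_inv_eq_one, mul_inv_rev, ← mul_assoc]
        exact (QuotientGroup.eq_one_iff (g * v * g⁻¹ * v⁻¹)).2 (h14 g g.2)) ((show (_root_.commutator N).map _ ≤ _ by
          rw [_root_.commutator_def, Subgroup.map_commutator]; exact commutator_mono le_top le_top)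
          (mem_map_of_mem _ hv))
      rw [← map_pow, QuotientGroup.mk'_apply, QuotientGroup.eq_one_iff, mem_subgroupOf, coe_pow] at h18
      refine zpowers_le.2 h18 (mem_zpowers_of_prime (hu ▸ hp : (orderOf (N.subtype v)).Prime) (pow_mem (mem_zpowers _) _)
        (fun e => ?_) (mem_zpowers _))
      refine hXp hXN ((hu.symm.dvd.trans (orderOf_dvd_of_pow_eq_one e)).trans ?_)
      exact index_map_dvd _ (QuotientGroup.mk'_surjective _))
  have h18 : x⁻¹ * z⁻¹ * x * z ∈ T := by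
    have := h16.is_comm.comm ⟨_, ⟨x, hXN hx⟩, hx, rfl⟩ ⟨_, ⟨z, hXN hz⟩, hz, rfl⟩
    have h := QuotientGroup.eq.1 (congrArg Subtype.val this).symm
    simpa [mem_subgroupOf, mul_assoc] using h
  obtain ⟨k, rfl⟩ : ∃ k, q = k + 2 := ⟨q - 2, by omega⟩
  refine h17 ?_
  rw [Nat.add_sub_cancel, Function.iterate_add_apply, show (fun y : G => y⁻¹ * z⁻¹ * y * z)^[2] x = 1 from by
    change (x⁻¹ * z⁻¹ * x * z)⁻¹ * z⁻¹ * (x⁻¹ * z⁻¹ * x * z) * z = 1
    rw [mul_assoc, mul_assoc, hTX hz _ h18]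
    group, Function.iterate_fixed (by simp)]
  exact one_mem _

end

end Cfsg.Agent.RankOne
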