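import Cfsg.Agent.Lib.Char.RankOne13
import Cfsg.Agent.Lib.Char.RankOne14
import Cfsg.Agent.Lib.BG.Sec5
import Cfsg.Agent.Lib.Transfer.ZStar
import Cfsg.Agent.Lib.Comp.CharL
import Mathlib.NumberTheory.Multiplicity

/-!
The split rank-one set-up: the case of an element of prime order of `V` whose centraliser has
`2`-rank one.
-/

set_option autoImplicit false
set_option linter.unusedSectionVars false
set_option linter.style.haveILetI false

namespace Cfsg.Agent.RankOne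

open MulAction Subgroup Cfsg.Agent.Perm Cfsg.Agent.Transfer

variable {G Ω : Type*} [Group G] [Finite G] [MulAction G Ω] {a : Ω} {t : G} {Q : Subgroup G}
  {x y z s r k d u v w : G} {p : ℕ}

theorem dvd_pow_add_iff (hp : p.Prime) (n : ℕ) : p ∣ n ^ p + 1 ↔ p ∣ n + 1 := by
  have := Fact.mk hp
  rw [← ZMod.natCast_eq_zero_iff, ← ZMod.natCast_eq_zero_iff]
  simp [ZMod.pow_card]

set_option synthInstance.maxSize 1024 in
theorem arith_B {c j m e v : ℕ} (hp : p.Prime) (h1 : c = 2 ^ j) (h2 : 2 ≤ c) (h3 : c ^ p ≤ (2 ^ p) ^ 3)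
    (h4 : p ∣ c + 1) (h5 : p ^ m ≤ (c + 1) ^ p) (h6 : 2 ^ e * v + 1 = p ^ m) (h7 : v.Coprime 2)
    (h8 : 2 ^ p - 1 ∣ v ^ p - 1) (h9 : p ∣ v - 1) (h10 : c ∣ 2 ^ e * v) : v = 1 := by
  rw [← pow_mul, mul_comm, pow_mul, Nat.pow_le_pow_iff_left hp.ne_zero, h1,
    Nat.pow_le_pow_iff_right one_lt_two] at h3
  have h11 : v = (p ^ m - 1) / 2 ^ e := (Nat.div_eq_of_eq_mul_right (by positivity) (by omega)).symm
  have h12 : 2 ^ e < p ^ m := by
    rcases v with _ | v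
    · simp at h7
    · nlinarith [Nat.zero_le (2 ^ e * v)]
  have h13 : ∀ {n q}, q.Prime → c + 1 = q ^ n → p = q := fun hq e =>
    (Nat.prime_dvd_prime_iff_eq hp hq).1 (hp.dvd_of_dvd_pow (e ▸ h4))
  have h14 : ∀ {n}, p ^ m ≤ p ^ n → p ^ n < 2 ^ 12 → m ≤ n ∧ e < 12 := fun h h' =>
    ⟨(Nat.pow_le_pow_iff_right hp.one_lt).1 h, (Nat.pow_lt_pow_iff_right one_lt_two).1 (by omega)⟩
  subst h11 h1
  interval_cases j
  · simp at h2
  · obtain rfl := h13 (n := 1) Nat.prime_three rfl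
    obtain ⟨h, h'⟩ := h14 (n := 3) h5 (by norm_num)
    clear h5 h12 h14
    revert h6 h7 h8 h9 h10
    revert h' e
    revert h m
    decide +kernel
  · obtain rfl := h13 (n := 1) Nat.prime_five rfl
    obtain ⟨h, h'⟩ := h14 (n := 5) h5 (by norm_num)
    clear h5 h12 h14
    revert h6 h7 h8 h9 h10
    revert h' e
    revert h m
    decide +kernel
  · obtain rfl := h13 (n := 2) Nat.prime_three rfl
    obtain ⟨h, h'⟩ := h14 (n := 6) h5 (by norm_num)
    clear h5 h12 h14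
    revert h6 h7 h8 h9 h10
    revert h' e
    revert h m
    decide +kernel

/-- The regular normal subgroup of `C(u) / ⟨u⟩`. -/
structure RD (a : Ω) (u : G) (Q R : Subgroup G) (p m : ℕ) : Prop where
  chief : BG.Chief (centralizer {u}) R (zpowers u)
  le : R ≤ centralizer {u}
  card : Nat.card R = p ^ (m + 1)
  cardU : Nat.card (Q ⊓ centralizer {u} :) + 1 = p ^ m
  comm : ∀ x ∈ R, ∀ y ∈ R, x * y * x⁻¹ * y⁻¹ ∈ zpowers u
  pow : ∀ x ∈ R, x ^ p ∈ zpowers u
  tr : ∀ c, u • c = c → ∃ x ∈ R, x • a = c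
  reg : ∀ l ∈ centralizer {u}, (∀ x ∈ R, l * x * l⁻¹ * x⁻¹ ∈ zpowers u) → l • a = a → l ∈ zpowers u

theorem fix_C {c : Ω} (hx : x ∈ centralizer {u}) (hc : u • c = c) : u • x • c = x • c :=
  (fixS Ω u).smul_mem (⟨x, hx⟩ : centralizer {u}) hc

theorem fix_P {c : Ω} (hx : x ∈ zpowers u) (hc : u • c = c) : x • c = c :=
  (zpowers_le.2 hc : _ ≤ stabilizer G c) hx

variable (hS : IsRankOneSetup G Ω a t Q) (h2 : R2 G)
include hS h2

theorem card_le_cube (hu : u ∈ V a t) (h3 : R2 (centralizer {u})) (h : St a t Q (centralizer {u})) :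
    Nat.card (Q ⊓ centralizer {u} :) ≤ Nat.card (Q0 G a) ^ 3 := by
  have h4 : ∀ {m n}, m ≤ Nat.card (Q0 G a) → n ≤ 3 → m ^ n ≤ Nat.card (Q0 G a) ^ 3 := fun h h' =>
    (Nat.pow_le_pow_left h _).trans (Nat.pow_le_pow_right Nat.card_pos h')
  obtain ⟨hQ, h | ⟨⟨x, hx, y, hy, h⟩, -⟩⟩ := h
  · simpa using h4 (card_le_of_le (H := Q ⊓ centralizer {u}) fun x hx =>
      mem_Q0_of_sq hS h2 (hS.le hx.1) (h x hx)) (by omega : 1 ≤ 3)
  have hS' := setup_C hS hu
  have h5 := card_Q_cases hS' h3 (by rw [← inf_subgroupOf_right]; exact hQ.comap_subtype)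
    ⟨⟨x, hx.2⟩, hx.1, ⟨y, hy.2⟩, hy.1, fun e => h (congrArg Subtype.val e)⟩
  have h6 := Nat.card_le_card_of_injective (fun x : Q0 (centralizer {u}) (⟨a, hu.1.1⟩ : fixS Ω u) =>
    (⟨x.1.1, mem_Q0_of_sq hS h2 (hS.le (Q0_le hS' x.2)) (congrArg Subtype.val (Q0_sq hS' h3 x.2))⟩ :
      Q0 G a)) fun x y e => Subtype.ext (Subtype.ext (Subtype.ext_iff.1 e :))
  rw [← Solv.card_subgroupOf]
  rcases h5 with h5 | h5 <;> exact h5 ▸ h4 h6 (by omega)

theorem comm_top [IsSimpleGroup G] : _root_.commutator G = ⊤ :=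
  (IsSimpleGroup.eq_bot_or_eq_top_of_normal _ inferInstance).resolve_left fun h => by
    obtain ⟨s, hs⟩ := I_nonempty hS
    refine tst_ne hS (I_Q hS hs) hs.2.1 ?_
    rw [← show s * t = t * s from commutator_eq_bot_iff_le_centralizer.1 h trivial s trivial,
      mul_assoc, hS.mul_self, mul_one]
    exact hs.1

variable (hu : u ∈ V a t) (hC : ¬ R2 (centralizer {u}))
include hu hC

theorem uniq_C (hx : x ∈ I G a) (hy : y ∈ I G a) (h3 : Commute u x) (h4 : Commute u y) : x = y := by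
  by_contra h
  exact hC ⟨⟨x, mem_centralizer_singleton'.2 h3.symm⟩, ⟨y, mem_centralizer_singleton'.2 h4.symm⟩,
    fun e => hx.2.1 (congrArg Subtype.val e), fun e => hy.2.1 (congrArg Subtype.val e),
    fun e => h (congrArg Subtype.val e), Subtype.ext hx.2.2, Subtype.ext hy.2.2,
    Subtype.ext (I_central hS h2 hx (I_Q hS hy))⟩

theorem not_W : u ∉ W a t := fun h => by
  obtain ⟨x, hx, y, hy, h3, -⟩ := exists_four hS h2
  exact h3 (uniq_C hS h2 hu hC hx hy (W_commute hS h (subset_closure hx)) (W_commute hS h (subset_closure hy)))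

theorem V_W (hv : v ∈ V a t) : ∃ w ∈ W a t, ∃ n : ℤ, v = w * u ^ n := by
  obtain ⟨⟨s, r⟩, ⟨hs, hr, e⟩, -⟩ := structure_eq hS
  obtain ⟨n, hn⟩ := gal_mem hS h2 hu hv fun x hx h =>
    uniq_C hS h2 hu hC hs hx (V_commute_s hS hs hr e hu).1 h ▸ (V_commute_s hS hs hr e hv).1
  exact ⟨_, hn, n, by simp⟩

theorem K_C (hk : k ∈ K a t) (h : Commute u k) : k = 1 := by
  obtain ⟨⟨s, r⟩, ⟨hs, hr, e⟩, -⟩ := structure_eq hS
  have h3 := (V_commute_s hS hs hr e hu).1
  exact eq_one_of_K_commute hS hs hk (commute_iff_conj.2 (uniq_C hS h2 hu hC (I_conj hs hk.1.1) hs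
    ((h.mul_right h3).mul_right h.inv_right) h3))

variable (hp : p.Prime) (ho : orderOf u = p)
include hp ho

theorem W_inf (hw : w ∈ W a t) (h : w ∈ zpowers u) : w = 1 := by
  by_contra h1
  exact not_W hS h2 hu hC (zpowers_le.2 hw (mem_zpowers_of_prime (ho ▸ hp) h h1 (mem_zpowers u)))

theorem card_eq_pow {X : Subgroup G} (hX : X ≤ Q) (hK : ∀ k ∈ K a t, ∀ x ∈ X, k * x * k⁻¹ ∈ X)
    (hn : u ∈ normalizer (X : Set G)) (hd : ¬ p ∣ Nat.card X) :
    Nat.card X = Nat.card (X ⊓ centralizer {u} :) ^ p := by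
  obtain ⟨k, hk, h1⟩ := exists_K_ne hS h2
  have h3 : zpowers u ≤ normalizer (KK a t : Set G) := zpowers_le.2 (Solv.mem_normalizer_of_conj_mem
    fun x hx => (mem_KK hS h2).2 (K_conj hS h2 ((mem_KK hS h2).1 hx) hu.1))
  rw [← Solv.centralizer_zpowers, ← ho, ← Nat.card_zpowers]
  refine BG.card_eq_pow_of_fpf (K := KK a t) h3 (fun r hr h4 => eq_bot_iff.2 fun x hx => ?_)
    (have := Solv.isNilpotent_of_le hX (nilpotent_Q hS h2); inferInstance)
    (Solv.le_normalizer_of_conj_mem fun k hk => hK k ((mem_KK hS h2).1 hk)) (zpowers_le.2 hn)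
    (BG.coprime_card_sup h3 ?_ (by rwa [Nat.card_zpowers, ho, hp.coprime_iff_not_dvd]))
    (eq_bot_iff.2 ((inf_le_inf hX (Subgroup.centralizer_le (Set.singleton_subset_iff.2
      (subset_closure hk)))).trans (K_fpf hS hk h1).le))
  · obtain ⟨n, rfl⟩ := hr
    exact K_C hS h2 hu hC ((mem_KK hS h2).1 hx.1) (commute_of_pow_prime (ho ▸ hp) h4
      (mem_centralizer_singleton'.1 hx.2).symm)
  · refine Nat.Coprime.coprime_dvd_left (dvd_card_sub hS h2 hX hK) ?_
    obtain ⟨m, hm⟩ := Nat.exists_eq_add_one_of_ne_zero (Nat.card_pos (α := X)).ne'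
    simp [hm]

theorem p_ne_two : p ≠ 2 := fun e => by
  have := odd_of_mem_D hS hu.1
  rw [ho, e] at this
  exact absurd this (by decide)

theorem card_Q0_eq : Nat.card (Q0 G a) = 2 ^ p := by
  obtain ⟨⟨s, r⟩, ⟨hs, hr, e⟩, -⟩ := structure_eq hS
  obtain ⟨n, -, hn⟩ := exists_card_Q0 hS h2
  have h3 := (V_commute_s hS hs hr e hu).1
  rw [card_eq_pow hS h2 hu hC hp ho (Q0_le hS) (fun k hk x => conj_mem_of_mem_normalizer
    (H_le_normalizer_Q0 hk.1.1)) (H_le_normalizer_Q0 hu.1.1) fun h => p_ne_two hS h2 hu hC hp ho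
    ((Nat.prime_dvd_prime_iff_eq hp Nat.prime_two).1 (hp.dvd_of_dvd_pow (hn ▸ h))),
    show Q0 G a ⊓ centralizer {u} = zpowers s from le_antisymm (fun x hx => ?_)
      (zpowers_le.2 ⟨subset_closure hs, mem_centralizer_singleton'.2 h3.symm⟩), Nat.card_zpowers,
    (mem_invol.1 hs).2]
  rcases (mem_Q0 hS h2).1 hx.1 with e | e
  · exact e ▸ one_mem _
  · exact uniq_C hS h2 hu hC hs e h3 (mem_centralizer_singleton'.1 hx.2).symm ▸ mem_zpowers _

theorem conj_eq (g : G) (h : g * u * g⁻¹ ∈ zpowers u) : g * u * g⁻¹ = u := by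
  obtain ⟨v, hv, e⟩ := conj_V hS (X := {u}) (Set.singleton_subset_iff.2 hu) (g := g) (by
    simpa using zpowers_le.2 hu h)
  rw [Set.image_singleton, Set.image_singleton, Set.singleton_eq_singleton_iff] at e
  obtain ⟨w, hw, n, rfl⟩ := V_W hS h2 hu hC hv
  rw [← e, show w * u ^ n * u * (w * u ^ n)⁻¹ = w * u * w⁻¹ by group] at h ⊢
  refine mul_inv_eq_one.1 (W_inf hS h2 hu hC hp ho ?_ (mul_mem h (inv_mem (mem_zpowers u))))
  rw [W_eq' hS] at hw ⊢
  simpa [mul_assoc] using mul_mem hw (conj_mem_of_mem_normalizer (Solv.le_normalizer_inf le_normalizer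
    (inf_le_left.trans (H_le_normalizer_Q0.trans (Solv.normalizer_le_normalizer_centralizer _))) hu.1)
    (inv_mem hw))

theorem dvd_Q [IsSimpleGroup G] : p ∣ Nat.card Q + 1 := by
  have := Fact.mk hp
  by_contra h
  obtain ⟨S, h3, h4⟩ := Comp.exists_sylIn_ge (Comp.isPGroup_zpowers_of_orderOf_eq ho)
    (zpowers_le.2 hu.1.1 : _ ≤ stabilizer G a)
  have := pretrans hS
  have h5 := h4.trans_of_not_dvd le_top (by rwa [relIndex_top_right, index_stabilizer_of_transitive, card_Ω hS])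
  have h6 : D a t ≤ normalizer (centralizer (Q0 G a : Set G) : Set G) :=
    inf_le_left.trans (H_le_normalizer_Q0.trans (Solv.normalizer_le_normalizer_centralizer _))
  have h7 : Q ≤ centralizer (Q0 G a : Set G) ⊔ KK a t := fun x hx =>
    mem_sup_left fun y hy => Q0_central hS h2 hy hx
  have h8 : ∀ x ∈ stabilizer G a, ∃ y ∈ centralizer (Q0 G a : Set G) ⊔ KK a t, ∃ n : ℤ, x = y * u ^ n :=
    fun x hx => by
      obtain ⟨y, hy, d, hd, rfl⟩ := exists_mul hS hx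
      obtain ⟨k, hk, v, hv, rfl⟩ := exists_KV hS hd
      obtain ⟨w, hw, n, rfl⟩ := V_W hS h2 hu hC hv
      exact ⟨y * k * w, mul_mem (mul_mem (h7 hy) (mem_sup_right (subset_closure hk)))
        (mem_sup_left ((W_eq' hS).le hw).2), n, by group⟩
  have h9 : zpowers u ≤ normalizer ((centralizer (Q0 G a : Set G) ⊔ KK a t :) : Set G) :=
    Solv.le_normalizer_sup (zpowers_le.2 (h6 hu.1)) (zpowers_le.2 (Solv.mem_normalizer_of_conj_mem
      fun x hx => (mem_KK hS h2).2 (K_conj hS h2 ((mem_KK hS h2).1 hx) hu.1)))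
  obtain ⟨c, hc, k, hk, e⟩ := (Solv.mem_sup_of_le_normalizer' ((KK_le hS h2).trans h6)).1
    (BG.focal_le h5 (fun x hx g _ hg => fusion_mem hS h7 (fun k hk => mem_sup_right (subset_closure hk))
      (fun x hx y hy => by
        replace hx := h8 x hx
        replace hy := h8 y hy
        obtain ⟨x, hx, i, rfl⟩ := hx
        obtain ⟨y, hy, j, rfl⟩ := hy
        rw [show x * u ^ i * (y * u ^ j) * (x * u ^ i)⁻¹ * (y * u ^ j)⁻¹ =
          x * (u ^ i * y * (u ^ i)⁻¹) * (u ^ j * x⁻¹ * (u ^ j)⁻¹) * y⁻¹ by group]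
        exact mul_mem (mul_mem (mul_mem hx (conj_mem_of_mem_normalizer (h9 ⟨i, rfl⟩) hy))
          (conj_mem_of_mem_normalizer (h9 ⟨j, rfl⟩) (inv_mem hx))) (inv_mem hy)) (h4.le hx) (h4.le hg))
      ⟨h3 (mem_zpowers u), (comm_top hS h2).ge trivial⟩)
  have h10 : c ∈ W a t := (W_eq' hS).ge (mem_inf.2 ⟨eq_mul_inv_of_mul_eq e.symm ▸ mul_mem (mem_inf.1 hu).1
    (inv_mem (KK_le hS h2 hk)), hc⟩)
  rw [eq_one_of_V_K hS (eq_inv_mul_of_mul_eq e.symm ▸ mul_mem (inv_mem h10.1) hu) ((mem_KK hS h2).1 hk),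
    mul_one] at e
  exact not_W hS h2 hu hC (e ▸ h10)

variable [IsSimpleGroup G]

theorem card_eq_pow' {X : Subgroup G} (hX : X ≤ Q) (hK : ∀ k ∈ K a t, ∀ x ∈ X, k * x * k⁻¹ ∈ X)
    (hn : u ∈ normalizer (X : Set G)) : Nat.card X = Nat.card (X ⊓ centralizer {u} :) ^ p :=
  card_eq_pow hS h2 hu hC hp ho hX hK hn fun h => hp.not_dvd_one ((Nat.dvd_add_right
    (h.trans (card_dvd_of_le hX))).1 (dvd_Q hS h2 hu hC hp ho))

theorem card_Q_eq : Nat.card Q = Nat.card (Q ⊓ centralizer {u} :) ^ p :=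
  card_eq_pow' hS h2 hu hC hp ho le_rfl (fun k hk => hS.conj_mem k hk.1.1) (H_le_normalizer hS hu.1.1)

theorem dvd_U : p ∣ Nat.card (Q ⊓ centralizer {u} :) + 1 :=
  (dvd_pow_add_iff hp _).1 (card_Q_eq hS h2 hu hC hp ho ▸ dvd_Q hS h2 hu hC hp ho)

theorem card_C_W (hw : w ∈ W a t) (h : Commute w u) : Nat.card (Q ⊓ centralizer {w} :) =
    Nat.card (Q ⊓ centralizer {w} ⊓ centralizer {u} :) ^ p :=
  card_eq_pow' hS h2 hu hC hp ho inf_le_left (fun k hk x hx => mem_inf.2 ⟨hS.conj_mem k hk.1.1 x hx.1,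
    mul_mem (mul_mem (mem_centralizer_singleton'.2 (hw.2 k hk)) (mem_inf.1 hx).2)
      (inv_mem (mem_centralizer_singleton'.2 (hw.2 k hk)))⟩) (Solv.mem_normalizer_of_conj_mem fun x hx =>
    mem_inf.2 ⟨hS.conj_mem u hu.1.1 x hx.1, mul_mem (mul_mem (mem_centralizer_singleton'.2 h.symm)
      (mem_inf.1 hx).2) (inv_mem (mem_centralizer_singleton'.2 h.symm))⟩)

variable [FaithfulSMul G Ω]

theorem mem_of_fix (hd : Commute d u) (h : ∀ c : Ω, u • c = c → d • c = c) : d ∈ zpowers u := by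
  have hD : d ∈ D a t := ⟨h _ hu.1.1, h _ hu.1.2⟩
  have h3 : ∀ x ∈ Q ⊓ centralizer {u}, Commute d x := fun x hx =>
    commute_iff_conj.2 (Q_inj hS (hS.conj_mem d hD.1 x hx.1) hx.1 (ta_ne hS) (by
      rw [mul_smul, mul_smul, show d⁻¹ • t • a = t • a from (inv_mem hD).2, h]
      rw [← mul_smul, ← (mem_centralizer_singleton'.1 hx.2).eq, mul_smul, hu.1.2]))
  obtain ⟨⟨s, r⟩, ⟨hs, hr, e⟩, -⟩ := structure_eq hS
  obtain ⟨w, hw, n, rfl⟩ := V_W hS h2 hu hC (mem_V_of_commute_s hS hs hr e hD (h3 s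
    ⟨I_Q hS hs, mem_centralizer_singleton'.2 (V_commute_s hS hs hr e hu).1.symm⟩))
  have h4 := card_C_W hS h2 hu hC hp ho hw (by
    simpa using hd.mul_left ((Commute.refl u).zpow_left n).inv_left)
  rw [show Q ⊓ centralizer {w} ⊓ centralizer {u} = Q ⊓ centralizer {u} from le_antisymm
    (inf_le_inf_right _ inf_le_left) fun x hx => ⟨⟨hx.1, mem_centralizer_singleton'.2 (by
      simpa using (h3 x hx).symm.mul_right ((mem_centralizer_singleton'.1 hx.2).zpow_right n).inv_right)⟩,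
      hx.2⟩, ← card_Q_eq hS h2 hu hC hp ho] at h4
  rw [eq_one_of_fix_all hS hw.1.1 fun x hx => (mem_centralizer_singleton'.1
    ((eq_of_le_of_card_ge inf_le_left h4.ge).ge hx).2).symm, one_mul]
  exact ⟨n, rfl⟩

theorem exists_RD : ∃ R m, RD a u Q R p m := by
  obtain ⟨⟨s, r⟩, ⟨hs, hr, e⟩, -⟩ := structure_eq hS
  dsimp only at hs hr e
  have hS' := setup_C hS hu
  have hL : centralizer {u} ≤ normalizer (zpowers u : Set G) :=
    Solv.centralizer_zpowers u ▸ centralizer_le_normalizer _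
  have hs' : s ∈ centralizer {u} := mem_centralizer_singleton'.2 (V_commute_s hS hs hr e hu).1.symm
  have hu' : u ∈ centralizer {u} := mem_centralizer_singleton'.2 (Commute.refl u)
  have h3 := zstar (isolated_of_uniq (fun x y hx hy h => by_contra fun h' => hC ⟨x, y, ne_one_of_orderOf hx,
    ne_one_of_orderOf hy, h', mul_self_of_orderOf hx, mul_self_of_orderOf hy, h⟩)
    (orderOf_eq_two (x := (⟨s, hs'⟩ : centralizer {u})) (Subtype.ext hs.2.2) fun e =>
      hs.2.1 (congrArg Subtype.val e))) ⟨t, mem_centralizer_singleton'.2 (V_commute hu).symm⟩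
  have := Solv.normal_of_le_center (C := zpowers (⟨u, hu'⟩ : centralizer {u})) (zpowers_le.2
    (mem_center_iff.2 fun g => Subtype.ext (mem_centralizer_singleton'.1 g.2)))
  obtain ⟨R, h4, hR⟩ := BG.exists_chief_above ((Comp.normal_iff_map_subtype (oddCore (centralizer {u}))).1
    inferInstance) hL (lt_of_le_of_ne (zpowers_le.2 ⟨⟨u, hu'⟩, le_oddCore (N := zpowers ⟨u, hu'⟩) (by
      rw [Nat.card_zpowers, ← orderOf_coe]; exact odd_of_mem_D hS hu.1) (mem_zpowers _), rfl⟩) fun e => by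
      have := fix_P (e.ge ⟨_, h3, rfl⟩) hu.1.1
      change (s * t * s⁻¹ * t⁻¹) • a = a at this
      rw [inv_t hS, inv_eq_of_mul_eq_one_right hs.2.2, mul_assoc, mul_assoc, ← mul_assoc t, mul_smul] at this
      exact smul_ne hS hs.1 (tst_ne hS (I_Q hS hs) hs.2.1) this)
  have hRL := h4.trans (map_subtype_le _)
  have hsol : Group.IsSolvable R := PF.odd_solvable (Odd.of_dvd_nat (by
    rw [card_map_of_injective (subtype_injective _)]; exact odd_card_oddCore) (card_dvd_of_le h4))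
  have h5 : ∀ x ∈ R, ∀ y ∈ R, x * y * x⁻¹ * y⁻¹ ∈ zpowers u := fun x hx y hy =>
    hR.commutator_le (hRL.trans hL) hsol (commutator_mem_commutator hx hy)
  have h6 : ∀ c, u • c = c → ∃ x ∈ R, x • a = c := fun c hc => by
    by_cases h : c = a
    · exact ⟨1, one_mem _, by simp [h]⟩
    obtain ⟨x, hx, h6⟩ := SetLike.exists_of_lt hR.lt
    obtain ⟨b, hb, h7⟩ : ∃ b : Ω, u • b = b ∧ x • b ≠ b := by
      by_contra! h7
      exact h6 (mem_of_fix hS h2 hu hC hp ho (mem_centralizer_singleton'.1 (hRL hx)) h7)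
    obtain ⟨y, h8, h9⟩ := two hS' (b := ⟨b, hb⟩) (c := ⟨_, fix_C (hRL hx) hb⟩) (b' := ⟨a, hu.1.1⟩)
      (c' := ⟨c, hc⟩) (fun e => h7 (congrArg Subtype.val e).symm) fun e => h (congrArg Subtype.val e).symm
    refine ⟨_, conj_mem_of_mem_normalizer (hR.nU y.2) hx, ?_⟩
    rw [mul_smul, mul_smul, ← show (y : G) • b = a from congrArg Subtype.val h8, inv_smul_smul]
    exact congrArg Subtype.val h9
  have h7 : ∀ l ∈ centralizer {u}, (∀ x ∈ R, l * x * l⁻¹ * x⁻¹ ∈ zpowers u) → l • a = a → l ∈ zpowers u :=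
    fun l hl h h' => mem_of_fix hS h2 hu hC hp ho (mem_centralizer_singleton'.1 hl) fun c hc => by
      obtain ⟨x, hx, rfl⟩ := h6 c hc
      conv_rhs => rw [← fix_P (h x hx) hc, mul_smul, inv_smul_smul, mul_smul, inv_smul_eq_iff.2 h'.symm,
        mul_smul]
  have h8 : (zpowers u).relIndex R = Nat.card (Q ⊓ centralizer {u} :) + 1 := by
    rw [← Solv.card_subgroupOf, ← card_Ω hS', relIndex, show (zpowers u).subgroupOf R = stabilizer R a from
      Subgroup.ext fun x => ⟨fun h => fix_P (x := (x : G)) h hu.1.1, h7 x (hRL x.2) (h5 x x.2)⟩, index_stabilizer,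
      show orbit R a = fixS Ω u from Set.ext fun c => ⟨fun ⟨x, e⟩ => e ▸ fix_C (hRL x.2) hu.1.1, fun h =>
        (h6 c h).elim fun x hx => ⟨⟨x, hx.1⟩, hx.2⟩⟩]
    rfl
  obtain ⟨q, hq, h9⟩ := hR.exists_piN (hRL.trans hL) hsol
  obtain rfl : p = q := h9 p hp (h8 ▸ dvd_U hS h2 hu hC hp ho)
  have := Fact.mk hp
  obtain ⟨m, hm⟩ := (BG.piN_singleton (h8 ▸ Nat.succ_ne_zero _)).1 h9
  obtain ⟨q, hq, h10, h11⟩ := hR.exists_prime (hRL.trans hL) hsol
  obtain rfl : q = p := h9 q hq h10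
  exact ⟨R, m, hR, hRL, by rw [← Solv.card_mul_relIndex hR.lt.le, Nat.card_zpowers, ho, hm, pow_succ'],
    h8 ▸ hm, h5, h11, h6, h7⟩

end Cfsg.Agent.RankOne
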