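import Cfsg.Agent.Lib.Char.RankOne15

/-!
The split rank-one set-up: end of the first case, and the structure of `Q` in general.
-/

set_option autoImplicit false
set_option linter.unusedSectionVars false
set_option linter.style.haveILetI false

namespace Cfsg.Agent.RankOne

open MulAction Subgroup Cfsg.Agent.Perm Cfsg.Agent.Transfer

variable {G Ω : Type*} [Group G] [Finite G] [MulAction G Ω] {a : Ω} {t : G} {Q R : Subgroup G}
  {x y z s r k d u v w : G} {p m : ℕ}

variable (hS : IsRankOneSetup G Ω a t Q) (h2 : R2 G) (hu : u ∈ V a t)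
include hS h2 hu

theorem V_le_normalizer_W : u ∈ normalizer (W a t : Set G) := by
  rw [W_eq' hS]
  exact Solv.le_normalizer_inf le_normalizer
    (inf_le_left.trans (H_le_normalizer_Q0.trans (Solv.normalizer_le_normalizer_centralizer _))) hu.1

theorem RD.pow_le (hR : RD a u Q R p m) (hp : p.Prime) (hp2 : p ≠ 2) (ho : orderOf u = p) (hw : w ∈ D a t)
    (hw' : Commute w u) (hwp : w ^ p = 1) :
    p ^ m ≤ (Nat.card (Q ⊓ centralizer {w} ⊓ centralizer {u} :) + 1) ^ p := by
  have hwL := mem_centralizer_singleton'.2 hw'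
  have : ((zpowers u).subgroupOf R).Normal := normal_subgroupOf_of_le_normalizer (hR.le.trans hR.chief.nV)
  let _ : CommGroup (R ⧸ (zpowers u).subgroupOf R) :=
    { (inferInstance : Group (R ⧸ (zpowers u).subgroupOf R)) with
      mul_comm := by
        rintro ⟨x⟩ ⟨y⟩
        exact QuotientGroup.eq.2 (by
          simpa [mem_subgroupOf, mul_assoc] using hR.comm _ (inv_mem y.2) _ (inv_mem x.2)) }
  let ψ := R.normalizerMonoidHom ⟨w, hR.chief.nU hwL⟩
  let φ : AddMonoid.End (Additive (R ⧸ (zpowers u).subgroupOf R)) := MonoidHom.toAdditive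
    (QuotientGroup.map _ _ ψ.toMonoidHom fun x hx => conj_mem_of_mem_normalizer (hR.chief.nV hwL) hx)
  have h3 : ∀ (k : ℕ) (x : R), (φ ^ k) (.ofMul (x : R ⧸ _)) = .ofMul ((ψ ^ k) x : R ⧸ _) := fun k => by
    induction k with
    | zero => exact fun _ => rfl
    | succ k ih => exact fun x => by rw [pow_succ, pow_succ]; exact ih (ψ x)
  have h4 := card_le_pow_fixed hp hp2 (by
    rintro ⟨x⟩
    exact (QuotientGroup.eq_one_iff (x ^ p)).2 (hR.pow x x.2)) φ (AddMonoidHom.ext (by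
      rintro ⟨x⟩
      refine (h3 p x).trans ?_
      rw [← map_pow, show (⟨w, hR.chief.nU hwL⟩ : normalizer (R : Set G)) ^ p = 1 from Subtype.ext hwp,
        map_one]
      rfl))
  have h5 : Nat.card (Additive (R ⧸ (zpowers u).subgroupOf R)) = p ^ m := by
    have := Solv.card_mul_relIndex hR.chief.lt.le
    rw [Nat.card_zpowers, ho, hR.card, pow_succ'] at this
    exact Nat.eq_of_mul_eq_mul_left hp.pos this
  refine h5 ▸ h4.trans (Nat.pow_le_pow_left ?_ _)
  have h6 : ∀ A : {A // φ A = A}, ∃ o : Option (Q ⊓ centralizer {w} ⊓ centralizer {u} :),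
      (o.elim a fun y => (y : G) • t • a) = (A.1.toMul.out : G) • a := fun A => by
    by_cases h : (A.1.toMul.out : G) • a = a
    · exact ⟨none, h.symm⟩
    have h6 := fix_C (hR.le A.1.toMul.out.2) hu.1.1
    obtain ⟨y, hy, e⟩ := exists_CQ hS (X := {w, u}) (Set.insert_subset hw (Set.singleton_subset_iff.2 hu.1))
      (ta_ne hS) h (by rintro _ (rfl | rfl); exacts [hw.2, hu.1.2]) (by
        rintro _ (rfl | rfl)
        swap
        · exact h6
        have h7 : ((ψ A.1.toMul.out : R) : R ⧸ (zpowers u).subgroupOf R) = (A.1.toMul.out : R) := by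
          have := h3 1 A.1.toMul.out
          rw [QuotientGroup.out_eq', pow_one, pow_one, ofMul_toMul, A.2] at this
          rw [QuotientGroup.out_eq']
          exact (congrArg Additive.toMul this).symm
        have h8 := fix_P (x := (_ * _ * _)⁻¹ * (A.1.toMul.out : G))
          (mem_subgroupOf.1 (QuotientGroup.eq.1 h7)) hu.1.1
        rw [mul_smul, inv_smul_eq_iff, mul_smul, mul_smul] at h8
        exact (congrArg _ (congrArg _ (inv_mem hw).1.symm)).trans h8.symm)
    exact ⟨some ⟨y, ⟨hy.2, Subgroup.centralizer_le (by simp) hy.1⟩, Subgroup.centralizer_le (by simp) hy.1⟩, e⟩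
  choose F hF using h6
  rw [← Finite.card_option]
  refine Nat.card_le_card_of_injective F fun A B e => Subtype.ext (Additive.toMul.injective ?_)
  rw [← QuotientGroup.out_eq' A.1.toMul, ← QuotientGroup.out_eq' B.1.toMul, QuotientGroup.eq]
  rw [mem_subgroupOf]
  refine hR.reg _ (hR.le (Subtype.prop _)) (hR.comm _ (Subtype.prop _)) ?_
  rw [coe_mul, mul_smul, ← hF, ← e, hF, coe_inv, inv_smul_smul]

variable (hC : ¬ R2 (centralizer {u})) (hp : p.Prime) (ho : orderOf u = p) [IsSimpleGroup G]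
  [FaithfulSMul G Ω]
include hC hp ho

theorem dvd_W : p ∣ Nat.card (W a t) := by
  by_contra h
  obtain ⟨R, m, hR⟩ := exists_RD hS h2 hu hC hp ho
  obtain ⟨⟨s, r⟩, ⟨hs, hr, e⟩, -⟩ := structure_eq hS
  have := Fact.mk hp
  have hp2 := p_ne_two hS h2 hu hC hp ho
  have hV : Nat.card (V a t) = p * Nat.card (W a t) := by
    rw [← ho, ← Nat.card_zpowers, ← Solv.card_sup_of_disjoint (zpowers_le.2 (V_le_normalizer_W hS h2 hu))
      (eq_bot_iff.2 fun x hx => W_inf hS h2 hu hC hp ho hx.2 hx.1), show zpowers u ⊔ W a t = V a t from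
      le_antisymm (sup_le (zpowers_le.2 hu) inf_le_left) fun v hv => ?_]
    obtain ⟨w, hw, n, rfl⟩ := V_W hS h2 hu hC hv
    exact mul_mem (mem_sup_right hw) (mem_sup_left ⟨n, rfl⟩)
  have hK : ¬ p ∣ Nat.card (K a t) := fun h => by
    have h4 := card_Q0 hS h2
    rw [card_Q0_eq hS h2 hu hC hp ho, card_KK hS h2] at h4
    have h5 := congrArg (Nat.cast : ℕ → ZMod p) h4
    rw [Nat.cast_pow, ZMod.pow_card, Nat.cast_add, (ZMod.natCast_eq_zero_iff _ _).2 h, Nat.cast_succ] at h5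
    simp at h5
  have hD : Nat.card (D a t) = p * (Nat.card (W a t) * Nat.card (K a t)) := by
    rw [card_D hS, hV, mul_assoc]
  have hWK : ¬ p ∣ Nat.card (W a t) * Nat.card (K a t) := fun h' => ((Nat.Prime.dvd_mul hp).1 h').elim h hK
  have hU : ¬ p ∣ Nat.card (Q ⊓ centralizer {u} :) := fun h => hp.not_dvd_one
    ((Nat.dvd_add_right h).1 (dvd_U hS h2 hu hC hp ho))
  refine not_perfect hp ho (conj_eq hS h2 hu hC hp ho) hp2 hR.chief hR.le hR.card (fun h => ?_) ?_
    inf_le_right hR.cardU (fun z hz x hx h => ?_) ⟨I_Q hS hs, mem_centralizer_singleton'.2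
      (V_commute_s hS hs hr e hu).1.symm⟩ hs.2.1 hs.2.2 (fun l hl h => ?_) (comm_top hS h2)
  · have h3 := card_G (setup_C hS hu)
    rw [← Solv.card_mul_relIndex hR.le, hR.card, Solv.card_subgroupOf, hR.cardU, pow_succ', mul_right_comm,
      Nat.mul_left_inj (pow_ne_zero _ hp.ne_zero)] at h3
    refine hWK (Nat.dvd_of_mul_dvd_mul_left hp.pos (hD ▸ (Nat.Coprime.dvd_of_dvd_mul_left
      (Nat.Coprime.mul_left (hp.coprime_iff_not_dvd.2 hU) (hp.coprime_iff_not_dvd.2 hU))
      (h3 ▸ Nat.mul_dvd_mul_left p h)).trans ?_))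
    exact card_dvd_of_injective (((centralizer {u}).subtype.comp (Subgroup.subtype _)).codRestrict (D a t)
      fun x => ⟨congrArg Subtype.val x.2.1, congrArg Subtype.val x.2.2⟩)
      fun x y e => Subtype.ext (Subtype.ext (Subtype.ext_iff.1 e :))
  · have h3 := padicValNat.pow_add_pow (p := p) (hp.odd_of_ne_two hp2) (dvd_U hS h2 hu hC hp ho) hU
      (hp.odd_of_ne_two hp2)
    rw [one_pow, ← card_Q_eq hS h2 hu hC hp ho, hR.cardU, padicValNat.prime_pow, padicValNat_self] at h3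
    rw [Nat.factorization_def _ hp, card_G hS, padicValNat.mul (mul_ne_zero Nat.card_pos.ne' Nat.card_pos.ne')
      (by omega), h3, padicValNat.mul Nat.card_pos.ne' Nat.card_pos.ne', hD, padicValNat.mul hp.ne_zero
      (fun e => hWK (by rw [e]; simp)), padicValNat_self, padicValNat.eq_zero_of_not_dvd hWK,
      padicValNat.eq_zero_of_not_dvd fun h => hU (hp.dvd_of_dvd_pow (card_Q_eq hS h2 hu hC hp ho ▸ h))]
    omega
  · by_cases h3 : x • a = a
    · exact Or.inr (hR.reg x (hR.le hx) (hR.comm x hx) h3)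
    refine Or.inl (eq_one_of_fix hS hz.1 h3 ?_)
    conv_rhs => rw [← fix_P h (fix_C (hR.le hx) hu.1.1), mul_smul, inv_smul_smul, mul_smul,
      Q_smul hS (inv_mem (mem_inf.1 hz).1), mul_smul]
  · obtain ⟨y, hy, h3⟩ := hR.tr _ (fix_C hl hu.1.1)
    simpa using mul_mem hy (hR.chief.lt.le (hR.reg (y⁻¹ * l) (mul_mem (inv_mem (hR.le hy)) hl) (fun x hx => by
      simpa [mul_assoc] using mul_mem (conj_mem_of_mem_normalizer (hR.chief.nV (hR.le (inv_mem hy))) (h x hx))
        (hR.comm _ (inv_mem hy) x hx)) (by rw [mul_smul, ← h3, inv_smul_smul])))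

theorem st_of_not_R2 (ih : ∀ u ∈ V a t, u ≠ 1 → R2 (centralizer {u}) → St a t Q (centralizer {u})) :
    St a t Q ⊤ := by
  have := Fact.mk hp
  have hp2 := p_ne_two hS h2 hu hC hp ho
  obtain ⟨S, h3, h4⟩ := Comp.exists_sylIn_ge (Comp.isPGroup_zpowers_of_orderOf_eq ho) (zpowers_le.2 hu)
  have h5 : S ≤ normalizer (W a t : Set G) := fun v hv => V_le_normalizer_W hS h2 (h4.le hv)
  obtain ⟨w, hw, hwo, h6⟩ := Comp.exists_fixed_orderOf (Comp.isPGroup_zpowers_of_orderOf_eq ho)
    (h4.isP.to_inf_left (K := W a t)) (h3.trans (Solv.le_normalizer_inf le_normalizer h5))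
    fun e => (h4.inf_normal inf_le_left h5).eq_bot_iff.1 e (dvd_W hS h2 hu hC hp ho)
  replace hw := hw.2
  replace h6 := (mem_centralizer_singleton'.1 (h6 (mem_zpowers u))).symm
  have hw1 := Solv.ne_one_of_orderOf_prime (hwo ▸ hp)
  refine st_of_W hS h2 ?_ fun e => hw1 (e.le hw)
  obtain ⟨R, m, hR⟩ := exists_RD hS h2 hu hC hp ho
  obtain ⟨⟨s, r⟩, ⟨hs, hr, e⟩, -⟩ := structure_eq hS
  dsimp only at hs hr e
  have h7 : R2 (centralizer {w}) := by
    obtain ⟨x, hx, y, hy, h7, h8⟩ := exists_four hS h2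
    exact ⟨⟨x, mem_centralizer_singleton'.2 (W_commute hS hw (subset_closure hx)).symm⟩,
      ⟨y, mem_centralizer_singleton'.2 (W_commute hS hw (subset_closure hy)).symm⟩,
      fun e => hx.2.1 (congrArg Subtype.val e), fun e => hy.2.1 (congrArg Subtype.val e),
      fun e => h7 (congrArg Subtype.val e), Subtype.ext hx.2.2, Subtype.ext hy.2.2, Subtype.ext h8⟩
  have h8 := ih w hw.1 hw1 h7
  have h9 := card_le_cube hS h2 hw.1 h7 h8
  rw [card_C_W hS h2 hu hC hp ho hw h6, card_Q0_eq hS h2 hu hC hp ho] at h9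
  obtain ⟨j, hj⟩ := IsPGroup.iff_card.1 (h8.1.to_inf_left (K := centralizer {u}))
  have hN : ∀ π, stabilizer G a ≤ normalizer (BG.Opi π Q : Set G) := fun π =>
    BG.le_normalizer_Opi (H_le_normalizer hS)
  have hO : ∀ π, Nat.card (BG.Opi π Q) = Nat.card (BG.Opi π Q ⊓ centralizer {u} :) ^ p := fun π =>
    card_eq_pow' hS h2 hu hC hp ho (BG.Opi_le _ _) (fun k hk x => conj_mem_of_mem_normalizer (hN π hk.1.1))
      (hN π hu.1.1)
  obtain ⟨n, hn⟩ := IsPGroup.iff_card.1 ((BG.isPi_singleton.1 (BG.isPi_Opi {2} Q)).to_inf_left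
    (K := centralizer {u}))
  have h10 := Solv.card_sup_of_disjoint (BG.le_normalizer_Opi_of_le (BG.Opi_le {2} Q))
    (BG.Opi_inf_Opi_compl {2} Q)
  rw [BG.Opi_sup_Opi_compl (nilpotent_Q hS h2), hO, hO, ← mul_pow, hn, card_Q_eq hS h2 hu hC hp ho,
    Nat.pow_left_inj hp.ne_zero] at h10
  have hwP := Comp.isPGroup_zpowers_of_orderOf_eq hwo
  have hwC : zpowers w ≤ normalizer (centralizer {u} : Set G) :=
    zpowers_le.2 (le_normalizer (mem_centralizer_singleton'.2 h6))
  have h11 := Solv.card_modEq_card_inf_centralizer hwP (Solv.le_normalizer_inf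
    (zpowers_le.2 (H_le_normalizer hS hw.1.1.1)) hwC)
  have h12 := Solv.card_modEq_card_inf_centralizer hwP (Solv.le_normalizer_inf
    (zpowers_le.2 (hN {2}ᶜ hw.1.1.1)) hwC)
  rw [Solv.centralizer_zpowers, inf_right_comm] at h11 h12
  rw [show BG.Opi {2}ᶜ Q ⊓ centralizer {w} = ⊥ from BG.IsPi.eq_bot_of_isPGroup
    ((BG.isPi_Opi _ Q).of_le inf_le_left) (h8.1.to_le (inf_le_inf_right _ (BG.Opi_le _ _))) (by simp),
    bot_inf_eq, card_bot] at h12
  have h13 := arith_B hp hj (Finite.one_lt_card_iff_nontrivial.2 ((nontrivial_iff_ne_bot _).2 fun e =>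
      hs.2.1 (e.le ⟨⟨I_Q hS hs, mem_centralizer_singleton'.2 (W_commute hS hw (subset_closure hs)).symm⟩,
        mem_centralizer_singleton'.2 (V_commute_s hS hs hr ‹_› hu).1.symm⟩))) h9
    ((h11.add_right 1).dvd_iff dvd_rfl |>.1 (dvd_U hS h2 hu hC hp ho))
    (hR.pow_le hS h2 hu hp hp2 ho hw.1.1 h6 (hwo ▸ pow_orderOf_eq_one w)) (h10 ▸ hR.cardU)
    (BG.isPi_compl_singleton.1 ((BG.isPi_Opi _ Q).of_le inf_le_left)) (by
      rw [← hO, ← card_Q0_eq hS h2 hu hC hp ho, card_Q0 hS h2, Nat.add_sub_cancel]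
      exact dvd_card_sub hS h2 (BG.Opi_le _ _) fun k hk x => conj_mem_of_mem_normalizer (hN _ hk.1.1))
    ((Nat.modEq_iff_dvd' Nat.card_pos).1 h12.symm)
    (h10 ▸ card_dvd_of_le (inf_le_inf_right _ inf_le_left))
  have h14 := hO {2}ᶜ
  rw [h13, one_pow, card_eq_one] at h14
  rw [← BG.Opi_sup_Opi_compl (nilpotent_Q hS h2) {2}, h14, sup_bot_eq]
  exact BG.isPi_singleton.1 (BG.isPi_Opi _ _)

end Cfsg.Agent.RankOne
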