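import Cfsg.Agent.Lib.Char.RankOne5
import Cfsg.Agent.Lib.Sz.Struct

/-!
The split rank-one set-up: identification of the Suzuki groups.
-/

set_option autoImplicit false
set_option linter.unusedSectionVars false
set_option linter.style.haveILetI false

namespace Cfsg.Agent.RankOne

open MulAction Subgroup Cfsg.Agent.Perm Cfsg.Agent.Transfer

variable {G Ω : Type*} [Group G] [Finite G] [MulAction G Ω] {a : Ω} {t : G} {Q : Subgroup G}
  {x y z s r k d : G}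

/-- Coordinates on a group `Q` of type A. -/
structure CoA (a : Ω) (t : G) (Q : Subgroup G) {F : Type*} [Field F] (φ : F ≃+* F) (π ξ χ : G → F) :
    Prop where
  add : ∀ x ∈ Q, ∀ y ∈ Q, π (x * y) = π x + π y
  mul : ∀ x ∈ Q, ∀ y ∈ Q, ξ (x * y) = ξ x + ξ y + φ (π x) * π y
  inj : ∀ x ∈ Q, ∀ y ∈ Q, π x = π y → ξ x = ξ y → x = y
  surj : ∀ c d, ∃ x ∈ Q, π x = c ∧ ξ x = d
  eqv : ∀ k ∈ K a t, ∀ x ∈ Q, π (k * x * k⁻¹) = χ k * π x ∧ ξ (k * x * k⁻¹) = χ k * φ (χ k) * ξ x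
  onto : ∀ c, c ≠ 0 → ∃ k ∈ K a t, χ k = c
  odd : Odd (orderOf φ)

theorem exists_xi {P K F : Type*} [Group P] [Finite P] [Group K] [MulDistribMulAction K P] [Field F]
    [Fintype F] [CharP F 2] {π ζ : P → F} {χ δ : K → F} (h : Hig.HS P K) {φ : F ≃+* F}
    (hπ : Hig.Sec ⊤ (Hig.Z P) π χ) (hζ : Hig.Sec (Hig.Z P) ⊥ ζ δ)
    (hq : ∀ x, ζ (x * x) = φ (π x) * π x) (hs : ∀ x : P, x * x ∈ Hig.Z P) (hK : Odd (Nat.card K)) :
    ∃ ξ : P → F, (∀ x y, ξ (x * y) = ξ x + ξ y + φ (π x) * π y) ∧ (∀ z ∈ Hig.Z P, ξ z = ζ z) ∧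
      ∀ (k : K) x, ξ (k • x) = χ k * φ (χ k) * ξ x := by
  choose ι h1 h2 using hζ.surj
  have h3 : ∀ z ∈ Hig.Z P, ι (ζ z) = z := fun z hz => inv_mul_eq_one.1 ((hζ.eq_iff (h1 _) hz).1 (h2 _))
  have h4 : ∀ c d, ι (c + d) = ι c * ι d := fun c d => by
    rw [← h3 _ (mul_mem (h1 c) (h1 d)), hζ.add _ (h1 c) _ (h1 d), h2, h2]
  have h5 : ∀ c, π (ι c) = 0 := fun c => (hπ.ker _ trivial).2 (h1 c)
  have h6 : ∀ x y, π (x * y) = π x + π y := fun x y => hπ.add x trivial y trivial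
  have h7 : ∀ c x, ι c * x = x * ι c := fun c x => (mem_center_iff.1 (h1 c).1 x).symm
  have h0 : ι 0 = 1 := by simpa using h4 0 0
  obtain ⟨ξ, h8, h9⟩ : ∃ ξ : P → F, (∀ c, ξ (ι c) = c) ∧
      ∀ x y, ξ (x * y) = ξ x + ξ y + φ (π x) * π y := by
    let _ : Add P := ⟨fun x y => x * y * ι (φ (π x) * π y)⟩
    let _ : Zero P := ⟨1⟩
    let _ : Neg P := ⟨id⟩
    have hadd : ∀ x y : P, x + y = x * y * ι (φ (π x) * π y) := fun _ _ => rfl
    have hxx : ∀ x : P, x + x = 0 := fun x => by rw [hadd, ← hq, h3 _ (hs x), h.mem_Z.1 (hs x)]; rfl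
    let _ : AddGroup P := AddGroup.ofLeftAxioms (fun x y z => by
      simp only [hadd, h6, h5, add_zero, map_add, add_mul, mul_add, h4, mul_assoc]
      rw [← mul_assoc (ι _) z, h7, h7 (φ (π y) * π z), mul_assoc, mul_assoc])
      (fun x => by rw [hadd]; change 1 * x * ι (φ (π 1) * π x) = x; simp [hπ.one, h0]) hxx
    let _ : AddCommGroup P := { (inferInstance : AddGroup P) with
      add_comm := fun x y => (neg_add_rev x y : x + y = y + x) }
    let _ : Module (ZMod 2) P := AddCommGroup.zmodModule fun x => (two_nsmul x).trans (hxx x)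
    let _ := ZMod.algebra F 2
    obtain ⟨ξ, hξ⟩ := ((AddMonoidHom.mk' ι fun c d => by
      rw [hadd, h4]; simp [h5, h0]).toZModLinearMap 2).exists_leftInverse_of_injective
      (LinearMap.ker_eq_bot.2 fun c d e => by rw [← h2 c, ← h2 d]; exact congrArg ζ e)
    have h8 : ∀ c, ξ (ι c) = c := DFunLike.congr_fun hξ
    exact ⟨ξ, h8, fun x y => by
      rw [← map_add, ← h8 (φ _ * _), ← map_add, hadd, hadd, h5, mul_zero, h0, mul_one, mul_assoc,
        h.mem_Z.1 (h1 _), mul_one]⟩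
  have := h.card_Z.2
  have := Fintype.ofFinite K
  have h10 : ∀ k, δ k = χ k * φ (χ k) := fun k => by
    obtain ⟨w, -, hw⟩ := hπ.surj 1
    have := hζ.eqv k _ (hs w)
    rw [smul_mul', hq, hq, hπ.eqv _ _ trivial, hw] at this
    simpa [mul_comm] using this.symm
  have h11 : ∀ k l, δ (k * l) = δ k * δ l := fun k l => by
    have := hζ.eqv (k * l) _ (h1 1)
    rw [mul_smul, hζ.eqv _ _ (hζ.inv _ _ (h1 1)), hζ.eqv _ _ (h1 1), h2] at this
    simpa using this.symm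
  have h12 : ∀ c : F, ∑ _k : K, c = c := fun c => by
    obtain ⟨m, hm⟩ := hK
    rw [Finset.sum_const, Finset.card_univ, ← Nat.card_eq_fintype_card, hm, add_nsmul, mul_nsmul,
      two_nsmul, CharTwo.add_self_eq_zero, one_nsmul]
    simp
  refine ⟨fun x => ∑ k : K, (δ k)⁻¹ * ξ (k • x), fun x y => ?_, fun z hz => ?_, fun l x => ?_⟩
  · rw [← h12 (φ _ * _), ← Finset.sum_add_distrib, ← Finset.sum_add_distrib]
    refine Finset.sum_congr rfl fun k _ => ?_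
    have := hζ.ne k
    rw [smul_mul', h9, hπ.eqv _ _ trivial, hπ.eqv _ _ trivial, map_mul]
    field_simp
    rw [h10]; ring
  · rw [← h12 (ζ z)]
    refine Finset.sum_congr rfl fun k _ => ?_
    rw [← h3 _ (hζ.inv k z hz), h8, hζ.eqv _ _ hz, inv_mul_cancel_left₀ (hζ.ne k)]
  · rw [Finset.mul_sum, ← h10]
    refine Fintype.sum_equiv (Equiv.mulRight l) _ _ fun k => ?_
    have := hζ.ne l
    have := hζ.ne k
    simp only [Equiv.coe_mulRight, h11, mul_smul]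
    field_simp

theorem exists_coA (hS : IsRankOneSetup G Ω a t Q) (h2 : R2 G) (hQ : IsPGroup 2 Q)
    (hn : ∃ x ∈ Q, ∃ y ∈ Q, x * y ≠ y * x) (hc : Nat.card Q = Nat.card (Q0 G a) ^ 2) :
    ∃ (F : Type) (_ : Field F) (_ : Fintype F) (_ : CharP F 2) (φ : F ≃+* F) (π ξ χ : G → F),
      Fintype.card F = Nat.card (Q0 G a) ∧ CoA a t Q φ π ξ χ := by
  classical
  let _ := actK hS h2
  have h := hs_Q hS h2 hQ
  have h8 := card_Z_eq hS h2 hQ
  obtain ⟨F, _, _, _, φ, π, ζ, χ, δ, h9, -, h3, h10, h11, h12⟩ :=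
    h.exists_typeA (na_Q hn) (by rw [hc, h8])
  obtain ⟨ξ, h4, h5, h6⟩ := exists_xi h h10 h11 h12 (h.sq_mem_Z (na_Q hn))
    (hS.odd_card.of_dvd_nat (card_dvd_of_le (KK_le hS h2)))
  refine ⟨F, inferInstance, inferInstance, inferInstance, φ, fun x => if h : x ∈ Q then π ⟨x, h⟩ else 0,
    fun x => if h : x ∈ Q then ξ ⟨x, h⟩ else 0, fun k => if h : k ∈ KK a t then χ ⟨k, h⟩ else 0,
    h9.trans h8, fun x hx y hy => ?_, fun x hx y hy => ?_, fun x hx y hy e1 e2 => ?_, fun c d => ?_,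
    fun k hk x hx => ?_, fun c hc => ?_, h3⟩
  · simp only [dif_pos hx, dif_pos hy, dif_pos (mul_mem hx hy)]
    exact h10.add ⟨x, hx⟩ trivial ⟨y, hy⟩ trivial
  · simp only [dif_pos hx, dif_pos hy, dif_pos (mul_mem hx hy)]
    exact h4 ⟨x, hx⟩ ⟨y, hy⟩
  · simp only [dif_pos hx, dif_pos hy] at e1 e2
    have h13 := (h10.eq_iff trivial trivial).1 e1
    have h14 := h4 ⟨x, hx⟩ (⟨x, hx⟩⁻¹ * ⟨y, hy⟩)
    rw [mul_inv_cancel_left, (h10.ker _ trivial).2 h13, mul_zero, add_zero, e2, left_eq_add,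
      h5 _ h13, h11.ker _ h13, mem_bot, inv_mul_eq_one] at h14
    exact congrArg Subtype.val h14
  · obtain ⟨x, -, rfl⟩ := h10.surj c
    obtain ⟨z, hz, e⟩ := h11.surj (d - ξ x)
    have h13 := (h10.ker _ trivial).2 hz
    refine ⟨_, (x * z).2, ?_⟩
    simp only [dif_pos (x * z).2, Subtype.coe_eta]
    rw [h10.add _ trivial _ trivial, h4, h13, h5 z hz, e]
    simp
  · have h13 := (mem_KK hS h2).2 hk
    simp only [dif_pos hx, dif_pos (hS.conj_mem k hk.1.1 x hx), dif_pos h13]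
    exact ⟨h10.eqv ⟨k, h13⟩ ⟨x, hx⟩ trivial, h6 ⟨k, h13⟩ ⟨x, hx⟩⟩
  · obtain ⟨k, rfl⟩ := h10.onto c hc
    exact ⟨k, (mem_KK hS h2).1 k.2, by simp only [dif_pos k.2]⟩

namespace CoA

variable {F : Type*} [Field F] [Finite F] [CharP F 2] {φ : F ≃+* F} {π ξ χ : G → F}
  (h : CoA a t Q φ π ξ χ)
include h

theorem scale {c : F} (hc : c ≠ 0) :
    CoA a t Q φ (fun x => c * π x) (fun x => c * φ c * ξ x) χ := by
  have h1 : c * φ c ≠ 0 := by simpa using hc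
  refine ⟨fun x hx y hy => by rw [h.add x hx y hy, mul_add], fun x hx y hy => by
    rw [h.mul x hx y hy, map_mul]; ring, fun x hx y hy e1 e2 => h.inj x hx y hy
    (mul_left_cancel₀ hc e1) (mul_left_cancel₀ h1 e2), fun c' d => ?_, fun k hk x hx => ?_, h.onto, h.odd⟩
  · obtain ⟨x, hx, e1, e2⟩ := h.surj (c' / c) (d / (c * φ c))
    exact ⟨x, hx, by rw [e1, mul_div_cancel₀ _ hc], by rw [e2, mul_div_cancel₀ _ h1]⟩
  · rw [(h.eqv k hk x hx).1, (h.eqv k hk x hx).2]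
    exact ⟨by ring, by ring⟩

theorem swap : CoA a t Q φ⁻¹ (fun x => φ (π x)) (fun x => ξ x + π x * φ (π x)) fun k => φ (χ k) := by
  have h1 : ∀ x, φ⁻¹ (φ x) = x := φ.symm_apply_apply
  refine ⟨fun x hx y hy => by rw [h.add x hx y hy, map_add], fun x hx y hy => ?_,
    fun x hx y hy e1 e2 => ?_, fun c d => ?_, fun k hk x hx => ?_, fun c hc => ?_, by simpa using h.odd⟩
  · rw [h.mul x hx y hy, h.add x hx y hy, map_add, h1]
    linear_combination (φ (π x) * π y) * CharTwo.two_eq_zero (R := F)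
  · have e3 := φ.injective e1
    exact h.inj x hx y hy e3 (by simpa [e3] using e2)
  · obtain ⟨x, hx, e1, e2⟩ := h.surj (φ.symm c) (d - φ.symm c * c)
    exact ⟨x, hx, by simp [e1], by simp [e1, e2]⟩
  · rw [(h.eqv k hk x hx).1, (h.eqv k hk x hx).2, map_mul, h1]
    exact ⟨rfl, by ring⟩
  · obtain ⟨k, hk, e⟩ := h.onto (φ.symm c) (by simpa using hc)
    exact ⟨k, hk, by simp [e]⟩

theorem π_one : π 1 = 0 := by simpa using h.add 1 (one_mem _) 1 (one_mem _)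

theorem ξ_one : ξ 1 = 0 := by simpa [h.π_one] using h.mul 1 (one_mem _) 1 (one_mem _)

theorem π_inv (hx : x ∈ Q) : π x⁻¹ = π x := by
  have := h.add x hx _ (inv_mem hx)
  rw [mul_inv_cancel, h.π_one] at this
  exact (CharTwo.add_eq_zero.1 this.symm).symm

theorem ξ_inv (hx : x ∈ Q) : ξ x⁻¹ = ξ x + φ (π x) * π x := by
  have := h.mul x hx _ (inv_mem hx)
  rw [mul_inv_cancel, h.ξ_one, h.π_inv hx] at this
  linear_combination (-1 : F) * this - (ξ x + φ (π x) * π x) * CharTwo.two_eq_zero (R := F)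

theorem D_inj {b c : F} (e : b * φ b = c * φ c) : b = c := by
  rcases eq_or_ne c 0 with rfl | hc
  · simpa using e
  have h1 : φ (b / c) = (b / c)⁻¹ := by
    have hb : b ≠ 0 := by rintro rfl; simp [hc] at e
    have : φ c ≠ 0 := by simpa using hc
    rw [map_div₀]; field_simp; linear_combination e
  have h2 : φ ^ 2 ∈ stabilizer (F ≃+* F) (b / c) := by
    change φ (φ (b / c)) = _
    rw [h1, map_inv₀, h1, inv_inv]
  have h3 : φ (b / c) = b / c := by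
    obtain ⟨m, hm⟩ := h.odd
    have h3 : φ ^ (2 * (m + 1)) = φ := by
      rw [show 2 * (m + 1) = orderOf φ + 1 by omega, pow_succ, pow_orderOf_eq_one, one_mul]
    have := pow_mem h2 (m + 1)
    rwa [← pow_mul, h3] at this
  rw [h1] at h3
  rcases inv_eq_self₀.1 h3 with h4 | h4 | h4
  · exact (div_eq_one_iff_eq hc).1 (h4.trans (CharTwo.neg_eq _))
  · rw [div_eq_zero_iff, or_iff_left hc] at h4
    simp [h4, hc] at e
  · exact (div_eq_one_iff_eq hc).1 h4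

theorem D_surj (c : F) : ∃ b, b * φ b = c :=
  Finite.surjective_of_injective (f := fun b => b * φ b) (fun _ _ => h.D_inj) c

variable (hS : IsRankOneSetup G Ω a t Q)
include hS

theorem eqv' (hk : k ∈ K a t) (hx : x ∈ Q) :
    χ k * π (k⁻¹ * x * k) = π x ∧ χ k * φ (χ k) * ξ (k⁻¹ * x * k) = ξ x := by
  have := h.eqv k hk _ (conj_mem' hS hk.1.1 hx)
  rw [show k * (k⁻¹ * x * k) * k⁻¹ = x by group] at this
  exact ⟨this.1.symm, this.2.symm⟩

theorem TT_scale (hx : x ∈ Q) (h1 : x ≠ 1) (hy : y ∈ Q) {μ : F} (hμ : μ ≠ 0) (e1 : π y = μ * π x)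
    (e2 : ξ y = μ * φ μ * ξ x) :
    μ * π (TT a t Q y) = π (TT a t Q x) ∧ μ * φ μ * ξ (TT a t Q y) = ξ (TT a t Q x) := by
  obtain ⟨k, hk, rfl⟩ := h.onto μ hμ
  rw [h.inj y hy _ (hS.conj_mem k hk.1.1 x hx) (e1.trans (h.eqv k hk x hx).1.symm)
    (e2.trans (h.eqv k hk x hx).2.symm), TT_conj_K hS hx h1 hk]
  exact h.eqv' hS hk (TT_mem hS hx h1)

variable (hs : s ∈ I G a) (hr : r ∈ Q) (e : t * s * t = r⁻¹ * t * r) (hrs : r * r = s) (h1 : π r = 1)
include hs hr e hrs h1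

theorem π_s : π s = 0 ∧ ξ s = 1 := by
  rw [← hrs, h.add r hr r hr, h.mul r hr r hr, h1]
  simp [CharTwo.add_self_eq_zero]

theorem TT_inv_r : TT a t Q r⁻¹ = s := by
  rw [← (SP_s hS hs hr e).1, TT_TT hS (I_Q hS hs) hs.2.1]

theorem R1 (hk : k ∈ K a t) (h0 : χ k ≠ 0) (h3 : χ k ≠ 1) : ∃ b : F, b ≠ 0 ∧ b ≠ 1 ∧
    b * φ b * (1 + χ k * φ (χ k)) = χ k * φ (χ k) ∧ π (TT a t Q (r * (k * r⁻¹ * k⁻¹))) = 1 + b ∧
      ξ (TT a t Q (r * (k * r⁻¹ * k⁻¹))) = ξ r + b * φ b * (ξ r + 1) + b := by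
  obtain ⟨h4, h5⟩ := h.π_s hS hs hr e hrs h1
  have h6 := hS.conj_mem k hk.1.1 _ (inv_mem hr)
  have h7 := r_ne hS hs hr e
  have h8 : χ k * φ (χ k) ≠ 0 := by simpa using h0
  have h9 : 1 + χ k * φ (χ k) ≠ 0 := fun e =>
    h3 (h.D_inj (by simpa using (CharTwo.add_eq_zero.1 e).symm))
  obtain ⟨b, hb⟩ := h.D_surj (χ k * φ (χ k) / (1 + χ k * φ (χ k)))
  have h10 : b ≠ 0 := by rintro rfl; exact div_ne_zero h8 h9 (by rw [← hb, zero_mul])
  have h11 : φ b ≠ 0 := by simpa using h10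
  rw [eq_div_iff h9] at hb
  refine ⟨b, h10, by rintro rfl; simp at hb, hb, ?_⟩
  have h12 := h.eqv' hS hk (I_Q hS hs)
  have h13 := conj_mem' hS hk.1.1 (I_Q hS hs)
  have h14 := h.TT_scale hS (I_Q hS hs) hs.2.1 (mul_mem (I_Q hS hs) h13) (inv_ne_zero h10)
    (by rw [h.add _ (I_Q hS hs) _ h13, h4, (mul_eq_zero_iff_left h0).1 (h12.1.trans h4)]; simp)
    (by
      rw [h.mul _ (I_Q hS hs) _ h13, h4, h5, map_inv₀, map_zero, zero_mul, add_zero]
      refine mul_left_cancel₀ h8 ?_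
      rw [mul_add, h12.2, h5]
      field_simp
      linear_combination hb)
  rw [(SP_s hS hs hr e).1, h.π_inv hr, h.ξ_inv hr, h1, map_inv₀, inv_mul_eq_iff_eq_mul₀ h10,
    ← mul_inv, inv_mul_eq_iff_eq_mul₀ (mul_ne_zero h10 h11)] at h14
  have h15 := TT_mem hS (mul_mem (I_Q hS hs) h13) fun e => by
    have := h.mul _ (I_Q hS hs) _ h13
    rw [e, h.ξ_one, h4, h5, map_zero, zero_mul, add_zero] at this
    exact h9 (by linear_combination h5 + h12.2 - χ k * φ (χ k) * this +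
      (1 - χ k * φ (χ k) * ξ (k⁻¹ * s * k)) * CharTwo.two_eq_zero (R := F))
  rw [H6 hS hr h7 h6 (by simpa using h7) fun e => h3 (by
      have := h.add _ hr _ h6
      rw [e, h.π_one, (h.eqv k hk _ (inv_mem hr)).1, h.π_inv hr, h1, mul_one] at this
      exact (CharTwo.add_eq_zero.1 this.symm).symm),
    (SP_r hS hs hr e).1, (SP_r hS hs hr e).2.1, (SP_r hS hs hr e).2.2,
    TT_conj_K hS (inv_mem hr) (inv_ne_one.2 h7) hk, h.TT_inv_r hS hs hr e hrs h1, one_mul, inv_one,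
    mul_one, h.add _ hr _ h15, h.mul _ hr _ h15, h14.1, h14.2, h1]
  simp

theorem R2' (hk : k ∈ K a t) (h0 : χ k ≠ 0) (h3 : χ k ≠ 1) :
    χ k * χ k * π (TT a t Q (k * r⁻¹ * k⁻¹ * r)) = π (TT a t Q (k⁻¹ * r⁻¹ * k * r)) := by
  have h6 := hS.conj_mem k hk.1.1 _ (inv_mem hr)
  have h7 := r_ne hS hs hr e
  have h8 : k * r⁻¹ * k⁻¹ ≠ 1 := by simpa using h7
  have h9 : k * r⁻¹ * k⁻¹ * r ≠ 1 := fun e => h3 (by
    have := h.add _ h6 _ hr
    rw [e, h.π_one, (h.eqv k hk _ (inv_mem hr)).1, h.π_inv hr, h1, mul_one] at this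
    exact CharTwo.add_eq_zero.1 this.symm)
  have h10 := conj_mem' hS hk.1.1 (I_Q hS hs)
  obtain ⟨h11, h12, h13⟩ := hh_of_eq hS h6 h8 h10 (mul_mem (inv_mem hk.1) (inv_mem hk.1))
    (conj_mem' hS hk.1.1 (inv_mem hr)) (by
      have h11 : t * r⁻¹ * t = s * t * r⁻¹ := by
        calc _ = t * (r⁻¹ * t * r) * r⁻¹ := by group
          _ = _ := by rw [← e]; simp [← mul_assoc, hS.mul_self]
      calc _ = (t * k) * r⁻¹ * (k⁻¹ * t) := by group
        _ = (k⁻¹ * t) * r⁻¹ * (t * k) := by rw [K_mul_t hS hk]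
        _ = k⁻¹ * (t * r⁻¹ * t) * k := by group
        _ = k⁻¹ * s * k * k⁻¹ * (t * k) * (k⁻¹ * r⁻¹ * k) := by rw [h11]; group
        _ = _ := by rw [K_mul_t hS hk]; group)
  have h14 := H6_ne hS h6 h8 hr h7 h9
  rw [H6 hS h6 h8 hr h7 h9, h11, h12]
  rw [h13, (SP_r hS hs hr e).1] at h14 ⊢
  have h15 := TT_mem hS (mul_mem (conj_mem' hS hk.1.1 (inv_mem hr)) hr) h14
  have h16 := conj_mem' hS hk.1.1 h15
  rw [show ∀ y, k⁻¹ * k⁻¹ * y * (k⁻¹ * k⁻¹)⁻¹ = k⁻¹ * (k⁻¹ * y * k) * k from fun y => by simp [mul_assoc],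
    h.add _ h10 _ (conj_mem' hS hk.1.1 h16), ← (h.eqv' hS hk h15).1, ← (h.eqv' hS hk h16).1,
    (mul_eq_zero_iff_left h0).1 ((h.eqv' hS hk (I_Q hS hs)).1.trans (h.π_s hS hs hr e hrs h1).1)]
  ring

omit hs hr e hrs h1 in
theorem χ_inv (hr : r ∈ Q) (h1 : π r = 1) (hk : k ∈ K a t) : χ k⁻¹ = (χ k)⁻¹ := by
  have := (h.eqv' hS hk hr).1
  have h3 := (h.eqv _ (K_inv hk) r hr).1
  rw [inv_inv] at h3
  rw [h3, h1, mul_one] at this
  exact eq_inv_of_mul_eq_one_right this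

theorem fix_φ {c : F} (h0 : c ≠ 0) (h3 : φ c = c) : c = 1 := by
  by_contra h4
  obtain ⟨k, hk, rfl⟩ := h.onto c h0
  have key : ∀ k ∈ K a t, χ k ≠ 0 → χ k ≠ 1 → φ (χ k) = χ k →
      (1 + χ k) * π (TT a t Q (k * r⁻¹ * k⁻¹ * r)) = 1 := fun k hk h0 h4 h3 => by
    have h6 := hS.conj_mem k hk.1.1 _ (inv_mem hr)
    have h7 : π (k * r⁻¹ * k⁻¹) = χ k := by rw [(h.eqv k hk _ (inv_mem hr)).1, h.π_inv hr, h1, mul_one]
    obtain ⟨b, -, -, h8, h9, -⟩ := h.R1 hS hs hr e hrs h1 hk h0 h4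
    have h10 : 1 + χ k ≠ 0 := fun e => h4 (CharTwo.add_eq_zero.1 e).symm
    rw [h.inj _ (mul_mem h6 hr) _ (mul_mem hr h6) (by rw [h.add _ h6 _ hr, h.add _ hr _ h6, add_comm])
      (by rw [h.mul _ h6 _ hr, h.mul _ hr _ h6, h7, h1, h3, map_one]; ring), h9,
      h.D_inj (b := b) (c := χ k / (1 + χ k)) (by
        rw [map_div₀, map_add, map_one, h3] at *
        field_simp
        linear_combination h8 + b * φ b * χ k * CharTwo.two_eq_zero (R := F))]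
    field_simp
    linear_combination χ k * CharTwo.two_eq_zero (R := F)
  have h5 := key k hk h0 h4 h3
  have h6 := key _ (K_inv hk)
  rw [h.χ_inv hS hr h1 hk, inv_inv, ← h.R2' hS hs hr e hrs h1 hk h0 h4] at h6
  have h7 := h6 (inv_ne_zero h0) (by simpa using h4) (by rw [map_inv₀, h3])
  refine h4 ?_
  field_simp at h7
  linear_combination h7 - χ k * h5

theorem ξ_r : ξ r = 0 ∨ ξ r = 1 := by
  by_contra! hc
  have h3 : ξ r + 1 ≠ 0 := fun e => hc.2 (CharTwo.add_eq_zero.1 e)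
  obtain ⟨A, hA⟩ := Finite.surjective_of_injective (f := fun A : F => φ A / A) (fun A B e' => by
    rcases eq_or_ne B 0 with rfl | hB
    · simpa using e'
    have hA : A ≠ 0 := by rintro rfl; exact div_ne_zero (by simpa using hB) hB (by simpa using e'.symm)
    have : φ B ≠ 0 := by simpa using hB
    refine (div_eq_one_iff_eq hB).1 (h.fix_φ hS hs hr e hrs h1 (div_ne_zero hA hB) ?_)
    rw [map_div₀]
    field_simp at e' ⊢
    linear_combination e') (ξ r / (ξ r + 1))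
  have h4 : A ≠ 0 := by rintro rfl; exact div_ne_zero hc.1 h3 (by simpa using hA.symm)
  rw [div_eq_div_iff h4 h3] at hA
  have h5 : 1 + A ≠ 0 := fun e => by
    rw [← CharTwo.add_eq_zero.1 e] at hA
    simp at hA
  obtain ⟨k, hk, h6⟩ := h.onto _ h5
  obtain ⟨b, -, h7, -, h8, -⟩ := h.R1 hS hs hr e hrs h1 hk (h6 ▸ h5) (by simpa [h6] using h4)
  have h9 := hS.conj_mem k hk.1.1 _ (inv_mem hr)
  have h10 := (h.TT_scale hS (inv_mem hr) (inv_ne_one.2 (r_ne hS hs hr e)) (mul_mem hr h9) h4 (by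
      rw [h.add _ hr _ h9, (h.eqv k hk _ (inv_mem hr)).1, h.π_inv hr, h1, h6]
      linear_combination CharTwo.two_eq_zero (R := F)) (by
      rw [h.mul _ hr _ h9, (h.eqv k hk _ (inv_mem hr)).1, (h.eqv k hk _ (inv_mem hr)).2, h.π_inv hr,
        h.ξ_inv hr, h1, h6, map_add, map_one]
      linear_combination hA + (ξ r + 1 + A + A * ξ r) * CharTwo.two_eq_zero (R := F))).1
  rw [h.TT_inv_r hS hs hr e hrs h1, (h.π_s hS hs hr e hrs h1).1, h8, mul_eq_zero_iff_left h4] at h10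
  exact h7 (CharTwo.add_eq_zero.1 h10).symm

variable (hc : ξ r = 1)
include hc

theorem R1' {c : F} (h0 : c ≠ 0) (h3 : c ≠ 1) : ∃ b : F, b ≠ 0 ∧ b * φ b * (1 + c * φ c) = c * φ c ∧
    ∀ x ∈ Q, ∀ μ, μ ≠ 0 → π x = μ * (1 + c) → ξ x = μ * φ μ * (1 + c) →
      μ * π (TT a t Q x) = 1 + b ∧ μ * φ μ * ξ (TT a t Q x) = 1 + b := by
  obtain ⟨k, hk, rfl⟩ := h.onto c h0
  obtain ⟨b, h4, -, h5, h6, h7⟩ := h.R1 hS hs hr e hrs h1 hk h0 h3
  have h9 := hS.conj_mem k hk.1.1 _ (inv_mem hr)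
  have h10 : π (r * (k * r⁻¹ * k⁻¹)) = 1 + χ k := by
    rw [h.add _ hr _ h9, (h.eqv k hk _ (inv_mem hr)).1, h.π_inv hr, h1, mul_one]
  refine ⟨b, h4, h5, fun x hx μ hμ e1 e2 => ?_⟩
  have := h.TT_scale hS (mul_mem hr h9) (fun e => h3 (by
    rw [e, h.π_one] at h10
    exact (CharTwo.add_eq_zero.1 h10.symm).symm)) hx hμ (by rw [e1, h10]) (by
      rw [e2, h.mul _ hr _ h9, (h.eqv k hk _ (inv_mem hr)).1, (h.eqv k hk _ (inv_mem hr)).2,
        h.π_inv hr, h.ξ_inv hr, h1, hc]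
      simp [CharTwo.add_self_eq_zero])
  rw [h6, h7, hc] at this
  simpa [CharTwo.add_self_eq_zero] using this

theorem R3 {c b : F} (h0 : c ≠ 0) (h3 : c ≠ 1) (hb : b * φ b * (1 + c * φ c) = c * φ c) :
    b * (1 + c * (c * φ c)) = c * (1 + c * φ c) := by
  have h4 : φ c ≠ 0 := by simpa using h0
  have key : ∀ k ∈ K a t, ∀ c, c ≠ 0 → c ≠ 1 → χ k = φ c → ∀ b, b * φ b * (1 + c * φ c) = c * φ c →
      (1 + φ c) * π (TT a t Q (k * r⁻¹ * k⁻¹ * r)) = (1 + b) * (1 + c) := fun k hk c h0 h3 h5 b hb => by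
    obtain ⟨b', -, h6, h7⟩ := h.R1' hS hs hr e hrs h1 hc h0 h3
    have h8 : 1 + c * φ c ≠ 0 := fun e =>
      h3 (h.D_inj (by simpa using (CharTwo.add_eq_zero.1 e).symm))
    obtain rfl := h.D_inj (mul_right_cancel₀ h8 (hb.trans h6.symm))
    have h9 := hS.conj_mem k hk.1.1 _ (inv_mem hr)
    have h10 : ∀ c : F, c ≠ 1 → 1 + c ≠ 0 := fun c h e => h (CharTwo.add_eq_zero.1 e).symm
    have h11 := h10 c h3
    have h12 := h10 (φ c) (by simpa using h3)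
    have h13 := h10 (φ (φ c)) (by simpa using h3)
    rw [← (h7 _ (mul_mem h9 hr) _ (div_ne_zero h12 h11) (by
      rw [h.add _ h9 _ hr, (h.eqv k hk _ (inv_mem hr)).1, h.π_inv hr, h1, h5]; field_simp; ring) (by
      rw [h.mul _ h9 _ hr, (h.eqv k hk _ (inv_mem hr)).1, (h.eqv k hk _ (inv_mem hr)).2,
        h.π_inv hr, h.ξ_inv hr, h1, hc, h5]
      simp only [map_div₀, map_add, map_one, CharTwo.add_self_eq_zero, mul_one]
      field_simp
      ring)).1]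
    field_simp
  obtain ⟨k, hk, h5⟩ := h.onto _ h4
  have h6 := key k hk c h0 h3 h5 b hb
  have h7 := key _ (K_inv hk) c⁻¹ (inv_ne_zero h0) (by simpa using h3)
    (by rw [h.χ_inv hS hr h1 hk, h5, map_inv₀]) (b / c) (by
      rw [map_div₀, map_inv₀]
      field_simp
      linear_combination hb)
  rw [inv_inv, ← h.R2' hS hs hr e hrs h1 hk (h5 ▸ h4) (by simpa [h5] using h3), h5, map_inv₀] at h7
  have h8 : 1 + c ≠ 0 := fun e => h3 (CharTwo.add_eq_zero.1 e).symm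
  field_simp at h7
  refine mul_left_cancel₀ h8 ?_
  linear_combination h7 - c ^ 2 * φ c * h6 + (c * b - c ^ 2 * φ c - c ^ 3 * φ c + b) * CharTwo.two_eq_zero (R := F)

theorem φ_φ (c : F) : φ (φ c) = c ^ 2 := by
  rcases eq_or_ne c 0 with rfl | h0
  · simp
  rcases eq_or_ne c 1 with rfl | h3
  · simp
  obtain ⟨b, -, h4, -⟩ := h.R1' hS hs hr e hrs h1 hc h0 h3
  have h5 := h.R3 hS hs hr e hrs h1 hc h0 h3 h4
  have h6 := congrArg φ h5
  simp only [map_mul, map_add, map_one] at h6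
  have h7 : φ c ≠ 0 := by simpa using h0
  have h8 : φ c + 1 ≠ 0 := fun e => h3 (by simpa using CharTwo.add_eq_zero.1 e)
  refine mul_left_cancel₀ (mul_ne_zero (mul_ne_zero (mul_ne_zero h0 h7) h7) h8) ?_
  generalize φ (φ c) = w at *
  generalize φ c = v, φ b = b' at *
  linear_combination (norm := (ring_nf; reduce_mod_char!))
    (1 + c * v) * b' * (1 + v * (v * w)) * h5 + (1 + c * v) * c * (1 + c * v) * h6 -
    (1 + c * (c * v)) * (1 + v * (v * w)) * h4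

theorem TT_formula (hx : x ∈ Q) (h0 : x ≠ 1) :
    Suz.fz (φ : F →+* F) (π x) (ξ x) * π (TT a t Q x) = ξ x ∧
      Suz.fz (φ : F →+* F) (π x) (ξ x) * ξ (TT a t Q x) = π x := by
  have h2 := h.φ_φ hS hs hr e hrs h1 hc
  have h3 := CharTwo.two_eq_zero (R := F)
  obtain ⟨h4, h5⟩ := h.π_s hS hs hr e hrs h1
  have h6 : ξ r⁻¹ = 0 := by rw [h.ξ_inv hr, h1, hc]; simp [CharTwo.add_self_eq_zero]
  have h7 := r_ne hS hs hr e
  simp only [Suz.fz, RingHom.coe_coe]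
  by_cases h8 : π x = 0
  · obtain ⟨μ, hμ⟩ := h.D_surj (ξ x)
    have h9 : μ ≠ 0 := by
      rintro rfl
      exact h0 (h.inj x hx 1 (one_mem _) (by rw [h8, h.π_one]) (by rw [← hμ, h.ξ_one, zero_mul]))
    obtain ⟨h10, h11⟩ := h.TT_scale hS (I_Q hS hs) hs.2.1 hx h9 (by simp [h8, h4]) (by simp [hμ, h5])
    rw [(SP_s hS hs hr e).1] at h10 h11
    rw [h.π_inv hr, h1] at h10
    rw [h6] at h11
    rw [h8, ← hμ, map_mul, h2]
    exact ⟨by linear_combination μ * φ μ * h10, by linear_combination μ * h11⟩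
  by_cases h9 : ξ x = 0
  · obtain ⟨h10, h11⟩ := h.TT_scale hS (inv_mem hr) (inv_ne_one.2 h7) hx h8 (by simp [h.π_inv hr, h1])
      (by simp [h6, h9])
    rw [h.TT_inv_r hS hs hr e hrs h1] at h10 h11
    rw [h9, map_zero]
    exact ⟨by linear_combination π x * φ (π x) * h10 + π x * φ (π x) * h4,
      by linear_combination π x * h11 + π x * h5⟩
  by_cases h10 : ξ x = π x * φ (π x)
  · obtain ⟨h11, h12⟩ := h.TT_scale hS hr h7 hx h8 (by simp [h1]) (by simp [h10, hc])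
    rw [(SP_r hS hs hr e).1] at h11 h12
    rw [h10, map_mul, h2]
    exact ⟨by linear_combination π x * φ (π x) * (h11 + h1) + π x ^ 2 * φ (π x) * π (TT a t Q x) * h3,
      by linear_combination π x * (h12 + hc) + π x ^ 2 * φ (π x) * ξ (TT a t Q x) * h3⟩
  obtain ⟨c, h11⟩ := φ.surjective (1 + π x * φ (π x) / ξ x)
  have h12 : φ (π x) ≠ 0 := by simpa using h8
  have h13 : c ≠ 1 := by rintro rfl; simp [h8, h9] at h11
  have h14 : c ≠ 0 := by
    rintro rfl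
    rw [map_zero, eq_comm, CharTwo.add_eq_zero, eq_div_iff h9, one_mul] at h11
    exact h10 h11
  have h15 : 1 + c ≠ 0 := fun e => h13 (CharTwo.add_eq_zero.1 e).symm
  have h16 : 1 + φ c ≠ 0 := by simpa using φ.injective.ne h15
  obtain ⟨b, -, h17, h18⟩ := h.R1' hS hs hr e hrs h1 hc h14 h13
  have h19 := h.R3 hS hs hr e hrs h1 hc h14 h13 h17
  have h20 : π x = π x / (1 + c) * (1 + c) := (div_mul_cancel₀ _ h15).symm
  have h21 : ξ x = π x / (1 + c) * φ (π x / (1 + c)) * (1 + c) := by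
    rw [map_div₀, map_add, map_one]
    field_simp at h11 ⊢
    linear_combination h11 + ξ x * h3
  obtain ⟨h22, h23⟩ := h18 x hx _ (div_ne_zero h8 h15) h20 h21
  generalize π x / (1 + c) = μ at *
  rw [h21, h20]
  simp only [map_mul, map_add, map_one, h2]
  constructor
  · linear_combination (norm := (ring_nf; reduce_mod_char!))
      μ * φ μ * (1 + c ^ 2 * φ c) * h22 + μ * φ μ * h19
  · linear_combination (norm := (ring_nf; reduce_mod_char!)) μ * (1 + c ^ 2 * φ c) * h23 + μ * h19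

end CoA

theorem setup_sz {F : Type*} [Field F] [Finite F] [CharP F 2] {Γ : Type*} [Group Γ] [Finite Γ]
    (S : Suz.SzS F Γ) : IsRankOneSetup Γ S.Ω S.oo S.w S.Q := by
  have h1 : stabilizer Γ S.oo ⊓ stabilizer Γ (S.w • S.oo) = S.K := by
    ext g; rw [Suz.SzS.mem_K, S.w_oo]; rfl
  have h3 : S.w • S.oo ≠ S.oo := by rw [S.w_oo]; exact S.pt_ne _ _
  refine ⟨S.two_trans, S.w_w, fun e => h3 (by rw [e, one_smul]), h3, S.Q_le_B,
    fun _ hh _ hx => S.conj_mem_Q hh hx, eq_bot_iff.2 ?_, le_antisymm (sup_le S.Q_le_B inf_le_left)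
    fun g hg => ?_, ?_, ?_⟩
  · rintro _ ⟨⟨c, d, rfl⟩, h⟩
    exact S.s_fix (by rwa [S.w_oo] at h)
  · obtain ⟨c, d, u, rfl⟩ := Suz.SzS.exists_of_B hg
    exact mul_mem_sup (S.s_mem c d) (h1 ▸ S.d_mem u)
  · rw [S.card_Q, S.card]
    simp [Nat.even_pow]
  · rw [h1, S.card_K, S.card]
    exact Nat.Even.sub_odd Nat.one_le_two_pow (by simp [Nat.even_pow]) odd_one

/-- Identification of the Suzuki groups. -/
theorem isoSuzuki [FaithfulSMul G Ω] (hS : IsRankOneSetup G Ω a t Q) (h2 : R2 G) (hQ : IsPGroup 2 Q)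
    (hn : ∃ x ∈ Q, ∃ y ∈ Q, x * y ≠ y * x) (hs : s ∈ I G a) (hr : r ∈ Q) (e : t * s * t = r⁻¹ * t * r)
    (hne : r ≠ s) : Lie.IsoSuzuki (LL t Q) := by
  obtain ⟨hrs, m, hm, h3, h4⟩ := five_of_ne hS h2 hQ hn hs hr e hne
  obtain ⟨F, _, _, _, φ, π, ξ, χ, hF, h⟩ := exists_coA hS h2 hQ hn h4
  rw [h3] at hF
  have h5 : π r ≠ 0 := fun h5 => hs.2.1 (by
    rw [← hrs]
    exact h.inj _ (mul_mem hr hr) _ (one_mem _) (by simp [h.add r hr r hr, h5, h.π_one])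
      (by simp [h.mul r hr r hr, h5, h.ξ_one, CharTwo.add_self_eq_zero]))
  obtain ⟨φ, π, ξ, χ, h, h1, hc⟩ : ∃ (φ : F ≃+* F) (π ξ χ : G → F), CoA a t Q φ π ξ χ ∧ π r = 1 ∧
      ξ r = 1 := by
    have h' := h.scale (inv_ne_zero h5)
    rcases h'.ξ_r hS hs hr e hrs (inv_mul_cancel₀ h5) with h6 | h6
    · exact ⟨_, _, _, _, h'.swap, by simp [h5], by simp only [h6, inv_mul_cancel₀ h5]; simp⟩
    · exact ⟨_, _, _, _, h', inv_mul_cancel₀ h5, h6⟩
  let S := Suz.szB hm hF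
  have := S.finite
  have h6 : (φ : F →+* F) = S.θ := by
    have h6 : ∀ n x, (φ ^ (2 * n)) x = x ^ 2 ^ n := fun n => by
      induction n with
      | zero => simp
      | succ n ih =>
        intro x
        rw [mul_add, mul_one, pow_add, RingAut.mul_apply, ih, sq, RingAut.mul_apply,
          h.φ_φ hS hs hr e hrs h1 hc, ← pow_mul, ← pow_succ']
    have h7 : φ ^ (2 * m + 1) = 1 := orderOf_dvd_iff_pow_eq_one.1
      (h.odd.coprime_two_right.dvd_of_dvd_mul_left (orderOf_dvd_of_pow_eq_one (RingEquiv.ext fun x => by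
        rw [h6, ← hF, FiniteField.pow_card]; rfl)))
    ext x
    rw [S.θ_eq, show S.m = m from rfl, ← h6, show 2 * (m + 1) = 2 * m + 1 + 1 by ring, pow_succ, h7,
      one_mul]
    rfl
  let ψ : Q ≃* S.Q := MulEquiv.ofBijective (MonoidHom.mk' (fun x => ⟨S.s (π x) (ξ x), S.s_mem ..⟩)
    fun x y => Subtype.ext (by
      simp only [coe_mul, S.s_mul, h.add _ x.2 _ y.2, h.mul _ x.2 _ y.2, ← h6]; rfl))
    ⟨fun x y e => have e' := S.s_inj.1 (congrArg Subtype.val e : S.s (π x) (ξ x) = S.s (π y) (ξ y))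
      Subtype.ext (h.inj _ x.2 _ y.2 e'.1 e'.2), by
        rintro ⟨_, c, d, rfl⟩
        obtain ⟨x, hx, rfl, rfl⟩ := h.surj c d
        exact ⟨⟨x, hx⟩, rfl⟩⟩
  have hS' := setup_sz S
  obtain ⟨f⟩ := iso_of_TT hS hS' ψ fun x h0 => by
    have h7 : S.s (π x) (ξ x) ≠ 1 := fun e =>
      h0 (congrArg Subtype.val (ψ.map_eq_one_iff.1 (Subtype.ext e)))
    have h8 : Suz.fz S.θ (π x) (ξ x) ≠ 0 := fun e => h7 (S.s_eq_one.2 (Suz.fz_eq_zero S.hθ e))
    obtain ⟨h9, h10⟩ := h.TT_formula hS hs hr e hrs h1 hc x.2 h0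
    rw [h6] at h9 h10
    refine TT_eq hS' (ψ x).2 h7 (ψ _).2 ?_
    change S.s _ _ • S.w • S.oo = S.w • S.s (π x) (ξ x) • S.w • S.oo
    simp only [S.w_oo, S.s_pt, add_zero, mul_zero]
    rw [S.w_pt h8, S.pt_inj]
    exact ⟨eq_div_of_mul_eq h8 ((mul_comm ..).trans h9), eq_div_of_mul_eq h8 ((mul_comm ..).trans h10)⟩
  have := S.simple
  exact ⟨F, inferInstance, inferInstance, m, hm, hF,
    ⟨f.trans ((MulEquiv.subgroupCongr (LL_eq_top hS')).trans topEquiv)⟩⟩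

end Cfsg.Agent.RankOne
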