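import Cfsg.Agent.Lib.Char.RankOne16
import Cfsg.Agent.Lib.Char.RankOne6

/-!
Suzuki's theorem on doubly transitive groups with a split rank-one structure of even characteristic.
-/

set_option autoImplicit false
set_option linter.unusedSectionVars false
set_option linter.style.haveILetI false

namespace Cfsg.Agent.RankOne

open MulAction Subgroup Cfsg.Agent.Perm Cfsg.Agent.Transfer

variable {G Ω : Type*} [Group G] [Finite G] [MulAction G Ω] {a : Ω} {t : G} {Q : Subgroup G}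

theorem isSuzuki_of_iso (h : Lie.IsoSuzuki G) : IsSuzuki G := by
  obtain ⟨F, _, _, m, hm, hF, ⟨e⟩⟩ := h
  have := Suz.charTwo hF
  have := (Suz.szB hm hF).simple
  exact ⟨e.isSimpleGroup, m, hm, by
    rw [Nat.card_congr e.toEquiv, (Suz.szB hm hF).card_eq, Nat.card_eq_fintype_card, hF]; ring⟩

theorem setup_mk' (h1 : t * t = 1) (h2 : t • a ≠ a) (h3 : Q ≤ stabilizer G a)
    (h4 : stabilizer G a ≤ normalizer (Q : Set G)) (h5 : ∀ x ∈ Q, x • t • a = t • a → x = 1)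
    (h6 : ∀ c, c ≠ a → ∃ x ∈ Q, x • t • a = c) (h7 : Even (Nat.card (stabilizer G a)))
    (h8 : Odd (Nat.card (D a t))) : IsRankOneSetup G Ω a t Q := by
  refine setup_mk h1 h2 h3 (fun d hd x => conj_mem_of_mem_normalizer (h4 hd.1)) h5 h6 ?_ h8
  rw [show stabilizer G a = D a t ⊔ Q from le_antisymm (fun g hg => ?_) (sup_le inf_le_left h3)] at h7
  · exact (Nat.even_mul.1 (even_iff_two_dvd.2 (h7.two_dvd.trans
      (Solv.card_sup_dvd (inf_le_left.trans h4))))).resolve_left (Nat.not_even_iff_odd.2 h8)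
  · obtain ⟨x, hx, e⟩ := h6 (g • t • a) fun e => h2 (smul_left_cancel g (e.trans hg.symm))
    simpa using mul_mem (mem_sup_right hx : x ∈ D a t ⊔ Q) (mem_sup_left (mem_inf.2
      ⟨mul_mem (inv_mem (h3 hx)) hg, show (x⁻¹ * g) • _ = _ by rw [mul_smul, ← e, inv_smul_smul]⟩))

variable (hS : IsRankOneSetup G Ω a t Q)
include hS

theorem st_all (h2 : R2 G) : St a t Q ⊤ := by
  refine st_of_simple (fun G _ _ Ω _ _ _ a t Q hS h2 ih => ?_) _ G Ω a t Q rfl hS h2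
  by_cases hV : V a t = ⊥
  · exact st_of_V hS h2 hV
  by_cases h : ∃ u ∈ V a t, (orderOf u).Prime ∧ ¬ R2 (centralizer {u})
  · obtain ⟨u, hu, hp, hC⟩ := h
    exact st_of_not_R2 hS h2 hu hC hp rfl ih
  push Not at h
  replace h := fun u hu hp => ih u hu (Solv.ne_one_of_orderOf_prime hp) (h u hu hp)
  obtain ⟨u, hu, hp⟩ := Solv.exists_orderOf_prime_of_ne_bot hV
  refine st_of_C hS h2 (two_of_fpf hS h2 hV fun d hd h1 x hx ho hc => by_contra fun h3 => ?_) hu hp (h u hu hp)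
  obtain ⟨d', hd', hp'⟩ := Solv.exists_orderOf_prime_of_ne_bot (zpowers_ne_bot.2 h1)
  have h4 : d' ∈ D a t := zpowers_le.2 hd hd'
  have h5 : Commute d' x := by obtain ⟨n, rfl⟩ := hd'; exact hc.zpow_left n
  obtain ⟨l, hl, h6⟩ := exists_conj_V hS (X := {d'}) (Set.singleton_subset_iff.2 h4)
    (smul_ne hS (hS.le hx) (ta_ne hS)) (fun e => h3 (eq_one_of_fix hS hx (ta_ne hS) e)) (by
      rintro _ rfl
      rw [← mul_smul, h5.eq, mul_smul, h4.2])
  obtain ⟨n, hn⟩ := Solv.exists_orderOf_eq_pow (h _ (mem_inf.2 ⟨mul_mem (mul_mem hl.1 h4) (inv_mem hl.1),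
    mem_centralizer_singleton'.2 (h6 _ rfl)⟩) (by rwa [orderOf_conj])).1 (mem_inf.2
    ⟨hS.conj_mem l hl.1.1 x hx, mem_centralizer_singleton'.2 (h5.symm.conj l)⟩)
  rw [orderOf_conj] at hn
  rcases n with _ | n
  · exact h3 (orderOf_eq_one_iff.1 hn)
  · exact absurd (ho.of_dvd_nat (hn ▸ dvd_pow_self 2 n.succ_ne_zero)) (by decide)

theorem suzuki [FaithfulSMul G Ω] (h2 : R2 G) :
    (∃ (F : Type) (_ : Field F) (_ : Fintype F), (∃ n : ℕ, 2 ≤ n ∧ Fintype.card F = 2 ^ n) ∧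
      Nonempty (LL t Q ≃* Matrix.ProjectiveSpecialLinearGroup (Fin 2) F)) ∨ Lie.IsoSuzuki (LL t Q) ∨
    ∃ (F : Type) (_ : Field F) (_ : Fintype F) (n : ℕ), 2 ≤ n ∧ Fintype.card F = (2 ^ n) ^ 2 ∧
      Nonempty (LL t Q ≃* PSU 3 F (2 ^ n)) := by
  obtain ⟨hQ, h | ⟨hn, h⟩⟩ := st_top.1 (st_all hS h2)
  · exact Or.inl (psl_of_Q0 hS h2 h)
  obtain ⟨⟨s, r⟩, ⟨hs, hr, e⟩, -⟩ := structure_eq hS
  dsimp only at hs hr e
  refine Or.inr ((ne_or_eq r s).imp (isoSuzuki hS h2 hQ hn hs hr e) ?_)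
  rintro rfl
  rw [inv_eq_of_mul_eq_one_right hs.2.2] at e
  obtain ⟨w, hw, h3, x, -, h4⟩ := h.resolve_left fun h => h r hs e
  exact isoPSU hS h2 hQ hn hs e fun h5 => h4 (by
    rw [mem_bot.1 (h5.le ((W_eq hS).ge ⟨hw, fun y hy => (h3 y hy).symm⟩))]
    exact Commute.one_left x)

theorem faithful_of_simple [IsSimpleGroup G] : FaithfulSMul G Ω :=
  ⟨fun e => (MonoidHom.ker_eq_bot_iff _).1 ((IsSimpleGroup.eq_bot_or_eq_top_of_normal (toPermHom G Ω).ker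
    inferInstance).resolve_right fun h => ta_ne hS (Equiv.congr_fun (h.ge trivial : toPermHom G Ω t = 1) a))
    (Equiv.ext e)⟩

theorem R2_of_simple [IsSimpleGroup G] : R2 G := by
  by_contra h
  obtain ⟨s, hs⟩ := I_nonempty hS
  exact ta_ne hS ((zpowers_le.2 hs.1 : _ ≤ stabilizer G a) ((not_isolated_of_simple (isolated_of_uniq
    (fun x y hx hy h' => by_contra fun e => h ⟨x, y, ne_one_of_orderOf hx, ne_one_of_orderOf hy, e,
      mul_self_of_orderOf hx, mul_self_of_orderOf hy, h'⟩) (mem_invol.1 hs).2)).ge trivial))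

theorem suzuki_simple [IsSimpleGroup G] :
    (∃ (F : Type) (_ : Field F) (_ : Fintype F), (∃ n : ℕ, 2 ≤ n ∧ Fintype.card F = 2 ^ n) ∧
      Nonempty (G ≃* Matrix.ProjectiveSpecialLinearGroup (Fin 2) F)) ∨ Lie.IsoSuzuki G ∨
    ∃ (F : Type) (_ : Field F) (_ : Fintype F) (n : ℕ), 2 ≤ n ∧ Fintype.card F = (2 ^ n) ^ 2 ∧
      Nonempty (G ≃* PSU 3 F (2 ^ n)) := by
  have := faithful_of_simple hS
  have e := ((MulEquiv.subgroupCongr (LL_eq_top hS)).trans topEquiv).symm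
  exact (suzuki hS (R2_of_simple hS)).imp (fun ⟨F, _, _, h, ⟨f⟩⟩ => ⟨F, _, _, h, ⟨e.trans f⟩⟩)
    (Or.imp (fun ⟨F, _, _, m, h, h', ⟨f⟩⟩ => ⟨F, _, _, m, h, h', ⟨e.trans f⟩⟩)
      fun ⟨F, _, _, m, h, h', ⟨f⟩⟩ => ⟨F, _, _, m, h, h', ⟨e.trans f⟩⟩)

end Cfsg.Agent.RankOne
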