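import Cfsg.Agent.Lib.Char.RankOne
import Cfsg.Agent.Lib.Char.Huppert
import Cfsg.Agent.Lib.Transfer.ElemC2

/-!
The split rank-one set-up: the structure of `K` and of `V / W`.
-/

set_option autoImplicit false
set_option linter.unusedSectionVars false

open scoped commutatorElement

namespace Cfsg.Agent.RankOne

open MulAction Subgroup Cfsg.Agent.Perm Cfsg.Agent.Transfer

theorem isCyclic_ringAut (F : Type*) [Field F] [Finite F] : IsCyclic (F ≃+* F) := by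
  obtain ⟨p, hp⟩ := CharP.exists F
  have := Fact.mk ((CharP.char_is_prime_or_zero F p).resolve_right (CharP.char_ne_zero_of_finite F p))
  let _ := ZMod.algebra F p
  have e : (F ≃ₐ[ZMod p] F) ≃* (F ≃+* F) :=
    { toFun := AlgEquiv.toRingEquiv
      invFun g := AlgEquiv.ofRingEquiv (f := g) fun x => by
        obtain ⟨n, rfl⟩ := ZMod.intCast_surjective x
        simp
      left_inv _ := rfl
      right_inv _ := rfl
      map_mul' _ _ := rfl }
  exact isCyclic_of_surjective e e.surjective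

theorem fitting_internal {G : Type*} [Group G] [Finite G] {D T : Subgroup G}
    (hn : D ≤ normalizer (T : Set G)) (hodd : Odd (Nat.card D))
    (hT : ∀ x ∈ T, ∀ y ∈ T, x * y = y * x) {q : ℕ} (hq : q.Prime) (hE : ∀ x ∈ T, x ^ q = 1)
    (htr : ∀ x ∈ T, ∀ y ∈ T, x ≠ 1 → y ≠ 1 → ∃ d ∈ D, d * x * d⁻¹ = y) :
    ∃ A ≤ D, ∃ g ∈ A, D ⊓ centralizer (T : Set G) ≤ A ∧
      (∀ d ∈ D, ∀ x ∈ A, d * x * d⁻¹ ∈ A) ∧
      (∀ x ∈ A, ∃ w ∈ D ⊓ centralizer (T : Set G), ∃ n : ℕ, x = w * g ^ n) ∧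
      (∀ x ∈ A, ∀ y ∈ T, y ≠ 1 → Commute x y → x ∈ centralizer (T : Set G)) ∧
      (∀ x ∈ D, ∀ y ∈ D, ⁅x, y⁆ ∈ A) ∧
      ∀ B ≤ D, (∀ d ∈ D, ∀ x ∈ B, d * x * d⁻¹ ∈ B) →
        (∀ x ∈ B, ∀ y ∈ B, ⁅x, y⁆ ∈ centralizer (T : Set G)) → B ≤ A := by
  let _ : CommGroup T := { (inferInstance : Group T) with
    mul_comm := fun x y => Subtype.ext (hT x x.2 y y.2) }
  let φ : D →* MulAut T := T.normalizerMonoidHom.comp (inclusion hn)
  have hφ : ∀ (d : D) (x : T), ((φ d x : T) : G) = d * x * (d : G)⁻¹ := fun d x => rfl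
  let ψ := φ.rangeRestrict
  have hψ : ∀ d : D, ψ d = 1 ↔ (d : G) ∈ centralizer (T : Set G) := fun d => by
    rw [Subtype.ext_iff, mem_centralizer_iff]
    refine ⟨fun h x hx => ?_, fun h => MulEquiv.ext fun x => Subtype.ext ?_⟩
    · exact (commute_iff_conj.2
        ((hφ d ⟨x, hx⟩).symm.trans (congrArg (fun f : MulAut T => (f ⟨x, hx⟩ : G)) h))).symm.eq
    · exact (hφ d x).trans (commute_iff_conj.1 (show Commute _ _ from (h x x.2).symm))
  obtain ⟨h1, h2, h3⟩ := Hup.fitting (P := φ.range) (E := T)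
    (hodd.of_dvd_nat (card_dvd_of_surjective ψ φ.rangeRestrict_surjective)) hq
    (fun v => Subtype.ext (hE v v.2)) (fun g h => Subtype.ext (MulEquiv.ext h)) (fun x y hx hy => by
      obtain ⟨d, hd, e⟩ := htr x x.2 y y.2 (fun e => hx (Subtype.ext e)) (fun e => hy (Subtype.ext e))
      exact ⟨ψ ⟨d, hd⟩, Subtype.ext e⟩)
  have hFn := Solv.instNormalFitting φ.range
  have hFl := fun (N : Subgroup φ.range) (hN : N.Normal) => Solv.le_fitting (N := N)
  generalize fittingSubgroup φ.range = F at h1 h2 h3 hFn hFl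
  obtain ⟨⟨g, hg⟩, hgen⟩ := h1.exists_monoid_generator
  obtain ⟨g, rfl⟩ := φ.rangeRestrict_surjective g
  refine ⟨(F.comap ψ).map D.subtype, map_subtype_le _, g, ⟨g, hg, rfl⟩,
    fun x hx => ⟨⟨x, hx.1⟩, ?_, rfl⟩, ?_, ?_, ?_, fun x hx y hy => ⟨⁅(⟨x, hx⟩ : D), ⟨y, hy⟩⁆, ?_, rfl⟩,
    fun B hB hBn hBc x hx => ⟨⟨x, hB hx⟩, ?_, rfl⟩⟩
  · show ψ _ ∈ F
    rw [(hψ ⟨x, hx.1⟩).2 hx.2]; exact one_mem _
  · rintro d hd _ ⟨x, hx, rfl⟩
    exact ⟨⟨d, hd⟩ * x * ⟨d, hd⟩⁻¹,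
      Normal.conj_mem (Normal.comap hFn ψ) x hx _, rfl⟩
  · rintro _ ⟨x, hx, rfl⟩
    obtain ⟨n, hn⟩ := hgen ⟨ψ x, hx⟩
    have h4 : ψ g ^ n = ψ x := by
      have h6 := congrArg F.subtype hn
      rwa [map_pow] at h6
    have h5 : ψ (x * (g ^ n)⁻¹) = 1 := by rw [map_mul, map_inv, map_pow, h4, mul_inv_cancel]
    exact ⟨(x * (g ^ n)⁻¹ : D), mem_inf.2 ⟨(x * (g ^ n)⁻¹).2, (hψ _).1 h5⟩, n,
      (inv_mul_cancel_right (x : G) (g ^ n)).symm⟩
  · rintro _ ⟨x, hx, rfl⟩ y hy hy1 hc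
    by_contra h
    exact hy1 (congrArg Subtype.val (h2 (ψ x) hx (mt (hψ x).1 h) ⟨y, hy⟩
      (Subtype.ext (commute_iff_conj.1 hc))))
  · show ψ _ ∈ F
    rw [map_commutatorElement]
    exact h3 (commutator_mem_commutator trivial trivial)
  · have hN : (B.subgroupOf D).Normal := ⟨fun x hx d => hBn d d.2 x hx⟩
    have hN' : ((B.subgroupOf D).map ψ).Normal := hN.map ψ φ.rangeRestrict_surjective
    have hc : IsMulCommutative ((B.subgroupOf D).map ψ) := ⟨⟨by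
      rintro ⟨_, x, hx, rfl⟩ ⟨_, y, hy, rfl⟩
      refine Subtype.ext (commutatorElement_eq_one_iff_mul_comm.1 ?_)
      exact (map_commutatorElement ψ x y).symm.trans ((hψ _).2 (hBc x hx y hy))⟩⟩
    exact hFl _ hN' (Solv.isNilpotent_of_isMulCommutative hc) ⟨⟨x, hB hx⟩, hx, rfl⟩

variable {G Ω : Type*} [Group G] [Finite G] [MulAction G Ω] {a : Ω} {t : G} {Q : Subgroup G}

/-- The subgroup generated by the involutions fixing `a`. -/
abbrev Q0 (G : Type*) [Group G] [MulAction G Ω] (a : Ω) : Subgroup G := closure (I G a)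

/-- The subgroup generated by `K`. -/
abbrev KK (a : Ω) (t : G) : Subgroup G := closure (K a t)

theorem H_le_normalizer_Q0 : stabilizer G a ≤ normalizer (Q0 G a : Set G) := fun h hh =>
  mem_normalizer_of_cj_le (by
    rw [cj, MonoidHom.map_closure, closure_le]
    rintro _ ⟨s, hs, rfl⟩
    exact subset_closure (I_conj hs hh))

variable (hS : IsRankOneSetup G Ω a t Q)
include hS

theorem Q0_le : Q0 G a ≤ Q := (closure_le _).2 fun _ hs => I_Q hS hs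

theorem W_eq' : W a t = D a t ⊓ centralizer (Q0 G a : Set G) := by
  rw [centralizer_closure, W_eq hS]

variable (h2 : ∃ x y : G, x ≠ 1 ∧ y ≠ 1 ∧ x ≠ y ∧ x * x = 1 ∧ y * y = 1 ∧ x * y = y * x)
include h2

theorem mem_Q0 {x : G} : x ∈ Q0 G a ↔ x = 1 ∨ x ∈ I G a := by
  refine ⟨fun h => ?_, fun h => h.elim (fun e => e ▸ one_mem _) fun h => subset_closure h⟩
  induction h using closure_induction with
  | mem x hx => exact Or.inr hx
  | one => exact Or.inl rfl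
  | mul x y _ _ hx hy =>
    rcases hx with rfl | hx
    · rwa [one_mul]
    rcases hy with rfl | hy
    · rw [mul_one]; exact Or.inr hx
    exact I_mul hS h2 hx hy
  | inv x _ hx =>
    rcases hx with rfl | hx
    · exact Or.inl inv_one
    · rw [inv_eq_of_mul_eq_one_right hx.2.2]; exact Or.inr hx

theorem Q0_I {x : G} (hx : x ∈ Q0 G a) (h1 : x ≠ 1) : x ∈ I G a :=
  ((mem_Q0 hS h2).1 hx).resolve_left h1

theorem Q0_sq {x : G} (hx : x ∈ Q0 G a) : x * x = 1 := by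
  rcases (mem_Q0 hS h2).1 hx with rfl | h
  · exact mul_one 1
  · exact h.2.2

theorem Q0_central {x y : G} (hx : x ∈ Q0 G a) (hy : y ∈ Q) : Commute x y := by
  rcases (mem_Q0 hS h2).1 hx with rfl | h
  · exact Commute.one_left y
  · exact I_central hS h2 h hy

theorem mem_Q0_of_sq {x : G} (hx : x • a = a) (h : x * x = 1) : x ∈ Q0 G a := by
  by_cases h1 : x = 1
  · exact h1 ▸ one_mem _
  · exact subset_closure ⟨hx, h1, h⟩

theorem exists_K_gen : ∃ k ∈ K a t, ∀ x ∈ K a t, x ∈ zpowers k := by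
  obtain ⟨A, hAD, g, hg, h1, h3, h4, h5, h6, h7⟩ := fitting_internal (D := D a t) (T := Q0 G a)
    (inf_le_left.trans H_le_normalizer_Q0) hS.odd_card
    (fun x hx y hy => Q0_central hS h2 hx (Q0_le hS hy)) Nat.prime_two
    (fun x hx => by rw [sq, Q0_sq hS h2 hx]) (fun x hx y hy hx1 hy1 => by
      obtain ⟨k, hk, e⟩ := K_surj hS (Q0_I hS h2 hx hx1) (Q0_I hS h2 hy hy1)
      exact ⟨k⁻¹, inv_mem hk.1, by rwa [inv_inv]⟩)
  rw [← W_eq' hS] at h1 h4
  have hWC : ∀ x ∈ D a t, x ∈ centralizer (Q0 G a : Set G) ↔ x ∈ W a t := fun x hx => by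
    rw [W_eq' hS]; exact ⟨fun h => ⟨hx, h⟩, fun h => h.2⟩
  have hWn : ∀ d ∈ D a t, ∀ w ∈ W a t, d * w * d⁻¹ ∈ W a t := fun d hd w hw => by
    rw [W_eq' hS] at hw ⊢
    exact mem_inf.2 ⟨mul_mem (mul_mem hd hw.1) (inv_mem hd), conj_mem_of_mem_normalizer
      (mem_normalizer_centralizer (H_le_normalizer_Q0 hd.1)) hw.2⟩
  have hWt : ∀ w ∈ W a t, t * w * t⁻¹ = w := fun w hw => commute_iff_conj.1 (V_commute hw.1).symm
  obtain ⟨⟨s, r⟩, ⟨hs, hr, e⟩, -⟩ := structure_eq hS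
  dsimp only at hs hr e
  have hVA : ∀ v ∈ V a t, v ∈ A → v ∈ W a t := fun v hv hA =>
    (hWC v hv.1).1 (h5 v hA s (subset_closure hs) hs.2.1 (V_commute_s hS hs hr e hv).1)
  have htt : ∀ x : G, t * (t * x * t⁻¹) * t⁻¹ = x := fun x => by
    rw [inv_t hS]; simp [← mul_assoc, hS.mul_self]; simp [mul_assoc, hS.mul_self]
  have hAt : ∀ x ∈ A, t * x * t⁻¹ ∈ A := fun x hx => by
    refine h7 (cj t A) ?_ ?_ ?_ (conj_mem_cj hx)
    · rintro _ ⟨y, hy, rfl⟩; exact conj_t_mem hS (hAD hy)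
    · rintro d hd _ ⟨y, hy, rfl⟩
      refine ⟨_, h3 _ (conj_t_mem hS hd) y hy, ?_⟩
      conv_rhs => rw [← htt d]
      simp [mul_assoc]
    · rintro _ ⟨y, hy, rfl⟩ _ ⟨z, hz, rfl⟩
      rw [← map_commutatorElement]
      obtain ⟨w, hw, n, rfl⟩ := h4 y hy
      obtain ⟨w', hw', m, rfl⟩ := h4 z hz
      have hgD := hAD hg
      have : ⁅w * g ^ n, w' * g ^ m⁆ ∈ W a t := by
        have e1 : ⁅w * g ^ n, w' * g ^ m⁆ =
            w * (g ^ n * w' * (g ^ n)⁻¹) * (g ^ m * w⁻¹ * (g ^ m)⁻¹) * w'⁻¹ := by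
          simp only [commutatorElement_def]; group
        rw [e1]
        exact mul_mem (mul_mem (mul_mem hw (hWn _ (pow_mem hgD n) _ hw'))
          (hWn _ (pow_mem hgD m) _ (inv_mem hw))) (inv_mem hw')
      show t * _ * t⁻¹ ∈ _
      rw [hWt _ this]
      exact (hWC _ this.1.1).2 this
  let B : Subgroup G :=
    { carrier := {d | d ∈ D a t ∧ d * (t * d * t⁻¹) ∈ A}
      one_mem' := ⟨one_mem _, by simp⟩
      mul_mem' := fun {x y} hx hy => ⟨mul_mem hx.1 hy.1, by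
        have e1 : x * y * (t * (x * y) * t⁻¹) = (x * ⁅y, t * x * t⁻¹⁆ * x⁻¹) * (x * (t * x * t⁻¹)) *
            (y * (t * y * t⁻¹)) := by simp only [commutatorElement_def]; group
        rw [e1]
        exact mul_mem (mul_mem (h3 x hx.1 _ (h6 y hy.1 _ (conj_t_mem hS hx.1))) hx.2) hy.2⟩
      inv_mem' := fun {x} hx => ⟨inv_mem hx.1, by
        have := h3 _ (inv_mem hx.1) _ (inv_mem hx.2)
        have e1 : x⁻¹ * (t * x⁻¹ * t⁻¹) = x⁻¹ * (x * (t * x * t⁻¹))⁻¹ * x⁻¹⁻¹ := by group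
        rwa [e1]⟩ }
  have hKB : ∀ k ∈ K a t, k ∈ B := fun k hk => ⟨hk.1, by rw [hk.2]; simp⟩
  have hAB : ∀ x ∈ A, x ∈ B := fun x hx => ⟨hAD hx, mul_mem hx (hAt x hx)⟩
  have hBW : ∀ x ∈ B, ∃ w ∈ W a t, ∃ k ∈ K a t, x = w * k := fun x hx => by
    obtain ⟨v, hv, k, hk, rfl⟩ := exists_VK hS hx.1
    have h8 : v ∈ B := by simpa using mul_mem hx (inv_mem (hKB k hk))
    have h9 := h8.2
    rw [commute_iff_conj.1 (V_commute hv).symm] at h9
    obtain ⟨n, hn⟩ := exists_sq_eq_of_odd (odd_of_mem_D hS hv.1)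
    rw [← (Commute.refl v).mul_pow] at hn
    exact ⟨v, hVA v hv (hn ▸ pow_mem h9 n), k, hk, rfl⟩
  have hBA : B ≤ A := h7 B (fun _ h => h.1) (fun d hd x hx => by
    have := mul_mem (hAB _ (h6 d hd x hx.1)) hx
    simpa [commutatorElement_def] using this) (fun x hx y hy => by
      obtain ⟨w, hw, k, hk, rfl⟩ := hBW x hx
      obtain ⟨w', hw', k', hk', rfl⟩ := hBW y hy
      obtain ⟨u, hu, l, hl, e1⟩ := hBW _ (mul_mem (hKB k hk) (hKB k' hk'))
      have e2 : k⁻¹ * k'⁻¹ = u * l⁻¹ := by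
        rw [← hk.2, ← hk'.2, ← hl.2, conj_mul, e1, ← conj_mul, hWt u hu]
      have e3 : ⁅k, k'⁆ = u * (l * u * l⁻¹) := by
        rw [commutatorElement_def, mul_assoc (k * k'), e1, e2]; group
      have e4 : ⁅w * k, w' * k'⁆ = w * (k * w' * k⁻¹) * ⁅k, k'⁆ * (k' * w⁻¹ * k'⁻¹) * w'⁻¹ := by
        simp only [commutatorElement_def]; group
      have : ⁅w * k, w' * k'⁆ ∈ W a t := by
        rw [e4, e3]
        exact mul_mem (mul_mem (mul_mem (mul_mem hw (hWn _ hk.1 _ hw'))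
          (mul_mem hu (hWn _ hl.1 _ hu))) (hWn _ hk'.1 _ (inv_mem hw))) (inv_mem hw')
      exact (hWC _ this.1.1).2 this)
  obtain ⟨w, hw, k, hk, rfl⟩ := hBW g (hAB g hg)
  refine ⟨k, hk, fun x hx => ?_⟩
  obtain ⟨w', hw', n, e1⟩ := h4 x (hBA (hKB x hx))
  rw [(show Commute w k from (hw.2 k hk).symm).mul_pow, ← mul_assoc] at e1
  have := VK_unique hS (one_mem _) (mul_mem hw'.1 (pow_mem hw.1 n)) hx (K_pow hk n)
    (by rw [one_mul, e1])
  exact this.2 ▸ pow_mem (mem_zpowers k) n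

theorem mem_KK {x : G} : x ∈ KK a t ↔ x ∈ K a t := by
  obtain ⟨k, hk, h⟩ := exists_K_gen hS h2
  exact ⟨fun hx => K_zpowers hk ((closure_le (zpowers k)).2 h hx), fun hx => subset_closure hx⟩

theorem isCyclic_KK : IsCyclic (KK a t) := by
  obtain ⟨k, hk, h⟩ := exists_K_gen hS h2
  exact isCyclic_of_le ((closure_le (zpowers k)).2 h)

theorem K_commute {k l : G} (hk : k ∈ K a t) (hl : l ∈ K a t) : Commute k l :=
  congrArg Subtype.val ((isCyclic_KK hS h2).isMulCommutative.1.1 ⟨k, subset_closure hk⟩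
    ⟨l, subset_closure hl⟩)

theorem K_mul {k l : G} (hk : k ∈ K a t) (hl : l ∈ K a t) : k * l ∈ K a t :=
  (mem_KK hS h2).1 (mul_mem (subset_closure hk) (subset_closure hl))

theorem K_conj {k d : G} (hk : k ∈ K a t) (hd : d ∈ D a t) : d * k * d⁻¹ ∈ K a t := by
  obtain ⟨v, hv, l, hl, rfl⟩ := exists_VK hS hd
  rw [show v * l * k * (v * l)⁻¹ = v * (l * k * l⁻¹) * v⁻¹ by group,
    commute_iff_conj.1 (K_commute hS h2 hl hk)]
  exact K_conj_V hS hk hv.1 (V_commute hv)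

/-- The field structure on `Q0`. -/
theorem exists_field {s : G} (hs : s ∈ I G a) :
    ∃ (F : Type) (_ : Field F) (_ : Fintype F) (φ : F → G) (δ : F → G), Function.Injective φ ∧
      (∀ x, x ∈ Q0 G a ↔ ∃ c, φ c = x) ∧ (∀ b c, φ (b + c) = φ b * φ c) ∧ φ 1 = s ∧
      (∀ c, c ≠ 0 → δ c ∈ K a t ∧ ∀ b, δ c * φ b * (δ c)⁻¹ = φ (c * b)) := by
  obtain ⟨F, _, _, φ, δ, h1, h3, h4, h5, h6⟩ := exists_field_of_regular (T := Q0 G a) (D := KK a t)
    (fun x hx y hy => Q0_central hS h2 hx (Q0_le hS hy))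
    (fun x hx y hy => K_commute hS h2 ((mem_KK hS h2).1 hx) ((mem_KK hS h2).1 hy))
    (fun x hx => H_le_normalizer_Q0 ((mem_KK hS h2).1 hx).1.1) (subset_closure hs) hs.2.1
    (fun x hx hx1 => by
      obtain ⟨k, hk, e⟩ := K_surj hS hs (Q0_I hS h2 hx hx1)
      exact ⟨k⁻¹, subset_closure (K_inv hk), by rwa [inv_inv]⟩)
  exact ⟨F, inferInstance, inferInstance, φ, δ, h1, h3, h4, h5, fun c hc => ⟨(mem_KK hS h2).1 (h6 c hc).1, (h6 c hc).2⟩⟩

theorem exists_V_gen : ∃ v ∈ V a t, W a t ⊔ zpowers v = V a t := by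
  obtain ⟨⟨s, r⟩, ⟨hs, hr, e⟩, -⟩ := structure_eq hS
  dsimp only at hs hr e
  obtain ⟨F, _, _, φ, δ, h1, h3, h4, h5, h6⟩ := exists_field hS h2 hs
  have h0 : φ 0 = 1 := by simpa using h4 0 0
  have key : ∀ v : V a t, ∀ c, ∃ b, φ b = v * φ c * (v : G)⁻¹ := fun v c =>
    (h3 _).1 (conj_mem_of_mem_normalizer (H_le_normalizer_Q0 v.2.1.1) ((h3 _).2 ⟨c, rfl⟩))
  choose σ hσ using key
  have hσ1 : ∀ c, σ 1 c = c := fun c => h1 (by simp [hσ])
  have hσm : ∀ v w c, σ (v * w) c = σ v (σ w c) := fun v w c => h1 (by simp [hσ, mul_assoc])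
  have hσ0 : ∀ v, σ v 0 = 0 := fun v => h1 (by simp [hσ, h0])
  have hmul : ∀ v b c, σ v (b * c) = σ v b * σ v c := fun v b c => by
    by_cases hb : b = 0
    · simp [hb, hσ0]
    have hb' : σ v b ≠ 0 := fun e => hb (h1 (by
      have := hσ v b
      rw [e, h0] at this
      simpa [h0] using this.symm))
    have h7 := K_inj hS hs (K_inv (K_conj_V hS (h6 b hb).1 v.2.1 (V_commute v.2)))
      (K_inv (h6 _ hb').1) (by
        rw [inv_inv, inv_inv, ← h5, (h6 _ hb').2, mul_one, hσ, h5]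
        conv_rhs => rw [← mul_one b, ← (h6 b hb).2, h5]
        conv_lhs => rw [← commute_iff_conj.1 (V_commute_s hS hs hr e v.2).1]
        group)
    apply h1
    rw [← (h6 _ hb').2, ← inv_injective h7, hσ, hσ, ← (h6 b hb).2]
    group
  let ρ : V a t →* (F ≃+* F) :=
    { toFun := fun v =>
        { toFun := σ v
          invFun := σ v⁻¹
          left_inv := fun c => by rw [← hσm, inv_mul_cancel, hσ1]
          right_inv := fun c => by rw [← hσm, mul_inv_cancel, hσ1]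
          map_mul' := hmul v
          map_add' := fun b c => h1 (by rw [h4, hσ, hσ, hσ, h4, conj_mul]) }
      map_one' := RingEquiv.ext hσ1
      map_mul' := fun v w => RingEquiv.ext (hσm v w) }
  have hc : IsCyclic (F ≃+* F) := isCyclic_ringAut F
  obtain ⟨⟨_, v, rfl⟩, hv⟩ := (inferInstance : IsCyclic ρ.range).exists_generator
  refine ⟨v, v.2, le_antisymm (sup_le inf_le_left (zpowers_le.2 v.2)) fun x hx => ?_⟩
  obtain ⟨n, hn⟩ := hv ⟨ρ ⟨x, hx⟩, _, rfl⟩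
  have h7 : ρ v ^ n = ρ ⟨x, hx⟩ := congrArg Subtype.val hn
  have h8 : ρ (⟨x, hx⟩ * (v ^ n)⁻¹) = 1 := by rw [map_mul, map_inv, map_zpow, h7, mul_inv_cancel]
  have h9 : x * ((v : G) ^ n)⁻¹ ∈ W a t := by
    rw [W_eq' hS]
    refine mem_inf.2 ⟨mul_mem hx.1 (inv_mem (zpow_mem (mem_inf.1 v.2).1 n)), fun y hy => ?_⟩
    obtain ⟨c, rfl⟩ := (h3 y).1 hy
    have := hσ (⟨x, hx⟩ * (v ^ n)⁻¹) c
    rw [show σ _ c = c from congrArg (fun f : F ≃+* F => f c) h8] at this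
    exact (commute_iff_conj.2 this.symm).symm.eq
  simpa using mul_mem (mem_sup_left (T := zpowers (v : G)) h9)
    (mem_sup_right (S := W a t) (zpow_mem (mem_zpowers (v : G)) n))

end Cfsg.Agent.RankOne
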