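import Cfsg.Agent.Lib.Char.RankOne2
import Cfsg.Agent.Lib.Char.Hig3

/-!
The split rank-one set-up: the action of `t` on `Q`, the order of `s t`, the subgroup generated by
`Q` and `t`, and the identification principle.
-/

set_option autoImplicit false
set_option linter.unusedSectionVars false

namespace Cfsg.Agent.RankOne

open MulAction Subgroup Cfsg.Agent.Perm Cfsg.Agent.Transfer

variable {G Ω : Type*} [Group G] [Finite G] [MulAction G Ω] {a : Ω} {t : G} {Q : Subgroup G}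
  {x y z s r k d : G}

/-- Two commuting involutions. -/
abbrev R2 (G : Type*) [Group G] : Prop :=
  ∃ x y : G, x ≠ 1 ∧ y ≠ 1 ∧ x ≠ y ∧ x * x = 1 ∧ y * y = 1 ∧ x * y = y * x

/-- The action of `t` on the points `x • t • a`. -/
noncomputable def TT (a : Ω) (t : G) (Q : Subgroup G) (x : G) : G :=
  Classical.epsilon fun y => y ∈ Q ∧ y • t • a = t • x • t • a

/-- The `D`-part of the canonical form of `t x t`. -/
noncomputable def hh (a : Ω) (t : G) (Q : Subgroup G) (x : G) : G :=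
  (TT a t Q x)⁻¹ * (t * x * t) * TT a t Q x⁻¹ * t

variable (hS : IsRankOneSetup G Ω a t Q)
include hS

theorem TT_spec (hx : x ∈ Q) (h1 : x ≠ 1) :
    TT a t Q x ∈ Q ∧ TT a t Q x • t • a = t • x • t • a :=
  Classical.epsilon_spec (p := fun y => y ∈ Q ∧ y • t • a = t • x • t • a) (exists_Q hS (by
    simpa only [mul_smul] using tst_ne hS hx h1))

theorem TT_mem (hx : x ∈ Q) (h1 : x ≠ 1) : TT a t Q x ∈ Q := (TT_spec hS hx h1).1

theorem TT_smul (hx : x ∈ Q) (h1 : x ≠ 1) : TT a t Q x • t • a = t • x • t • a :=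
  (TT_spec hS hx h1).2

theorem TT_eq (hx : x ∈ Q) (h1 : x ≠ 1) (hy : y ∈ Q) (e : y • t • a = t • x • t • a) :
    TT a t Q x = y :=
  Q_inj hS (TT_mem hS hx h1) hy (ta_ne hS) (by rw [TT_smul hS hx h1, e])

theorem TT_ne (hx : x ∈ Q) (h1 : x ≠ 1) : TT a t Q x ≠ 1 := fun e => by
  have := TT_smul hS hx h1
  rw [e, one_smul, smul_left_cancel_iff] at this
  exact smul_ne hS (Q_smul hS hx) (ta_ne hS) this.symm

theorem TT_TT (hx : x ∈ Q) (h1 : x ≠ 1) : TT a t Q (TT a t Q x) = x :=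
  TT_eq hS (TT_mem hS hx h1) (TT_ne hS hx h1) hx (by rw [TT_smul hS hx h1, tt_smul hS])

theorem TT_of_eq {g h f : G} (hx : x ∈ Q) (h1 : x ≠ 1) (hg : g ∈ Q) (hh : h ∈ D a t) (hf : f ∈ Q)
    (e : t * x * t = g * h * t * f) : TT a t Q x = g :=
  TT_eq hS hx h1 hg (by
    rw [← mul_smul t x, ← mul_smul (t * x), e, mul_smul, mul_smul, mul_smul, Q_smul hS hf, hh.2])

theorem TT_conj (hx : x ∈ Q) (h1 : x ≠ 1) (hd : d ∈ D a t) :
    TT a t Q (d * x * d⁻¹) = (t * d * t) * TT a t Q x * (t * d * t)⁻¹ := by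
  have h2 := conj_t_mem' hS hd
  refine TT_eq hS (hS.conj_mem d hd.1 x hx) (by simpa using h1)
    (hS.conj_mem _ h2.1 _ (TT_mem hS hx h1)) ?_
  rw [mul_smul, mul_smul, (inv_mem h2).2, TT_smul hS hx h1]
  simp only [mul_smul, tt_smul hS, show d⁻¹ • t • a = t • a from (inv_mem hd).2]

theorem t_K_t (hk : k ∈ K a t) : t * k * t = k⁻¹ := by rw [← hk.2, inv_t hS]

theorem t_V_t (hk : d ∈ V a t) : t * d * t = d := by
  rw [← (V_commute hk).eq, mul_assoc, hS.mul_self, mul_one]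

theorem TT_conj_K (hx : x ∈ Q) (h1 : x ≠ 1) (hk : k ∈ K a t) :
    TT a t Q (k * x * k⁻¹) = k⁻¹ * TT a t Q x * k := by
  rw [TT_conj hS hx h1 hk.1, t_K_t hS hk, inv_inv]

theorem TT_conj_V (hx : x ∈ Q) (h1 : x ≠ 1) (hd : d ∈ V a t) :
    TT a t Q (d * x * d⁻¹) = d * TT a t Q x * d⁻¹ := by
  rw [TT_conj hS hx h1 hd.1, t_V_t hS hd]

theorem canon (x : G) : t * x * t = TT a t Q x * hh a t Q x * t * (TT a t Q x⁻¹)⁻¹ := by
  simp [hh, mul_assoc, hS.mul_self]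

theorem hh_mem (hx : x ∈ Q) (h1 : x ≠ 1) : hh a t Q x ∈ D a t := by
  have h2 := TT_smul hS (inv_mem hx) (inv_ne_one.2 h1)
  have h3 := TT_smul hS hx h1
  refine mem_D.2 ⟨?_, ?_⟩
  · simp only [hh, mul_smul, h2, tt_smul hS, smul_inv_smul]
    exact Q_smul hS (inv_mem (TT_mem hS hx h1))
  · simp only [hh, mul_smul, tt_smul hS, Q_smul hS (TT_mem hS (inv_mem hx) (inv_ne_one.2 h1)), ← h3,
      inv_smul_smul]

theorem hh_of_eq {g h f : G} (hx : x ∈ Q) (h1 : x ≠ 1) (hg : g ∈ Q) (hd : h ∈ D a t) (hf : f ∈ Q)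
    (e : t * x * t = g * h * t * f) :
    TT a t Q x = g ∧ hh a t Q x = h ∧ (TT a t Q x⁻¹)⁻¹ = f :=
  canon_unique hS (TT_mem hS hx h1) hg (hh_mem hS hx h1) hd
    (inv_mem (TT_mem hS (inv_mem hx) (inv_ne_one.2 h1))) hf ((canon hS x).symm.trans e)

theorem H6_ne (hx : x ∈ Q) (h1 : x ≠ 1) (hy : y ∈ Q) (h2 : y ≠ 1) (h3 : x * y ≠ 1) :
    (TT a t Q x⁻¹)⁻¹ * TT a t Q y ≠ 1 := fun e => h3 (by
  have := congrArg (TT a t Q) (inv_mul_eq_one.1 e)
  rw [TT_TT hS hy h2, TT_TT hS (inv_mem hx) (inv_ne_one.2 h1)] at this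
  rw [← this, mul_inv_cancel])

theorem H6 (hx : x ∈ Q) (h1 : x ≠ 1) (hy : y ∈ Q) (h2 : y ≠ 1) (h3 : x * y ≠ 1) :
    TT a t Q (x * y) = TT a t Q x *
      (hh a t Q x * TT a t Q ((TT a t Q x⁻¹)⁻¹ * TT a t Q y) * (hh a t Q x)⁻¹) := by
  have h4 := mul_mem (inv_mem (TT_mem hS (inv_mem hx) (inv_ne_one.2 h1))) (TT_mem hS hy h2)
  have h5 := H6_ne hS hx h1 hy h2 h3
  refine TT_eq hS (mul_mem hx hy) h3 (mul_mem (TT_mem hS hx h1) (hS.conj_mem _ (hh_mem hS hx h1).1 _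
    (TT_mem hS h4 h5))) ?_
  rw [mul_smul, mul_smul, mul_smul, (inv_mem (hh_mem hS hx h1)).2, TT_smul hS h4 h5, mul_smul,
    TT_smul hS hy h2]
  have := congrArg (fun g : G => g • t • y • t • a) (canon hS x)
  simp only [mul_smul, tt_smul hS] at this ⊢
  exact this.symm

theorem H5 (hx : x ∈ Q) (h1 : x ≠ 1) :
    hh a t Q x * TT a t Q (TT a t Q x⁻¹)⁻¹ * (hh a t Q x)⁻¹ = (TT a t Q x)⁻¹ := by
  have h2 := TT_mem hS (inv_mem hx) (inv_ne_one.2 h1)
  have h3 := TT_ne hS (inv_mem hx) (inv_ne_one.2 h1)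
  have h4 := hh_mem hS hx h1
  rw [TT_of_eq hS (inv_mem h2) (inv_ne_one.2 h3) (conj_mem' hS h4.1 (inv_mem (TT_mem hS hx h1)))
    (inv_mem h4) hx (by simp [hh, mul_assoc, hS.mul_self, inv_t hS, ← mul_assoc t t])]
  group

section SP

variable (hs : s ∈ I G a) (hr : r ∈ Q) (e : t * s * t = r⁻¹ * t * r)
include hs hr e

theorem SP_s : TT a t Q s = r⁻¹ ∧ hh a t Q s = 1 ∧ (TT a t Q s⁻¹)⁻¹ = r :=
  hh_of_eq hS (I_Q hS hs) hs.2.1 (inv_mem hr) (one_mem _) hr (by simpa using e)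

theorem r_ne : r ≠ 1 := fun h => TT_ne hS (I_Q hS hs) hs.2.1 (by rw [(SP_s hS hs hr e).1, h, inv_one])

theorem SP_r : TT a t Q r = r ∧ hh a t Q r = 1 ∧ (TT a t Q r⁻¹)⁻¹ = s :=
  hh_of_eq hS hr (r_ne hS hs hr e) hr (one_mem _) (I_Q hS hs) (by
    calc t * r * t = r * (r⁻¹ * t * r) * t := by group
      _ = _ := by rw [← e]; simp [mul_assoc, hS.mul_self])

theorem SP_unique {u : G} (hu : u ∈ I G a) (h : t * u * t = u * t * u) : s = u ∧ r = u := by
  obtain ⟨p, -, hp⟩ := structure_eq hS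
  have := (hp (s, r) ⟨hs, hr, e⟩).trans (hp (u, u) ⟨hu, I_Q hS hu, by
    rw [inv_eq_of_mul_eq_one_right hu.2.2]; exact h⟩).symm
  exact Prod.ext_iff.1 this

end SP

/-- An element inverted by an involution `u` which fixes a point not fixed by `u` is conjugate
into `K`. -/
theorem exists_conj_K {u : G} (hu : u * u = 1) (hx : u * x * u⁻¹ = x⁻¹) {c : Ω} (hc : x • c = c)
    (hc' : u • c ≠ c) : ∃ g : G, g * x * g⁻¹ ∈ K a t := by
  obtain ⟨g, h1, h2⟩ := two hS hc'.symm (ta_ne hS).symm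
  have h3 : x • u • c = u • c := by
    rw [eq_comm, ← inv_smul_eq_iff (g := x), ← hx, mul_smul, mul_smul, inv_smul_smul, hc]
  have h4 : g * x * g⁻¹ ∈ D a t := by
    rw [mem_D, ← h2, ← h1]
    simp [mul_smul, hc, h3]
  have h5 := mem_K_of_swap hS (conj_mul_self hu g) (by
    rw [← h2, ← h1]; simp [mul_smul])
  obtain ⟨l, hl, e⟩ := K_sqrt hS h5
  have h6 : g * u * g⁻¹ = l * t * l⁻¹ := by
    rw [mul_assoc l, ← K_mul_t' hS hl, ← mul_assoc, e]; simp [mul_assoc, hS.mul_self]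
  refine ⟨l⁻¹ * g, ?_, ?_⟩
  · convert mul_mem (mul_mem (inv_mem hl.1) h4) hl.1 using 1; group
  · calc _ = l⁻¹ * ((l * t * l⁻¹) * (g * x * g⁻¹) * (l * t * l⁻¹)⁻¹) * l := by group
      _ = l⁻¹ * g * (u * x * u⁻¹) * (l⁻¹ * g)⁻¹ := by rw [← h6]; group
      _ = _ := by rw [hx]; group

theorem K_fix (hk : k ∈ K a t) (h1 : k ≠ 1) {c : Ω} (hc : k • c = c) : c = a ∨ c = t • a := by
  by_contra! h
  obtain ⟨x, hx, rfl⟩ := exists_Q hS h.1
  have h2 := Q_inj hS (hS.conj_mem k hk.1.1 x hx) hx (ta_ne hS) (by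
    rw [mul_smul, mul_smul, (K_inv hk).1.2, hc])
  have h3 : x ∈ Q ⊓ centralizer {k} :=
    ⟨hx, mem_centralizer_singleton'.2 (commute_iff_conj.2 h2).symm⟩
  rw [K_fpf hS hk h1, mem_bot] at h3
  exact h.2 (by rw [h3, one_smul])

theorem eq_one_of_commute_mul {u z : G} (hu : u ∈ I G a) (hz : z * z = 1) (h : Commute z (u * t)) :
    z = 1 :=
  eq_one_of_odd_of_mul_self (odd_orderOf_of_mem (odd_centralizer hS hu)
    (mem_centralizer_singleton'.2 h)) hz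

/-! ### subgroups containing `Q` and `t` -/

theorem setup_sub {M : Subgroup G} (hQ : Q ≤ M) (ht : t ∈ M) :
    IsRankOneSetup M Ω a ⟨t, ht⟩ (Q.subgroupOf M) := by
  have key : ∀ b c : Ω, b ≠ c → ∃ g : M, g • b = a ∧ g • c = t • a := fun b c hbc => by
    have h1 : ∃ g : M, g • b = a := by
      by_cases hb : b = a
      · exact ⟨1, by simpa using hb⟩
      · obtain ⟨x, hx, e⟩ := exists_Q' hS hb (ta_ne hS)
        exact ⟨⟨t * x, mul_mem ht (hQ hx)⟩, by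
          show (t * x) • b = a
          rw [mul_smul, e, tt_smul hS]⟩
    obtain ⟨g, rfl⟩ := h1
    obtain ⟨x, hx, e⟩ := exists_Q' hS (b := g • c) (fun e => hbc (smul_left_cancel g e).symm) (ta_ne hS)
    exact ⟨⟨x, hQ hx⟩ * g, by rw [mul_smul]; exact Q_smul hS hx, by rw [mul_smul]; exact e⟩
  refine ⟨two_trans_iff.2 fun b c b' c' h h' => ?_, Subtype.ext hS.mul_self,
    fun e => hS.ne_one (congrArg Subtype.val e), hS.not_mem, fun x hx => hS.le hx,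
    fun h hh x hx => hS.conj_mem h hh x hx, eq_bot_iff.2 fun x hx =>
      Subtype.ext (eq_one_of_fix hS hx.1 (ta_ne hS) hx.2), le_antisymm (sup_le (fun x hx => hS.le hx)
      inf_le_left) fun h hh => ?_, by rw [Solv.card_subgroupOf_of_le hQ]; exact hS.even_card,
    hS.odd_card.of_dvd_nat (card_dvd_of_injective ((M.subtype.comp (Subgroup.subtype _)).codRestrict (D a t)
      fun x => x.2) fun x y e => Subtype.ext (Subtype.ext (Subtype.ext_iff.1 e :)))⟩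
  · obtain ⟨g, h1, h2⟩ := key b c h
    obtain ⟨g', h3, h4⟩ := key b' c' h'
    exact ⟨g'⁻¹ * g, by rw [mul_smul, h1, ← h3, inv_smul_smul], by rw [mul_smul, h2, ← h4, inv_smul_smul]⟩
  · obtain ⟨x, hx, d, hd, e⟩ := exists_mul hS (h := h) hh
    have : d ∈ M := by simpa [e] using mul_mem (inv_mem (hQ hx)) h.2
    rw [show h = ⟨x, hQ hx⟩ * ⟨d, this⟩ from Subtype.ext e]
    exact mul_mem (mem_sup_left hx) (mem_sup_right hd)

theorem K_le {M : Subgroup G} (hQ : Q ≤ M) (ht : t ∈ M) (hk : k ∈ K a t) : k ∈ M := by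
  obtain ⟨s, hs⟩ := I_nonempty hS
  have h1 := I_conj' hs hk.1.1
  obtain ⟨l, hl, e⟩ := K_surj (setup_sub hS hQ ht) (s := ⟨s, hQ (I_Q hS hs)⟩)
    (s' := ⟨_, hQ (I_Q hS h1)⟩) ⟨hs.1, fun e => hs.2.1 (congrArg Subtype.val e), Subtype.ext hs.2.2⟩
    ⟨h1.1, fun e => h1.2.1 (congrArg Subtype.val e), Subtype.ext h1.2.2⟩
  rw [← K_inj hS hs (k := l) ⟨hl.1, congrArg Subtype.val hl.2⟩ hk (congrArg Subtype.val e)]
  exact l.2

theorem R2_sub (h2 : R2 G) {M : Subgroup G} (hQ : Q ≤ M) : R2 M := by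
  obtain ⟨x, hx, y, hy, h1, h3⟩ := exists_four hS h2
  exact ⟨⟨x, hQ (I_Q hS hx)⟩, ⟨y, hQ (I_Q hS hy)⟩, fun e => hx.2.1 (congrArg Subtype.val e),
    fun e => hy.2.1 (congrArg Subtype.val e), fun e => h1 (congrArg Subtype.val e),
    Subtype.ext hx.2.2, Subtype.ext hy.2.2, Subtype.ext h3⟩

omit hS in
/-- The subgroup generated by `Q` and `t`. -/
abbrev LL (t : G) (Q : Subgroup G) : Subgroup G := Q ⊔ zpowers t

theorem eq_top_of {M : Subgroup G} (hQ : Q ≤ M) (ht : t ∈ M) (hD : D a t ≤ M) : M = ⊤ :=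
  eq_top_iff.2 fun g _ => by
    by_cases hg : g • a = a
    · obtain ⟨x, hx, d, hd, rfl⟩ := exists_mul hS hg
      exact mul_mem (hQ hx) (hD hd)
    · obtain ⟨x, hx, d, hd, y, hy, rfl⟩ := exists_canon hS hg
      exact mul_mem (mul_mem (mul_mem (hQ hx) (hD hd)) ht) (hQ hy)

theorem comm_t_mem (hd : d ∈ D a t) : d * t * d⁻¹ * t ∈ K a t :=
  mem_K_of_swap hS (conj_mul_self hS.mul_self d) (by
    rw [mul_smul, mul_smul, (inv_mem hd).1, hd.2])

theorem LL_normal : (LL t Q).Normal := by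
  have ht : t ∈ LL t Q := mem_sup_right (mem_zpowers t)
  refine Solv.normal_iff_top_le_normalizer.2 (eq_top_of hS (le_sup_left.trans le_normalizer)
    (le_normalizer ht) fun d hd => mem_normalizer_of_cj_le ?_).ge
  rw [cj_sup, cj_zpowers]
  refine sup_le ((cj_eq_of_mem_normalizer (H_le_normalizer hS hd.1)).le.trans le_sup_left)
    (zpowers_le.2 ?_)
  simpa [mul_assoc, hS.mul_self] using mul_mem (K_le hS le_sup_left ht (comm_t_mem hS hd)) ht

theorem odd_index {M : Subgroup G} [M.Normal] (hQ : Q ≤ M) (ht : t ∈ M) : Odd M.index := by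
  have h1 := eq_top_of hS (M := D a t ⊔ M) (hQ.trans le_sup_right) (mem_sup_right ht) le_sup_left
  rw [← relIndex_top_right, ← h1, relIndex_sup_right]
  exact hS.odd_card.of_dvd_nat (relIndex_dvd_card _ _)

theorem eq_one_of_fix_all [FaithfulSMul G Ω] {g : G} (hg : g ∈ D a t) (h : ∀ x ∈ Q, Commute g x) :
    g = 1 :=
  eq_of_smul_eq_smul (α := Ω) fun c => by
    by_cases hc : c = a
    · rw [hc, one_smul]; exact hg.1
    · obtain ⟨x, hx, rfl⟩ := exists_Q hS hc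
      rw [one_smul, ← mul_smul, (h x hx).eq, mul_smul, hg.2]

theorem le_of_normal [FaithfulSMul G Ω] (h2 : R2 G) (N : Subgroup G) [hN : N.Normal] (h0 : N ≠ ⊥) :
    Q ≤ N ∧ t ∈ N := by
  have h1 : Even (Nat.card N) := by
    refine Nat.not_odd_iff_even.1 fun h => h0 (eq_bot_iff.2 fun g hg =>
      eq_of_smul_eq_smul (α := Ω) fun c => ?_)
    obtain ⟨k, rfl⟩ := (pretrans hS).exists_smul_eq a c
    have : (k⁻¹ * g * k⁻¹⁻¹) • a = a := normal_odd_le hS h2 N h (hN.conj_mem g hg k⁻¹)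
    rw [inv_inv, mul_smul, mul_smul, inv_smul_eq_iff] at this
    rw [this, one_smul]
  obtain ⟨u, hu, h3⟩ := exists_invol_mem h1
  obtain ⟨g, hg⟩ := isConj_iff.1 (se_isConj (se hS) h3 (ord_t hS))
  have ht : t ∈ N := hg ▸ hN.conj_mem u hu g
  refine ⟨fun x hx => ?_, ht⟩
  obtain ⟨k, hk, h4⟩ := exists_K_ne hS h2
  obtain ⟨l, hl, rfl⟩ := K_sqrt hS hk
  have h5 : l * l ∈ N := by
    have := mul_mem (hN.conj_mem t ht l) ht
    rwa [mul_assoc l, ← K_mul_t' hS hl, mul_assoc, mul_assoc, hS.mul_self, mul_one] at this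
  obtain ⟨y, -, e⟩ := Solv.exists_conj_eq_mul_of_fpf (H_le_normalizer hS hk.1.1) (K_fpf hS hk h4) hx
  have := mul_mem (hN.conj_mem _ h5 y) (inv_mem h5)
  rwa [e, mul_inv_cancel_right] at this

theorem simple_LL [FaithfulSMul G Ω] (h2 : R2 G) : IsSimpleGroup (LL t Q) := by
  have ht : t ∈ LL t Q := mem_sup_right (mem_zpowers t)
  have : Nontrivial (LL t Q) := ⟨⟨⟨t, ht⟩, 1, fun e => hS.ne_one (congrArg Subtype.val e)⟩⟩
  refine ⟨fun N hN => or_iff_not_imp_left.2 fun h0 => ?_⟩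
  obtain ⟨h1, h3⟩ := le_of_normal (setup_sub hS le_sup_left ht) (R2_sub hS h2 le_sup_left) N h0
  rw [eq_top_iff, ← map_subtype_le_map_subtype, ← MonoidHom.range_eq_map, range_subtype]
  exact sup_le (fun x hx => ⟨⟨x, mem_sup_left hx⟩, h1 hx, rfl⟩) (zpowers_le.2 ⟨_, h3, rfl⟩)

theorem LL_eq_top [IsSimpleGroup G] : LL t Q = ⊤ :=
  (LL_normal hS).eq_bot_or_eq_top.resolve_left fun e =>
    hS.ne_one (mem_bot.1 (e ▸ mem_sup_right (mem_zpowers t)))

theorem bij_pt : Function.Bijective fun o : Option Q => o.elim a fun x => (x : G) • t • a := by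
  refine ⟨?_, fun c => ?_⟩
  · rintro (_ | x) (_ | y) e
    · rfl
    · exact absurd e.symm (smul_ne hS (Q_smul hS y.2) (ta_ne hS))
    · exact absurd e (smul_ne hS (Q_smul hS x.2) (ta_ne hS))
    · exact congrArg some (Subtype.ext (Q_inj hS x.2 y.2 (ta_ne hS) e))
  · by_cases hc : c = a
    · exact ⟨none, hc.symm⟩
    · obtain ⟨x, hx, e⟩ := exists_Q hS hc
      exact ⟨some ⟨x, hx⟩, e⟩

/-- The identification principle. -/
theorem iso_of_TT [FaithfulSMul G Ω] {G' Ω' : Type*} [Group G'] [Finite G'] [MulAction G' Ω']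
    [FaithfulSMul G' Ω'] {a' : Ω'} {t' : G'} {Q' : Subgroup G'} (hS' : IsRankOneSetup G' Ω' a' t' Q')
    (ψ : Q ≃* Q') (h : ∀ x : Q, ∀ h1 : (x : G) ≠ 1,
      TT a' t' Q' (ψ x) = ψ ⟨TT a t Q x, TT_mem hS x.2 h1⟩) :
    Nonempty (LL t Q ≃* LL t' Q') := by
  let Φ : Ω ≃ Ω' := ((Equiv.ofBijective _ (bij_pt hS)).symm.trans (Equiv.optionCongr ψ.toEquiv)).trans
    (Equiv.ofBijective _ (bij_pt hS'))
  have h1 : Φ a = a' := by
    show Equiv.ofBijective _ (bij_pt hS') (Equiv.optionCongr _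
      ((Equiv.ofBijective _ (bij_pt hS)).symm (Equiv.ofBijective _ (bij_pt hS) none))) = _
    rw [Equiv.symm_apply_apply]; rfl
  have h2 : ∀ x : Q, Φ ((x : G) • t • a) = (ψ x : G') • t' • a' := fun x => by
    show Equiv.ofBijective _ (bij_pt hS') (Equiv.optionCongr _
      ((Equiv.ofBijective _ (bij_pt hS)).symm (Equiv.ofBijective _ (bij_pt hS) (some x)))) = _
    rw [Equiv.symm_apply_apply]; rfl
  have h3 : ∀ x : Q, ∀ c, Φ ((x : G) • c) = (ψ x : G') • Φ c := fun x c => by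
    by_cases hc : c = a
    · rw [hc, Q_smul hS x.2, h1, Q_smul hS' (ψ x).2]
    · obtain ⟨y, hy, rfl⟩ := exists_Q hS hc
      rw [← mul_smul, h2 ⟨y, hy⟩, ← mul_smul (ψ x : G'), ← coe_mul, ← map_mul, ← h2]; rfl
  have h4 : ∀ c, Φ (t • c) = t' • Φ c := fun c => by
    have h5 : Φ (t • a) = t' • a' := by simpa using h2 1
    by_cases hc : c = a
    · rw [hc, h1, h5]
    · obtain ⟨y, hy, rfl⟩ := exists_Q hS hc
      by_cases h6 : y = 1
      · rw [h6, one_smul, tt_smul hS, h5, h1, tt_smul hS']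
      · rw [← TT_smul hS hy h6, h2 ⟨_, TT_mem hS hy h6⟩, h2 ⟨y, hy⟩, ← h ⟨y, hy⟩ h6,
          TT_smul hS' (ψ _).2 fun e => h6 (congrArg Subtype.val (ψ.map_eq_one_iff.1 (Subtype.ext e)))]
  let f : G →* Equiv.Perm Ω' := Φ.permCongrHom.toMonoidHom.comp (toPermHom G Ω)
  have hf : ∀ g c, f g (Φ c) = Φ (g • c) := fun g c => by simp [f]
  have h5 : (LL t Q).map f = (LL t' Q').map (toPermHom G' Ω') := by
    have h6 : ∀ x : Q, f x = toPermHom G' Ω' (ψ x) := fun x => Equiv.ext fun c => by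
      obtain ⟨c, rfl⟩ := Φ.surjective c
      rw [hf, h3]; rfl
    have h7 : f t = toPermHom G' Ω' t' := Equiv.ext fun c => by
      obtain ⟨c, rfl⟩ := Φ.surjective c
      rw [hf, h4]; rfl
    rw [Subgroup.map_sup, Subgroup.map_sup, MonoidHom.map_zpowers, MonoidHom.map_zpowers, h7]
    congr 1
    ext p
    constructor
    · rintro ⟨x, hx, rfl⟩
      exact ⟨_, (ψ ⟨x, hx⟩).2, (h6 ⟨x, hx⟩).symm⟩
    · rintro ⟨x, hx, rfl⟩
      exact ⟨_, (ψ.symm ⟨x, hx⟩).2, by rw [h6, ψ.apply_symm_apply]⟩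
  exact ⟨((equivMapOfInjective _ f (Φ.permCongrHom.injective.comp toPerm_injective)).trans
    (MulEquiv.subgroupCongr h5)).trans (equivMapOfInjective _ _ toPerm_injective).symm⟩

end Cfsg.Agent.RankOne
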