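import Cfsg.Agent.Lib.Char.Zass7
import Cfsg.Agent.Lib.BG.Sec3

/-!
Sharply triply transitive groups, and doubly transitive groups with a regular normal subgroup.
-/

set_option autoImplicit false
set_option linter.unusedSectionVars false

namespace Cfsg.Agent.Zass

open MulAction Subgroup Cfsg.Agent.Perm Cfsg.Agent.Char OnePoint Cfsg.Agent.Perm.GL2

variable {G Ω : Type*} [Group G] [MulAction G Ω] [Finite Ω] {a b c : Ω} {H N : Subgroup G}
  {F : Type} [Field F] {ψ : OnePoint F ≃ Ω} {δ : G → F}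

theorem Coord.exists_aut [Finite F] (hK : ZK G a H) (h : Coord a b H N ψ δ) (hN : N ≤ E G a b)
    (hc : ∀ x ∈ N, ∀ y ∈ N, x * y = y * x) {g : G} (hg : g ∈ E G a b)
    (hn : ∀ d ∈ N, g * d * g⁻¹ ∈ N) :
    ∃ (k : F) (σ : F ≃+* F), k ≠ 0 ∧ ∀ x : F, g • ψ x = ψ (k * σ x : F) := by
  choose τ hτ using fun x : F => h.exists_coe (x := g • ψ x) fun e =>
    h.coe_ne x (MulAction.injective g (e.trans hg.1.symm))
  have h0 : τ 0 = 0 := Coord.coe_inj (ψ := ψ) (by rw [hτ, h.zero, hg.2])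
  have h1 : ∀ x y, τ (x + y) = τ x + τ y := fun x y => by
    obtain ⟨u, hu, e⟩ := h.tr' y
    obtain ⟨z, hz⟩ := h.tr _ (hK.conj_mem hg.1 hu)
    have h2 := fun x => (hz (τ x)).symm.trans (by rw [hτ, conj_smul_smul, e, ← hτ])
    have h3 := Coord.coe_inj (h2 0)
    rw [h0, zero_add, zero_add] at h3
    rw [← Coord.coe_inj (h2 x), h3]
  have h2 : τ 1 ≠ 0 := fun e => one_ne_zero (Coord.coe_inj (ψ := ψ) (MulAction.injective g
    (show g • _ = g • _ by rw [← hτ, ← hτ, e, h0])))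
  let f := AddMonoidHom.mk' τ h1
  let R : Subring F :=
    { carrier := {y | ∀ x, f (y * x) * f 1 = f y * f x}
      one_mem' := fun x => by rw [one_mul, mul_comm]
      zero_mem' := fun x => by simp
      mul_mem' := fun {y z} hy hz x => mul_right_cancel₀ h2 (show _ * f 1 = _ * f 1 by
        rw [mul_assoc y, hy, mul_assoc, hz, mul_right_comm, hy, mul_assoc])
      add_mem' := fun {y z} hy hz x => by rw [add_mul, map_add, map_add, add_mul, add_mul, hy, hz]
      neg_mem' := fun {y} hy x => by rw [neg_mul, map_neg, map_neg, neg_mul, neg_mul, hy] }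
  have h3 : R = ⊤ := eq_top_iff.2 (h.gen ▸ Subring.closure_le.2 (by
    rintro _ ⟨d, hd, rfl⟩ x
    have h3 : ∀ x, τ (δ d * x) = δ (g * d * g⁻¹) * τ x := fun x => Coord.coe_inj (ψ := ψ) (by
      rw [hτ, ← h.mul d (hN hd) (hc d hd), ← h.mul _ (hN (hn d hd)) (hc _ (hn d hd)), hτ,
        conj_smul_smul])
    change τ _ * τ 1 = τ _ * τ x
    rw [h3, ← mul_one (δ d), h3]; ring))
  let σ : F →+* F :=
    { toFun := fun x => f x / f 1
      map_one' := div_self h2
      map_zero' := by simp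
      map_add' := fun x y => by rw [map_add, add_div]
      map_mul' := fun x y => by
        rw [div_mul_div_comm, ← h3.ge (Subring.mem_top x) y, mul_div_mul_right _ _ (show f 1 ≠ 0 from h2)] }
  exact ⟨τ 1, RingEquiv.ofBijective σ (Finite.injective_iff_bijective.1 σ.injective), h2, fun x => by
    rw [← hτ]; exact congrArg (fun y : F => ψ y) (mul_div_cancel₀ _ h2).symm⟩

section fullEven

variable (hZ : IsZassenhausGroup G Ω) (hab : a ≠ b) (hc : Nat.card (E G a b) + 2 = Nat.card Ω)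
  (he : Even (Nat.card (E G a b)))
include hZ hab hc he

theorem exists_coord_full : ∃ (H N : Subgroup G) (s : G) (F : Type) (_ : Field F) (_ : Fintype F)
    (ψ : OnePoint F ≃ Ω) (δ : G → F), ZK G a H ∧ Coord a b H N ψ δ ∧ N ≤ E G a b ∧
    (N.subgroupOf (E G a b)).index = 2 ∧ (∀ x ∈ N, ∀ y ∈ N, x * y = y * x) ∧ s • b = a ∧
    s ∈ LL G ψ := by
  have := finite hZ
  obtain ⟨H, hK⟩ := exists_ZK hZ a
  obtain ⟨c, hca, hcb⟩ := exists_third hZ hab
  obtain ⟨s, h1, h2, h3⟩ := three_trans_iff.1 (three_trans hZ hab hc) a b c b a c hab hca.symm hcb.symm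
    hab.symm hcb.symm hca.symm
  obtain ⟨N, hN, h4, h5⟩ := exists_half hZ hab h1 h2 h3 hc he
  obtain ⟨F, _, _, ψ, δ, h, e⟩ := hK.exists_coord hab hN (by omega) (Coord.comm h5) hca hcb
  have hX : Transfer.FC.FR (E G a b) := .of_fpf (hK.normalizer_eq ▸ inf_le_left) hK.ne_bot
    ((E G a b).one_lt_card_iff_ne_bot.1 (one_lt_card_E hZ hab)) (hK.fpf hab)
  obtain ⟨z, hz⟩ := exists_prime_orderOf_dvd_card' (G := E G a b) 2 he.two_dvd
  have h6 := Transfer.mul_self_of_orderOf hz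
  refine ⟨H, N, s, F, _, inferInstance, ψ, δ, hK, h, hN, Nat.eq_of_mul_eq_mul_right (Nat.card_pos (α := N)) ?_,
    Coord.comm h5, h2, h.swap_mem_of_fix hK hN h1 h2 h5 (by omega) (swap_sq hZ hab h1 h2 h3) (e ▸ h3)
      z.2 (by simpa using hz) ?_ fun d hd =>
      congrArg Subtype.val (mem_center_iff.1 (hX.central h6) ⟨d, hN hd⟩).symm⟩
  · rw [h4, ← Nat.card_congr (subgroupOfEquivOfLe hN).toEquiv, index_mul_card]
  · let σ := (E G a b).normalizerMonoidHom ⟨s, (mem_normalizer_E hZ hab).2 (Or.inr ⟨h1, h2⟩)⟩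
    have h7 := Transfer.ne_one_of_orderOf hz
    exact (mul_inv_eq_iff_eq_mul.1 (congrArg Subtype.val (hX.invol_eq (g := σ z) (by simpa using h7)
      (by rw [← map_mul, h6, map_one]) h7 h6))).symm

theorem pgl_of_not_sq (hn : ¬ IsSquare (Nat.card Ω - 1)) : ∃ (F : Type) (_ : Field F) (_ : Fintype F),
    Fintype.card F + 1 = Nat.card Ω ∧ Nonempty (G ≃* PGL2 F) := by
  obtain ⟨H, N, s, F, _, _, ψ, δ, hK, h, hN, h1, h2, h3, h4⟩ := exists_coord_full hZ hab hc he
  refine ⟨F, _, _, h.card' hK, h.iso_PGL hK (h.LL_top hK h4 h3 fun g hg => ?_) hc⟩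
  obtain ⟨k, σ, hk, e⟩ := h.exists_aut hK hN h2 hg fun d hd =>
    (normal_of_index_eq_two h1).conj_mem ⟨d, hN hd⟩ hd ⟨g, hg⟩
  have h5 : g * g ∈ N := mul_self_mem_of_index_two h1 ⟨g, hg⟩
  have h6 : ∀ x, k * σ (k * σ x) = δ (g * g) * x := fun x => Coord.coe_inj (ψ := ψ) (by
    rw [← e, ← e, ← mul_smul, h.mul _ (hN h5) (h2 _ h5)])
  have h7 : σ ^ 2 = 1 := RingEquiv.ext fun x => mul_left_cancel₀ (h.ne_zero (hN h5) (h2 _ h5)) (by
    have := h6 1
    simp only [map_one, mul_one] at this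
    rw [sq, RingAut.mul_apply, RingAut.one_apply, ← h6 x, ← this, map_mul, mul_assoc])
  rcases (Nat.dvd_prime Nat.prime_two).1 (orderOf_dvd_of_pow_eq_one h7) with h8 | h8
  · rw [orderOf_eq_one_iff.1 h8] at e
    exact mem_LL_aff hk (h.inf ▸ hg.1) (z := 0) (by simpa using e)
  · refine (hn ⟨Nat.card {x // σ x = x}, ?_⟩).elim
    rw [← h.card' hK, ← sq, ← h8, ← card_eq_pow_orderOf, Nat.card_eq_fintype_card, Nat.add_sub_cancel]

theorem not_simple : ¬ IsSimpleGroup G := fun hs => by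
  have := finite hZ
  obtain ⟨H, N, s, F, _, _, ψ, δ, hK, h, hN, h1, h2, h3, h4⟩ := exists_coord_full hZ hab hc he
  obtain ⟨w, hw⟩ := index_eq_two_iff.1 h1
  have h5 : N ≤ LL G ψ := fun d hd => h.mem_of_comm (hN hd) (h2 d hd)
  have h6 : (LL G ψ).index ∣ 2 := index_dvd_two_iff.2 ⟨w, fun g => by
    obtain ⟨l, hl, e⟩ := h.exists_mul hK (h.H_le hK) h4 h3 g
    exact (hw ⟨_, e⟩).or.imp (fun e => (mul_mem_cancel_left hl).1 (mul_assoc l g w ▸ h5 e))
      fun e => (mul_mem_cancel_left hl).1 (h5 e)⟩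
  have h7 : (LL G ψ).Normal := ((Nat.dvd_prime Nat.prime_two).1 h6).elim
    (fun e => index_eq_one.1 e ▸ inferInstance) normal_of_index_eq_two
  obtain ⟨f⟩ := h.iso_PGL hK ((hs.eq_bot_or_eq_top_of_normal _ h7).resolve_left fun e =>
    hK.ne_bot (eq_bot_iff.2 (e ▸ h.H_le hK))) hc
  have h8 := card_PS_mul (F := F)
  have h9 := h.card' hK
  obtain ⟨k, hk⟩ := he
  rw [gcd_odd ⟨k, by omega⟩, ← card_PGL2] at h8
  rcases f.symm.isSimpleGroup.eq_bot_or_eq_top_of_normal (PS F) inferInstance with e | e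
  · exact one_ne_zero (tr_eq_one.1 (e.le (tr_mem (1 : F))))
  · rw [e, card_top] at h8
    have : 0 < Nat.card (PGL2 F) := Nat.card_pos
    omega

end fullEven

section affine

variable [FaithfulSMul G Ω] (h2 : IsMultiplyPretransitive G Ω 2)
  (h3 : ∀ g : G, ∀ a b c : Ω, a ≠ b → b ≠ c → a ≠ c → g • a = a → g • b = b → g • c = c → g = 1)
  [hN : N.Normal] (hNt : IsPretransitive N Ω) (hNr : ∀ a : Ω, stabilizer N a = ⊥)
  {g : G} (hg : g ≠ 1) (hab : a ≠ b) (ha : g • a = a) (hb : g • b = b)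
include h2 h3 hNt hNr hg hab ha hb

omit h2 h3 hNt hg hab ha hb hN in
theorem aff_eq {r t : G} (hr : r ∈ N) (ht : t ∈ N) (e : r • c = t • c) : r = t :=
  congrArg Subtype.val (eq_of_smul_eq_of_stab_bot (hNr c) (g := ⟨r, hr⟩) (k := ⟨t, ht⟩) e)

omit h2 hNt hN in
theorem aff_cases {r : G} (hr : r * g = g * r) : r • a = a ∨ r • a = b := by
  by_contra! h
  exact hg (h3 g a b _ hab h.2.symm h.1.symm ha hb (by rw [← mul_smul, ← hr, mul_smul, ha]))

theorem aff_sq : IsElementaryAbelian 2 N := by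
  obtain ⟨⟨r, hr⟩, e⟩ := hNt.1 a b
  change r • a = b at e
  have h4 : g * r * g⁻¹ = r := aff_eq hNr (hN.conj_mem r hr g) hr (c := a) (by
    conv_lhs => rw [← ha, conj_smul_smul, e, hb, ← e])
  have h5 : r * r = 1 := (aff_cases h3 hNr hg hab ha hb (r := r * r) (by
      rw [mul_assoc, ← mul_inv_eq_iff_eq_mul.1 h4, ← mul_assoc, ← mul_inv_eq_iff_eq_mul.1 h4,
        mul_assoc])).elim (fun e => aff_eq hNr (mul_mem hr hr) (one_mem _) (e.trans (one_smul _ _).symm))
    fun e' => (hab (by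
      rw [mul_smul, ← e, smul_left_cancel_iff, e] at e'
      exact e'.symm)).elim
  have h6 : ∀ t ∈ N, t * t = 1 := fun t ht => by
    by_cases h6 : t • a = a
    · rw [aff_eq hNr ht (one_mem _) (h6.trans (one_smul _ _).symm), one_mul]
    obtain ⟨k, k1, k2⟩ := two_trans_iff.1 h2 a b a (t • a) hab (Ne.symm h6)
    rw [← aff_eq hNr (hN.conj_mem r hr k) ht (c := a) (by
      conv_lhs => rw [← k1, conj_smul_smul, e, k2]), conj_mul, h5]
    simp
  exact ⟨⟨⟨fun x y => Subtype.ext (Commute.of_orderOf_dvd_two (G := N) (fun z =>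
    orderOf_dvd_of_pow_eq_one (Subtype.ext (by simpa [sq] using h6 z z.2))) x y ▸ rfl)⟩⟩,
    fun t ht => by rw [sq, h6 t ht]⟩

omit h2 hNt hN in
theorem aff_card : Nat.card (N ⊓ centralizer {g} : Subgroup G) ≤ 2 := by
  rw [← Set.ncard_pair hab, ← Nat.card_coe_set_eq]
  exact Nat.card_le_card_of_injective (fun r => ⟨(r : G) • a, aff_cases h3 hNr hg hab ha hb
    (mem_centralizer_singleton_iff.1 r.2.2)⟩) fun r t e =>
    Subtype.ext (aff_eq hNr r.2.1 t.2.1 (Subtype.ext_iff.1 e :))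

omit h2 h3 hg hb hab ha hN in
theorem aff_card_N (a : Ω) : Nat.card N = Nat.card Ω :=
  Nat.card_eq_of_bijective (fun r : N => r • a)
    ⟨fun _ _ e => eq_of_smul_eq_of_stab_bot (hNr a) e, hNt.1 a⟩

theorem aff_le_four (h : g * g = 1) : Nat.card Ω ≤ 4 := by
  have : Finite G := Finite.of_injective _ (MulAction.toPerm_injective (α := G) (β := Ω))
  rw [← aff_card_N hNt hNr a]
  exact (Transfer.card_le_sq_of_invol (aff_sq h2 h3 hNt hNr hg hab ha hb)
    (le_normalizer_of_normal (mem_top g)) (h ▸ one_mem _)).trans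
    (Nat.pow_le_pow_left (aff_card h3 hNr hg hab ha hb) 2)

theorem aff_prime : ∃ p : ℕ, p.Prime ∧ Nat.card Ω = 2 ^ p := by
  have : Finite G := Finite.of_injective _ (MulAction.toPerm_injective (α := G) (β := Ω))
  have h4 := aff_sq h2 h3 hNt hNr hg hab ha hb
  have h5 := aff_card_N hNt hNr a
  obtain ⟨n, hn⟩ := IsPGroup.iff_card.1 (Solv.isPGroup_of_pow_eq_one h4.2)
  obtain ⟨c, hca, hcb⟩ : ∃ c, c ≠ a ∧ c ≠ b := by
    by_contra! h
    refine hg (eq_one_of_smul_eq (α := Ω) fun c => ?_)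
    by_cases e : c = a
    · exact e ▸ ha
    · exact h c e ▸ hb
  have h6 : 3 ≤ Nat.card Ω := by
    simpa using Nat.card_le_card_of_injective _ (inj3 hab hca.symm hcb.symm)
  by_cases h7 : Even (Nat.card (stabilizer G a))
  · obtain ⟨x, hx⟩ := exists_prime_orderOf_dvd_card' (G := stabilizer G a) 2 h7.two_dvd
    rw [← orderOf_coe] at hx
    obtain ⟨d, hd, hda⟩ : ∃ d, (x : G) • d = d ∧ a ≠ d := by
      by_contra! h
      have h8 := card_modEq_fixedBy (α := Ω) Nat.prime_two (g := (x : G)) (k := 1)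
        (by rw [pow_one, ← hx, pow_orderOf_eq_one])
      rw [show fixedBy Ω (x : G) = {a} from Set.eq_singleton_iff_unique_mem.2
        ⟨x.2, fun d hd => (h d hd).symm⟩, ← h5, hn, Nat.ModEq] at h8
      rcases n with _ | n
      · omega
      · simp [pow_succ] at h8
    have h8 := aff_le_four h2 h3 hNt hNr (Transfer.ne_one_of_orderOf hx) hda x.2 hd
      (Transfer.mul_self_of_orderOf hx)
    refine ⟨2, Nat.prime_two, ?_⟩
    rcases n with _ | _ | _ | n <;> omega
  obtain ⟨M, hM, h8, h9⟩ := frobenius_normal_complement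
    (H := (E G a b).subgroupOf (stabilizer G a)) fun k hk x hx h => Subtype.ext
      (h3 x a b ((k : G)⁻¹ • b) hab (fun e => hk ⟨k.2, (eq_inv_smul_iff.1 e :)⟩)
        (fun e => hab (k.2.symm.trans (eq_inv_smul_iff.1 e))) x.2 hx.2 (conj_smul_iff.1 h.2))
  have h10 : ∀ u ∈ M.map (stabilizer G a).subtype, ∀ d, a ≠ d → u • d = d → u = 1 := by
    rintro _ ⟨u, hu, rfl⟩ d hd e
    obtain ⟨k, k1, k2⟩ := two_trans_iff.1 h2 a d a b hd hab
    exact congrArg Subtype.val (((h8 u).1 hu).resolve_right fun h => h ⟨k, k1⟩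
      ⟨(stabilizer G a).mul_mem ((stabilizer G a).mul_mem k1 u.2) ((stabilizer G a).inv_mem k1), k2 ▸ (conj_smul_smul k u d).trans (congrArg (k • ·) e)⟩)
  obtain ⟨p, hp, h11⟩ := Nat.exists_prime_and_dvd (mt orderOf_eq_one_iff.1 hg)
  have := Fact.mk hp
  obtain ⟨r, hr⟩ := exists_prime_orderOf_dvd_card' (G := zpowers g) p (by rwa [Nat.card_zpowers])
  rw [← orderOf_coe] at hr
  have h12 : zpowers (r : G) ≤ E G a b := zpowers_le.2 (zpowers_le.2 (mem_E.2 ⟨ha, hb⟩) r.2)
  have h13 : (r : G) ≠ 1 := fun e => hp.ne_one (by simpa [e] using hr.symm)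
  have h14 := BG.card_eq_pow_of_fpf (K := M.map (stabilizer G a).subtype) (R := zpowers (r : G))
    (M := N) (Solv.le_normalizer_of_conj_mem (by
      rintro x hx _ ⟨u, hu, rfl⟩
      exact ⟨_, hM.conj_mem u hu ⟨x, (h12 hx).1⟩, rfl⟩))
    (fun x hx h1 => eq_bot_iff.2 fun u hu => h10 u hu.1 b hab ((aff_cases h3 hNr h1 hab.symm
      (h12 hx).2 (h12 hx).1 (mem_centralizer_singleton_iff.1 hu.2)).resolve_right fun e =>
        hab (MulAction.injective u ((map_subtype_le M hu.1).trans e.symm))))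
    (by have := Solv.isNilpotent_of_isMulCommutative h4.1; infer_instance) le_normalizer_of_normal le_normalizer_of_normal
    (by
      rw [hn]
      exact ((Nat.not_even_iff_odd.1 h7).of_dvd_nat (card_dvd_of_le (sup_le (map_subtype_le M)
        (h12.trans inf_le_left)))).coprime_two_right.pow_right n)
    (eq_bot_iff.2 fun t ht => by
      by_contra h14
      obtain ⟨k, k1, k2⟩ := two_trans_iff.1 h2 a b a c hab hca.symm
      obtain ⟨⟨u, v⟩, e⟩ := h9.2 ⟨k, k1⟩
      have h15 := h10 u ⟨u, u.2, rfl⟩ (t • a)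
        (fun e => h14 (aff_eq hNr ht.1 (one_mem _) (e.symm.trans (one_smul _ _).symm)))
        (by rw [← mul_smul, show (u.1 : G) * t = t * u.1 from ht.2 _ ⟨u, u.2, rfl⟩, mul_smul, u.1.2])
      have h16 : ((u : stabilizer G a) : G) * (v : stabilizer G a) = k := congrArg Subtype.val e
      rw [h15, one_mul] at h16
      exact hcb (k2.symm.trans (h16 ▸ v.2.2)))
  have h15 := aff_card h3 hNr h13 hab (h12 (mem_zpowers _)).1 (h12 (mem_zpowers _)).2
  rw [Nat.card_zpowers, hr, zpowers_eq_closure, centralizer_closure] at h14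
  refine ⟨p, hp, h5 ▸ h14.trans ?_⟩
  have : 0 < Nat.card (N ⊓ centralizer {(r : G)} : Subgroup G) := Nat.card_pos
  congr 1
  by_contra h16
  rw [show Nat.card (N ⊓ centralizer {(r : G)} : Subgroup G) = 1 by omega, one_pow] at h14
  omega

end affine

section sharp

variable [FaithfulSMul G Ω] (h3 : IsMultiplyPretransitive G Ω 3) (hs : ∀ x : Fin 3 ↪ Ω, stabilizer G x = ⊥)
include h3 hs

theorem zass_of_sharp (hn : 5 ≤ Nat.card Ω) : IsZassenhausGroup G Ω := by
  have := Fintype.ofFinite Ω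
  have h2 : IsMultiplyPretransitive G Ω 2 :=
    isMultiplyPretransitive_of_le (by norm_num : 2 ≤ 3) (by change 3 ≤ Nat.card Ω; omega)
  have h4 := fun g a b c h1 h2 h3 => sharp3_iff.1 hs a b c h1 h3 h2 g
  obtain ⟨x⟩ := Function.Embedding.nonempty_of_card_le (α := Fin 4) (β := Ω)
    (by rw [← Nat.card_eq_fintype_card (α := Ω), Fintype.card_fin]; omega)
  have hx : ∀ i j, i ≠ j → x i ≠ x j := fun i j => x.injective.ne
  obtain ⟨g, g1, g2, g3⟩ := three_trans_iff.1 h3 (x 0) (x 1) (x 2) (x 0) (x 1) (x 3) (hx _ _ (by decide))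
    (hx _ _ (by decide)) (hx _ _ (by decide)) (hx _ _ (by decide)) (hx _ _ (by decide))
    (hx _ _ (by decide))
  have hg : g ≠ 1 := by rintro rfl; exact hx 2 3 (by decide) (by simpa using g3)
  refine ⟨inferInstance, h2, h4, ⟨g, hg, _, _, hx 0 1 (by decide), g1, g2⟩, fun N hN hNt => ?_⟩
  by_contra! hNr
  obtain ⟨-, h5⟩ := aff_sq h2 h4 hNt hNr hg (hx 0 1 (by decide)) g1 g2
  obtain ⟨⟨r, hr⟩, e⟩ := hNt.1 (x 0) (x 1)
  change r • x 0 = x 1 at e
  obtain ⟨s, s1, s2, s3⟩ := three_trans_iff.1 h3 (x 0) (x 1) (x 2) (x 1) (x 0) (x 2) (hx _ _ (by decide))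
    (hx _ _ (by decide)) (hx _ _ (by decide)) (hx _ _ (by decide)) (hx _ _ (by decide))
    (hx _ _ (by decide))
  have h6 : s * r * s⁻¹ = r := aff_eq hNr (hN.conj_mem r hr s) hr (c := x 1) (by
    conv_lhs => rw [← s1, conj_smul_smul, e, s2]
    rw [← e, ← mul_smul, ← sq, h5 r hr, one_smul])
  have := aff_le_four h2 h4 hNt hNr (g := s) (a := x 2) (b := r • x 2)
    (by rintro rfl; exact hx 0 1 (by decide) (by simpa using s1))
    (fun e' => hx 0 1 (by decide) (by
      rw [← e, aff_eq hNr hr (one_mem _) (e'.symm.trans (one_smul _ _).symm), one_smul])) s3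
    (by rw [← mul_smul, mul_inv_eq_iff_eq_mul.1 h6, mul_smul, s3])
    (h4 _ _ _ _ (hx 0 1 (by decide)) (hx 1 2 (by decide)) (hx 0 2 (by decide))
      (by rw [mul_smul, s1, s2]) (by rw [mul_smul, s2, s1]) (by rw [mul_smul, s3, s3]))
  omega

theorem card_E_of_sharp (hZ : IsZassenhausGroup G Ω) (hab : a ≠ b) :
    Nat.card (E G a b) + 2 = Nat.card Ω := by
  have := finite hZ
  have h1 := card_E_le hZ hab
  obtain ⟨c, hca, hcb⟩ := exists_third hZ hab
  choose f hf using fun d : (({a, b} : Set Ω)ᶜ : Set Ω) => three_trans_iff.1 h3 a b c a b d hab hca.symm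
    hcb.symm hab (fun e => d.2 (Or.inl e.symm)) fun e => d.2 (Or.inr e.symm)
  have := Nat.card_le_card_of_injective (fun d => (⟨f d, (hf d).1, (hf d).2.1⟩ : E G a b))
    fun d d' e => Subtype.ext (by rw [← (hf d).2.2, ← (hf d').2.2, show f d = f d' from congrArg Subtype.val e])
  rw [Nat.card_coe_set_eq, Set.ncard_compl, Set.ncard_pair hab] at this
  omega

end sharp

theorem small_pgl {α : Type*} [Fintype α] [DecidableEq α] (G : Subgroup (Equiv.Perm α))
    (h3 : IsMultiplyPretransitive G α 3) {p : ℕ} (hp : p = 2 ∨ p = 3) (hα : Fintype.card α = p + 1) :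
    ∃ (F : Type) (_ : Field F) (_ : Fintype F), Fintype.card F = p ∧ Nonempty (G ≃* PGL2 F) := by
  have := Fact.mk (show p.Prime by rcases hp with rfl | rfl <;> norm_num)
  have h1 : Nat.card α = p + 1 := Nat.card_eq_fintype_card.trans hα
  have h2 := Equiv.Perm.eq_top_of_isMultiplyPretransitive (G := G)
    (isMultiplyPretransitive_of_le (n := 3) (by omega) (by omega))
  obtain ⟨e⟩ := iso_PGL2_perm (F := ZMod p) (by rwa [ZMod.card])
  exact ⟨ZMod p, inferInstance, inferInstance, ZMod.card p, ⟨(MulEquiv.subgroupCongr h2).trans (topEquiv.trans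
    ((Fintype.equivFinOfCardEq (by rw [ZMod.card, hα])).permCongrHom.trans e.symm))⟩⟩

theorem psl_of_simple (hZ : IsZassenhausGroup G Ω) [IsSimpleGroup G] (hab : a ≠ b)
    (h : Nat.card Ω - 2 ≤ 2 * Nat.card (E G a b)) : ∃ (F : Type) (_ : Field F) (_ : Fintype F),
    Fintype.card F + 1 = Nat.card Ω ∧ Nonempty (G ≃* PSL2 F) := by
  rcases cases_of_le hZ hab h with hc | hc
  · have ho := Nat.not_even_iff_odd.1 fun he => not_simple hZ hab hc he inferInstance
    obtain ⟨s, -, h1, h2⟩ := exists_swap hZ hab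
    obtain ⟨F, _, _, h3, ⟨e⟩⟩ := pgl_of_inv hZ hab hc h1 h2 ((inverts_simple hZ hab ho).2 s h1 h2)
    obtain ⟨k, hk⟩ := ho
    have h4 : (2 : F) = 0 := by
      by_contra h4
      have := FiniteField.odd_card_of_char_ne_two (F := F) fun e => h4 (by
        have := ringChar.charP F
        rw [e] at this
        exact CharP.cast_eq_zero F 2)
      omega
    exact ⟨F, _, _, h3, ⟨e.trans (topEquiv.symm.trans ((MulEquiv.subgroupCongr (PS_eq_top h4).symm).trans
      psEquiv.symm))⟩⟩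
  · exact psl_of_half hZ hab hc

end Cfsg.Agent.Zass
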