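import Cfsg.Agent.Lib.Char.RankOne3
import Cfsg.Agent.Lib.Char.Zass8

/-!
The split rank-one set-up: the order of `s t`, and the case where `Q` is elementary abelian.
-/

set_option autoImplicit false
set_option linter.unusedSectionVars false
set_option linter.style.haveILetI false

namespace Cfsg.Agent.RankOne

open MulAction Subgroup Cfsg.Agent.Perm Cfsg.Agent.Transfer

variable {G Ω : Type*} [Group G] [Finite G] [MulAction G Ω] {a : Ω} {t : G} {Q : Subgroup G}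
  {x y z s r k d : G}

variable (hS : IsRankOneSetup G Ω a t Q)
include hS

theorem D_le_of_hh {M : Subgroup G} (hM : M ≤ D a t) (ht : ∀ m ∈ M, t * m * t ∈ M)
    (h : ∀ x ∈ Q, x ≠ 1 → hh a t Q x ∈ M) (hd : d ∈ D a t) (hL : d ∈ LL t Q) : d ∈ M := by
  let P : G → Prop := fun g => (∃ x ∈ Q, ∃ m ∈ M, g = x * m) ∨
    ∃ x ∈ Q, ∃ m ∈ M, ∃ y ∈ Q, g = x * m * t * y
  have hQ : ∀ y ∈ Q, ∀ g, P g → P (y * g) := by
    rintro y hy _ (⟨x, hx, m, hm, rfl⟩ | ⟨x, hx, m, hm, z, hz, rfl⟩)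
    · exact Or.inl ⟨y * x, mul_mem hy hx, m, hm, by group⟩
    · exact Or.inr ⟨y * x, mul_mem hy hx, m, hm, z, hz, by group⟩
  have htt : ∀ g, t * (t * g) = g := fun g => by rw [← mul_assoc, hS.mul_self, one_mul]
  have hT : ∀ g, P g → P (t * g) := by
    rintro _ (⟨x, hx, m, hm, rfl⟩ | ⟨x, hx, m, hm, z, hz, rfl⟩)
    · exact Or.inr ⟨1, one_mem _, _, ht m hm, _, conj_mem' hS (hM hm).1 hx, by simp [mul_assoc, htt]⟩
    by_cases h1 : x = 1
    · exact Or.inl ⟨_, hS.conj_mem _ (hM (ht m hm)).1 z hz, _, ht m hm, by rw [h1]; group⟩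
    refine Or.inr ⟨_, TT_mem hS hx h1, _, mul_mem (h x hx h1) hm, _, mul_mem
      (conj_mem' hS (hM (ht m hm)).1 (inv_mem (TT_mem hS (inv_mem hx) (inv_ne_one.2 h1)))) hz, ?_⟩
    calc t * (x * m * t * z) = (t * x * t) * (t * m * t) * z := by simp [mul_assoc, htt]
      _ = _ := by rw [canon hS]; simp [mul_assoc, htt, inv_t hS]
  let S : Subgroup G :=
    { carrier := {g | ∀ h, P h → P (g * h)}
      one_mem' := fun h hh => by simpa using hh
      mul_mem' := fun {g g'} hg hg' h hh => by rw [mul_assoc]; exact hg _ (hg' h hh)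
      inv_mem' := fun {g} hg h hh => by
        have key : ∀ n : ℕ, P (g ^ n * h) := fun n => by
          induction n with
          | zero => simpa using hh
          | succ n ih => rw [pow_succ', mul_assoc]; exact hg _ ih
        rw [inv_eq_of_mul_eq_one_left (show g ^ (orderOf g - 1) * g = 1 by
          rw [← pow_succ, Nat.sub_add_cancel (orderOf_pos g), pow_orderOf_eq_one])]
        exact key _ }
  have h1 : LL t Q ≤ S := sup_le hQ (zpowers_le.2 hT)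
  rcases h1 hL 1 (Or.inl ⟨1, one_mem _, 1, one_mem _, by simp⟩) with ⟨x, hx, m, hm, e⟩ |
    ⟨x, hx, m, hm, y, hy, e⟩
  · rw [(mul_unique hS (one_mem _) hx hd (hM hm) (by simpa using e)).2]; exact hm
  · have := congrArg (· • a) e
    simp only [mul_one, mul_smul, Q_smul hS hy, show d • a = a from hd.1,
      show m • t • a = t • a from (hM hm).2] at this
    exact absurd this.symm (smul_ne hS (Q_smul hS hx) (ta_ne hS))

theorem zass_of_D [FaithfulSMul G Ω] [IsSimpleGroup G] (h2 : R2 G) (h : ∀ d ∈ D a t, d ∈ K a t) :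
    IsZassenhausGroup G Ω := by
  refine ⟨inferInstance, hS.two_transitive, fun g b c e h1 h3 h4 hb hc he => ?_, ?_,
    fun N hN hT => ?_⟩
  · obtain ⟨k, hk1, hk2⟩ := two hS h1 (ta_ne hS).symm
    have h5 : k * g * k⁻¹ ∈ D a t := by
      rw [mem_D, ← hk2, ← hk1]
      simp [mul_smul, hb, hc]
    by_contra h6
    rcases K_fix hS (h _ h5) (by simpa using h6) (c := k • e) (by simp [mul_smul, he]) with h7 | h7
    · exact h4 (smul_left_cancel k (hk1.trans h7.symm))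
    · exact h3 (smul_left_cancel k (hk2.trans h7.symm))
  · obtain ⟨k, hk, h1⟩ := exists_K_ne hS h2
    exact ⟨k, h1, a, t • a, (ta_ne hS).symm, hk.1.1, hk.1.2⟩
  · rcases hN.eq_bot_or_eq_top with rfl | rfl
    · obtain ⟨g, hg⟩ := hT.exists_smul_eq a (t • a)
      rw [Subsingleton.elim g 1, one_smul] at hg
      exact absurd hg.symm (ta_ne hS)
    · obtain ⟨s, hs⟩ := I_nonempty hS
      exact ⟨a, fun e => hs.2.1 (congrArg Subtype.val
        (mem_bot.1 (e.le (show (⟨s, trivial⟩ : (⊤ : Subgroup G)) ∈ stabilizer _ a from hs.1))))⟩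

theorem zk_of_zass (hZ : IsZassenhausGroup G Ω) : Zass.ZK G a Q :=
  have := finite_Ω hS
  Zass.zk_of_regular hZ hS.le fun _ _ h1 h2 => regular hS h1 h2

section SP

variable (hs : s ∈ I G a) (hr : r ∈ Q) (e : t * s * t = r⁻¹ * t * r)
include hs hr e

theorem canon_conj_s (hk : k ∈ K a t) :
    t * (k * s * k⁻¹) * t = k⁻¹ * r⁻¹ * k * (k⁻¹ * k⁻¹) * t * (k⁻¹ * r * k) := by
  calc _ = (t * k) * s * (k⁻¹ * t) := by group
    _ = (k⁻¹ * t) * s * (t * k) := by rw [K_mul_t hS hk]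
    _ = k⁻¹ * (t * s * t) * k := by group
    _ = k⁻¹ * r⁻¹ * k * k⁻¹ * (t * k) * (k⁻¹ * r * k) := by rw [e]; group
    _ = _ := by rw [K_mul_t hS hk]; group

theorem hh_I (h2 : R2 G) (hz : z ∈ I G a) : hh a t Q z ∈ K a t := by
  obtain ⟨k, hk, rfl⟩ := K_surj hS hs hz
  have h1 := K_mul hS h2 hk hk
  have := canon_conj_s hS hs hr e (K_inv hk)
  rw [inv_inv] at this
  rw [(hh_of_eq hS (I_Q hS hz) hz.2.1 (hS.conj_mem k hk.1.1 _ (inv_mem hr)) h1.1
    (hS.conj_mem k hk.1.1 _ hr) this).2.1]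
  exact h1

theorem conj_st (h2 : R2 G) : r⁻¹ * (s * t) * r = (s * t) ^ 2 := by
  rw [← mul_assoc, ← (I_central hS h2 hs (inv_mem hr)).eq, mul_assoc, mul_assoc, ← mul_assoc r⁻¹, ← e]
  simp [sq, mul_assoc]

theorem st_cases (h2 : R2 G) (h4 : r * r * (r * r) = 1) : r = s ∨ (r * r = s ∧ (s * t) ^ 5 = 1) := by
  have h1 := conj_st hS hs hr e h2
  have hi : s * (s * t) * s⁻¹ = (s * t)⁻¹ := inverts_mul_left hs.2.2 hS.mul_self
  have hsi : s⁻¹ = s := inv_eq_of_mul_eq_one_right hs.2.2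
  have hc := I_central hS h2 hs hr
  generalize hx : s * t = x at h1 hi
  have h5 : (r * r)⁻¹ * x * (r * r) = x ^ 4 := by
    calc _ = r⁻¹ * (r⁻¹ * x * r) * r⁻¹⁻¹ := by group
      _ = _ := by rw [h1, ← conj_pow, inv_inv, h1]; group
  have key : ∀ u, u * u = 1 → Commute s u → u⁻¹ * x * u = x⁻¹ → u = s := fun u hu hc h => by
    have := eq_one_of_commute_mul hS (z := s * u) hs (by
      rw [hc.symm.mul_mul_mul_comm, hs.2.2, hu, one_mul]) (by
      rw [hx]
      refine commute_iff_conj.2 ?_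
      rw [← inv_eq_of_mul_eq_one_right hu]
      calc _ = s * (u⁻¹ * x * u) * s⁻¹ := by group
        _ = x := by rw [h, ← conj_inv, hi, inv_inv])
    rw [← hsi]; exact (inv_eq_of_mul_eq_one_right this).symm
  by_cases h6 : r * r = 1
  · refine Or.inl (key r h6 hc ?_)
    rw [h6] at h5
    rw [h1]
    refine eq_inv_of_mul_eq_one_left (mul_left_cancel (a := x) ?_)
    rw [mul_one]
    conv_rhs => rw [show x = x ^ 4 by simpa using h5]
    group
  have h7 : r * r ∈ I G a := ⟨hS.le (mul_mem hr hr), h6, h4⟩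
  have h8 : x ^ 5 = 1 := by
    have h9 : x ^ 16 = x := by
      calc x ^ 16 = (x ^ 4) ^ 4 := by group
        _ = (r * r)⁻¹ * x ^ 4 * (r * r)⁻¹⁻¹ := by rw [← conj_pow, inv_inv, h5]
        _ = (r * r * (r * r))⁻¹ * x * (r * r * (r * r)) := by rw [← h5]; simp [mul_assoc]
        _ = x := by rw [h4]; group
    by_contra h10
    have h11 : s * x ^ 5 * s⁻¹ = (x ^ 5)⁻¹ := conj_pow_of_inverts hi 5
    have h12 : s * x ^ 5 * (s * x ^ 5) = 1 := by
      rw [show s * x ^ 5 * (s * x ^ 5) = s * x ^ 5 * s⁻¹ * x ^ 5 by rw [hsi]; group, h11,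
        inv_mul_cancel]
    have h13 : x ^ 5 * x ^ 5 ≠ 1 := fun e => h10 (by
      calc x ^ 5 = (x ^ 5 * x ^ 5)⁻¹ * x ^ 16 * x⁻¹ := by group
        _ = 1 := by rw [h9, e]; group)
    obtain ⟨g, h14, h15⟩ := exists_conj_mul hS h2 (mem_invol.1 hs).2 (orderOf_eq_two h12 (by
      intro e
      refine h13 ?_
      rw [← inv_eq_of_mul_eq_one_right e, hsi, hs.2.2])) (by
        rwa [← mul_assoc s s, hs.2.2, one_mul])
    have h16 : (r * r)⁻¹ * x ^ 5 * (r * r)⁻¹⁻¹ = x ^ 5 := by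
      rw [← conj_pow, inv_inv, h5]
      calc (x ^ 4) ^ 5 = x ^ 16 * x ^ 4 := by group
        _ = _ := by rw [h9]; group
    have h17 : Commute (r * r) (x ^ 5) := by
      simpa using (commute_iff_conj.2 h16).inv_left
    refine h6 (by
      simpa using eq_one_of_commute_mul hS h14 (conj_mul_self h4 g) (by
        rw [← h15, conj_mul, ← mul_assoc s s, hs.2.2, one_mul]
        show _ = _
        rw [conj_mul, conj_mul, h17.eq]))
  refine Or.inr ⟨key _ h4 (hc.mul_right hc) ?_, h8⟩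
  rw [h5]
  exact eq_inv_of_mul_eq_one_left (by rw [← pow_succ, h8])

end SP

variable (h2 : R2 G)
include h2

theorem card_KK : Nat.card (KK a t) = Nat.card (K a t) :=
  Nat.card_congr (Equiv.setCongr (Set.ext fun _ => mem_KK hS h2))

theorem card_Q0 : Nat.card (Q0 G a) = Nat.card (KK a t) + 1 := by
  rw [card_KK hS h2, card_K hS, ← Finite.card_option]
  refine (Nat.card_eq_of_bijective (fun o : Option (I G a) =>
    (o.elim 1 fun s => ⟨s, subset_closure s.2⟩ : Q0 G a)) ⟨?_, fun x => ?_⟩).symm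
  · rintro (_ | x) (_ | y) e
    · rfl
    · exact (y.2.2.1 (congrArg Subtype.val e).symm).elim
    · exact (x.2.2.1 (congrArg Subtype.val e)).elim
    · exact congrArg _ (Subtype.ext (congrArg (fun z : Q0 G a => (z : G)) e))
  · by_cases h : (x : G) = 1
    · exact ⟨none, Subtype.ext h.symm⟩
    · exact ⟨some ⟨x, Q0_I hS h2 x.2 h⟩, rfl⟩

theorem exists_card_Q0 : ∃ n, 2 ≤ n ∧ Nat.card (Q0 G a) = 2 ^ n := by
  obtain ⟨n, hn⟩ := IsPGroup.iff_card.1 (Solv.isPGroup_of_pow_eq_one (p := 2) (H := Q0 G a)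
    fun x hx => by rw [sq, Q0_sq hS h2 hx])
  obtain ⟨k, hk, h1⟩ := exists_K_ne hS h2
  have := (KK a t).one_lt_card_iff_ne_bot.2 fun e => h1 (mem_bot.1 (e ▸ subset_closure hk))
  refine ⟨n, ?_, hn⟩
  rw [card_Q0 hS h2] at hn
  by_contra! h
  interval_cases n <;> omega

theorem KK_le : KK a t ≤ D a t := fun _ hk => ((mem_KK hS h2).1 hk).1

theorem dvd_card_sub {X : Subgroup G} (hX : X ≤ Q) (h : ∀ k ∈ K a t, ∀ x ∈ X, k * x * k⁻¹ ∈ X) :
    Nat.card (KK a t) ∣ Nat.card X - 1 :=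
  Solv.card_dvd_sub_one_of_fpf (Solv.le_normalizer_of_conj_mem fun k hk => h k ((mem_KK hS h2).1 hk))
    fun k hk h1 => eq_bot_iff.2 ((inf_le_inf_right _ hX).trans (K_fpf hS ((mem_KK hS h2).1 hk) h1).le)

/-- The action of `K` on `Q`. -/
@[reducible] def actK : MulDistribMulAction (KK a t) Q :=
  MulDistribMulAction.compHom Q (Q.normalizerMonoidHom.comp
    (inclusion fun _ hk => H_le_normalizer hS (KK_le hS h2 hk).1))

theorem hs_Q (hQ : IsPGroup 2 Q) : letI := actK hS h2; Hig.HS Q (KK a t) := by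
  letI := actK hS h2
  have hI : ∀ x : Q, x ≠ 1 → x * x = 1 → (x : G) ∈ I G a := fun x h1 h3 =>
    ⟨hS.le x.2, fun e => h1 (Subtype.ext e), congrArg Subtype.val h3⟩
  refine ⟨hQ, fun k l => Subtype.ext (K_commute hS h2 ((mem_KK hS h2).1 k.2) ((mem_KK hS h2).1 l.2)),
    ?_, fun x y h1 h3 h4 h5 => ?_⟩
  · obtain ⟨x, hx, y, hy, hxy, -⟩ := exists_four hS h2
    exact ⟨⟨x, I_Q hS hx⟩, ⟨y, I_Q hS hy⟩, fun e => hxy (congrArg Subtype.val e),
      fun e => hx.2.1 (congrArg Subtype.val e), Subtype.ext hx.2.2,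
      fun e => hy.2.1 (congrArg Subtype.val e), Subtype.ext hy.2.2⟩
  · obtain ⟨k, hk, e⟩ := K_surj hS (hI x h1 h3) (hI y h4 h5)
    refine ⟨⟨k⁻¹, subset_closure (K_inv hk)⟩, Subtype.ext (show k⁻¹ * x * k⁻¹⁻¹ = y by rwa [inv_inv]),
      fun l hl => ?_⟩
    exact Subtype.ext (inv_eq_iff_eq_inv.1 (K_inj hS (hI x h1 h3) (K_inv ((mem_KK hS h2).1 l.2)) hk (by
      rw [inv_inv, e]
      exact congrArg Subtype.val hl)))

theorem mem_Z_iff (hQ : IsPGroup 2 Q) (x : Q) : x ∈ Hig.Z Q ↔ (x : G) ∈ Q0 G a := by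
  letI := actK hS h2
  rw [(hs_Q hS h2 hQ).mem_Z]
  exact ⟨fun h => mem_Q0_of_sq hS h2 (hS.le x.2) (congrArg Subtype.val h),
    fun h => Subtype.ext (Q0_sq hS h2 h)⟩

theorem card_Z_eq (hQ : IsPGroup 2 Q) : Nat.card (Hig.Z Q) = Nat.card (Q0 G a) := by
  letI := actK hS h2
  rw [(hs_Q hS h2 hQ).card_Z.1, card_Q0 hS h2]

section NA

variable (hQ : IsPGroup 2 Q) (hn : ∃ x ∈ Q, ∃ y ∈ Q, x * y ≠ y * x)
include hn

omit hS h2 in
theorem na_Q : ∃ x y : Q, x * y ≠ y * x := by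
  obtain ⟨x, hx, y, hy, h⟩ := hn
  exact ⟨⟨x, hx⟩, ⟨y, hy⟩, fun e => h (congrArg Subtype.val e)⟩

include hQ

theorem sq_mem_Q0 (hx : x ∈ Q) : x * x ∈ Q0 G a := by
  letI := actK hS h2
  exact (mem_Z_iff hS h2 hQ _).1 ((hs_Q hS h2 hQ).sq_mem_Z (na_Q hn) ⟨x, hx⟩)

theorem card_Q_cases :
    Nat.card Q = Nat.card (Q0 G a) ^ 2 ∨ Nat.card Q = Nat.card (Q0 G a) ^ 3 := by
  letI := actK hS h2
  rw [← card_Z_eq hS h2 hQ]
  exact (hs_Q hS h2 hQ).card_cases (na_Q hn)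

end NA

section three

variable (hs : s ∈ I G a) (e : t * s * t = s * t * s)
include hs e

theorem TT_conj_s (hk : k ∈ K a t) : TT a t Q (k * s * k⁻¹) = k⁻¹ * s * k := by
  rw [TT_conj_K hS (I_Q hS hs) hs.2.1 hk, (SP_s hS hs (I_Q hS hs)
    (by rwa [inv_eq_of_mul_eq_one_right hs.2.2])).1, inv_eq_of_mul_eq_one_right hs.2.2]

theorem TT_I (hz : z ∈ I G a) : TT a t Q z ∈ I G a := by
  obtain ⟨k, hk, rfl⟩ := K_surj hS hs hz
  have := TT_conj_s hS h2 hs e (K_inv hk)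
  rw [inv_inv] at this
  rw [this]
  exact I_conj hs hk.1.1

theorem TT_not_mem (hx : x ∈ Q) (h : x ∉ Q0 G a) : TT a t Q x ∉ Q0 G a := fun h3 => by
  have h1 : x ≠ 1 := fun e => h (e ▸ one_mem _)
  have := TT_I hS h2 hs e (Q0_I hS h2 h3 (TT_ne hS hx h1))
  rw [TT_TT hS hx h1] at this
  exact h (subset_closure this)

theorem TT_mul_ne (hx : x ∈ Q) (h : x ∉ Q0 G a) (hy : y ∈ I G a) :
    (TT a t Q x)⁻¹ * TT a t Q (x * y) ∉ Q0 G a := fun h3 => by
  have h1 : x ≠ 1 := fun e => h (e ▸ one_mem _)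
  have h4 : x * y ≠ 1 := fun e => h (by
    rw [eq_inv_of_mul_eq_one_left e]; exact inv_mem (subset_closure hy))
  rw [H6 hS hx h1 (I_Q hS hy) hy.2.1 h4, inv_mul_cancel_left] at h3
  have h5 := inv_conj_mem_of_mem_normalizer (H_le_normalizer_Q0 (hh_mem hS hx h1).1) h3
  simp only [mul_assoc, inv_mul_cancel_left, inv_mul_cancel, mul_one] at h5
  refine TT_not_mem hS h2 hs e (mul_mem (inv_mem (TT_mem hS (inv_mem hx) (inv_ne_one.2 h1)))
    (TT_mem hS (I_Q hS hy) hy.2.1)) (fun h6 => ?_) h5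
  exact TT_not_mem hS h2 hs e (inv_mem hx) (by simpa using h)
    (by simpa using mul_mem h6 (inv_mem (subset_closure (TT_I hS h2 hs e hy))))

/-- `⟨Q0, K, t⟩` acts freely on the points outside the block through `a` and `t • a`. -/
theorem TT_ne_conj (hx : x ∈ Q) (h : x ∉ Q0 G a) (hk : k ∈ K a t) (hz : z ∈ Q0 G a) :
    TT a t Q x ≠ k * (x * z) * k⁻¹ := fun h3 => by
  have h1 : x ≠ 1 := fun e => h (e ▸ one_mem _)
  obtain ⟨l, hl, rfl⟩ := K_sqrt hS hk
  have h4 := TT_conj_K hS hx h1 hl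
  rw [h3, show l⁻¹ * (l * l * (x * z) * (l * l)⁻¹) * l = (l * x * l⁻¹) * (l * z * l⁻¹) by group] at h4
  have h5 := hS.conj_mem l hl.1.1 x hx
  have h6 : l * x * l⁻¹ ∉ Q0 G a := fun h6 => h (by
    simpa [mul_assoc] using inv_conj_mem_of_mem_normalizer (H_le_normalizer_Q0 hl.1.1) h6)
  have h7 := conj_mem_of_mem_normalizer (H_le_normalizer_Q0 hl.1.1) hz
  generalize l * x * l⁻¹ = x, l * z * l⁻¹ = z at h4 h5 h6 h7
  have h1 : x ≠ 1 := fun e => h6 (e ▸ one_mem _)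
  by_cases h8 : z = 1
  · have h9 := TT_smul hS h5 h1
    rw [h4, h8, mul_one] at h9
    have h10 : t • s • t • a = s • t • a := by
      rw [← mul_smul, ← mul_smul, e, mul_smul, mul_smul, hs.1]
    rw [Q_inj hS h5 (I_Q hS hs) (ta_ne hS) (fix_unique hS (ord_t hS) h9.symm h10)] at h6
    exact h6 (subset_closure hs)
  · refine TT_mul_ne hS h2 hs e h5 h6 (Q0_I hS h2 h7 h8) ?_
    rw [← h4, TT_TT hS h5 h1, h4]
    simpa using h7

/-- There is no `K`- and `t`-invariant subgroup of order `q²`. -/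
theorem card_ne_sq {X : Subgroup G} (h0 : Q0 G a ≤ X) (hX : X ≤ Q)
    (h : ∀ k ∈ K a t, ∀ x ∈ X, k * x * k⁻¹ ∈ X) (hT : ∀ x ∈ X, x ≠ 1 → TT a t Q x ∈ X) :
    Nat.card X ≠ Nat.card (Q0 G a) ^ 2 := fun hc => by
  have h3 := card_Q0 hS h2
  obtain ⟨x, hx, h1⟩ := SetLike.exists_of_lt (h0.lt_of_ne fun e => by
    obtain ⟨n, h4, h5⟩ := exists_card_Q0 hS h2
    rw [← e, h5, ← pow_mul, Nat.pow_right_inj (by omega)] at hc
    omega)
  have h4 : ∀ k ∈ K a t, ∀ z ∈ Q0 G a, k * (x * z) * k⁻¹ ∉ Q0 G a := fun k hk z hz h4 => h1 (by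
    simpa [mul_assoc] using mul_mem (inv_conj_mem_of_mem_normalizer (H_le_normalizer_Q0 hk.1.1) h4)
      (inv_mem hz))
  let f : KK a t × Q0 G a → ((X : Set G) \ Q0 G a : Set G) := fun p => ⟨p.1 * (x * p.2) * (p.1 : G)⁻¹,
    h _ ((mem_KK hS h2).1 p.1.2) _ (mul_mem hx (h0 p.2.2)), h4 _ ((mem_KK hS h2).1 p.1.2) _ p.2.2⟩
  have h5 : Function.Injective f := by
    rintro ⟨k, z⟩ ⟨l, w⟩ e
    have e1 : (k : G) * (x * z) * (k : G)⁻¹ = l * (x * w) * (l : G)⁻¹ := congrArg Subtype.val e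
    have h6 : k = l := by
      by_contra h6
      have h7 := (mem_KK hS h2).1 (l⁻¹ * k).2
      have h8 : ((l⁻¹ * k : KK a t) : G) ≠ 1 := fun e => h6 (inv_mul_eq_one.1 (Subtype.ext e)).symm
      have h9 : (l⁻¹ * k : KK a t) * (x * z) * ((l⁻¹ * k : KK a t) : G)⁻¹ = x * w := by
        simp only [coe_mul, coe_inv]
        calc _ = (l : G)⁻¹ * (k * (x * z) * (k : G)⁻¹) * l := by group
          _ = _ := by rw [e1]; group
      generalize ((l⁻¹ * k : KK a t) : G) = m at h7 h8 h9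
      obtain ⟨y, hy, e2⟩ := Solv.exists_conj_eq_mul_of_fpf (H_le_normalizer_Q0 h7.1.1)
        (eq_bot_iff.2 ((inf_le_inf_right _ (Q0_le hS)).trans (K_fpf hS h7 h8).le))
        (mul_mem (inv_mem w.2) z.2)
      have h10 : x * z * y⁻¹ ∈ Q ⊓ centralizer {m} := ⟨hX (mul_mem (mul_mem hx (h0 z.2))
        (h0 (inv_mem hy))), mem_centralizer_singleton'.2 (commute_iff_conj.2 (by
          have h11 := (Q0_central hS h2 (inv_mem hy) (Q0_le hS (mul_mem (inv_mem w.2) z.2))).eq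
          calc m * (x * z * y⁻¹) * m⁻¹ = (m * (x * z) * m⁻¹) * y⁻¹ * (y * m * y⁻¹ * m⁻¹) := by group
            _ = x * w * (y⁻¹ * ((w : G)⁻¹ * z)) := by rw [h9, e2]; group
            _ = _ := by rw [h11]; group)).symm⟩
      rw [K_fpf hS h7 h8, mem_bot, mul_assoc] at h10
      exact h1 (by rw [eq_inv_of_mul_eq_one_left h10]; exact inv_mem (mul_mem z.2 (inv_mem hy)))
    subst h6
    exact Prod.ext rfl (Subtype.ext (by simpa using e1))
  have h6 := (Nat.bijective_iff_injective_and_card f).2 ⟨h5, by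
    rw [Nat.card_prod, Nat.card_coe_set_eq, Set.ncard_diff h0]
    change _ = Nat.card X - Nat.card (Q0 G a)
    rw [hc, h3]
    exact (Nat.sub_eq_of_eq_add (by ring)).symm⟩
  have h7 : x ≠ 1 := fun e => h1 (e ▸ one_mem _)
  obtain ⟨⟨k, z⟩, e1⟩ := h6.2 ⟨_, hT x hx h7, TT_not_mem hS h2 hs e (hX hx) h1⟩
  exact TT_ne_conj hS h2 hs e (hX hx) h1 ((mem_KK hS h2).1 k.2) z.2 (congrArg Subtype.val e1).symm

end three

/-- If `s t` has order five then `|Q| ≠ q³`. -/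
theorem five_cases (hs : s ∈ I G a) (hr : r ∈ Q) (e : t * s * t = r⁻¹ * t * r) (hne : r ≠ s)
    (h5 : (s * t) ^ 5 = 1) :
    ∃ m, 1 ≤ m ∧ Nat.card (Q0 G a) = 2 ^ (2 * m + 1) ∧ Nat.card Q ≠ Nat.card (Q0 G a) ^ 3 := by
  have h3 : ¬ 3 ∣ Nat.card (KK a t) := fun h => by
    have := Fact.mk Nat.prime_three
    obtain ⟨k, hk⟩ := exists_prime_orderOf_dvd_card' 3 h
    rw [← orderOf_coe] at hk
    have h1 : (k : G) * t * t = k := by rw [mul_assoc, hS.mul_self, mul_one]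
    obtain ⟨g, h4, h6⟩ := exists_conj_mul hS h2 (ord_mul_t hS ((mem_KK hS h2).1 k.2)) (ord_t hS) (by
      rw [h1, ← sq]
      exact pow_ne_one_of_lt_orderOf (by norm_num) (by omega))
    have h7 : (g * (k * t) * g⁻¹ * t) ^ 3 = 1 := by
      conv_lhs => enter [1, 2]; rw [← h6]
      rw [conj_mul, h1, conj_pow, ← hk, pow_orderOf_eq_one]; simp
    generalize g * (k * t) * g⁻¹ = u at h4 h7
    obtain ⟨h8, h9⟩ := SP_unique hS hs hr e h4 (by
      calc t * u * t = u * u * (t * u * t) * (u * (t * t) * u) := by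
            rw [hS.mul_self, mul_one, h4.2.2]; group
        _ = u * (u * t) ^ 3 * (t * u) := by simp [pow_succ, mul_assoc]
        _ = _ := by rw [h7]; group)
    exact hne (h9.trans h8.symm)
  have h6 : s * t ≠ 1 := fun h => ta_ne hS (by
    rw [← inv_eq_of_mul_eq_one_right h]; exact (inv_mem hs.1 :))
  have := Fact.mk Nat.prime_five
  have h7 := orderOf_eq_prime h5 h6
  have h8 : 5 ∣ Nat.card (KK a t) ∨ 5 ∣ Nat.card Q + 1 := by
    by_cases h : ∃ c : Ω, (s * t) • c = c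
    · obtain ⟨c, hc⟩ := h
      obtain ⟨g, hg⟩ := exists_conj_K hS hs.2.2 (inverts_mul_left hs.2.2 hS.mul_self) hc fun h => by
        have h9 := fix_unique hS (mem_invol.1 hs).2 h hs.1
        subst h9
        rw [mul_smul, ← eq_inv_smul_iff] at hc
        exact ta_ne hS (hc.trans (inv_mem hs.1))
      left
      rw [← h7, ← orderOf_conj g]
      exact Solv.orderOf_dvd_card_of_mem (subset_closure hg)
    · have := finite_Ω hS
      have h9 := Char.card_fixedBy_pow_modEq Ω (s * t) Nat.prime_five 1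
      push Not at h
      rw [pow_one, h5, fixedBy_one_eq_univ, Set.eq_empty_of_forall_notMem (s := fixedBy Ω (s * t)) h,
        Nat.card_univ,
        card_Ω hS] at h9
      exact Or.inr (Nat.modEq_zero_iff_dvd.1 (by simpa using h9))
  obtain ⟨n, h9, h10⟩ := exists_card_Q0 hS h2
  have h11 := card_Q0 hS h2
  have h12 : 2 ^ n % 15 = 2 ^ (n % 4) % 15 := by
    conv_lhs => rw [← Nat.div_add_mod n 4, pow_add, pow_mul, Nat.mul_mod, Nat.pow_mod]
    simp
  rw [h10] at h11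
  have h13 : n % 2 = 1 := by
    by_contra h
    have : n % 4 = 0 ∨ n % 4 = 2 := by omega
    rcases this with h | h <;> rw [h] at h12 <;> omega
  refine ⟨n / 2, by omega, by rw [h10]; congr 1; omega, fun hc => ?_⟩
  rw [hc, h10] at h8
  have h14 : (2 ^ n) ^ 3 % 5 = (2 ^ n % 5) ^ 3 % 5 := Nat.pow_mod ..
  have : n % 4 = 1 ∨ n % 4 = 3 := by omega
  rcases this with h | h <;> rw [h] at h12
  · rw [show 2 ^ n % 5 = 2 by omega] at h14; omega
  · rw [show 2 ^ n % 5 = 3 by omega] at h14; omega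

theorem psl_of_Q0 [FaithfulSMul G Ω] (h : ∀ x ∈ Q, x * x = 1) :
    ∃ (F : Type) (_ : Field F) (_ : Fintype F), (∃ n : ℕ, 2 ≤ n ∧ Fintype.card F = 2 ^ n) ∧
      Nonempty (LL t Q ≃* Matrix.ProjectiveSpecialLinearGroup (Fin 2) F) := by
  have ht : t ∈ LL t Q := mem_sup_right (mem_zpowers t)
  have := simple_LL hS h2
  have := finite_Ω hS
  have hS' := setup_sub hS le_sup_left ht
  obtain ⟨⟨s, r⟩, ⟨hs, hr, e⟩, -⟩ := structure_eq hS
  have h1 : ∀ d ∈ D a (⟨t, ht⟩ : LL t Q), (d : G) ∈ K a t := fun d hd =>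
    (mem_KK hS h2).1 (D_le_of_hh hS (KK_le hS h2) (fun m hm => by
      rw [t_K_t hS ((mem_KK hS h2).1 hm)]; exact inv_mem hm) (fun x hx h1 => subset_closure
        (hh_I hS hs hr e h2 ⟨hS.le hx, h1, h x hx⟩)) hd d.2)
  have hZ := zass_of_D hS' (R2_sub hS h2 le_sup_left) fun d hd => ⟨hd, Subtype.ext (h1 d hd).2⟩
  have h3 : Q = Q0 G a := le_antisymm (fun x hx => mem_Q0_of_sq hS h2 (hS.le hx) (h x hx)) (Q0_le hS)
  obtain ⟨F, _, _, h4, h5⟩ := Zass.psl_of_simple hZ (ta_ne hS').symm (by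
    have := Nat.card_le_card_of_injective (fun k : KK a t => (⟨⟨k, K_le hS le_sup_left ht
      ((mem_KK hS h2).1 k.2)⟩, KK_le hS h2 k.2⟩ : Zass.E (LL t Q) a ((⟨t, ht⟩ : LL t Q) • a)))
      fun k l e => Subtype.ext (congrArg (fun z => z.1.1) e)
    rw [card_Ω hS, show Nat.card Q = Nat.card (Q0 G a) from congrArg (fun X : Subgroup G => Nat.card X) h3,
      card_Q0 hS h2]
    exact le_trans (by omega) (Nat.mul_le_mul_left 2 this))
  obtain ⟨n, h6, h7⟩ := exists_card_Q0 hS h2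
  exact ⟨F, inferInstance, inferInstance, ⟨n, h6, by rw [card_Ω hS, h3, h7] at h4; omega⟩, h5⟩

end Cfsg.Agent.RankOne
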