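import Cfsg.Agent.Lib.Char.RankOne4

/-!
The split rank-one set-up: Zassenhaus groups of odd degree.
-/

set_option autoImplicit false
set_option linter.unusedSectionVars false
set_option linter.style.haveILetI false

namespace Cfsg.Agent.RankOne

open MulAction Subgroup Cfsg.Agent.Perm Cfsg.Agent.Transfer

variable {G Ω : Type*} [Group G] [Finite G] [MulAction G Ω] {a : Ω} {t : G} {Q : Subgroup G}
  {x y z s r k d : G}

theorem setup_of_zk [Finite Ω] (hK : Zass.ZK G a Q) (hQ : Even (Nat.card Q)) {b : Ω} (hab : a ≠ b) :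
    ∃ t, t • a = b ∧ IsRankOneSetup G Ω a t Q ∧ R2 G ∧ ∀ d ∈ D a t, d ∈ K a t := by
  obtain ⟨t, ht, rfl, -⟩ := Zass.exists_swap hK.hZ hab
  have hS : IsRankOneSetup G Ω a t Q := by
    refine ⟨hK.hZ.2.1, by rw [← sq, ← ht, pow_orderOf_eq_one], fun e => by simp [e] at ht, hab.symm,
      hK.le, fun _ hh _ hx => hK.conj_mem hh hx, eq_bot_iff.2 fun x hx => ?_,
      le_antisymm (sup_le hK.le inf_le_left) fun h hh => ?_, hQ, ?_⟩
    · by_contra h
      exact hab (hK.fix x hx.1 h _ hx.2).symm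
    · obtain ⟨u, hu, e⟩ := hK.trans hab.symm (d := h • t • a) fun e =>
        hab (smul_left_cancel h (hh.trans e.symm))
      rw [show h = u * (u⁻¹ * h) by group]
      exact mul_mem_sup hu (mem_inf.2 ⟨mul_mem (inv_mem (hK.le hu)) hh, by
        rw [mem_stabilizer_iff, mul_smul, ← e, inv_smul_smul]⟩)
    · have h1 := Zass.card_E_dvd hK.hZ hab
      rw [← hK.card] at h1
      refine Odd.of_dvd_nat ?_ h1
      have := Nat.card_pos (α := Q)
      obtain ⟨m, hm⟩ := hQ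
      exact ⟨m - 1, by omega⟩
  obtain ⟨⟨s, r⟩, ⟨hs, hr, e⟩, -⟩ := structure_eq hS
  have hV : ∀ v ∈ V a t, v = 1 := fun v hv => by
    by_contra h
    have h1 := hK.fpf hab v hv.1 h
    exact hs.2.1 (mem_bot.1 (h1.le ⟨I_Q hS hs, mem_centralizer_singleton'.2
      (V_commute_s hS hs hr e hv).1.symm⟩))
  refine ⟨t, rfl, hS, ?_, fun d hd => ?_⟩
  · obtain ⟨d, hd, h1⟩ := Zass.exists_mem_E hK.hZ hab
    have := hK.nilpotent
    obtain ⟨P⟩ : Nonempty (Sylow 2 Q) := inferInstance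
    have h2 := Solv.inf_centralizer_ne_bot_of_nilpotent (L := ⊤) (N := (P : Subgroup Q))
      (Group.nilpotent_of_mulEquiv Subgroup.topEquiv.symm) le_top Subgroup.le_normalizer_of_normal
      (P.ne_bot_of_dvd_card hQ.two_dvd)
    obtain ⟨z, hz, h3⟩ := exists_invol_mem_of_isPGroup (P.2.to_le inf_le_left) h2
    obtain ⟨-, h4, h5⟩ : (z : G) ∈ I G a := mem_invol.2 ⟨hS.le z.2, by rw [orderOf_coe, h3]⟩
    exact ⟨z, d * z * d⁻¹, h4, by simpa using h4, fun h => h4 (mem_bot.1 ((hK.fpf hab d hd h1).le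
      ⟨z.2, mem_centralizer_singleton'.2 (commute_iff_conj.2 h.symm).symm⟩)), h5, conj_mul_self h5 d,
      (congrArg Subtype.val (hz.2 ⟨_, hK.conj_mem hd.1 z.2⟩ trivial)).symm⟩
  · obtain ⟨v, hv, k, hk, rfl⟩ := exists_VK hS hd
    rwa [hV v hv, one_mul]

variable (hS : IsRankOneSetup G Ω a t Q) (h2 : R2 G) (hs : s ∈ I G a)
include hS h2 hs

omit h2 hs in
theorem zass_of_D' (h : ∀ d ∈ D a t, d ∈ K a t) (g : G) (b c e : Ω) (h1 : b ≠ c) (h3 : c ≠ e) (h4 : b ≠ e)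
    (hb : g • b = b) (hc : g • c = c) (he : g • e = e) : g = 1 := by
  obtain ⟨k, hk1, hk2⟩ := two hS h1 (ta_ne hS).symm
  have h5 : k * g * k⁻¹ ∈ D a t := by
    rw [mem_D, ← hk2, ← hk1]
    simp [mul_smul, hb, hc]
  by_contra h6
  rcases K_fix hS (h _ h5) (by simpa using h6) (c := k • e) (by simp [mul_smul, he]) with h7 | h7
  · exact h4 (smul_left_cancel k (hk1.trans h7.symm))
  · exact h3 (smul_left_cancel k (hk2.trans h7.symm))

theorem exists_sq_ne (hQ : IsPGroup 2 Q) (hn : ∃ x ∈ Q, ∃ y ∈ Q, x * y ≠ y * x) :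
    ∃ x ∈ Q, x * x ≠ 1 ∧ x * x ≠ s := by
  by_contra! h
  obtain ⟨x, hx, h1⟩ : ∃ x ∈ Q, x * x ≠ 1 := by
    by_contra! h1
    obtain ⟨x, hx, y, hy, h3⟩ := hn
    exact h3 (Q0_central hS h2 (mem_Q0_of_sq hS h2 (hS.le hx) (h1 x hx)) hy)
  obtain ⟨k, hk, h3⟩ := exists_K_ne hS h2
  have h4 := h _ (hS.conj_mem k hk.1.1 x hx) (by rw [conj_mul]; simpa using h1)
  rw [conj_mul, h x hx h1] at h4
  exact h3 (eq_one_of_K_commute hS hs hk (commute_iff_conj.2 h4))

variable (hQ : IsPGroup 2 Q) (hn : ∃ x ∈ Q, ∃ y ∈ Q, x * y ≠ y * x) (e : t * s * t = s * t * s)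
  (hD : ∀ d ∈ D a t, d ∈ K a t)
include hQ hn e hD

omit hQ hn e h2 in
theorem eq_one_of_three (h1 : x • a = a) (h3 : x • t • a = t • a) (h4 : x • s • t • a = s • t • a) :
    x = 1 := by
  by_contra h
  rcases K_fix hS (hD x ⟨h1, h3⟩) h h4 with h5 | h5
  · exact smul_ne hS hs.1 (ta_ne hS) h5
  · exact hs.2.1 (eq_one_of_fix hS (I_Q hS hs) (ta_ne hS) h5)

omit hQ hn hD h2 in
theorem ts_smul : (t * s) • a = t • a ∧ (t * s) • t • a = s • t • a ∧ (t * s) • s • t • a = a :=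
  ⟨by rw [mul_smul, hs.1], by rw [← mul_smul, e, mul_smul, mul_smul, hs.1, ← mul_smul],
    by rw [mul_smul, ← mul_smul s, hs.2.2, one_smul, tt_smul hS]⟩

omit hQ hn hD h2 in
theorem ts_cube : t * s * (t * s) * (t * s) = 1 := by
  calc _ = (t * s * t) * (s * t * s) := by simp only [mul_assoc]
    _ = s * (t * (s * s) * t) * s := by rw [e]; simp only [mul_assoc]
    _ = 1 := by rw [hs.2.2, mul_one, hS.mul_self, mul_one, hs.2.2]

theorem three_cycle {c : Ω} (h1 : x • c ≠ c) (h3 : x • x • x • c = c) :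
    ∃ g : G, g • c = a ∧ g * x * g⁻¹ = t * s := by
  obtain ⟨g, h4, h5⟩ := two hS h1.symm (ta_ne hS).symm
  have h6 : (g * x * g⁻¹) • a = t • a := by rw [← h5, ← h4, Zass.conj_smul_smul]
  have h7 : (g * x * g⁻¹) • (g * x * g⁻¹) • t • a = a := by
    rw [← h5, ← h4, Zass.conj_smul_smul, Zass.conj_smul_smul, h3]
  suffices ∃ l : G, l • a = a ∧ l * (g * x * g⁻¹) * l⁻¹ = t * s by
    obtain ⟨l, h8, h9⟩ := this
    exact ⟨l * g, by rw [mul_smul, h4, h8], by rw [← h9]; group⟩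
  generalize g * x * g⁻¹ = x at h6 h7
  obtain ⟨y, hy, k, hk, h8⟩ := exists_mul hS (h := x⁻¹ * t) (by rw [mul_smul, ← h6, inv_smul_smul])
  have h9 : x • t • a = y • t • a := by
    conv_rhs => rw [← hk.2, ← mul_smul y, ← h8, mul_smul, tt_smul hS]
    rw [eq_inv_smul_iff, h7]
  have h10 : y ≠ 1 := by
    rintro rfl
    rw [one_smul] at h9
    rw [h9, h9] at h7
    exact ta_ne hS h7
  have hK := hD k hk
  have h11 : TT a t Q (k⁻¹ * y⁻¹ * k⁻¹⁻¹) = y := TT_eq hS (hS.conj_mem _ (inv_mem hk.1) _ (inv_mem hy))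
    (by rw [Ne, conj_eq_one_iff, inv_eq_one]; exact h10) hy (by
      rw [← h9, inv_inv, mul_smul, hk.2, ← mul_inv_rev, ← h8, ← mul_smul t]
      simp [inv_t hS, ← mul_assoc, hS.mul_self])
  rw [TT_conj_K hS (inv_mem hy) (inv_ne_one.2 h10) (K_inv hK)] at h11
  have h12 : y ∈ Q0 G a := by
    by_contra h
    refine TT_ne_conj hS h2 hs e (inv_mem hy) (by simpa using h) (K_inv hK)
      (sq_mem_Q0 hS h2 hQ hn hy) ?_
    conv_rhs => enter [1, 2]; rw [inv_mul_cancel_left, ← h11]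
    group
  obtain ⟨l, hl, h13⟩ := K_surj hS hs (Q0_I hS h2 h12 h10)
  have h14 : l⁻¹ • t • a = t • a := (inv_mem hl.1).2
  have h15 : x • t • a = l⁻¹ • s • t • a := by rw [h9, ← h13, mul_smul, mul_smul, hl.1.2]
  obtain ⟨h16, h17, h18⟩ := ts_smul hS hs e
  refine ⟨l, hl.1.1, (inv_mul_eq_one.1 (eq_one_of_three hS hs hD ?_ ?_ ?_)).symm⟩
  all_goals rw [mul_smul, inv_smul_eq_iff, mul_smul (l * x), mul_smul l]
  · rw [h16, show l⁻¹ • a = a from (inv_mem hl.1).1, h6, hl.1.2]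
  · rw [h17, h14, h15, smul_inv_smul]
  · rw [h18, ← h15, h7, hl.1.1]

theorem ts_not_fix (c : Ω) : (t * s) • c ≠ c := fun hc => by
  obtain ⟨h3, h4, h5⟩ := ts_smul hS hs e
  obtain ⟨g, hg⟩ := exists_conj_K hS hS.mul_self (inverts_mul_left hS.mul_self hs.2.2) hc fun h => by
    rw [mul_smul, ← eq_inv_smul_iff, inv_t hS, h] at hc
    rw [fix_unique hS (mem_invol.1 hs).2 hc hs.1] at h
    exact ta_ne hS h
  have h7 : g * (t * s) * g⁻¹ ≠ 1 := fun h => ta_ne hS (by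
    rw [← h3, conj_eq_one_iff.1 h, one_smul])
  have h8 : ∀ c : Ω, (g * (t * s) * g⁻¹) • (g * (t * s) * g⁻¹) • (g * (t * s) * g⁻¹) • c = c := fun c => by
    rw [← mul_smul, ← mul_smul, conj_mul, conj_mul, ts_cube hS hs e]; simp
  generalize g * (t * s) * g⁻¹ = k at hg h7 h8
  have key : ∀ y ∈ Q, y ≠ 1 → ∃ g : G, g • y • t • a = a ∧ g * k * g⁻¹ = t * s := fun y hy h =>
    three_cycle hS h2 hs hQ hn e hD (fun h9 => (K_fix hS hg h7 h9).elim
      (smul_ne hS (hS.le hy) (ta_ne hS)) fun h9 => h (eq_one_of_fix hS hy (ta_ne hS) h9)) (h8 _)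
  obtain ⟨y, hy, h9, -⟩ := exists_sq_ne hS h2 hs hQ hn
  have h10 : y ∉ Q0 G a := fun h => h9 (Q0_sq hS h2 h)
  have h11 : y ≠ 1 := fun h => h9 (by simp [h])
  obtain ⟨g₁, h12, h13⟩ := key y hy h11
  obtain ⟨g₂, h14, h15⟩ := key s (I_Q hS hs) hs.2.1
  have h16 : (g₂⁻¹ * g₁) • y • t • a = s • t • a := by rw [mul_smul, h12, inv_smul_eq_iff, h14]
  have h17 : k * (g₂⁻¹ * g₁) = g₂⁻¹ * g₁ * k := by
    calc _ = g₂⁻¹ * (g₂ * k * g₂⁻¹) * g₁ := by group
      _ = _ := by rw [h15, ← h13]; group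
  generalize g₂⁻¹ * g₁ = g at h16 h17
  have h18 : ∀ c, k • c = c → g • c = a ∨ g • c = t • a := fun c h =>
    K_fix hS hg h7 (by rw [← mul_smul, h17, mul_smul, h])
  have h19 : ∀ d ∈ D a t, ∀ y ∈ Q, d • y • t • a = s • t • a → y ∈ Q0 G a := fun d hd y hy h => by
    have := Q_inj hS (hS.conj_mem d hd.1 y hy) (I_Q hS hs) (ta_ne hS) (by
      rw [← h, mul_smul, show d⁻¹ • t • a = t • a from (inv_mem hd).2, mul_smul])
    simpa [← this, mul_assoc] using
      inv_conj_mem_of_mem_normalizer (H_le_normalizer_Q0 hd.1) (subset_closure hs)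
  rcases h18 a hg.1.1 with h20 | h20 <;> rcases h18 _ hg.1.2 with h21 | h21
  · exact ta_ne hS (smul_left_cancel g (h21.trans h20.symm))
  · exact h10 (h19 g ⟨h20, h21⟩ y hy h16)
  · refine TT_not_mem hS h2 hs e hy h10 (h19 (g * t) (mem_D.2 ⟨by rw [mul_smul, h21],
      by rw [mul_smul, tt_smul hS, h20]⟩) _ (TT_mem hS hy h11) ?_)
    rw [TT_smul hS hy h11, mul_smul, tt_smul hS, h16]
  · exact ta_ne hS (smul_left_cancel g (h21.trans h20.symm))

/-- A Zassenhaus group of odd degree with non-abelian `Q` has `s t` of order five. -/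
theorem not_three : False := by
  obtain ⟨h3, h4, h5⟩ := ts_smul hS hs e
  let A := centralizer {t * s}
  have hA : ∀ {y}, y ∈ A ↔ Commute y (t * s) := mem_centralizer_singleton'
  have h6 : ∀ y ∈ A, y • a = a → y = 1 := fun y hy h => by
    have h6 : y • t • a = t • a := by rw [← h3, ← mul_smul, (hA.1 hy).eq, mul_smul, h]
    exact eq_one_of_three hS hs hD h h6 (by rw [← h4, ← mul_smul, (hA.1 hy).eq, mul_smul, h6])
  have h7 : ∀ c, ∃ y ∈ A, y • a = c := fun c => by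
    obtain ⟨g, h7, h8⟩ := three_cycle hS h2 hs hQ hn e hD (ts_not_fix hS h2 hs hQ hn e hD c) (by
      rw [← mul_smul, ← mul_smul, ts_cube hS hs e, one_smul])
    exact ⟨g⁻¹, inv_mem (hA.2 (commute_iff_conj.2 h8)), by rw [← h7, inv_smul_smul]⟩
  have h8 : ∀ u ∈ I G a, u ∈ normalizer (A : Set G) → ∀ y ∈ A, u * y * u⁻¹ = y⁻¹ := fun u hu h y hy => by
    obtain ⟨x, -, h8⟩ := Solv.exists_conj_eq_mul_of_fpf h (eq_bot_iff.2 fun z hz => h6 z hz.1
      (centralizer_le hS (I_Q hS hu) hu.2.1 (mem_centralizer_singleton'.1 hz.2))) hy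
    have h9 := conj_mul_self hu.2.2 x
    rw [h8] at h9
    rw [inv_eq_of_mul_eq_one_right hu.2.2]
    exact eq_inv_of_mul_eq_one_right (by rw [← h9]; group)
  have hsA : s ∈ normalizer (A : Set G) := mem_normalizer_of_conj_mem fun y hy => hA.2 (by
    have h9 := inverts_mul_right hS.mul_self hs.2.2
    have := ((hA.1 hy).inv_right).conj s
    rwa [← conj_inv, h9, inv_inv] at this)
  have h9 : ∀ y ∈ A, ∀ z ∈ A, Commute y z := fun y hy z hz => by
    have := h8 s hs hsA _ (mul_mem hy hz)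
    rw [← conj_mul, h8 s hs hsA y hy, h8 s hs hsA z hz, ← mul_inv_rev, inv_inj] at this
    exact this.symm
  have h10 : ∀ y ∈ A, y ≠ 1 → ∀ g, Commute g y → g ∈ A := fun y hy h g hg => by
    obtain ⟨z, hz, h10⟩ := h7 (g • a)
    have h11 : Commute (z⁻¹ * g) y := (h9 z hz y hy).inv_left.mul_left hg
    have h12 : (z⁻¹ * g) • a = a := by rw [mul_smul, ← h10, inv_smul_smul]
    have h13 : (z⁻¹ * g) • y • a = y • a := by rw [← mul_smul, h11.eq, mul_smul, h12]
    have h14 : y • a ≠ a := fun e => h (h6 y hy e)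
    rw [← inv_mul_eq_one.1 ((zass_of_D' hS hD) (z⁻¹ * g) a (y • a) (y • y • a) h14.symm
      (fun e => h14 (smul_left_cancel y e).symm) (fun e' => h (eq_one_of_commute_mul hS hs
        (h6 _ (mul_mem hy hy) (by rw [mul_smul, ← e'])) (by
          simpa [inv_t hS, inv_eq_of_mul_eq_one_right hs.2.2] using (hA.1 hy).inv_right))) h12 h13
        (by rw [← mul_smul, h11.eq, mul_smul, h13]))]
    exact hz
  choose f hf hf' using h7
  have h11 : ∀ z : Q, (z : G)⁻¹ * (f ((z : G) • t • a) * s) * z * t ∈ KK a t := fun z =>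
    subset_closure (mem_K_of_swap hS (by
      have := h8 s hs hsA _ (hf ((z : G) • t • a))
      rw [inv_eq_of_mul_eq_one_right hs.2.2] at this
      calc _ = (z : G)⁻¹ * (f ((z : G) • t • a) * (s * f ((z : G) • t • a) * s)) * z := by group
        _ = 1 := by rw [this]; group) (by
      simp only [mul_smul]
      rw [Q_smul hS z.2, hs.1, hf', inv_smul_smul]))
  let T := Q ⊓ normalizer (A : Set G)
  let κ : Q → KK a t := fun z => ⟨_, h11 z⟩
  have h12 : ∀ z w, κ z = κ w → (z : G) * (w : G)⁻¹ ∈ T := fun z w h => by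
    refine mem_inf.2 ⟨mul_mem z.2 (inv_mem w.2), mem_normalizer_of_conj_mem fun y hy =>
      h10 _ (hf ((z : G) • t • a)) (fun h => ?_) _ ?_⟩
    · have := hf' ((z : G) • t • a)
      rw [h, one_smul] at this
      exact smul_ne hS (Q_smul hS z.2) (ta_ne hS) this.symm
    have h12 : f ((z : G) • t • a) = z * (w : G)⁻¹ * f ((w : G) • t • a) * (z * (w : G)⁻¹)⁻¹ := by
      have h12 := mul_right_cancel (congrArg Subtype.val h)
      calc _ = z * ((z : G)⁻¹ * (f ((z : G) • t • a) * s) * z) * (z : G)⁻¹ * s⁻¹ := by group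
        _ = z * (w : G)⁻¹ * f ((w : G) • t • a) * (s * (z * (w : G)⁻¹)⁻¹ * s⁻¹) := by rw [h12]; group
        _ = _ := by rw [commute_iff_conj.1 (I_central hS h2 hs (inv_mem (mul_mem z.2 (inv_mem w.2))))]
    rw [h12]
    exact (h9 y hy _ (hf _)).conj _
  have h13 : Nat.card Q ≤ Nat.card (KK a t) * Nat.card T := by
    rw [← Nat.card_prod]
    exact Nat.card_le_card_of_injective (fun z => (κ z, ⟨_, h12 z (Function.invFun κ (κ z))
      (Function.invFun_eq ⟨z, rfl⟩).symm⟩)) fun z w h => by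
        have h13 : κ z = κ w := congrArg Prod.fst h
        have h14 := congrArg (fun p => p.2.1) h
        simp only [h13] at h14
        exact Subtype.ext (mul_right_cancel h14)
  have h14 : ∀ u ∈ T, u * u = 1 → u = 1 ∨ u = s := fun u hu h => by
    refine or_iff_not_imp_left.2 fun h1 => ?_
    have hu' : u ∈ I G a := ⟨hS.le hu.1, h1, h⟩
    have := h6 (s⁻¹ * u) (hA.2 (commute_iff_conj.2 (by
      have h14 := h8 s hs hsA _ (hA.2 (Commute.refl _))
      calc _ = s⁻¹ * (u * (t * s) * u⁻¹) * s := by group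
        _ = _ := by rw [h8 u hu' hu.2 _ (hA.2 (Commute.refl _)), ← h14]; group)))
      (mul_mem (inv_mem hs.1) hu'.1 :)
    exact (inv_mul_eq_one.1 this).symm
  have h15 : T ≤ normalizer (Q0 G a : Set G) := fun u hu => H_le_normalizer_Q0 (hS.le hu.1)
  have h16 : Nat.card (T ⊓ Q0 G a : Subgroup G) ≤ 2 := by
    rw [← Set.ncard_pair hs.2.1.symm, ← Nat.card_coe_set_eq]
    exact Nat.card_le_card_of_injective (fun u => ⟨u, h14 u u.2.1 (Q0_sq hS h2 u.2.2)⟩)
      fun u v h => Subtype.ext (congrArg (fun z : ({1, s} : Set G) => (z : G)) h)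
  have h17 : T ⊔ Q0 G a < Q := (sup_le inf_le_left (Q0_le hS)).lt_of_ne fun h => by
    obtain ⟨x, hx, h17, h18⟩ := exists_sq_ne hS h2 hs hQ hn
    obtain ⟨u, hu, z, hz, rfl⟩ := (mem_sup_iff_of_le_normalizer h15).1 (h.ge hx)
    rw [(Q0_central hS h2 hz hu.1).mul_mul_mul_comm, Q0_sq hS h2 hz, mul_one] at h17 h18
    exact (h14 _ (mul_mem hu hu) (Q0_sq hS h2 (sq_mem_Q0 hS h2 hQ hn hu.1))).elim h17 h18
  have h18 : 2 * Nat.card (T ⊔ Q0 G a : Subgroup G) ≤ Nat.card Q := by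
    obtain ⟨m, hm⟩ := card_dvd_of_le h17.le
    have := Solv.card_lt_of_lt h17
    rw [hm] at this ⊢
    rw [mul_comm]
    refine Nat.mul_le_mul_left _ ?_
    by_contra! h
    interval_cases m <;> omega
  have h19 := card_sup_mul_card_inf h15
  have h20 := (card_Q_cases hS h2 hQ hn).resolve_left (card_ne_sq hS h2 hs e (Q0_le hS) le_rfl
    (fun k hk => hS.conj_mem k hk.1.1) fun x => TT_mem hS)
  have h21 := card_Q0 hS h2
  have h22 : Nat.card T * Nat.card (Q0 G a) ≤ Nat.card (Q0 G a) ^ 2 * Nat.card (Q0 G a) := by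
    rw [← h19, ← pow_succ, ← h20]
    exact (Nat.mul_le_mul_left _ h16).trans (by omega)
  have h23 := Nat.le_of_mul_le_mul_right h22 Nat.card_pos
  have h24 := Nat.mul_le_mul_left (Nat.card (KK a t)) h23
  rw [h20] at h13
  rw [h21] at h13 h24
  nlinarith

omit e hD hs in
/-- The case where `s t` does not have order three. -/
theorem five_of_ne (hs : s ∈ I G a) (hr : r ∈ Q) (e : t * s * t = r⁻¹ * t * r) (hne : r ≠ s) :
    r * r = s ∧ ∃ m, 1 ≤ m ∧ Nat.card (Q0 G a) = 2 ^ (2 * m + 1) ∧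
      Nat.card Q = Nat.card (Q0 G a) ^ 2 := by
  obtain ⟨h3, h4⟩ := (st_cases hS hs hr e h2 (Q0_sq hS h2 (sq_mem_Q0 hS h2 hQ hn hr))).resolve_left hne
  obtain ⟨m, h5, h6, h7⟩ := five_cases hS h2 hs hr e hne h4
  exact ⟨h3, m, h5, h6, (card_Q_cases hS h2 hQ hn).resolve_right h7⟩

omit e hs in
theorem zass_five : ∃ m, 1 ≤ m ∧ Nat.card (Q0 G a) = 2 ^ (2 * m + 1) ∧
    Nat.card Q = Nat.card (Q0 G a) ^ 2 ∧ D a t = KK a t ∧ Nat.card (D a t) = 2 ^ (2 * m + 1) - 1 := by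
  obtain ⟨⟨s, r⟩, ⟨hs, hr, e⟩, -⟩ := structure_eq hS
  obtain ⟨-, m, h3, h4, h5⟩ := five_of_ne hS h2 hQ hn hs hr e fun h => not_three hS h2 hs hQ hn
    (by rwa [show r = s from h, inv_eq_of_mul_eq_one_right hs.2.2] at e) hD
  have h6 : D a t = KK a t := le_antisymm (fun d hd => subset_closure (hD d hd)) (KK_le hS h2)
  exact ⟨m, h3, h4, h5, h6, by rw [h6, ← h4, card_Q0 hS h2]; rfl⟩

omit e hs in
theorem isSuzuki_zass [IsSimpleGroup G] : IsSuzuki G := by
  obtain ⟨m, h3, h4, h5, -, h6⟩ := zass_five hS h2 hQ hn hD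
  exact ⟨inferInstance, m, h3, by rw [card_G hS, h6, h5, h4]; ring⟩

end Cfsg.Agent.RankOne
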