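import Cfsg.Agent.Lib.Char.RankOne5

/-!
The split rank-one set-up: the unitary case, coordinates on `Q / Q0`.
-/

set_option autoImplicit false
set_option linter.unusedSectionVars false
set_option linter.style.haveILetI false

namespace Cfsg.Agent.RankOne

open MulAction Subgroup Cfsg.Agent.Perm Cfsg.Agent.Transfer
open scoped Pointwise commutatorElement

variable {G Ω : Type*} [Group G] [Finite G] [MulAction G Ω] {a : Ω} {t : G} {Q : Subgroup G}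
  {x y z s r k d w : G}

theorem exists_pi {X Y : Subgroup G} (hYX : Y ≤ X) (hc : ∀ x ∈ X, ∀ y ∈ X, ⁅x, y⁆ ∈ Y) {S : Set G}
    (hX : ∀ g ∈ S, ∀ x ∈ X, g * x * g⁻¹ ∈ X) (hY : ∀ g ∈ S, ∀ x ∈ Y, g * x * g⁻¹ ∈ Y)
    (hS : ∀ g ∈ S, ∀ h ∈ S, Commute g h)
    (hirr : ∀ U, Y ≤ U → U ≤ X → (∀ g ∈ S, ∀ x ∈ U, g * x * g⁻¹ ∈ U) → U = Y ∨ U = X)
    (hx : x ∈ X) (hx' : x ∉ Y) : ∃ (F : Type) (_ : Field F) (_ : Fintype F) (π χ : G → F),
      (∀ x ∈ X, ∀ y ∈ X, π (x * y) = π x + π y) ∧ (∀ x ∈ X, π x = 0 ↔ x ∈ Y) ∧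
      (∀ c, ∃ x ∈ X, π x = c) ∧ π x = 1 ∧ (∀ g ∈ S, ∀ x ∈ X, π (g * x * g⁻¹) = χ g * π x) ∧
      Fintype.card F * Nat.card Y = Nat.card X := by
  classical
  let N := Y.subgroupOf X
  have : N.Normal := ⟨fun y hy x => mem_subgroupOf.2 (by
    simpa [commutatorElement_def] using mul_mem (hc _ x.2 _ y.2) hy)⟩
  let _ : CommGroup (X ⧸ N) := { (inferInstance : Group (X ⧸ N)) with
    mul_comm := fun x y => by
      obtain ⟨x, rfl⟩ := QuotientGroup.mk_surjective x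
      obtain ⟨y, rfl⟩ := QuotientGroup.mk_surjective y
      refine QuotientGroup.eq.2 (mem_subgroupOf.2 ?_)
      simpa [commutatorElement_def, mul_assoc] using hc _ (inv_mem y.2) _ (inv_mem x.2) }
  let f : S → AddMonoid.End (Additive (X ⧸ N)) := fun g => MonoidHom.toAdditive (QuotientGroup.map N N
    (((MulAut.conj (g : G)).toMonoidHom.comp X.subtype).codRestrict X fun x => hX g g.2 x x.2)
    fun x hx => hY g g.2 x hx)
  let m : X → Additive (X ⧸ N) := fun x => .ofMul x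
  have hm : Function.Surjective m := QuotientGroup.mk_surjective
  have hf : ∀ g x, f g (m x) = m ⟨_, hX g g.2 x x.2⟩ := fun _ _ => rfl
  have hcomm : ∀ k l, f k * f l = f l * f k := fun k l => AddMonoidHom.ext fun x => by
    obtain ⟨x, rfl⟩ := hm x
    change f k (f l (m x)) = f l (f k (m x))
    simp only [hf]
    congr 2
    calc _ = (k * l : G) * x * (k * l : G)⁻¹ := by group
      _ = _ := by rw [(hS k k.2 l l.2).eq]; group
  obtain ⟨F, _, _, φ, δ, h1, h2, -⟩ := Char.exists_field_of_irr (Set.range f) (by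
    rintro _ ⟨k, rfl⟩ _ ⟨l, rfl⟩; exact hcomm k l) (fun U hU => by
      refine (hirr (((AddSubgroup.toSubgroup' U).comap (QuotientGroup.mk' N)).map X.subtype)
        (fun y hy => ⟨⟨y, hYX hy⟩, ?_, rfl⟩) (map_subtype_le _) ?_).imp (fun e => ?_) fun e => ?_
      · change QuotientGroup.mk _ ∈ AddSubgroup.toSubgroup' U
        rw [(QuotientGroup.eq_one_iff (N := N) _).2 hy]
        exact one_mem _
      · rintro k hk _ ⟨x, hx, rfl⟩
        exact ⟨⟨_, hX k hk x x.2⟩, hU _ ⟨⟨k, hk⟩, rfl⟩ (m x) hx, rfl⟩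
      · refine (AddSubgroup.eq_bot_iff_forall U).2 fun x hx => ?_
        obtain ⟨x, rfl⟩ := hm x
        exact (QuotientGroup.eq_one_iff (N := N) _).2 (e.le ⟨x, hx, rfl⟩)
      · refine (AddSubgroup.eq_top_iff' U).2 fun x => ?_
        obtain ⟨x, rfl⟩ := hm x
        obtain ⟨y, hy, e⟩ := e.ge x.2
        exact (Subtype.ext e : y = x) ▸ hy)
    (a₀ := m ⟨x, hx⟩) fun e => hx' ((QuotientGroup.eq_one_iff (N := N) _).1 e)
  let π : G → F := fun x => if hx : x ∈ X then φ.symm (m ⟨x, hx⟩) else 0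
  have hπ : ∀ x (hx : x ∈ X), π x = φ.symm (m ⟨x, hx⟩) := fun x hx => dif_pos hx
  refine ⟨F, inferInstance, inferInstance, π, fun g => if h : g ∈ S then δ (f ⟨g, h⟩) else 0,
    fun x hx y hy => ?_, fun x hx => ?_, fun c => ?_, by rw [hπ _ hx, ← h1, φ.symm_apply_apply],
    fun g hg x hx => ?_, ?_⟩
  · rw [hπ _ hx, hπ _ hy, hπ _ (mul_mem hx hy), ← map_add]; rfl
  · rw [hπ _ hx, AddEquiv.map_eq_zero_iff]
    exact QuotientGroup.eq_one_iff (N := N) _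
  · obtain ⟨x, hx⟩ := hm (φ c)
    exact ⟨x, x.2, by rw [hπ _ x.2, φ.symm_apply_eq, ← hx]⟩
  · beta_reduce
    rw [hπ _ hx, hπ _ (hX g hg x hx), φ.symm_apply_eq, dif_pos hg, ← h2 _ (by
      rintro _ ⟨l, rfl⟩; exact hcomm _ l), φ.apply_symm_apply, hf]
  · rw [← Nat.card_eq_fintype_card, Nat.card_congr φ.toEquiv, ← Solv.card_subgroupOf_of_le hYX]
    exact (card_eq_card_quotient_mul_card_subgroup N).symm

variable (hS : IsRankOneSetup G Ω a t Q) (h2 : R2 G)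
include hS h2

omit h2 in
theorem W_commute (hw : w ∈ W a t) (hz : z ∈ Q0 G a) : Commute w z :=
  ((W_eq' hS).le hw).2 z hz |>.symm

variable (hQ : IsPGroup 2 Q)
include hQ

theorem inv_cases (hc : Nat.card Q = Nat.card (Q0 G a) ^ 3) {X : Subgroup G} (h0 : Q0 G a ≤ X)
    (hX : X ≤ Q) (h : ∀ k ∈ K a t, ∀ x ∈ X, k * x * k⁻¹ ∈ X) :
    X = Q0 G a ∨ Nat.card X = Nat.card (Q0 G a) ^ 2 ∨ X = Q := by
  obtain ⟨n, h3, h4⟩ := exists_card_Q0 hS h2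
  obtain ⟨j, hj⟩ := IsPGroup.iff_card.1 (hQ.to_le hX)
  have h5 := dvd_card_sub hS h2 hX h
  rw [show Nat.card (KK a t) = 2 ^ n - 1 by rw [← h4, card_Q0 hS h2]; rfl, hj,
    ← Nat.gcd_eq_left_iff_dvd, Nat.pow_sub_one_gcd_pow_sub_one] at h5
  obtain ⟨m, rfl⟩ : n ∣ j := Nat.gcd_eq_left_iff_dvd.1 (Nat.pow_right_injective le_rfl (by
    have := Nat.one_le_two_pow (n := n)
    have := Nat.one_le_two_pow (n := n.gcd j)
    change 2 ^ _ = 2 ^ _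
    omega))
  have h6 := card_le_of_le h0
  have h7 := card_le_of_le hX
  rw [hc] at h7
  rw [hj, h4, ← pow_mul, Nat.pow_le_pow_iff_right one_lt_two] at h7
  rw [hj, h4, Nat.pow_le_pow_iff_right one_lt_two] at h6
  have h8 : m ≤ 3 := Nat.le_of_mul_le_mul_left h7 (by omega)
  interval_cases m
  · omega
  · exact Or.inl (eq_of_le_of_card_ge h0 (by rw [hj, h4, mul_one])).symm
  · exact Or.inr (Or.inl (by rw [hj, h4, pow_mul]))
  · exact Or.inr (Or.inr (eq_of_le_of_card_ge hX (by rw [hc, hj, h4, pow_mul])))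

variable (hn : ∃ x ∈ Q, ∃ y ∈ Q, x * y ≠ y * x)
include hn

theorem sq_I (hx : x ∈ Q) (h : x ∉ Q0 G a) : x * x ∈ I G a :=
  Q0_I hS h2 (sq_mem_Q0 hS h2 hQ hn hx) fun e => h (mem_Q0_of_sq hS h2 (hS.le hx) e)

omit hQ hn in
theorem sq_mul (hx : x ∈ Q) (hz : z ∈ Q0 G a) : x * z * (x * z) = x * x := by
  rw [(Q0_central hS h2 hz hx).mul_mul_mul_comm, Q0_sq hS h2 hz, mul_one]

theorem K_inj' (hx : x ∈ Q) (h : x ∉ Q0 G a) (hk : k ∈ K a t) {l : G} (hl : l ∈ K a t)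
    (e : (k * x * k⁻¹)⁻¹ * (l * x * l⁻¹) ∈ Q0 G a) : k = l := by
  have := sq_mul hS h2 (hS.conj_mem k hk.1.1 x hx) e
  rw [mul_inv_cancel_left, conj_mul, conj_mul] at this
  exact inv_injective (K_inj hS (sq_I hS h2 hQ hn hx h) (K_inv hk) (K_inv hl)
    (by simpa only [inv_inv] using this.symm))

theorem exists_conj_sq {X : Subgroup G} (h0 : Q0 G a ≤ X) (hX : X ≤ Q)
    (h : ∀ k ∈ K a t, ∀ x ∈ X, k * x * k⁻¹ ∈ X) (hc : Nat.card X = Nat.card (Q0 G a) ^ 2)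
    (hx : x ∈ X) (h1 : x ∉ Q0 G a) (hy : y ∈ X) (h3 : y ∉ Q0 G a) :
    ∃ k ∈ K a t, (k * x * k⁻¹)⁻¹ * y ∈ Q0 G a := by
  have h4 : ∀ k ∈ K a t, ∀ z ∈ Q0 G a, k * x * k⁻¹ * z ∉ Q0 G a := fun k hk z hz h4 => h1 (by
    simpa [mul_assoc] using inv_conj_mem_of_mem_normalizer (H_le_normalizer_Q0 hk.1.1)
      (mul_mem h4 (inv_mem hz)))
  let f : KK a t × Q0 G a → ((X : Set G) \ Q0 G a : Set G) := fun p => ⟨p.1 * x * (p.1 : G)⁻¹ * p.2,
    mul_mem (h _ ((mem_KK hS h2).1 p.1.2) _ hx) (h0 p.2.2), h4 _ ((mem_KK hS h2).1 p.1.2) _ p.2.2⟩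
  have h5 : Function.Injective f := by
    rintro ⟨k, z⟩ ⟨l, w⟩ e
    have e1 : (k : G) * x * (k : G)⁻¹ * z = l * x * (l : G)⁻¹ * w := congrArg Subtype.val e
    obtain rfl : k = l := Subtype.ext (K_inj' hS h2 hQ hn (hX hx) h1 ((mem_KK hS h2).1 k.2)
      ((mem_KK hS h2).1 l.2) (by
        rw [← mul_inv_eq_iff_eq_mul.2 e1, mul_assoc _ (z : G), inv_mul_cancel_left]
        exact mul_mem z.2 (inv_mem w.2)))
    exact Prod.ext rfl (Subtype.ext (mul_left_cancel e1))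
  have h6 := (Nat.bijective_iff_injective_and_card f).2 ⟨h5, by
    rw [Nat.card_prod, Nat.card_coe_set_eq, Set.ncard_diff h0]
    change _ = Nat.card X - Nat.card (Q0 G a)
    rw [hc, card_Q0 hS h2]
    exact (Nat.sub_eq_of_eq_add (by ring)).symm⟩
  obtain ⟨⟨k, z⟩, e1⟩ := h6.2 ⟨y, hy, h3⟩
  exact ⟨k, (mem_KK hS h2).1 k.2, by
    rw [← show _ = y from congrArg Subtype.val e1, inv_mul_cancel_left]; exact z.2⟩

variable [FaithfulSMul G Ω] (hs : s ∈ I G a) (e : t * s * t = s * t * s)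
include hs e

theorem card_Q_three : Nat.card Q = Nat.card (Q0 G a) ^ 3 :=
  (card_Q_cases hS h2 hQ hn).resolve_left (card_ne_sq hS h2 hs e (Q0_le hS) le_rfl
    (fun k hk => hS.conj_mem k hk.1.1) fun _ => TT_mem hS)

variable (hw : w ∈ W a t) (hw1 : w ≠ 1)
include hw hw1

theorem C_W (hx : x ∈ Q) (h : Commute w x) : x ∈ Q0 G a := by
  have h3 : ∀ {x}, x ∈ Q ⊓ centralizer {w} ↔ x ∈ Q ∧ Commute x w := fun {x} => by
    rw [mem_inf, mem_centralizer_singleton']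
  have h4 : ∀ k ∈ K a t, ∀ x ∈ Q ⊓ centralizer {w}, k * x * k⁻¹ ∈ Q ⊓ centralizer {w} :=
    fun k hk x hx => h3.2 ⟨hS.conj_mem k hk.1.1 x hx.1,
      ((show Commute k w from hw.2 k hk).mul_left (h3.1 hx).2).mul_left
        (show Commute k w from hw.2 k hk).inv_left⟩
  have h5 : Q0 G a ≤ Q ⊓ centralizer {w} := fun z hz => h3.2 ⟨Q0_le hS hz, (W_commute hS hw hz).symm⟩
  rcases inv_cases hS h2 hQ (card_Q_three hS h2 hQ hn hs e) h5 inf_le_left h4 with h6 | h6 | h6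
  · exact h6.le (h3.2 ⟨hx, h.symm⟩)
  · exact absurd h6 (card_ne_sq hS h2 hs e h5 inf_le_left h4 fun x hx h1 => h3.2 ⟨TT_mem hS hx.1 h1,
      (commute_iff_conj.2 (by
        rw [← TT_conj_V hS hx.1 h1 hw.1, commute_iff_conj.1 (h3.1 hx).2.symm])).symm⟩)
  · exact absurd (eq_one_of_fix_all hS hw.1.1 fun x hx => (h3.1 (h6.ge hx)).2.symm) hw1

theorem W_fpf (hx : x ∈ Q) (h : x⁻¹ * (w * x * w⁻¹) ∈ Q0 G a) : x ∈ Q0 G a :=
  C_W hS h2 hQ hn hs e (mul_mem hw hw) (fun h1 => hw1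
    (eq_one_of_odd_of_mul_self (odd_of_mem_D hS hw.1.1) h1)) hx (commute_iff_conj.2 (by
      calc _ = w * (x * (x⁻¹ * (w * x * w⁻¹))) * w⁻¹ := by group
        _ = w * x * w⁻¹ * (w * (x⁻¹ * (w * x * w⁻¹)) * w⁻¹) := by group
        _ = x * ((x⁻¹ * (w * x * w⁻¹)) * (x⁻¹ * (w * x * w⁻¹))) := by
          rw [commute_iff_conj.1 (W_commute hS hw h)]; group
        _ = x := by rw [Q0_sq hS h2 h, mul_one]))

theorem irr_KW (U : Subgroup G) (h0 : Q0 G a ≤ U) (hU : U ≤ Q)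
    (h : ∀ g ∈ insert w (K a t), ∀ x ∈ U, g * x * g⁻¹ ∈ U) : U = Q0 G a ∨ U = Q := by
  have h3 := fun k hk => h k (Or.inr hk)
  rcases inv_cases hS h2 hQ (card_Q_three hS h2 hQ hn hs e) h0 hU h3 with h4 | h4 | h4
  · exact Or.inl h4
  · refine Or.inl (le_antisymm (fun x hx => by_contra fun h1 => ?_) h0)
    obtain ⟨k, hk, h5⟩ := exists_conj_sq hS h2 hQ hn h0 hU h3 h4 hx h1 (h w (Or.inl rfl) x hx) fun h5 =>
      h1 (by simpa [mul_assoc] using inv_conj_mem_of_mem_normalizer (H_le_normalizer_Q0 hw.1.1.1) h5)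
    have h6 := sq_mul hS h2 (hS.conj_mem k hk.1.1 x (hU hx)) h5
    rw [mul_inv_cancel_left, conj_mul, conj_mul,
      commute_iff_conj.1 (W_commute hS hw (sq_mem_Q0 hS h2 hQ hn (hU hx)))] at h6
    rw [eq_one_of_K_commute hS (sq_I hS h2 hQ hn (hU hx) h1) hk (commute_iff_conj.2 h6.symm)] at h5
    exact h1 (W_fpf hS h2 hQ hn hs e hw hw1 (hU hx) (by simpa using h5))
  · exact Or.inr h4

omit hw hw1 hQ hn [FaithfulSMul G Ω] in
theorem exists_block : ∃ N : Subgroup G, D a t ≤ N ∧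
    Nat.card N = (Nat.card (Q0 G a) + 1) * (Nat.card (Q0 G a) * Nat.card (D a t)) ∧
    ∃ B : Set Ω, (∀ c, c ∈ B ↔ c = a ∨ ∃ z ∈ Q0 G a, z • t • a = c) ∧ (∀ g, g ∈ N ↔ ∀ c ∈ B, g • c ∈ B) ∧
      ∀ c ∈ B, ∃ n ∈ N, n • a = c := by
  have := finite_Ω hS
  let B : Set Ω := {c | c = a ∨ ∃ z ∈ Q0 G a, z • t • a = c}
  have h3 : ∀ g, g ∈ stabilizer G B ↔ ∀ c ∈ B, g • c ∈ B := fun g => mem_stabilizer_set' B.toFinite
  have h4 : Q0 G a ≤ stabilizer G B := fun z hz => (h3 z).2 (by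
    rintro _ (rfl | ⟨y, hy, rfl⟩)
    · exact Or.inl (Q_smul hS (Q0_le hS hz))
    · exact Or.inr ⟨_, mul_mem hz hy, mul_smul ..⟩)
  have h5 : D a t ≤ stabilizer G B := fun d hd => (h3 d).2 (by
    rintro _ (rfl | ⟨y, hy, rfl⟩)
    · exact Or.inl hd.1
    · exact Or.inr ⟨_, conj_mem_of_mem_normalizer (H_le_normalizer_Q0 hd.1) hy, by
        rw [mul_smul, show d⁻¹ • t • a = t • a from (inv_mem hd).2, mul_smul]⟩)
  have h6 : t ∈ stabilizer G B := (h3 t).2 (by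
    rintro _ (rfl | ⟨y, hy, rfl⟩)
    · exact Or.inr ⟨1, one_mem _, one_smul ..⟩
    by_cases h : y = 1
    · exact Or.inl (by rw [h, one_smul, tt_smul hS])
    · exact Or.inr ⟨_, subset_closure (TT_I hS h2 hs e (Q0_I hS h2 hy h)), TT_smul hS (Q0_le hS hy) h⟩)
  have h7 : ∀ c ∈ B, ∃ n ∈ stabilizer G B, n • a = c := by
    rintro _ (rfl | ⟨y, hy, rfl⟩)
    · exact ⟨1, one_mem _, one_smul ..⟩
    · exact ⟨y * t, mul_mem (h4 hy) h6, mul_smul ..⟩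
  refine ⟨stabilizer G B, h5, ?_, B, fun _ => Iff.rfl, h3, h7⟩
  have h8 : orbit (stabilizer G B) a = B := Set.ext fun c =>
    ⟨fun ⟨n, hn⟩ => hn ▸ (h3 _).1 n.2 a (Or.inl rfl), fun hc =>
      (h7 c hc).elim fun n hn => ⟨⟨n, hn.1⟩, hn.2⟩⟩
  have h9 : stabilizer (stabilizer G B) a = (Q0 G a ⊔ D a t).subgroupOf _ := by
    ext g
    refine ⟨fun h => ?_, fun h => (sup_le (fun _ h => hS.le (Q0_le hS h)) inf_le_left :
      _ ≤ stabilizer G a) h⟩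
    obtain ⟨x, hx, d, hd, e⟩ := exists_mul hS (h := g) h
    rcases (h3 _).1 g.2 (t • a) (Or.inr ⟨1, one_mem _, one_smul ..⟩) with h9 | ⟨z, hz, h9⟩
    · exact absurd h9 (smul_ne hS h (ta_ne hS))
    rw [e, mul_smul, hd.2] at h9
    rw [mem_subgroupOf, e, ← Q_inj hS (Q0_le hS hz) hx (ta_ne hS) h9]
    exact mul_mem_sup hz hd
  rw [← index_mul_card (stabilizer (stabilizer G B) a), index_stabilizer, h8, h9,
    Solv.card_subgroupOf_of_le (sup_le h4 h5), sup_comm, Solv.card_sup_of_disjoint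
      (inf_le_left.trans H_le_normalizer_Q0) (eq_bot_iff.2 fun x hx =>
        eq_one_of_mem_D hS (Q0_le hS hx.2) hx.1), mul_comm (Nat.card (D a t)), ← Finite.card_option,
    ← Nat.card_coe_set_eq]
  congr 1
  refine (Nat.card_eq_of_bijective (fun o : Option (Q0 G a) => (o.elim ⟨a, Or.inl rfl⟩ fun z =>
    ⟨(z : G) • t • a, Or.inr ⟨z, z.2, rfl⟩⟩ : B)) ⟨?_, ?_⟩).symm
  · rintro (_ | x) (_ | y) e
    · rfl
    · exact absurd (congrArg Subtype.val e).symm (smul_ne hS (Q_smul hS (Q0_le hS y.2)) (ta_ne hS))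
    · exact absurd (congrArg Subtype.val e) (smul_ne hS (Q_smul hS (Q0_le hS x.2)) (ta_ne hS))
    · exact congrArg some (Subtype.ext (Q_inj hS (Q0_le hS x.2) (Q0_le hS y.2) (ta_ne hS)
        (congrArg Subtype.val e)))
  · rintro ⟨_, rfl | ⟨z, hz, rfl⟩⟩
    · exact ⟨none, rfl⟩
    · exact ⟨some ⟨z, hz⟩, rfl⟩

theorem exists_rho {p : ℕ} (hp : p.Prime) (hwp : w ^ p = 1) (hq : p ∣ Nat.card (Q0 G a) + 1) :
    ∃ ρ ∈ Q, ρ ∉ Q0 G a ∧ (TT a t Q (w⁻¹ * ρ⁻¹ * w))⁻¹ * TT a t Q ρ ∈ Q0 G a := by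
  obtain ⟨N, h3, h4, B, h5, h6, h7⟩ := exists_block hS h2 hs e
  obtain ⟨g, h8, h9⟩ : ∃ g, g ∉ N ∧ g⁻¹ * w * g ∈ N := by
    by_contra! h
    have h8 := Char.card_fixedBy_pow_modEq (G ⧸ N) w hp 1
    rw [pow_one, hwp, fixedBy_one_eq_univ, Nat.card_univ, show fixedBy (G ⧸ N) w = {((1 : G) : G ⧸ N)} from
      Set.eq_singleton_iff_unique_mem.2 ⟨QuotientGroup.eq.2 (by simpa using h3 hw.1.1), fun c hc => by
        obtain ⟨g, rfl⟩ := QuotientGroup.mk_surjective c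
        refine QuotientGroup.eq.2 (by_contra fun h9 => h g (by simpa using h9) ?_)
        simpa [mul_assoc] using inv_mem (QuotientGroup.eq.1 hc)⟩, Nat.card_coe_set_eq, Set.ncard_singleton,
      ← index_eq_card] at h8
    have h9 := N.index_mul_card
    rw [h4, card_G hS, card_Q_three hS h2 hQ hn hs e] at h9
    obtain ⟨m, hm⟩ := hq
    have := Fact.mk hp
    have h10 : (Nat.card (Q0 G a) : ZMod p) = -1 := eq_neg_of_add_eq_zero_left (by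
      rw [← Nat.cast_add_one, hm]; simp)
    have h11 : N.index + Nat.card (Q0 G a) ^ 3 = Nat.card (Q0 G a) ^ 4 + Nat.card (Q0 G a) ^ 2 :=
      Nat.eq_of_mul_eq_mul_right (Nat.card_pos (α := N)) (by rw [add_mul, h4, h9]; ring)
    have h12 := congrArg (Nat.cast : ℕ → ZMod p) h11
    push_cast at h12
    rw [(ZMod.natCast_eq_natCast_iff ..).2 h8, h10] at h12
    have h13 : ((2 : ℕ) : ZMod p) = 0 := by push_cast at h12 ⊢; linear_combination -h12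
    obtain rfl := (Nat.prime_dvd_prime_iff_eq hp Nat.prime_two).1 ((ZMod.natCast_eq_zero_iff ..).1 h13)
    exact hw1 (eq_one_of_odd_of_mul_self (odd_of_mem_D hS hw.1.1) (by rw [← sq, hwp]))
  obtain ⟨c, h10, h11⟩ : ∃ c ∈ B, g • c ∉ B := by simpa [h6] using h8
  obtain ⟨ω, h12, h13⟩ := exists_Q hS (b := g • c) fun h => h11 ((h5 _).2 (Or.inl h))
  have h14 : ω ∉ Q0 G a := fun h => h11 ((h5 _).2 (Or.inr ⟨ω, h, h13⟩))
  obtain ⟨n, h15, h16⟩ := h7 c h10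
  obtain ⟨x, hx, d, hd, h17⟩ := exists_mul hS (h := t * ω⁻¹ * g * n) (by
    simp only [mul_smul]; rw [h16, ← h13, inv_smul_smul, tt_smul hS])
  have key : ∀ v ∈ W a t, v ≠ 1 → g⁻¹ * v * g ∈ N → ω⁻¹ * (v * ω * v⁻¹) ∉ Q0 G a ∧
      x⁻¹ * TT a t Q (ω⁻¹ * (v * ω * v⁻¹)) ∈ Q0 G a := fun v hv h1 h => by
    have h18 : ω⁻¹ * (v * ω * v⁻¹) ∉ Q0 G a := fun h => h14 (W_fpf hS h2 hQ hn hs e hv h1 h12 h)
    have h19 := mul_mem (inv_mem h12) (hS.conj_mem v hv.1.1.1 ω h12)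
    have h20 : ω⁻¹ * (v * ω * v⁻¹) ≠ 1 := fun h => h18 (h ▸ one_mem _)
    have h21 : TT a t Q (ω⁻¹ * (v * ω * v⁻¹)) • t • a = x • (d * n⁻¹ * (g⁻¹ * v * g)) • c := by
      rw [TT_smul hS h19 h20, ← mul_smul x, ← mul_assoc x, ← mul_assoc x, ← h17]
      simp only [mul_smul, smul_inv_smul]
      rw [← h13, show v⁻¹ • t • a = t • a from (inv_mem (show v ∈ D a t from hv.1.1)).2]
    refine ⟨h18, ?_⟩
    rcases (h5 _).1 ((h6 _).1 (mul_mem (mul_mem (h3 hd) (inv_mem h15)) h) c h10) with h22 | ⟨z, hz, h22⟩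
    · rw [h22, Q_smul hS hx] at h21
      exact absurd h21 (smul_ne hS (Q_smul hS (TT_mem hS h19 h20)) (ta_ne hS))
    · rw [← h22, ← mul_smul x] at h21
      rwa [Q_inj hS (TT_mem hS h19 h20) (mul_mem hx (Q0_le hS hz)) (ta_ne hS) h21, inv_mul_cancel_left]
  obtain ⟨h18, h19⟩ := key w hw hw1 h9
  obtain ⟨-, h20⟩ := key w⁻¹ (inv_mem hw) (inv_ne_one.2 hw1) (by simpa [mul_assoc] using inv_mem h9)
  refine ⟨_, mul_mem (inv_mem h12) (hS.conj_mem w hw.1.1.1 ω h12), h18, ?_⟩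
  rw [show w⁻¹ * (ω⁻¹ * (w * ω * w⁻¹))⁻¹ * w = ω⁻¹ * (w⁻¹ * ω * w⁻¹⁻¹) by group]
  simpa [mul_assoc] using mul_mem (inv_mem h20) h19

theorem exists_omega {p : ℕ} (hp : p.Prime) (hwp : w ^ p = 1) (hq : p ∣ Nat.card (Q0 G a) + 1) :
    ∃ ω ∈ Q, ω ∉ Q0 G a ∧ TT a t Q ω = w * ω⁻¹ * w⁻¹ := by
  obtain ⟨ρ, h3, h4, h5⟩ := exists_rho hS h2 hQ hn hs e hw hw1 hp hwp hq
  have h6 : ρ ≠ 1 := fun h => h4 (h ▸ one_mem _)
  have h7 := conj_mem' hS hw.1.1.1 (inv_mem h3)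
  have h8 : w⁻¹ * ρ⁻¹ * w ≠ 1 := by simpa using (show w⁻¹ * ρ⁻¹ * w⁻¹⁻¹ ≠ 1 by simpa only [Ne, conj_eq_one_iff, inv_eq_one])
  generalize hz : (TT a t Q (w⁻¹ * ρ⁻¹ * w))⁻¹ * TT a t Q ρ = z at h5
  rw [inv_mul_eq_iff_eq_mul, ← (Q0_central hS h2 h5 (TT_mem hS h7 h8)).eq] at hz
  have h9 := sq_mem_Q0 hS h2 hQ hn h3
  have h10 : (t * z * t * (ρ * ρ) * w⁻¹) • ρ • t • a = ρ • t • a := by
    have h10 := TT_smul hS h3 h6
    rw [hz, mul_smul, TT_smul hS h7 h8] at h10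
    have h11 : ρ * ρ * w⁻¹ * ρ = w⁻¹ * ρ⁻¹ := by
      rw [← (W_commute hS (inv_mem hw) h9).eq, mul_assoc, mul_right_inj, eq_inv_iff_mul_eq_one, mul_assoc,
        Q0_sq hS h2 h9]
    rw [← mul_smul, mul_assoc (t * z * t), mul_assoc (t * z * t), h11]
    simp only [mul_smul, show w • t • a = t • a from hw.1.1.2] at h10 ⊢
    rw [h10, tt_smul hS]
  have h11 : z ≠ 1 := by
    rintro rfl
    have h11 := congrArg (TT a t Q) hz
    rw [one_mul, TT_TT hS h3 h6, TT_TT hS h7 h8] at h11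
    refine h4 (W_fpf hS h2 hQ hn hs e hw hw1 h3 ?_)
    conv => enter [2, 2, 1, 2]; rw [h11]
    simpa [mul_assoc] using inv_mem h9
  obtain ⟨k, hk, rfl⟩ := K_surj hS hs (Q0_I hS h2 h5 h11)
  have h12 := canon_conj_s hS hs (I_Q hS hs) (by rwa [inv_eq_of_mul_eq_one_right hs.2.2]) (K_inv hk)
  rw [inv_inv, inv_eq_of_mul_eq_one_right hs.2.2] at h12
  have h13 : k * s * k⁻¹ * (ρ * ρ) ∈ Q0 G a := mul_mem (subset_closure (I_conj hs hk.1.1)) h9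
  have h14 := conj_mem' hS hk.1.1 (mul_mem h3 (Q0_le hS h13))
  have h15 : k⁻¹ * (ρ * (k * s * k⁻¹ * (ρ * ρ))) * k ∉ Q0 G a := fun h => h4 (by
    simpa [mul_assoc] using mul_mem (conj_mem_of_mem_normalizer (H_le_normalizer_Q0 hk.1.1) h)
      (inv_mem h13))
  refine ⟨_, h14, h15, TT_eq hS h14 (fun h => h15 (h ▸ one_mem _))
    (hS.conj_mem _ hw.1.1.1 _ (inv_mem h14)) ?_⟩
  have h16 : Commute w k := (show Commute k w from hw.2 k hk).symm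
  have h17 := V_commute hw.1
  have h18 := W_commute hS hw h13
  have h19 : (ρ * (k * s * k⁻¹ * (ρ * ρ)))⁻¹ = k * s * k⁻¹ * ρ := inv_eq_of_mul_eq_one_right (by
    have h19 := (I_central hS h2 (I_conj hs hk.1.1) h3).eq
    have h20 := conj_mul_self hs.2.2 k
    generalize k * s * k⁻¹ = u at h19 h20
    have h21 : ∀ x, ρ * (u * x) = u * (ρ * x) := fun x => by rw [← mul_assoc, ← h19, mul_assoc]
    calc _ = (u * u) * (ρ * ρ * (ρ * ρ)) := by simp only [mul_assoc, h21]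
      _ = 1 := by rw [h20, Q0_sq hS h2 h9, one_mul])
  rw [h12, mul_assoc _ (k * s * k⁻¹), mul_assoc, ← h18.inv_left.eq, mul_assoc, ← mul_assoc t,
    ← h17.inv_left.eq] at h10
  rw [show (k⁻¹ * (ρ * (k * s * k⁻¹ * (ρ * ρ))) * k)⁻¹ = k⁻¹ * (ρ * (k * s * k⁻¹ * (ρ * ρ)))⁻¹ * k by group,
    h19, ← (Q0_central hS h2 h13 h3).eq, ← mul_smul t, ← mul_assoc t, ← mul_assoc t, ← K_mul_t' hS hk]
  have h20 : (k * s * k⁻¹)⁻¹ = k * s * k⁻¹ := inv_eq_of_mul_eq_one_right (conj_mul_self hs.2.2 k)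
  generalize k * s * k⁻¹ * (ρ * ρ) = y at *
  generalize k * s * k⁻¹ = u at *
  simp only [mul_smul, show k • t • a = t • a from hk.1.2,
    show w⁻¹ • t • a = t • a from (inv_mem (show w ∈ D a t from hw.1.1)).2] at h10 ⊢
  rw [← eq_inv_smul_iff, h20, ← eq_inv_smul_iff, ← eq_inv_smul_iff, inv_smul_eq_iff] at h10
  rw [h10, ← mul_smul k, ← h16.eq, mul_smul, smul_inv_smul]

end Cfsg.Agent.RankOne
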