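import Cfsg.Agent.Lib.Char.RankOne7

/-!
The split rank-one set-up: the unitary case, field computations.
-/

set_option autoImplicit false
set_option linter.unusedSectionVars false
set_option linter.style.haveILetI false

namespace Cfsg.Agent.RankOne

open MulAction Subgroup Cfsg.Agent.Perm Cfsg.Agent.Transfer
open scoped commutatorElement

section algebra

variable {E : Type*} [Field E] [Finite E] [CharP E 2] {σ : E ≃+* E} {c : E}

theorem fix_sqrt {u : E} (hu : σ u = u) : ∃ v, σ v = v ∧ v * v = u := by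
  obtain ⟨v, rfl⟩ := (Hig.Fr E).surjective u
  refine ⟨v, (Hig.Fr E).injective ?_, (Hig.Fr_apply v).symm⟩
  simpa only [Hig.Fr_apply, map_mul] using hu

theorem exists_cob {d : E → E → E} (h1 : ∀ x y z, d x y + d (x + y) z = d y z + d x (y + z))
    (h2 : ∀ x, d 0 x = 0) (h3 : ∀ x, d x x = 0) : ∃ δ : E → E, (∀ x y, δ (x + y) = δ x + δ y + d x y) ∧
      ∀ m, m ≠ 0 → (∀ x y, d (m * x) (m * y) = m * σ m * d x y) → ∀ x, δ (m * x) = m * σ m * δ x := by
  classical
  obtain ⟨δ, hδ⟩ : ∃ δ : E → E, ∀ x y, δ (x + y) = δ x + δ y + d x y := by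
    let P := Multiplicative (E × E)
    let mk : E → E → P := fun x y => Multiplicative.ofAdd (x, y)
    let _ : Add P := ⟨fun x y => mk (x.toAdd.1 + y.toAdd.1) (x.toAdd.2 + y.toAdd.2 + d x.toAdd.1 y.toAdd.1)⟩
    let _ : Zero P := ⟨mk 0 0⟩
    let _ : Neg P := ⟨id⟩
    have hadd : ∀ x y u v, mk x u + mk y v = mk (x + y) (u + v + d x y) := fun _ _ _ _ => rfl
    have hxx : ∀ x : P, x + x = 0 := fun x => by
      change mk x.toAdd.1 x.toAdd.2 + mk x.toAdd.1 x.toAdd.2 = mk 0 0
      simp [hadd, h3, CharTwo.add_self_eq_zero]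
    let _ : AddGroup P := AddGroup.ofLeftAxioms (fun x y z => by
      change mk x.toAdd.1 x.toAdd.2 + mk y.toAdd.1 y.toAdd.2 + mk z.toAdd.1 z.toAdd.2 =
        mk x.toAdd.1 x.toAdd.2 + (mk y.toAdd.1 y.toAdd.2 + mk z.toAdd.1 z.toAdd.2)
      simp only [hadd]
      congr 1
      · ring
      · linear_combination h1 x.toAdd.1 y.toAdd.1 z.toAdd.1)
      (fun x => by
        change mk 0 0 + mk x.toAdd.1 x.toAdd.2 = mk x.toAdd.1 x.toAdd.2
        simp [hadd, h2]) hxx
    let _ : AddCommGroup P := { (inferInstance : AddGroup P) with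
      add_comm := fun x y => (neg_add_rev x y : x + y = y + x) }
    let _ : Module (ZMod 2) P := AddCommGroup.zmodModule fun x => (two_nsmul x).trans (hxx x)
    let _ := ZMod.algebra E 2
    obtain ⟨ξ, hξ⟩ := ((AddMonoidHom.mk' (mk 0) fun c d => by
      rw [hadd]; simp [h2]).toZModLinearMap 2).exists_leftInverse_of_injective
      (LinearMap.ker_eq_bot.2 fun c d e => congrArg (fun x : P => x.toAdd.2) e)
    have h8 : ∀ c, ξ (mk 0 c) = c := DFunLike.congr_fun hξ
    refine ⟨fun x => ξ (mk x 0), fun x y => ?_⟩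
    rw [← map_add, ← h8 (d x y), ← map_add, hadd, hadd]
    have := h1 (x + y) 0 0
    simp only [add_zero, h2] at this
    have h4 := h1 (x + y) (x + y) 0
    simp only [add_zero, h2, h3, CharTwo.add_self_eq_zero] at h4
    simp [← show 0 = d (x + y) 0 by simpa using h4, CharTwo.add_self_eq_zero]
  let M : Subgroup Eˣ :=
    { carrier := {m | ∀ x y, d (m * x) (m * y) = m * σ m * d x y}
      one_mem' := by simp
      mul_mem' := fun {m n} hm hn x y => by
        rw [Units.val_mul, mul_assoc, mul_assoc (m : E), hm, hn, map_mul]; ring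
      inv_mem' := fun {m} hm x y => by
        have := hm ((m⁻¹ : Eˣ) * x) ((m⁻¹ : Eˣ) * y)
        rw [Units.mul_inv_cancel_left, Units.mul_inv_cancel_left] at this
        rw [this, Units.val_inv_eq_inv_val, map_inv₀]
        have := m.ne_zero
        have : σ m ≠ 0 := by simp
        field_simp }
  have := Fintype.ofFinite M
  have h4 : ∀ c : E, ∑ _k : M, c = c := fun c => by
    obtain ⟨m, hm⟩ : Odd (Nat.card M) := by
      refine Odd.of_dvd_nat ?_ M.card_subgroup_dvd_card
      have := Fintype.ofFinite E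
      obtain ⟨n, -, hn⟩ := FiniteField.card E 2
      rw [Nat.card_units, Nat.card_eq_fintype_card, hn]
      exact Nat.Even.sub_odd Nat.one_le_two_pow (by simp [Nat.even_pow]) odd_one
    rw [Finset.sum_const, Finset.card_univ, ← Nat.card_eq_fintype_card, hm, add_nsmul, mul_nsmul,
      two_nsmul, CharTwo.add_self_eq_zero, one_nsmul]
    simp
  refine ⟨fun x => ∑ m : M, ((m : Eˣ) * σ (m : Eˣ))⁻¹ * δ ((m : Eˣ) * x), fun x y => ?_,
    fun l hl h x => ?_⟩
  · rw [← h4 (d x y), ← Finset.sum_add_distrib, ← Finset.sum_add_distrib]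
    refine Finset.sum_congr rfl fun m _ => ?_
    have := m.1.ne_zero
    have : σ m.1 ≠ 0 := by simp
    rw [mul_add, hδ, m.2]
    field_simp
  · rw [Finset.mul_sum]
    refine Fintype.sum_equiv (Equiv.mulRight (⟨Units.mk0 l hl, h⟩ : M)) _ _ fun m => ?_
    have := m.1.ne_zero
    have : σ m.1 ≠ 0 := by simp
    have : σ l ≠ 0 := by simpa using hl
    simp only [Equiv.coe_mulRight, coe_mul, Units.val_mul, Units.val_mk0, map_mul, mul_assoc]
    field_simp

variable (hσ : ∀ e, σ (σ e) = e) (hc : c * σ c = 1) (hc' : σ c ≠ c)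
include hc'

theorem eps_ne : c + σ c ≠ 0 := fun e => hc' (CharTwo.add_eq_zero.1 e).symm

theorem coef_eq {u v u' v' : E} (hu : σ u = u) (hv : σ v = v) (hu' : σ u' = u') (hv' : σ v' = v')
    (e : u + v * c = u' + v' * c) : u = u' ∧ v = v' := by
  have h1 := congrArg σ e
  simp only [map_add, map_mul, hu, hv, hu', hv'] at h1
  have h2 : v = v' := mul_right_cancel₀ (sub_ne_zero.2 hc') (by linear_combination h1 - e)
  exact ⟨by rwa [h2, add_left_inj] at e, h2⟩

include hσ

theorem exists_coef (e : E) : ∃ u v, σ u = u ∧ σ v = v ∧ e = u + v * c := by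
  have h1 := eps_ne hc'
  have h2 : σ ((e + σ e) / (c + σ c)) = (e + σ e) / (c + σ c) := by
    simp only [map_div₀, map_add, hσ, add_comm]
  refine ⟨e - (e + σ e) / (c + σ c) * c, _, ?_, h2, by ring⟩
  rw [map_sub, map_mul, h2]
  field_simp
  ring_nf
  reduce_mod_char!

include hc

theorem quad_eq {n : E → E} {β : E → E → E} (h1 : ∀ x y, n (x + y) = n x + n y + β x y)
    (h2 : ∀ x y z, β x (y + z) = β x y + β x z) (h3 : ∀ u x, σ u = u → n (u * x) = u ^ 2 * n x)
    (h4 : ∀ x, n (c * x) = n x) (h5 : n 1 = c + σ c) (x : E) : n x = (c + σ c) * (x * σ x) := by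
  have h6 : ∀ x y, β x y = β y x := fun x y => by
    have := h1 x y
    rw [add_comm x, h1] at this
    linear_combination -this
  have h7 : ∀ u x y, σ u = u → β (u * x) (u * y) = u ^ 2 * β x y := fun u x y hu => by
    have := h1 (u * x) (u * y)
    rw [← mul_add, h3 _ _ hu, h3 _ _ hu, h3 _ _ hu, h1] at this
    linear_combination -this
  have h8 : ∀ x y, β (c * x) (c * y) = β x y := fun x y => by
    have := h1 (c * x) (c * y)
    rw [← mul_add, h4, h4, h4, h1] at this
    linear_combination -this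
  have h9 : ∀ u, σ u = u → n u = u ^ 2 * n 1 := fun u hu => by rw [← h3 _ _ hu, mul_one]
  have h10 : ∀ u v, σ u = u → σ v = v → β u v = 0 := fun u v hu hv => by
    have := h1 u v
    rw [h9 u hu, h9 v hv, h9 _ (by rw [map_add, hu, hv])] at this
    linear_combination (norm := (ring_nf; reduce_mod_char!)) -this
  have hε : σ (c + σ c) = c + σ c := by rw [map_add, hσ, add_comm]
  have h11 : ∀ u, σ u = u → u ≠ 0 → β 1 (c * u) = u ^ 2 * β 1 (c * u⁻¹) := fun u hu h0 => by
    rw [← h7 _ _ _ hu, ← h8 1, show c * (c * u) = c * (u * (c + σ c)) + u by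
      linear_combination (norm := (ring_nf; reduce_mod_char!)) u * hc, h2, h8,
      h10 1 _ (map_one σ) (by rw [map_mul, hu, hε]), zero_add, h6]
    congr 1
    · ring
    · field_simp
  have h12 : ∀ u, σ u = u → β 1 (c * u) = u * β 1 c := fun u hu' => by
    obtain ⟨u, hu, rfl⟩ := fix_sqrt hu'
    rcases eq_or_ne u 0 with rfl | h0
    · simpa using h2 1 0 0
    rcases eq_or_ne u 1 with rfl | h12
    · simp
    have h13 : u + 1 ≠ 0 := fun e => h12 (CharTwo.add_eq_zero.1 e)
    have h14 := h11 (u * (u + 1)) (by simp [hu]) (mul_ne_zero h0 h13)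
    have h15 := h11 (u + 1) (by simp [hu]) h13
    rw [show c * (u * (u + 1))⁻¹ = c * u⁻¹ + c * (u + 1)⁻¹ by
      field_simp; ring_nf; reduce_mod_char!, h2, show c * (u * (u + 1)) = c * (u * u) + c * u by ring,
      h2] at h14
    rw [mul_add, h2, mul_one] at h15
    linear_combination (norm := (ring_nf; reduce_mod_char!)) h14 + (u + 1) ^ 2 * h11 u hu h0 + u ^ 2 * h15
  have h13 : ∀ u v, σ u = u → σ v = v → n (u + v * c) = (u ^ 2 + v ^ 2) * (c + σ c) + u * v * β 1 c :=
    fun u v hu hv => by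
      rw [h1, mul_comm v, h4, h9 u hu, h9 v hv, h5]
      rcases eq_or_ne u 0 with rfl | h0
      · simp [h6 0, show ∀ x, β x 0 = 0 from fun x => by simpa using h2 x 0 0]
      have := h7 u 1 (c * (v / u)) hu
      rw [h12 _ (by rw [map_div₀, hu, hv]), mul_one, show u * (c * (v / u)) = c * v by field_simp] at this
      rw [this]
      field_simp
  have h14 := h13 1 _ (map_one σ) hε
  rw [show 1 + (c + σ c) * c = c * (c * 1) by
    linear_combination (norm := (ring_nf; reduce_mod_char!)) hc, h4, h4, h5] at h14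
  have h15 : β 1 c = (c + σ c) ^ 2 := mul_left_cancel₀ (eps_ne hc') (by
    linear_combination (norm := (ring_nf; reduce_mod_char!)) h14)
  obtain ⟨u, v, hu, hv, rfl⟩ := exists_coef hσ hc' x
  rw [h13 u v hu hv, h15, map_add σ u, map_mul, hu, hv]
  linear_combination (-v ^ 2 * (c + σ c)) * hc

theorem delta_zero {δ : E → E} (h1 : ∀ u x, σ u = u → u ≠ 0 → δ (u * x) = u * u * δ x)
    (h2 : ∀ x, δ (c * x) = δ x) (h0 : δ 0 = 0)
    (h3 : ∀ u, σ u = u → u ≠ 0 → δ (c / (1 + c * u)) = δ c + δ (c ^ 2 * u / (1 + c * u))) (x : E) :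
    δ x = 0 := by
  have h4 : ∀ u, σ u = u → u ≠ 0 → δ (1 + c * u)⁻¹ = δ 1 + u * u * δ (1 + c * u)⁻¹ := fun u hu h => by
    have := h3 u hu h
    rwa [div_eq_mul_inv, h2, show c ^ 2 * u / (1 + c * u) = c * (c * (u * (1 + c * u)⁻¹)) by ring, h2, h2,
      h1 _ _ hu h, ← mul_one c, h2, mul_one] at this
  have h5 : δ 1 = 0 := by simpa using h4 1 (map_one σ) one_ne_zero
  have key : ∀ u v, σ u = u → σ v = v → u ≠ v → δ (u + v * c)⁻¹ = 0 := fun u v hu hv h => by
    rcases eq_or_ne u 0 with rfl | h6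
    · rw [← h2, show c * (0 + v * c)⁻¹ = v⁻¹ * 1 by
        have : c ≠ 0 := left_ne_zero_of_mul_eq_one hc
        rw [zero_add]; field_simp, h1 _ _ (by rw [map_inv₀, hv]) (inv_ne_zero h.symm), h5, mul_zero]
    rw [show (u + v * c)⁻¹ = u⁻¹ * (1 + c * (v / u))⁻¹ by rw [← mul_inv]; congr 1; field_simp,
      h1 _ _ (by rw [map_inv₀, hu]) (inv_ne_zero h6)]
    rcases eq_or_ne v 0 with rfl | h7
    · simp [h5]
    have h8 := h4 (v / u) (by rw [map_div₀, hu, hv]) (div_ne_zero h7 h6)
    have h9 : 1 + v / u ≠ 0 := fun e => h ((div_eq_one_iff_eq h6).1 (CharTwo.add_eq_zero.1 e).symm).symm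
    rw [mul_left_cancel₀ (pow_ne_zero 2 h9) (show _ * δ (1 + c * (v / u))⁻¹ = _ * 0 by
      linear_combination (norm := (ring_nf; reduce_mod_char!)) h8 + h5), mul_zero]
  obtain ⟨u, v, hu, hv, e⟩ := exists_coef hσ hc' x⁻¹
  rw [← inv_inv x, e]
  by_cases h : u = v
  · subst h
    rcases eq_or_ne u 0 with rfl | h
    · simpa using h0
    rw [← h2, ← key (u * (1 + (c + σ c))) u (by simp [hu, hσ, add_comm]) hu
      (by simpa [h] using eps_ne hc'), show u * (1 + (c + σ c)) + u * c = σ c * (u + u * c) by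
      linear_combination (norm := (ring_nf; reduce_mod_char!)) u * hc, mul_inv,
      ← eq_inv_of_mul_eq_one_left hc]
  · exact key u v hu hv h

end algebra

end Cfsg.Agent.RankOne
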