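import Cfsg.Agent.Lib.Char.RankOne8

/-!
The split rank-one set-up: the unitary case, determination of the group `Q` and of the map `T`.
-/

set_option autoImplicit false
set_option linter.unusedSectionVars false
set_option linter.style.haveILetI false

namespace Cfsg.Agent.RankOne

open MulAction Subgroup Cfsg.Agent.Perm Cfsg.Agent.Transfer
open scoped commutatorElement

variable {G Ω : Type*} [Group G] [Finite G] [MulAction G Ω] {a : Ω} {t : G} {Q : Subgroup G}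
  {x y z s r k d w ω : G}

/-- Coordinates on `Q / Q0` in the unitary case. -/
structure CoU (a : Ω) (t : G) (Q : Subgroup G) (s w ω : G) {E : Type*} [Field E] (σ : E ≃+* E)
    (π χ τ : G → E) (c : E) : Prop where
  add : ∀ x ∈ Q, ∀ y ∈ Q, π (x * y) = π x + π y
  ker : ∀ x ∈ Q, π x = 0 ↔ x ∈ Q0 G a
  surj : ∀ e, ∃ x ∈ Q, π x = e
  eqv : ∀ k ∈ K a t, ∀ x ∈ Q, π (k * x * k⁻¹) = χ k * π x
  fix : ∀ k ∈ K a t, σ (χ k) = χ k
  onto : ∀ u, u ≠ 0 → σ u = u → ∃ k ∈ K a t, χ k = u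
  inj : ∀ k ∈ K a t, χ k = 1 → k = 1
  hw : w ∈ W a t
  eqw : ∀ x ∈ Q, π (w * x * w⁻¹) = c * π x
  hc : c * σ c = 1
  hc' : σ c ≠ c
  hω : ω ∈ Q
  πω : π ω = 1
  Tω : TT a t Q ω = w * ω⁻¹ * w⁻¹
  invol : ∀ e, σ (σ e) = e
  big : ∀ u, ∃ v, σ v = v ∧ v ≠ 0 ∧ v ≠ 1 ∧ v ≠ u
  τ1 : τ 1 = 0
  hτ : ∀ k ∈ K a t, τ (k * s * k⁻¹) = χ k * χ k

theorem exists_coU [FaithfulSMul G Ω] (hS : IsRankOneSetup G Ω a t Q) (h2 : R2 G) (hQ : IsPGroup 2 Q)
    (hn : ∃ x ∈ Q, ∃ y ∈ Q, x * y ≠ y * x) (hs : s ∈ I G a) (e : t * s * t = s * t * s)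
    (hW : W a t ≠ ⊥) : ∃ (E : Type) (_ : Field E) (_ : Fintype E) (_ : CharP E 2) (n : ℕ) (σ : E ≃+* E)
      (π χ τ : G → E) (c : E) (w ω : G), 2 ≤ n ∧ Fintype.card E = (2 ^ n) ^ 2 ∧ (∀ x, σ x = x ^ 2 ^ n) ∧
        CoU a t Q s w ω σ π χ τ c := by
  classical
  obtain ⟨p, hp, h3⟩ := Nat.exists_prime_and_dvd ((W a t).one_lt_card_iff_ne_bot.2 hW).ne'
  have := Fact.mk hp
  obtain ⟨⟨w, hw⟩, h4⟩ := exists_prime_orderOf_dvd_card' p h3
  rw [← orderOf_coe] at h4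
  replace h4 : orderOf w = p := h4
  have hw1 : w ≠ 1 := fun e => hp.ne_one (by rw [← h4, e, orderOf_one])
  obtain ⟨x, hx, h5, -⟩ := exists_sq_ne hS h2 hs hQ hn
  have h6 : x ∉ Q0 G a := fun h => h5 (Q0_sq hS h2 h)
  have h7 : ∀ g ∈ insert w (K a t), g ∈ D a t := by
    rintro _ (rfl | hg); exacts [hw.1.1, hg.1]
  obtain ⟨E, _, _, π, χ, add, ker, surj, hπ, eqv, hE⟩ := exists_pi (Q0_le hS) (fun x hx y hy => by
      rw [show ⁅x, y⁆ = x * x * (x⁻¹ * y * (x⁻¹ * y)) * (y⁻¹ * y⁻¹) by simp [commutatorElement_def, mul_assoc]]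
      exact mul_mem (mul_mem (sq_mem_Q0 hS h2 hQ hn hx) (sq_mem_Q0 hS h2 hQ hn (mul_mem (inv_mem hx) hy)))
        (sq_mem_Q0 hS h2 hQ hn (inv_mem hy)))
    (fun g hg => hS.conj_mem g (h7 g hg).1)
    (fun g hg x => conj_mem_of_mem_normalizer (H_le_normalizer_Q0 (h7 g hg).1))
    (by
      rintro g (rfl | hg) k (rfl | hk)
      exacts [rfl, (hw.2 k hk).symm, hw.2 g hg, K_commute hS h2 hg hk])
    (irr_KW hS h2 hQ hn hs e hw hw1) hx h6
  obtain ⟨n, h8, h9⟩ := exists_card_Q0 hS h2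
  rw [card_Q_three hS h2 hQ hn hs e, pow_succ] at hE
  replace hE := Nat.eq_of_mul_eq_mul_right Nat.card_pos hE
  rw [h9] at hE
  have : CharP E 2 := CharTwo.of_one_ne_zero_of_two_eq_zero one_ne_zero (by
    rw [← one_add_one_eq_two, ← hπ, ← add x hx x hx, ker _ (mul_mem hx hx)]
    exact sq_mem_Q0 hS h2 hQ hn hx)
  let σ := iterateFrobeniusEquiv E 2 n
  have hσ : ∀ x, σ x = x ^ 2 ^ n := fun _ => rfl
  have h10 : ∀ g ∈ insert w (K a t), ∀ m : ℕ, ∀ x ∈ Q, π (g ^ m * x * (g ^ m)⁻¹) = χ g ^ m * π x :=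
    fun g hg m x hx => by
      induction m with
      | zero => simp
      | succ m ih =>
        rw [show g ^ (m + 1) * x * (g ^ (m + 1))⁻¹ = g * (g ^ m * x * (g ^ m)⁻¹) * g⁻¹ by group,
          eqv g hg _ (hS.conj_mem _ (pow_mem (h7 g hg).1 m) x hx), ih]
        ring
  have hinv : ∀ x ∈ Q, π x⁻¹ = -π x := fun x hx => eq_neg_of_add_eq_zero_right (by
    rw [← add x hx _ (inv_mem hx), mul_inv_cancel, ker _ (one_mem _)]; exact one_mem _)
  have h11 : ∀ k ∈ K a t, ∀ l ∈ K a t, χ k = χ l → k = l := fun k hk l hl h =>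
    K_inj' hS h2 hQ hn hx h6 hk hl ((ker _ (mul_mem (inv_mem (hS.conj_mem k hk.1.1 x hx))
      (hS.conj_mem l hl.1.1 x hx))).1 (by
        rw [add _ (inv_mem (hS.conj_mem k hk.1.1 x hx)) _ (hS.conj_mem l hl.1.1 x hx),
          hinv _ (hS.conj_mem k hk.1.1 x hx), eqv k (Or.inr hk) x hx, eqv l (Or.inr hl) x hx, h,
          neg_add_cancel]))
  have h12 : Nat.card (KK a t) + 1 = 2 ^ n := by rw [← h9, card_Q0 hS h2]
  have h13 : ∀ k ∈ K a t, χ k ^ Nat.card (KK a t) = 1 := fun k hk => by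
    have := h10 k (Or.inr hk) (Nat.card (KK a t)) x hx
    rw [show k ^ Nat.card (KK a t) = 1 from congrArg Subtype.val
      (pow_card_eq_one' (x := (⟨k, subset_closure hk⟩ : KK a t)))] at this
    simpa [hπ] using this.symm
  have h14 : ∀ k ∈ K a t, σ (χ k) = χ k := fun k hk => by rw [hσ, ← h12, pow_succ, h13 k hk, one_mul]
  have h15 : ∀ u, u ≠ 0 → σ u = u → ∃ k ∈ K a t, χ k = u := fun u h0 hu => by
    have : NeZero (Nat.card (KK a t)) := ⟨Nat.card_pos.ne'⟩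
    have := (Function.Injective.bijective_of_nat_card_le (f := fun k : KK a t =>
      rootsOfUnity.mkOfPowEq _ (h13 k ((mem_KK hS h2).1 k.2))) (fun k l e => Subtype.ext
        (h11 _ ((mem_KK hS h2).1 k.2) _ ((mem_KK hS h2).1 l.2) (congrArg (fun z => z.1.1) e)))
      (card_rootsOfUnity E _)).2 (rootsOfUnity.mkOfPowEq u (mul_right_cancel₀ h0 (by
        rw [← pow_succ, h12, ← hσ, hu, one_mul])))
    obtain ⟨k, hk⟩ := this
    exact ⟨k, (mem_KK hS h2).1 k.2, congrArg (fun z => z.1.1) hk⟩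
  have h16 : χ 1 = 1 := by simpa [hπ] using (eqv 1 (Or.inr K_one) x hx).symm
  have h17 : ∀ m : ℕ, σ (χ w ^ m) = χ w ^ m → χ w ^ m = 1 := fun m h => by
    have h17 := h10 w (Or.inl rfl) m x hx
    have h18 := hS.conj_mem _ (pow_mem hw.1.1.1 m) x hx
    obtain ⟨k, hk, e⟩ := h15 _ (fun h => h6 (by
      rw [h, zero_mul, ker _ h18] at h17
      simpa [mul_assoc] using inv_conj_mem_of_mem_normalizer (H_le_normalizer_Q0 (pow_mem hw.1.1.1 m))
        h17)) h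
    have h19 := hS.conj_mem k hk.1.1 x hx
    have h20 := sq_mul hS h2 h19 ((ker _ (mul_mem (inv_mem h19) h18)).1 (by
      rw [add _ (inv_mem h19) _ h18, hinv _ h19, eqv k (Or.inr hk) x hx, h17, e, neg_add_cancel]))
    rw [mul_inv_cancel_left, conj_mul, conj_mul, commute_iff_conj.1
      (W_commute hS (pow_mem hw m) (sq_mem_Q0 hS h2 hQ hn hx))] at h20
    rw [← e, eq_one_of_K_commute hS (sq_I hS h2 hQ hn hx h6) hk (commute_iff_conj.2 h20.symm), h16]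
  have h18 : ∀ e, σ (σ e) = e := fun e => by
    rw [hσ, hσ, ← pow_mul, ← sq, ← hE, FiniteField.pow_card]
  have h19 : χ w ^ (2 ^ n + 1) = 1 := h17 _ (by rw [pow_succ, ← hσ, map_mul, h18, mul_comm])
  have h20 : χ w ≠ 1 := fun h => h6 (W_fpf hS h2 hQ hn hs e hw hw1 hx
    ((ker _ (mul_mem (inv_mem hx) (hS.conj_mem w hw.1.1.1 x hx))).1 (by
      rw [add _ (inv_mem hx) _ (hS.conj_mem w hw.1.1.1 x hx), hinv x hx, eqv w (Or.inl rfl) x hx, h]
      simp)))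
  have h21 : w ^ p = 1 := h4 ▸ pow_orderOf_eq_one w
  obtain ⟨ω, h22, h23, h24⟩ := exists_omega hS h2 hQ hn hs e hw hw1 hp h21 (by
    rw [h9, ← orderOf_eq_prime (x := χ w) (p := p) (by simpa [h21, hπ] using (h10 w (Or.inl rfl) p x hx).symm) h20]
    exact orderOf_dvd_of_pow_eq_one h19)
  have h25 := (ker ω h22).not.2 h23
  refine ⟨E, inferInstance, inferInstance, inferInstance, n, σ, fun x => π x / π ω, χ,
    fun z => if h : ∃ k ∈ K a t, k * s * k⁻¹ = z then χ h.choose * χ h.choose else 0, χ w, w, ω, h8, hE, hσ,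
    fun x hx y hy => by rw [add x hx y hy, add_div], fun x hx => by simp [h25, ker x hx], fun c => ?_,
    fun k hk x hx => by rw [eqv k (Or.inr hk) x hx, mul_div_assoc], h14, h15,
    fun k hk h => h11 k hk 1 K_one (h.trans h16.symm), hw,
    fun x hx => by rw [eqv w (Or.inl rfl) x hx, mul_div_assoc], by rw [hσ, ← pow_succ', h19],
    fun h => h20 (by simpa using h17 1 (by simpa using h)), h22, div_self h25, h24, h18, fun u => ?_,
    dif_neg fun ⟨k, _, h⟩ => hs.2.1 (conj_eq_one_iff.1 h), fun k hk => ?_⟩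
  · obtain ⟨x, hx, e⟩ := surj (c * π ω)
    exact ⟨x, hx, by rw [e, mul_div_cancel_right₀ _ h25]⟩
  · by_contra! h
    have h26 : ∀ k ∈ K a t, χ k ≠ 0 := fun k hk h => by
      simpa [h, Nat.card_pos.ne'] using h13 k hk
    have := Nat.card_le_card_of_injective (fun k : KK a t => (⟨χ k, or_iff_not_imp_left.2
      (h _ (h14 _ ((mem_KK hS h2).1 k.2)) (h26 _ ((mem_KK hS h2).1 k.2)))⟩ : ({1, u} : Set E)))
      fun k l e => Subtype.ext (h11 _ ((mem_KK hS h2).1 k.2) _ ((mem_KK hS h2).1 l.2)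
        (congrArg Subtype.val e))
    have h27 := Set.ncard_insert_le 1 ({u} : Set E)
    have h28 : 2 ^ 2 ≤ 2 ^ n := Nat.pow_le_pow_right two_pos h8
    rw [Set.ncard_singleton, ← Nat.card_coe_set_eq] at h27
    have := this.trans h27
    omega
  · have h : ∃ l ∈ K a t, l * s * l⁻¹ = k * s * k⁻¹ := ⟨k, hk, rfl⟩
    rw [dif_pos h, inv_injective (K_inj hS hs (K_inv h.choose_spec.1) (K_inv hk)
      (by simpa only [inv_inv] using h.choose_spec.2))]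

namespace CoU

variable {E : Type*} [Field E] [Finite E] [CharP E 2] {σ : E ≃+* E} {π χ τ : G → E} {c : E}
  (h : CoU a t Q s w ω σ π χ τ c)
include h

theorem π_inv (hx : x ∈ Q) : π x⁻¹ = π x := by
  have := h.add x hx _ (inv_mem hx)
  rw [mul_inv_cancel, (h.ker 1 (one_mem _)).2 (one_mem _)] at this
  exact (CharTwo.add_eq_zero.1 this.symm).symm

theorem ω_not : ω ∉ Q0 G a := fun e => one_ne_zero (h.πω.symm.trans ((h.ker _ h.hω).2 e))

theorem c_ne : c ≠ 0 := left_ne_zero_of_mul_eq_one h.hc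

theorem mem_of_eq (hx : x ∈ Q) (hy : y ∈ Q) (e : π x = π y) : x⁻¹ * y ∈ Q0 G a :=
  (h.ker _ (mul_mem (inv_mem hx) hy)).1 (by
    rw [h.add _ (inv_mem hx) _ hy, h.π_inv hx, e, CharTwo.add_self_eq_zero])

variable (hS : IsRankOneSetup G Ω a t Q)
include hS

theorem π_mul (hx : x ∈ Q) (hz : z ∈ Q0 G a) : π (x * z) = π x := by
  rw [h.add x hx z (Q0_le hS hz), (h.ker z (Q0_le hS hz)).2 hz, add_zero]

theorem eqv' (hk : k ∈ K a t) (hx : x ∈ Q) : χ k * π (k⁻¹ * x * k) = π x := by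
  rw [← h.eqv k hk _ (conj_mem' hS hk.1.1 hx)]; congr 1; group

theorem eqw' (hx : x ∈ Q) : c * π (w⁻¹ * x * w) = π x := by
  rw [← h.eqw _ (conj_mem' hS h.hw.1.1.1 hx)]; congr 1; group

theorem χ_ne (hk : k ∈ K a t) : χ k ≠ 0 := left_ne_zero_of_mul_eq_one ((h.eqv' hS hk h.hω).trans h.πω)

theorem χ_inv (hk : k ∈ K a t) : χ k⁻¹ = (χ k)⁻¹ := by
  have h3 := h.eqv _ (K_inv hk) ω h.hω
  have := h.eqv' hS hk h.hω
  rw [inv_inv] at h3
  rw [h3, h.πω, mul_one] at this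
  exact eq_inv_of_mul_eq_one_right this

theorem exists_act (hd : d • a = a) : ∃ φ : E →+ E, ∀ x ∈ Q, π (d * x * d⁻¹) = φ (π x) := by
  choose f h3 h4 using h.surj
  have h5 : ∀ x ∈ Q, π (d * x * d⁻¹) = π (d * f (π x) * d⁻¹) := fun x hx => by
    rw [← h.π_mul hS (hS.conj_mem d hd _ (h3 _)) (conj_mem_of_mem_normalizer (H_le_normalizer_Q0 hd)
      (h.mem_of_eq (h3 _) hx (h4 _)))]
    congr 1; group
  exact ⟨AddMonoidHom.mk' (fun e => π (d * f e * d⁻¹)) fun u v => by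
    rw [← h.add _ (hS.conj_mem d hd _ (h3 _)) _ (hS.conj_mem d hd _ (h3 _)), conj_mul,
      h5 _ (mul_mem (h3 _) (h3 _)), h.add _ (h3 _) _ (h3 _), h4, h4], h5⟩

variable (h2 : R2 G) (hs : s ∈ I G a)
include h2 hs

omit h2 in
theorem τ_spec (hz : z ∈ I G a) : ∃ k ∈ K a t, z = k * s * k⁻¹ ∧ τ z = χ k * χ k := by
  obtain ⟨k, hk, rfl⟩ := K_surj hS hs hz
  exact ⟨_, K_inv hk, by rw [inv_inv], by rw [← h.hτ _ (K_inv hk), inv_inv]⟩

omit h2 in
theorem τ_ne (hz : z ∈ I G a) : τ z ≠ 0 := by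
  obtain ⟨k, hk, -, e⟩ := h.τ_spec hS hs hz
  simpa [e] using h.χ_ne hS hk

theorem τ_fix (hz : z ∈ Q0 G a) : σ (τ z) = τ z := by
  rcases (mem_Q0 hS h2).1 hz with rfl | hz
  · simp [h.τ1]
  obtain ⟨k, hk, -, e⟩ := h.τ_spec hS hs hz
  rw [e, map_mul, h.fix k hk]

theorem τ_conj (hk : k ∈ K a t) (hz : z ∈ Q0 G a) : τ (k * z * k⁻¹) = χ k * χ k * τ z := by
  rcases (mem_Q0 hS h2).1 hz with rfl | hz
  · simp [h.τ1]
  obtain ⟨l, hl, rfl, e⟩ := h.τ_spec hS hs hz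
  have := h.eqv _ (K_mul hS h2 hk hl) ω h.hω
  rw [show k * l * ω * (k * l)⁻¹ = k * (l * ω * l⁻¹) * k⁻¹ by group,
    h.eqv k hk _ (hS.conj_mem l hl.1.1 ω h.hω), h.eqv l hl ω h.hω, h.πω, mul_one, mul_one] at this
  rw [e, show k * (l * s * l⁻¹) * k⁻¹ = k * l * s * (k * l)⁻¹ by group, h.hτ _ (K_mul hS h2 hk hl), ← this]
  ring

omit h2 in
theorem τ_onto {u : E} (hu : σ u = u) : ∃ z ∈ Q0 G a, τ z = u := by
  obtain ⟨v, hv, rfl⟩ := fix_sqrt hu
  rcases eq_or_ne v 0 with rfl | h0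
  · exact ⟨1, one_mem _, by simp [h.τ1]⟩
  obtain ⟨k, hk, rfl⟩ := h.onto v h0 hv
  exact ⟨_, subset_closure (I_conj hs hk.1.1), h.hτ k hk⟩

variable (e : t * s * t = s * t * s)
include e

theorem τ_TT (hz : z ∈ I G a) : τ (TT a t Q z) = (τ z)⁻¹ := by
  obtain ⟨k, hk, rfl, e1⟩ := h.τ_spec hS hs hz
  have := h.hτ _ (K_inv hk)
  rw [inv_inv] at this
  rw [TT_conj_s hS h2 hs e hk, e1, this, h.χ_inv hS hk, mul_inv]

theorem relA (hx : x ∈ Q) (h1 : x ∉ Q0 G a) (hz : z ∈ I G a) :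
    τ z * π (TT a t Q (x * z)) = π (TT a t Q (TT a t Q x * TT a t Q z)) := by
  have h3 : x ≠ 1 := fun e => h1 (e ▸ one_mem _)
  have h4 : z * x ≠ 1 := fun e => h1 (by
    rw [eq_inv_of_mul_eq_one_right e]; exact inv_mem (subset_closure hz))
  have h5 := TT_I hS h2 hs e hz
  have h6 := TT_mem hS (mul_mem (TT_mem hS hx h3) (I_Q hS h5)) fun e1 => TT_not_mem hS h2 hs e hx h1 (by
    rw [eq_inv_of_mul_eq_one_left e1]; exact inv_mem (subset_closure h5))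
  rw [← (I_central hS h2 hz hx).eq, H6 hS (I_Q hS hz) hz.2.1 hx h3 h4,
    inv_eq_of_mul_eq_one_right hz.2.2, inv_eq_of_mul_eq_one_right h5.2.2,
    (I_central hS h2 h5 (TT_mem hS hx h3)).eq, h.add _ (I_Q hS h5) _
      (hS.conj_mem _ (hh_mem hS (I_Q hS hz) hz.2.1).1 _ h6), (h.ker _ (I_Q hS h5)).2 (subset_closure h5)]
  obtain ⟨k, hk, rfl, e1⟩ := h.τ_spec hS hs hz
  have h7 := conj_mem' hS hk.1.1 (I_Q hS hs)
  rw [e1, (hh_of_eq hS (I_Q hS hz) hz.2.1 (conj_mem' hS hk.1.1 (inv_mem (I_Q hS hs)))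
    (mul_mem (inv_mem hk.1) (inv_mem hk.1)) h7 (canon_conj_s hS hs (I_Q hS hs)
      (by rwa [inv_eq_of_mul_eq_one_right hs.2.2]) hk)).2.1,
    show ∀ y, k⁻¹ * k⁻¹ * y * (k⁻¹ * k⁻¹)⁻¹ = k⁻¹ * (k⁻¹ * y * k) * k from fun y => by simp [mul_assoc],
    zero_add, mul_assoc, h.eqv' hS hk (conj_mem' hS hk.1.1 h6), h.eqv' hS hk h6]

omit h2 hs e in
theorem TT_inv_ω : TT a t Q ω⁻¹ = w⁻¹ * ω * w := by
  have h3 : ω ≠ 1 := fun e => h.ω_not (e ▸ one_mem _)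
  have := TT_TT hS h.hω h3
  rw [h.Tω, TT_conj_V hS (inv_mem h.hω) (inv_ne_one.2 h3) h.hw.1] at this
  conv_rhs => rw [← this]
  group

omit h2 hs e in
theorem exists_eta : ∃ η ∈ V a t, Commute η w ∧ Commute η ω ∧ hh a t Q ω = w * w * w * η := by
  have h3 : ω ≠ 1 := fun e => h.ω_not (e ▸ one_mem _)
  have h4 := hh_mem hS h.hω h3
  have h5 : w ∈ D a t := h.hw.1.1
  have h6 := V_commute h.hw.1
  have h7 : w⁻¹ * hh a t Q ω * w⁻¹ * w⁻¹ ∈ D a t :=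
    mul_mem (mul_mem (mul_mem (inv_mem h5) h4) (inv_mem h5)) (inv_mem h5)
  have h8 : (ω * (w⁻¹ * t)) ^ 3 = w⁻¹ * hh a t Q ω * w⁻¹ * w⁻¹ := by
    calc _ = ω * w⁻¹ * (t * ω * (w⁻¹ * t)) * ω * (w⁻¹ * t) := by simp only [pow_succ, mul_assoc]; simp
      _ = ω * w⁻¹ * (t * ω * t) * w⁻¹ * ω * (w⁻¹ * t) := by rw [h6.inv_left.eq]; simp only [mul_assoc]
      _ = w⁻¹ * hh a t Q ω * (t * w⁻¹) * (w⁻¹ * t) := by rw [canon hS, h.Tω, h.TT_inv_ω hS]; group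
      _ = w⁻¹ * hh a t Q ω * w⁻¹ * (t * t) * w⁻¹ := by
        have h9 : ∀ x, t * (w⁻¹ * x) = w⁻¹ * (t * x) := fun x => by
          rw [← mul_assoc, ← h6.inv_left.eq, mul_assoc]
        simp only [mul_assoc, h9, ← h6.inv_left.eq]
      _ = _ := by rw [hS.mul_self, mul_one]
  have h9 : Commute (w⁻¹ * hh a t Q ω * w⁻¹ * w⁻¹) (ω * (w⁻¹ * t)) := h8 ▸ (Commute.refl _).pow_left 3
  have h10 : hh a t Q ω = w * (w⁻¹ * hh a t Q ω * w⁻¹ * w⁻¹) * w * w := by group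
  generalize w⁻¹ * hh a t Q ω * w⁻¹ * w⁻¹ = η at h7 h9 h10
  have h11 : Commute η ω := commute_iff_conj.2 (Q_inj hS (hS.conj_mem η h7.1 ω h.hω) h.hω (ta_ne hS) (by
    have := congrArg (· • a) h9.eq
    simp only [mul_smul, show η • a = a from h7.1, show w⁻¹ • t • a = t • a from (inv_mem h5).2] at this
    rw [mul_smul, mul_smul, show η⁻¹ • t • a = t • a from (inv_mem h7).2, this]))
  have h12 : Commute η (w⁻¹ * t) := by simpa using h11.inv_right.mul_right h9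
  have h13 : Commute η w := (commute_of_commute_sq_of_odd (odd_of_mem_D hS h5) (by
    have := (h12.mul_right h12).inv_right
    rw [h6.inv_left.symm.mul_mul_mul_comm, hS.mul_self, mul_one, mul_inv_rev, inv_inv] at this
    exact this.symm)).symm
  exact ⟨η, ⟨h7, mem_centralizer_singleton'.2 (by simpa using h13.mul_right h12)⟩, h13, h11, by
    rw [h10, mul_assoc w, h13.eq, mul_assoc w, mul_assoc w, h13.eq]; simp only [mul_assoc]⟩

theorem relA' (hz : z ∈ I G a) :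
    τ z * π (TT a t Q (ω * z)) = c * π (TT a t Q (ω⁻¹ * TT a t Q z)) := by
  have h5 := TT_I hS h2 hs e hz
  have h6 := mul_mem (inv_mem h.hω) (I_Q hS h5)
  have h7 : ω⁻¹ * TT a t Q z ≠ 1 := fun e1 => h.ω_not (inv_mul_eq_one.1 e1 ▸ subset_closure h5)
  rw [h.relA hS h2 hs e h.hω h.ω_not hz, h.Tω, ← h.eqw _ (TT_mem hS h6 h7), ← TT_conj_V hS h6 h7 h.hw.1,
    ← conj_mul, commute_iff_conj.1 (W_commute hS h.hw (subset_closure h5))]

theorem H6_ω (hz : z ∈ I G a) : TT a t Q (ω * z) = w * ω⁻¹ * w⁻¹ *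
    (hh a t Q ω * (w⁻¹ * TT a t Q (ω⁻¹ * TT a t Q z) * w) * (hh a t Q ω)⁻¹) := by
  have h5 := TT_I hS h2 hs e hz
  have h6 := mul_mem (inv_mem h.hω) (I_Q hS h5)
  have h7 : ω⁻¹ * TT a t Q z ≠ 1 := fun e1 => h.ω_not (inv_mul_eq_one.1 e1 ▸ subset_closure h5)
  have h8 := TT_conj_V hS h6 h7 (inv_mem h.hw.1)
  rw [← conj_mul, commute_iff_conj.1 (W_commute hS (inv_mem h.hw) (subset_closure h5)), inv_inv] at h8
  rw [H6 hS h.hω (fun e => h.ω_not (e ▸ one_mem _)) (I_Q hS hz) hz.2.1 (fun e => h.ω_not (by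
    rw [eq_inv_of_mul_eq_one_left e]; exact inv_mem (subset_closure hz))), h.Tω, h.TT_inv_ω hS, ← h8]
  congr 4; group

variable (hQ : IsPGroup 2 Q) (hn : ∃ x ∈ Q, ∃ y ∈ Q, x * y ≠ y * x)
include hQ hn

omit hs e in
theorem inv_ω (z : G) : ω⁻¹ * z = ω * (ω * ω * z) := by
  rw [← mul_assoc, ← mul_assoc, mul_left_inj, inv_eq_iff_mul_eq_one,
    ← Q0_sq hS h2 (sq_mem_Q0 hS h2 hQ hn h.hω)]
  simp only [mul_assoc]

theorem key {η : G} (hη : η ∈ V a t) (h3 : Commute η w) (h4 : Commute η ω)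
    (h5 : hh a t Q ω = w * w * w * η) : (∀ x ∈ Q, π (η * x * η⁻¹) = π x) ∧
      ∀ z ∈ I G a, z ≠ ω * ω → τ (ω * ω * z) = c + σ c + τ z := by
  obtain ⟨φ, hφ⟩ := h.exists_act hS hη.1.1
  have hc := h.hc
  have h6 : φ 1 = 1 := by rw [← h.πω, ← hφ ω h.hω, commute_iff_conj.1 h4]
  have h7 : ∀ e, φ (c * e) = c * φ e := fun e => by
    obtain ⟨x, hx, rfl⟩ := h.surj e
    rw [← h.eqw x hx, ← hφ _ (hS.conj_mem w h.hw.1.1.1 x hx), ← hφ x hx,
      ← h.eqw _ (hS.conj_mem η hη.1.1 x hx)]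
    congr 1
    calc _ = (η * w) * x * (η * w)⁻¹ := by group
      _ = _ := by rw [h3.eq]; group
  have h8 : ∀ u, σ u = u → σ (φ u) = φ u ∧ ∀ e, φ (u * e) = φ u * φ e := fun u hu => by
    rcases eq_or_ne u 0 with rfl | h0
    · simp
    obtain ⟨k, hk, rfl⟩ := h.onto u h0 hu
    have h8 := K_conj hS h2 hk hη.1
    have h9 : ∀ e, φ (χ k * e) = χ (η * k * η⁻¹) * φ e := fun e => by
      obtain ⟨x, hx, rfl⟩ := h.surj e
      rw [← h.eqv k hk x hx, ← hφ _ (hS.conj_mem k hk.1.1 x hx), ← hφ x hx,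
        ← h.eqv _ h8 _ (hS.conj_mem η hη.1.1 x hx)]
      congr 1; group
    have h10 := h9 1
    rw [mul_one, h6, mul_one] at h10
    exact ⟨h10 ▸ h.fix _ h8, h10 ▸ h9⟩
  have hB : ∀ z ∈ I G a, π (TT a t Q (ω * z)) = c + c * c * φ (π (TT a t Q (ω⁻¹ * TT a t Q z))) :=
    fun z hz => by
      have h9 := TT_I hS h2 hs e hz
      have h10 := TT_mem hS (mul_mem (inv_mem h.hω) (I_Q hS h9))
        fun e1 => h.ω_not (inv_mul_eq_one.1 e1 ▸ subset_closure h9)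
      have h11 := conj_mem' hS h.hw.1.1.1 h10
      have h12 := hS.conj_mem η hη.1.1 _ h11
      have h13 := hS.conj_mem w h.hw.1.1.1
      rw [h.H6_ω hS h2 hs e hz, h.add _ (h13 _ (inv_mem h.hω)) _ (hS.conj_mem _ (hh_mem hS h.hω
        fun e => h.ω_not (e ▸ one_mem _)).1 _ h11), h.eqw _ (inv_mem h.hω), h.π_inv h.hω, h.πω, h5,
        ← h.eqw' hS h10, h7, ← hφ _ h11, show ∀ y, w * w * w * η * y * (w * w * w * η)⁻¹ =
          w * (w * (w * (η * y * η⁻¹) * w⁻¹) * w⁻¹) * w⁻¹ from fun y => by simp [mul_assoc],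
        h.eqw _ (h13 _ (h13 _ h12)), h.eqw _ (h13 _ h12), h.eqw _ h12]
      ring
  have hα := sq_I hS h2 hQ hn h.hω h.ω_not
  have h9 : ∀ z ∈ I G a, z ≠ ω * ω → ω * ω * z ∈ I G a := fun z hz h9 =>
    (I_mul hS h2 hα hz).resolve_left fun e => h9 (by
      rw [eq_inv_of_mul_eq_one_right e, inv_eq_of_mul_eq_one_right hα.2.2])
  have h10 : ∀ z ∈ I G a, z ≠ ω * ω → τ (ω * ω * z) = c + σ c + φ (φ (τ z)) := fun z hz h10 => by
    have h11 := h9 z hz h10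
    have h12 := TT_I hS h2 hs e h11
    have hC := hB z hz
    rw [mul_assoc, ← h7, ← h.relA' hS h2 hs e hz, (h8 _ (h.τ_fix hS h2 hs (subset_closure hz))).2] at hC
    have h13 := hB _ h12
    have h14 := h.relA' hS h2 hs e h12
    rw [TT_TT hS (I_Q hS h11) h11.2.1, h.inv_ω hS h2 hQ hn, ← mul_assoc (ω * ω), hα.2.2, one_mul] at h13 h14
    rw [h.τ_TT hS h2 hs e h11, inv_mul_eq_iff_eq_mul₀ (h.τ_ne hS hs h11)] at h14
    have hu := (h8 _ (h.τ_fix hS h2 hs (subset_closure hz))).1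
    have hv := h.τ_fix hS h2 hs (subset_closure h11)
    have hC' : τ (ω * ω * z) * π (TT a t Q (ω * z)) = 1 + c * φ (π (TT a t Q (ω * z))) :=
      mul_left_cancel₀ h.c_ne (by linear_combination h13 - h14)
    generalize π (TT a t Q (ω * z)) = X, φ (τ z) = u, τ (ω * ω * z) = v at *
    have h15 : (1 + u * v) * X = c + u := by
      linear_combination (norm := (ring_nf; reduce_mod_char!)) hC + u * hC'
    have h16 : σ (1 + u * v) = 1 + u * v := by simp [hu, hv]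
    have h17 := congrArg φ h15
    rw [(h8 _ h16).2, map_add φ c, ← mul_one c, h7, h6] at h17
    have h18 := (h8 _ h16).1
    obtain ⟨h19, h20⟩ := coef_eq h.hc' h18 (v := φ (1 + u * v) * v) (by rw [map_mul, h18, hv]) h16
      (v' := (c + σ c + φ u) * (1 + u * v)) (by
        rw [map_mul, h16, map_add, map_add, h.invol, (h8 u hu).1, add_comm (σ c)]) (by
        linear_combination (norm := (ring_nf; reduce_mod_char!)) c * (1 + u * v) * h17 +
          φ (1 + u * v) * (1 + u * v) * hC' + φ (1 + u * v) * v * h15 + (1 + u * v) * hc)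
    rw [h19, mul_comm] at h20
    refine mul_right_cancel₀ (fun e => h.hc' ?_) h20
    rw [e, zero_mul, eq_comm, CharTwo.add_eq_zero] at h15
    rw [h15, hu]
  have h11 : φ (c + σ c) = c + σ c := by
    have := h7 (σ c)
    rw [hc, h6] at this
    rw [map_add, ← mul_one c, h7, h6, mul_one, mul_left_cancel₀ h.c_ne (this.symm.trans hc.symm)]
  have h12 : ∀ u, σ u = u → u ≠ τ (ω * ω) → φ (φ (φ (φ u))) = u := fun u hu h12 => by
    obtain ⟨z, hz, rfl⟩ := h.τ_onto hS hs hu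
    rcases (mem_Q0 hS h2).1 hz with rfl | hz
    · simp [h.τ1]
    have h13 : z ≠ ω * ω := fun e => h12 (e ▸ rfl)
    have h14 := h10 _ (h9 z hz h13) (by simpa using hz.2.1)
    rw [← mul_assoc, hα.2.2, one_mul, h10 z hz h13, map_add, map_add φ, h11, h11] at h14
    linear_combination (norm := (ring_nf; reduce_mod_char!)) h14
  have h13 : ∀ u, σ u = u → φ (φ (φ (φ u))) = u := fun u hu => by
    obtain ⟨v, hv, h0, h1, h13⟩ := h.big u
    by_cases h14 : u = τ (ω * ω)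
    · have h15 := h8 v hv
      have h16 := h8 _ h15.1
      have h17 := h8 _ h16.1
      rw [← mul_div_cancel₀ u h0, h15.2, h16.2, h17.2, (h8 _ h17.1).2, h12 v hv (h14 ▸ h13),
        h12 _ (by rw [map_div₀, hu, hv]) fun e => h1 (by
          rw [← h14, div_eq_iff h0] at e
          exact (mul_eq_left₀ (h14 ▸ h.τ_ne hS hs hα)).1 e.symm)]
    · exact h12 u hu h14
  have h14 : ∀ e, φ (φ (φ (φ e))) = e := fun e => by
    obtain ⟨u, v, hu, hv, rfl⟩ := exists_coef h.invol h.hc' e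
    simp only [map_add, mul_comm v, h7, h13 u hu, h13 v hv]
  have h15 : ∀ x ∈ Q, π (η * x * η⁻¹) = π x := fun x hx => by
    obtain ⟨m, hm⟩ := exists_pow_eq_self_of_coprime (x := η) (n := 4)
      ((odd_of_mem_D hS hη.1).coprime_two_left.pow_left 2)
    rw [← hm]
    clear hm
    induction m with
    | zero => simp
    | succ m ih =>
      have h15 := hS.conj_mem _ (pow_mem (pow_mem hη.1.1 4) m) x hx
      have h16 := hS.conj_mem η hη.1.1
      rw [show (η ^ 4) ^ (m + 1) * x * ((η ^ 4) ^ (m + 1))⁻¹ =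
        η * (η * (η * (η * ((η ^ 4) ^ m * x * ((η ^ 4) ^ m)⁻¹) * η⁻¹) * η⁻¹) * η⁻¹) * η⁻¹ by group,
        hφ _ (h16 _ (h16 _ (h16 _ h15))), hφ _ (h16 _ (h16 _ h15)), hφ _ (h16 _ h15), hφ _ h15, h14, ih]
  have h16 : ∀ e, φ e = e := fun e => by
    obtain ⟨x, hx, rfl⟩ := h.surj e
    rw [← hφ x hx, h15 x hx]
  exact ⟨h15, fun z hz h17 => by rw [h10 z hz h17, h16, h16]⟩

theorem hh_ω : hh a t Q ω ∈ V a t ∧ (∀ x ∈ Q, π (hh a t Q ω * x * (hh a t Q ω)⁻¹) = c ^ 3 * π x) ∧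
    ∀ z ∈ I G a, z ≠ ω * ω → τ (ω * ω * z) = c + σ c + τ z := by
  obtain ⟨η, hη, h3, h4, h5⟩ := h.exists_eta hS
  obtain ⟨h6, h7⟩ := h.key hS h2 hs e hQ hn hη h3 h4 h5
  refine ⟨h5 ▸ mul_mem (mul_mem (mul_mem h.hw.1 h.hw.1) h.hw.1) hη, fun x hx => ?_, h7⟩
  have h12 := hS.conj_mem η hη.1.1 _ hx
  have h13 := hS.conj_mem w h.hw.1.1.1
  rw [h5, show w * w * w * η * x * (w * w * w * η)⁻¹ =
    w * (w * (w * (η * x * η⁻¹) * w⁻¹) * w⁻¹) * w⁻¹ by simp [mul_assoc],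
    h.eqw _ (h13 _ (h13 _ h12)), h.eqw _ (h13 _ h12), h.eqw _ h12, h6 x hx]
  ring

theorem X_eq (hz : z ∈ Q0 G a) : (σ c + τ z) * π (TT a t Q (ω * z)) = 1 := by
  have hc := h.hc
  rcases (mem_Q0 hS h2).1 hz with rfl | hz
  · rw [h.τ1, mul_one, h.Tω, h.eqw _ (inv_mem h.hω), h.π_inv h.hω, h.πω]
    linear_combination hc
  have h9 := TT_I hS h2 hs e hz
  have h10 := TT_mem hS (mul_mem (inv_mem h.hω) (I_Q hS h9))
    fun e1 => h.ω_not (inv_mul_eq_one.1 e1 ▸ subset_closure h9)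
  have h11 := conj_mem' hS h.hw.1.1.1 h10
  have h12 := h.relA' hS h2 hs e hz
  have h13 := h.eqw' hS h10
  have h14 := congrArg π (h.H6_ω hS h2 hs e hz)
  rw [h.add _ (hS.conj_mem w h.hw.1.1.1 _ (inv_mem h.hω)) _ (hS.conj_mem _ (hh_mem hS h.hω
    fun e => h.ω_not (e ▸ one_mem _)).1 _ h11), h.eqw _ (inv_mem h.hω), h.π_inv h.hω, h.πω,
    (h.hh_ω hS h2 hs e hQ hn).2.1 _ h11] at h14
  refine mul_left_cancel₀ h.c_ne ?_
  linear_combination (norm := (ring_nf; reduce_mod_char!))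
    h14 + c * h12 + c ^ 2 * h13 + π (TT a t Q (ω * z)) * hc

theorem τ_α : τ (ω * ω) = c + σ c := by
  have := h.X_eq hS h2 hs e hQ hn (sq_mem_Q0 hS h2 hQ hn h.hω)
  rw [← mul_one (ω * ω), ← h.inv_ω hS h2 hQ hn, mul_one, mul_one, h.TT_inv_ω hS] at this
  linear_combination (norm := (ring_nf; reduce_mod_char!)) c * this +
    (σ c + τ (ω * ω)) * ((h.eqw' hS h.hω).trans h.πω)

theorem τ_add (hy : y ∈ Q0 G a) (hz : z ∈ Q0 G a) : τ (y * z) = τ y + τ z := by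
  have hα := sq_I hS h2 hQ hn h.hω h.ω_not
  have h3 : ∀ z ∈ Q0 G a, τ (ω * ω * z) = τ (ω * ω) + τ z := fun z hz => by
    rcases (mem_Q0 hS h2).1 hz with rfl | hz
    · simp [h.τ1]
    by_cases h3 : z = ω * ω
    · rw [h3, hα.2.2, h.τ1, CharTwo.add_self_eq_zero]
    · rw [(h.hh_ω hS h2 hs e hQ hn).2.2 z hz h3, h.τ_α hS h2 hs e hQ hn]
  rcases (mem_Q0 hS h2).1 hy with rfl | hy
  · simp [h.τ1]
  obtain ⟨k, hk, rfl⟩ := K_surj hS hα hy
  have h4 := conj_mem_of_mem_normalizer (H_le_normalizer_Q0 hk.1.1) hz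
  have h5 := fun {z} => h.τ_conj (z := z) hS h2 hs (K_inv hk)
  rw [inv_inv] at h5
  rw [show k⁻¹ * (ω * ω) * k * z = k⁻¹ * (ω * ω * (k * z * k⁻¹)) * k by group,
    h5 (mul_mem (subset_closure hα) h4), h3 _ h4, mul_add, ← h5 h4, h5 (subset_closure hα)]
  congr 2; group

theorem τ_inj (hy : y ∈ Q0 G a) (hz : z ∈ Q0 G a) (h3 : τ y = τ z) : y = z := by
  by_contra h4
  refine h.τ_ne hS hs (Q0_I hS h2 (mul_mem hy hz) fun e => h4 ?_) ?_
  · rw [eq_inv_of_mul_eq_one_left e, inv_eq_of_mul_eq_one_right (Q0_sq hS h2 hz)]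
  · rw [h.τ_add hS h2 hs e hQ hn hy hz, h3, CharTwo.add_self_eq_zero]

theorem τ_sq (hx : x ∈ Q) : τ (x * x) = (c + σ c) * (π x * σ (π x)) := by
  choose f h3 h4 using h.surj
  have hadd := fun {y z} => h.τ_add (y := y) (z := z) hS h2 hs e hQ hn
  have h5 : ∀ x ∈ Q, τ (x * x) = τ (f (π x) * f (π x)) := fun x hx => by
    rw [← sq_mul hS h2 (h3 _) (h.mem_of_eq (h3 _) hx (h4 _)), mul_inv_cancel_left]
  have h6 : ∀ x ∈ Q, ∀ y ∈ Q, ⁅x, y⁆ ∈ Q0 G a := fun x hx y hy => by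
    have := h.mem_of_eq (inv_mem (mul_mem hx hy)) (inv_mem (mul_mem hy hx)) (by
      rw [h.π_inv (mul_mem hx hy), h.π_inv (mul_mem hy hx), h.add x hx y hy, h.add y hy x hx, add_comm])
    simpa [commutatorElement_def, mul_assoc] using this
  have h7 : ∀ x ∈ Q, ∀ y ∈ Q, τ (x * y * (x * y)) = τ (x * x) + τ (y * y) + τ ⁅x, y⁆ := fun x hx y hy => by
    have h7 := sq_mem_Q0 hS h2 hQ hn hx
    rw [← hadd h7 (sq_mem_Q0 hS h2 hQ hn hy), ← hadd (mul_mem h7 (sq_mem_Q0 hS h2 hQ hn hy)) (h6 x hx y hy),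
      ← (Q0_central hS h2 (h6 x hx y hy) (mul_mem (mul_mem hx hx) (mul_mem hy hy))).eq, ← mul_assoc ⁅x, y⁆,
      ← mul_assoc (⁅x, y⁆ * _), mul_assoc ⁅x, y⁆, (Q0_central hS h2 h7 hy).eq]
    simp [commutatorElement_def, mul_assoc]
  have h8 : ∀ x ∈ Q, ∀ y ∈ Q, ∀ z ∈ Q, τ ⁅x, y * z⁆ = τ ⁅x, y⁆ + τ ⁅x, z⁆ := fun x hx y hy z hz => by
    rw [← hadd (h6 x hx y hy) (h6 x hx z hz), ← commute_iff_conj.1 (Q0_central hS h2 (h6 x hx z hz) hy).symm]
    simp [commutatorElement_def, mul_assoc]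
  rw [h5 x hx]
  refine quad_eq h.invol h.hc h.hc' (n := fun e => τ (f e * f e)) (β := fun u v => τ ⁅f u, f v⁆)
    (fun u v => ?_) (fun u v v' => ?_) (fun u v hu => ?_) (fun v => ?_) ?_ _
  · rw [← h7 _ (h3 _) _ (h3 _), h5 _ (mul_mem (h3 _) (h3 _)), h.add _ (h3 _) _ (h3 _), h4, h4]
  · have h9 := h.mem_of_eq (mul_mem (h3 v) (h3 v')) (h3 (v + v')) (by rw [h.add _ (h3 _) _ (h3 _), h4, h4, h4])
    rw [← mul_inv_cancel_left (f v * f v') (f (v + v')), h8 _ (h3 _) _ (mul_mem (h3 _) (h3 _)) _ (Q0_le hS h9),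
      h8 _ (h3 _) _ (h3 _) _ (h3 _), (Q0_central hS h2 h9 (h3 u)).symm.commutator_eq, h.τ1, add_zero]
  · rcases eq_or_ne u 0 with rfl | h0
    · simp [Q0_sq hS h2 ((h.ker _ (h3 0)).1 (h4 0)), h.τ1]
    obtain ⟨k, hk, rfl⟩ := h.onto u h0 hu
    rw [sq, ← h.τ_conj hS h2 hs hk (sq_mem_Q0 hS h2 hQ hn (h3 v)), ← conj_mul,
      h5 _ (hS.conj_mem k hk.1.1 _ (h3 v)), h.eqv k hk _ (h3 v), h4]
  · rw [← commute_iff_conj.1 (W_commute hS h.hw (sq_mem_Q0 hS h2 hQ hn (h3 v))), ← conj_mul,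
      h5 _ (hS.conj_mem w h.hw.1.1.1 _ (h3 v)), h.eqw _ (h3 v), h4]
  · rw [← h.πω, ← h5 ω h.hω, h.τ_α hS h2 hs e hQ hn]

end CoU

open _root_.Classical in
/-- The second coordinate. -/
noncomputable def yy (a : Ω) (t : G) (Q : Subgroup G) {E : Type*} [Field E] (π τ : G → E) (x : G) : E :=
  if x ∈ Q0 G a then τ x else π x / π (TT a t Q x)

namespace CoU

variable {E : Type*} [Field E] [Finite E] [CharP E 2] {σ : E ≃+* E} {π χ τ : G → E} {c : E}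
  (h : CoU a t Q s w ω σ π χ τ c) (hS : IsRankOneSetup G Ω a t Q) (h2 : R2 G) (hs : s ∈ I G a)
  (e : t * s * t = s * t * s)
include h hS h2 hs e

theorem π_TT_ne (hx : x ∈ Q) (h1 : x ∉ Q0 G a) : π (TT a t Q x) ≠ 0 :=
  (h.ker _ (TT_mem hS hx fun e => h1 (e ▸ one_mem _))).not.2 (TT_not_mem hS h2 hs e hx h1)

theorem yy_TT (hx : x ∈ Q) (h1 : x ≠ 1) : yy a t Q π τ x ≠ 0 ∧
    π (TT a t Q x) = π x / yy a t Q π τ x ∧ yy a t Q π τ (TT a t Q x) = (yy a t Q π τ x)⁻¹ := by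
  by_cases h3 : x ∈ Q0 G a
  · have h4 := Q0_I hS h2 h3 h1
    have h5 : TT a t Q x ∈ Q0 G a := subset_closure (TT_I hS h2 hs e h4)
    rw [yy, yy, if_pos h3, if_pos h5, (h.ker x hx).2 h3, (h.ker _ (Q0_le hS h5)).2 h5]
    exact ⟨h.τ_ne hS hs h4, by simp, h.τ_TT hS h2 hs e h4⟩
  · have h4 := (h.ker x hx).not.2 h3
    have h5 := h.π_TT_ne hS h2 hs e hx h3
    rw [yy, yy, if_neg h3, if_neg (TT_not_mem hS h2 hs e hx h3), TT_TT hS hx h1]
    exact ⟨div_ne_zero h4 h5, by field_simp, by field_simp⟩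

theorem yy_K (hx : x ∈ Q) (hk : k ∈ K a t) :
    yy a t Q π τ (k * x * k⁻¹) = χ k * χ k * yy a t Q π τ x := by
  have h3 := (mem_normalizer_iff.1 (H_le_normalizer_Q0 hk.1.1) x).symm
  by_cases h4 : x ∈ Q0 G a
  · rw [yy, yy, if_pos h4, if_pos (h3.2 h4), h.τ_conj hS h2 hs hk h4]
  · have h1 : x ≠ 1 := fun e => h4 (e ▸ one_mem _)
    have := h.χ_ne hS hk
    rw [yy, yy, if_neg h4, if_neg (h3.not.2 h4), TT_conj_K hS hx h1 hk, h.eqv k hk x hx,
      ← h.eqv' hS hk (TT_mem hS hx h1)]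
    field_simp

omit h h2 hs e in
theorem yy_V (hd : d ∈ V a t) {μ : E} (h0 : μ ≠ 0) (hμ : ∀ x ∈ Q, π (d * x * d⁻¹) = μ * π x)
    (hx : x ∈ Q) (h4 : x ∉ Q0 G a) : yy a t Q π τ (d * x * d⁻¹) = yy a t Q π τ x := by
  have h1 : x ≠ 1 := fun e => h4 (e ▸ one_mem _)
  rw [yy, yy, if_neg h4, if_neg ((mem_normalizer_iff.1 (H_le_normalizer_Q0 hd.1.1) x).not.1 h4),
    TT_conj_V hS hx h1 hd, hμ x hx, hμ _ (TT_mem hS hx h1), mul_div_mul_left _ _ h0]

omit h2 hs e in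
theorem yy_w (hx : x ∈ Q) : yy a t Q π τ (w * x * w⁻¹) = yy a t Q π τ x := by
  by_cases h4 : x ∈ Q0 G a
  · rw [commute_iff_conj.1 (W_commute hS h.hw h4)]
  · exact yy_V hS h.hw.1 h.c_ne h.eqw hx h4

variable (hQ : IsPGroup 2 Q) (hn : ∃ x ∈ Q, ∃ y ∈ Q, x * y ≠ y * x)
include hQ hn

theorem yy_ω (hz : z ∈ Q0 G a) : yy a t Q π τ (ω * z) = σ c + τ z := by
  rw [yy, if_neg fun h3 => h.ω_not (by simpa using mul_mem h3 (inv_mem hz)), h.π_mul hS h.hω hz, h.πω,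
    eq_inv_of_mul_eq_one_left (h.X_eq hS h2 hs e hQ hn hz), one_div]

theorem yy_main (hx : x ∈ Q) : (∀ z ∈ Q0 G a, yy a t Q π τ (x * z) = yy a t Q π τ x + τ z) ∧
    yy a t Q π τ x + σ (yy a t Q π τ x) = (c + σ c) * (π x * σ (π x)) := by
  by_cases h0 : x ∈ Q0 G a
  · refine ⟨fun z hz => by rw [yy, yy, if_pos h0, if_pos (mul_mem h0 hz), h.τ_add hS h2 hs e hQ hn h0 hz], ?_⟩
    rw [yy, if_pos h0, h.τ_fix hS h2 hs h0, (h.ker x hx).2 h0]
    simp [CharTwo.add_self_eq_zero]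
  let P : G → Prop := fun x => x ∈ Q ∧ (∀ z ∈ Q0 G a, yy a t Q π τ (x * z) = yy a t Q π τ x + τ z) ∧
    yy a t Q π τ x + σ (yy a t Q π τ x) = (c + σ c) * (π x * σ (π x))
  have h3 : ∀ x, P x → ∀ z ∈ Q0 G a, P (x * z) := fun x hx z hz =>
    ⟨mul_mem hx.1 (Q0_le hS hz), fun y hy => by
      rw [mul_assoc, hx.2.1 _ (mul_mem hz hy), hx.2.1 z hz, h.τ_add hS h2 hs e hQ hn hz hy, add_assoc], by
      rw [hx.2.1 z hz, map_add, h.τ_fix hS h2 hs hz, h.π_mul hS hx.1 hz, ← hx.2.2]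
      ring_nf; reduce_mod_char!⟩
  have h4 : ∀ x, P x → ∀ k ∈ K a t, P (k * x * k⁻¹) := fun x hx k hk =>
    ⟨hS.conj_mem k hk.1.1 x hx.1, fun z hz => by
      have h4 := inv_conj_mem_of_mem_normalizer (H_le_normalizer_Q0 hk.1.1) hz
      rw [show k * x * k⁻¹ * z = k * (x * (k⁻¹ * z * k)) * k⁻¹ by group,
        h.yy_K hS h2 hs e (mul_mem hx.1 (Q0_le hS h4)) hk, hx.2.1 _ h4, mul_add, ← h.τ_conj hS h2 hs hk h4,
        h.yy_K hS h2 hs e hx.1 hk]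
      congr 2; group, by
      rw [h.yy_K hS h2 hs e hx.1 hk, h.eqv k hk x hx.1, map_mul, map_mul, map_mul, h.fix k hk]
      linear_combination χ k * χ k * hx.2.2⟩
  have h5 : ∀ x, P x → x ∉ Q0 G a → P (TT a t Q x) := fun x hx h0 => by
    have h1 : x ≠ 1 := fun e => h0 (e ▸ one_mem _)
    obtain ⟨h5, h6, h7⟩ := h.yy_TT hS h2 hs e hx.1 h1
    have h8 := TT_mem hS hx.1 h1
    have h9 := TT_not_mem hS h2 hs e hx.1 h0
    refine ⟨h8, fun z hz => ?_, ?_⟩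
    · rcases (mem_Q0 hS h2).1 hz with rfl | hz'
      · simp [h.τ1]
      have h10 := h.relA hS h2 hs e h8 h9 hz'
      have h11 : TT a t Q z ∈ Q0 G a := subset_closure (TT_I hS h2 hs e hz')
      obtain ⟨h12, h13, -⟩ := h.yy_TT hS h2 hs e (mul_mem hx.1 (Q0_le hS h11)) fun e => h0 (by
        rw [eq_inv_of_mul_eq_one_left e]; exact inv_mem h11)
      rw [hx.2.1 _ h11, h.τ_TT hS h2 hs e hz'] at h12 h13
      rw [TT_TT hS hx.1 h1, h13, h.π_mul hS hx.1 h11] at h10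
      have h14 := h.τ_ne hS hs hz'
      have h15 := (h.ker x hx.1).not.2 h0
      rw [h7, yy, if_neg fun h3 => h9 (by simpa using mul_mem h3 (inv_mem hz)), h.π_mul hS h8 hz, h6,
        eq_inv_mul_iff_mul_eq₀ h14 |>.2 h10]
      field_simp
      ring
    · have : σ (yy a t Q π τ x) ≠ 0 := by simpa using h5
      rw [h7, h6, map_inv₀, map_div₀]
      field_simp
      linear_combination hx.2.2
  have h6 : P ω := ⟨h.hω, fun z hz => by
    rw [h.yy_ω hS h2 hs e hQ hn hz, ← mul_one ω, h.yy_ω hS h2 hs e hQ hn (one_mem _), h.τ1, add_zero], by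
    rw [← mul_one ω, h.yy_ω hS h2 hs e hQ hn (one_mem _), h.τ1, mul_one, h.πω]
    simp [h.invol, add_comm]⟩
  have h7 : ∀ y, P y → ∀ u, σ u = u → π x = u * π y → P x := fun y hy u hu h7 => by
    obtain ⟨k, hk, rfl⟩ := h.onto u (by rintro rfl; exact h0 ((h.ker x hx).1 (by simpa using h7))) hu
    have h8 := h4 y hy k hk
    simpa only [mul_inv_cancel_left] using h3 _ h8 _ (h.mem_of_eq h8.1 hx (by rw [h7, h.eqv k hk y hy.1]))
  obtain ⟨u, v, hu, hv, h8⟩ := exists_coef h.invol (c := σ c) (by rw [h.invol]; exact h.hc'.symm) (π x)⁻¹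
  rcases eq_or_ne v 0 with rfl | h9
  · exact (h7 ω h6 u⁻¹ (by rw [map_inv₀, hu]) (by rw [h.πω, ← inv_inv (π x), h8]; simp)).2
  obtain ⟨z, hz, h10⟩ := h.τ_onto hS hs (u := u / v) (by rw [map_div₀, hu, hv])
  refine (h7 _ (h5 _ (h3 ω h6 z hz) fun h3 => h.ω_not (by simpa using mul_mem h3 (inv_mem hz))) v⁻¹
    (by rw [map_inv₀, hv]) ?_).2
  rw [eq_inv_of_mul_eq_one_right (h.X_eq hS h2 hs e hQ hn hz), h10, ← mul_inv, ← inv_inv (π x), h8]
  congr 1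
  field_simp
  ring

theorem yy_mul (hx : x ∈ Q) (hy : y ∈ Q) :
    yy a t Q π τ (x * y) = yy a t Q π τ x + yy a t Q π τ y + (c + σ c) * (σ (π x) * π y) := by
  choose f h3 h4 using h.surj
  have h5 := fun x hx => (h.yy_main hS h2 hs e hQ hn (x := x) hx).1
  let d : E → E → E := fun u v => yy a t Q π τ (f u * f v) + yy a t Q π τ (f u) + yy a t Q π τ (f v) +
    (c + σ c) * (σ u * v)
  have h6 : ∀ x ∈ Q, ∀ y ∈ Q, d (π x) (π y) = yy a t Q π τ (x * y) + yy a t Q π τ x + yy a t Q π τ y +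
      (c + σ c) * (σ (π x) * π y) := fun x hx y hy => by
    have h6 := h.mem_of_eq hx (h3 _) (h4 _).symm
    have h7 := h.mem_of_eq hy (h3 _) (h4 _).symm
    simp only [d]
    rw [← mul_inv_cancel_left x (f (π x)), ← mul_inv_cancel_left y (f (π y)),
      (Q0_central hS h2 h6 hy).mul_mul_mul_comm, h5 _ (mul_mem hx hy) _ (mul_mem h6 h7), h5 x hx _ h6,
      h5 y hy _ h7, h.τ_add hS h2 hs e hQ hn h6 h7]
    ring_nf; reduce_mod_char!
  have h7 : yy a t Q π τ 1 = 0 := by rw [yy, if_pos (one_mem _), h.τ1]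
  have h8 : π 1 = 0 := (h.ker 1 (one_mem _)).2 (one_mem _)
  obtain ⟨δ, h9, h10⟩ := exists_cob (σ := σ) (d := d) (fun u v v' => by
      obtain ⟨x, hx, rfl⟩ := h.surj u
      obtain ⟨y, hy, rfl⟩ := h.surj v
      obtain ⟨z, hz, rfl⟩ := h.surj v'
      rw [← h.add x hx y hy, ← h.add y hy z hz, h6 x hx y hy, h6 _ (mul_mem hx hy) z hz, h6 y hy z hz,
        h6 x hx _ (mul_mem hy hz), h.add x hx y hy, h.add y hy z hz, mul_assoc x, map_add]
      ring_nf; reduce_mod_char!) (fun u => by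
      obtain ⟨x, hx, rfl⟩ := h.surj u
      rw [← h8, h6 1 (one_mem _) x hx, h7, h8, one_mul]
      simp [CharTwo.add_self_eq_zero]) fun u => by
      obtain ⟨x, hx, rfl⟩ := h.surj u
      rw [h6 x hx x hx, yy, if_pos (sq_mem_Q0 hS h2 hQ hn hx), h.τ_sq hS h2 hs e hQ hn hx]
      ring_nf; reduce_mod_char!
  have h11 := delta_zero h.invol h.hc h.hc' (δ := δ) (fun u v hu h0 => by
      rw [h10 u h0 (fun x y => ?_), hu]
      obtain ⟨k, hk, rfl⟩ := h.onto u h0 hu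
      obtain ⟨x, hx, rfl⟩ := h.surj x
      obtain ⟨y, hy, rfl⟩ := h.surj y
      rw [← h.eqv k hk x hx, ← h.eqv k hk y hy, h6 x hx y hy, h6 _ (hS.conj_mem k hk.1.1 x hx) _
        (hS.conj_mem k hk.1.1 y hy), conj_mul, h.yy_K hS h2 hs e hx hk, h.yy_K hS h2 hs e hy hk,
        h.yy_K hS h2 hs e (mul_mem hx hy) hk, h.eqv k hk x hx, h.eqv k hk y hy, map_mul, hu]
      ring) (fun v => by
      rw [h10 c h.c_ne (fun x y => ?_), h.hc, one_mul]
      obtain ⟨x, hx, rfl⟩ := h.surj x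
      obtain ⟨y, hy, rfl⟩ := h.surj y
      rw [← h.eqw x hx, ← h.eqw y hy, h6 x hx y hy, h6 _ (hS.conj_mem w h.hw.1.1.1 x hx) _
        (hS.conj_mem w h.hw.1.1.1 y hy), conj_mul, h.yy_w hS hx, h.yy_w hS hy,
        h.yy_w hS (mul_mem hx hy), h.eqw x hx, h.eqw y hy, map_mul, h.hc]
      linear_combination (c + σ c) * σ (π x) * π y * h.hc) (by
      have := h9 0 0
      rw [← h8, h6 1 (one_mem _) 1 (one_mem _), mul_one, h7, h8] at this
      simpa [CharTwo.add_self_eq_zero] using this) fun u hu h0 => by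
      obtain ⟨z, hz, rfl⟩ := h.τ_onto hS hs hu
      have hz' := Q0_I hS h2 hz (by rintro rfl; exact h0 h.τ1)
      have h11 := TT_I hS h2 hs e hz'
      have h12 := mul_mem (inv_mem h.hω) (I_Q hS h11)
      have h13 : ω⁻¹ * TT a t Q z ∉ Q0 G a := fun h3 => h.ω_not (by
        simpa using mul_mem h3 (inv_mem (subset_closure h11)))
      have h14 : ω⁻¹ * TT a t Q z ≠ 1 := fun e => h13 (e ▸ one_mem _)
      have h15 := conj_mem' hS h.hw.1.1.1 (TT_mem hS h12 h14)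
      obtain ⟨h16, h17, -⟩ := h.hh_ω hS h2 hs e hQ hn
      have h18 := h6 _ (hS.conj_mem w h.hw.1.1.1 _ (inv_mem h.hω)) _ (hS.conj_mem _ h16.1.1 _ h15)
      have h19 : yy a t Q π τ (ω⁻¹ * TT a t Q z) = c + (τ z)⁻¹ := by
        have h19 := sq_mem_Q0 hS h2 hQ hn h.hω
        rw [h.inv_ω hS h2 hQ hn, h.yy_ω hS h2 hs e hQ hn (mul_mem h19 (subset_closure h11)),
          h.τ_add hS h2 hs e hQ hn h19 (subset_closure h11), h.τ_α hS h2 hs e hQ hn, h.τ_TT hS h2 hs e hz']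
        ring_nf; reduce_mod_char!
      obtain ⟨h20, h21, h22⟩ := h.yy_TT hS h2 hs e h12 h14
      have h23 := h.yy_w hS h15
      rw [show ∀ y, w * (w⁻¹ * y * w) * w⁻¹ = y from fun y => by group] at h23
      have h24 := h.eqw' hS (TT_mem hS h12 h14)
      rw [h21, h19, h.π_mul hS (inv_mem h.hω) (subset_closure h11), h.π_inv h.hω, h.πω] at h24
      have h25 : 1 + c * τ z ≠ 0 := fun e => h20 (by rw [h19]; field_simp; linear_combination e)
      have h26 : π (w⁻¹ * TT a t Q (ω⁻¹ * TT a t Q z) * w) = τ z / (c * (1 + c * τ z)) := by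
        rw [eq_div_of_mul_eq h.c_ne ((mul_comm ..).trans h24),
          show c + (τ z)⁻¹ = (1 + c * τ z) / τ z by field_simp; ring]
        have := h.c_ne
        field_simp
      rw [← h.H6_ω hS h2 hs e hz', yy_V hS h16 (pow_ne_zero 3 h.c_ne) h17 h15 (fun h3 =>
        TT_not_mem hS h2 hs e h12 h13 (by
          simpa [mul_assoc] using conj_mem_of_mem_normalizer (H_le_normalizer_Q0 h.hw.1.1.1) h3)),
        ← h23, h22, h19, h17 _ h15, h26, ← h.Tω, (h.yy_TT hS h2 hs e (mul_mem h.hω (I_Q hS hz'))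
          fun e => h.ω_not (by rw [eq_inv_of_mul_eq_one_left e]; exact inv_mem hz)).2.2,
        h.yy_ω hS h2 hs e hQ hn hz, (h.yy_TT hS h2 hs e h.hω fun e => h.ω_not (e ▸ one_mem _)).2.2,
        ← mul_one ω, h.yy_ω hS h2 hs e hQ hn (one_mem _), mul_one, h.Tω, h.eqw _ (inv_mem h.hω),
        h.π_inv h.hω, h.πω, h.τ1, mul_one, add_zero, ← eq_inv_of_mul_eq_one_left h.hc,
        show c ^ 3 * (τ z / (c * (1 + c * τ z))) = c ^ 2 * τ z / (1 + c * τ z) by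
          have := h.c_ne
          field_simp] at h18
      have h27 := h9 c (c ^ 2 * τ z / (1 + c * τ z))
      rw [h18, show c + c ^ 2 * τ z / (1 + c * τ z) = c / (1 + c * τ z) by
        field_simp; ring_nf; reduce_mod_char!] at h27
      have := h.c_ne
      rw [h27, add_eq_left, eq_inv_of_mul_eq_one_right h.hc,
        show c + (τ z)⁻¹ = (1 + c * τ z) / τ z by field_simp; ring,
        show c⁻¹ + τ z = (1 + c * τ z) / c by field_simp]
      field_simp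
      ring_nf; reduce_mod_char!
  have h12 := h9 (π x) (π y)
  rw [h11, h11, h11, h6 x hx y hy] at h12
  linear_combination (norm := (ring_nf; reduce_mod_char!)) h12

end CoU

/-- The group `Q` and the map `T` in the unitary case. -/
structure CoF (a : Ω) (t : G) (Q : Subgroup G) {E : Type*} [Field E] (σ : E ≃+* E) (π ξ : G → E) :
    Prop where
  mul : ∀ x ∈ Q, ∀ y ∈ Q, π (x * y) = π x + π y ∧ ξ (x * y) = ξ x + ξ y + σ (π x) * π y
  rel : ∀ x ∈ Q, ξ x + σ (ξ x) = π x * σ (π x)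
  inj : ∀ x ∈ Q, ∀ y ∈ Q, π x = π y → ξ x = ξ y → x = y
  surj : ∀ u v, v + σ v = u * σ u → ∃ x ∈ Q, π x = u ∧ ξ x = v
  tt : ∀ x ∈ Q, x ≠ 1 → π (TT a t Q x) = π x / ξ x ∧ ξ (TT a t Q x) = (ξ x)⁻¹

theorem CoF.iso [FaithfulSMul G Ω] {G' Ω' : Type*} [Group G'] [Finite G'] [MulAction G' Ω']
    [FaithfulSMul G' Ω'] {a' : Ω'} {t' : G'} {Q' : Subgroup G'} {E : Type*} [Field E] {σ : E ≃+* E}
    {π ξ : G → E} {π' ξ' : G' → E} (h : CoF a t Q σ π ξ) (h' : CoF a' t' Q' σ π' ξ')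
    (hS : IsRankOneSetup G Ω a t Q) (hS' : IsRankOneSetup G' Ω' a' t' Q') :
    Nonempty (LL t Q ≃* LL t' Q') := by
  choose f h1 h2 h3 using fun x : Q => h'.surj _ _ (h.rel x x.2)
  let ψ : Q ≃* Q' := MulEquiv.ofBijective (MonoidHom.mk' (fun x => ⟨f x, h1 x⟩) fun x y => Subtype.ext
    (h'.inj _ (h1 _) _ (mul_mem (h1 _) (h1 _))
      (by rw [(h'.mul _ (h1 _) _ (h1 _)).1, h2, h2, h2, coe_mul, (h.mul _ x.2 _ y.2).1])
      (by rw [(h'.mul _ (h1 _) _ (h1 _)).2, h3, h3, h3, h2, h2, coe_mul, (h.mul _ x.2 _ y.2).2])))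
    ⟨fun x y e => have e' : f x = f y := congrArg Subtype.val e
      Subtype.ext (h.inj _ x.2 _ y.2 (by rw [← h2, e', h2]) (by rw [← h3, e', h3])), fun y => by
        obtain ⟨x, hx, e1, e2⟩ := h.surj _ _ (h'.rel y y.2)
        exact ⟨⟨x, hx⟩, Subtype.ext (h'.inj _ (h1 _) _ y.2 ((h2 _).trans e1) ((h3 _).trans e2))⟩⟩
  refine iso_of_TT hS hS' ψ fun x h0 => ?_
  have h4 : f x ≠ 1 := fun e => h0 (congrArg Subtype.val (ψ.map_eq_one_iff.1 (Subtype.ext e)))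
  change TT a' t' Q' (f x) = f _
  refine h'.inj _ (TT_mem hS' (h1 x) h4) _ (h1 _) ?_ ?_
  · rw [(h'.tt _ (h1 x) h4).1, h2, h2, h3, (h.tt _ x.2 h0).1]
  · rw [(h'.tt _ (h1 x) h4).2, h3, h3, (h.tt _ x.2 h0).2]

theorem exists_coords_U [FaithfulSMul G Ω] (hS : IsRankOneSetup G Ω a t Q) (h2 : R2 G)
    (hQ : IsPGroup 2 Q) (hn : ∃ x ∈ Q, ∃ y ∈ Q, x * y ≠ y * x) (hs : s ∈ I G a)
    (e : t * s * t = s * t * s) (hW : W a t ≠ ⊥) :
    ∃ (E : Type) (_ : Field E) (_ : Fintype E) (_ : CharP E 2) (n : ℕ) (σ : E ≃+* E) (π ξ : G → E),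
      2 ≤ n ∧ Fintype.card E = (2 ^ n) ^ 2 ∧ (∀ x, σ x = x ^ 2 ^ n) ∧ CoF a t Q σ π ξ := by
  obtain ⟨E, _, _, _, n, σ, π, χ, τ, c, w, ω, h3, h4, h5, h⟩ := exists_coU hS h2 hQ hn hs e hW
  obtain ⟨b, hb, h6⟩ := fix_sqrt (σ := σ) (u := c + σ c) (by rw [map_add, h.invol, add_comm])
  have h7 : b ≠ 0 := by rintro rfl; exact eps_ne h.hc' (by simpa using h6.symm)
  have h8 := fun x hx => h.yy_main hS h2 hs e hQ hn (x := x) hx
  refine ⟨E, inferInstance, inferInstance, inferInstance, n, σ, fun x => b * π x, yy a t Q π τ, h3, h4, h5,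
    fun x hx y hy => ⟨by simp only [h.add x hx y hy, mul_add], ?_⟩, fun x hx => ?_, fun x hx y hy e1 e2 => ?_,
    fun u v huv => ?_, fun x hx h1 => ?_⟩
  · rw [h.yy_mul hS h2 hs e hQ hn hx hy, map_mul, hb, ← h6]; ring
  · rw [(h8 x hx).2, map_mul, hb, ← h6]; ring
  · have h9 := h.mem_of_eq hx hy (mul_left_cancel₀ h7 e1)
    have h10 := (h8 x hx).1 _ h9
    rw [mul_inv_cancel_left, e2, left_eq_add, ← h.τ1] at h10
    exact inv_mul_eq_one.1 (h.τ_inj hS h2 hs e hQ hn h9 (one_mem _) h10)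
  · obtain ⟨x, hx, h9⟩ := h.surj (u / b)
    have h10 := (h8 x hx).2
    rw [h9, map_div₀, hb, ← h6] at h10
    obtain ⟨z, hz, h11⟩ := h.τ_onto hS hs (u := v + yy a t Q π τ x) (by
      rw [map_add]
      field_simp at h10
      linear_combination (norm := (ring_nf; reduce_mod_char!)) huv + h10)
    exact ⟨x * z, mul_mem hx (Q0_le hS hz), by simp only [h.π_mul hS hx hz, h9, mul_div_cancel₀ _ h7], by
      rw [(h8 x hx).1 z hz, h11]; ring_nf; reduce_mod_char!⟩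
  · obtain ⟨-, h10, h11⟩ := h.yy_TT hS h2 hs e hx h1
    exact ⟨by simp only [h10, mul_div_assoc], h11⟩

end Cfsg.Agent.RankOne
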