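import Cfsg.Agent.Lib.Char.P10Def

/-!
The character theory of Peterfalvi's Section 10, in the abstract set-up `P10`.
-/

set_option autoImplicit false

namespace Cfsg.Agent.Char

open scoped ComplexConjugate

variable {L : Type*} [Group L] {G : Type*} [Group G] {A : Type*} [Group A] {B : Type*} [Group B]

@[simp] theorem lc_one_pow (n : ℕ) : (1 : A →* ℂˣ) ^ n = 1 := by ext; simp

/-- The nontrivial linear characters of a group of prime order are Galois conjugate. -/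
theorem exists_autLc_eq (hp : (Nat.card B).Prime) {j k : B →* ℂˣ} (hj : j ≠ 1) (hk : k ≠ 1) :
    ∃ σ : ℂ →+* ℂ, autLc σ j = k := by
  have : Finite B := Nat.finite_of_card_ne_zero hp.ne_zero
  have := Fact.mk hp
  have hc := card_lc (comm_of_isCyclic (isCyclic_of_prime_card (α := B) rfl))
  obtain ⟨m, rfl⟩ : k ∈ Submonoid.powers j := mem_powers_iff_mem_zpowers.2
    (zpowers_eq_top_of_prime_card hc hj ▸ Subgroup.mem_top k)
  have hm : m.Coprime (Nat.card B) := ((Nat.Prime.coprime_iff_not_dvd hp).2 (by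
    rintro ⟨c, rfl⟩
    exact hk (by simp only [pow_mul, lc_pow_card, lc_one_pow]))).symm
  obtain ⟨σ, h1, -⟩ := exists_ringHom_pow_fix hp.ne_zero one_ne_zero (Nat.coprime_one_right _) hm
  exact ⟨σ, autLc_eq_pow h1 (lc_pow_card j)⟩

variable [Fintype L] [Fintype G]

namespace CycFam

variable {g : A × B →* G} {η : (A →* ℂˣ) → (B →* ℂˣ) → G → ℂ} (h : CycFam g η)
include h

/-- The first column sum takes odd integer values on elements of order prime to `|A|`. -/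
theorem ecol_odd [Finite A] {x : G} (hx : (orderOf x).Coprime (Nat.card A)) :
    ∃ m : ℤ, ecol η 1 x = 2 * m + 1 := by
  classical
  choose c hc using fun i : A →* ℂˣ =>
    h.exists_int (i := i) (j := 1) Nat.card_pos.ne' (lc_pow_card i) (lc_one_pow _) hx
  have h1 : c 1 = 1 := by
    have : (c 1 : ℂ) = 1 := by rw [← hc, h.one]
    exact_mod_cast this
  have h2 : ∀ i, c i⁻¹ = c i := fun i => by
    have := congrFun (h.conjFun_eq i 1) x
    rw [conjFun_apply, lc_inv_one, hc, hc, map_intCast] at this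
    exact_mod_cast this.symm
  have h3 : ((∑ i ∈ Finset.univ.erase 1, c i : ℤ) : ZMod 2) = 0 := by
    rw [Int.cast_sum]
    exact Finset.sum_involution (fun i _ => i⁻¹) (fun i _ => by rw [h2, CharTwo.add_self_eq_zero])
      (fun i hi _ => h.ti.inv_neA (Finset.ne_of_mem_erase hi))
      (fun i hi => by simpa using hi) fun i _ => lc_inv_inv i
  obtain ⟨m, hm⟩ := (ZMod.intCast_zmod_eq_zero_iff_dvd _ 2).1 h3
  refine ⟨m, ?_⟩
  rw [ecol, Finset.sum_apply, ← Finset.sum_erase_add _ _ (Finset.mem_univ 1), hc 1, h1,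
    Finset.sum_congr rfl fun i _ => hc i, ← Int.cast_sum, hm]
  push_cast; rfl

theorem one_le_norm_ecol [Finite A] {x : G} (hx : (orderOf x).Coprime (Nat.card A)) :
    1 ≤ ‖ecol η 1 x‖ := by
  obtain ⟨m, e⟩ := h.ecol_odd hx
  rw [e, show (2 * m + 1 : ℂ) = (2 * m + 1 : ℤ) by push_cast; rfl, Complex.norm_intCast]
  exact_mod_cast Int.one_le_abs (by omega)

end CycFam

section PD

variable {K : Subgroup L} {f : A × B →* L}
  {μ : (A →* ℂˣ) → (B →* ℂˣ) → L → ℂ} {δ : (B →* ℂˣ) → ℤ} {g : A × B →* G}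
  {η : (A →* ℂˣ) → (B →* ℂˣ) → G → ℂ} {S₀ : Set L} {τ ν : (L → ℂ) →ₗ[ℂ] (G → ℂ)}
  {R : (L → ℂ) → Finset (G → ℂ)}

theorem PrimeFam.pmu_one (h : PrimeFam K f μ δ) : pmu K μ 1 = indFun K fun _ => 1 := by
  rw [pmu, h.pchi_one]

theorem PrimeFam.pmu_one_one (h : PrimeFam K f μ δ) : pmu K μ 1 1 = Nat.card A := by
  rw [h.pmu_apply_one, h.mu_one_one, mul_one]

theorem PrimeFam.rip_mu_pmu (h : PrimeFam K f μ δ) (i : A →* ℂˣ) (j k : B →* ℂˣ) :
    rip (μ i j) (pmu K μ k) = if k = j then 1 else 0 := by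
  rw [rip_comm, rip, h.classInner_pmu_mu]; split_ifs <;> simp

theorem PrimeFam.rip_mu_irr (h : PrimeFam K f μ δ) {H M : Subgroup L} {φ : L → ℂ}
    (hφ : φ ∈ indD K H M) (hi : IsIrrCharacter L φ) (i : A →* ℂˣ) (j : B →* ℂˣ) :
    rip (μ i j) φ = 0 := by
  obtain ⟨θ, -, -, -, rfl⟩ := hφ
  rw [rip_comm]; exact rip_eq_zero (h.classInner_ind_mu hi i j)

theorem PrimeFam.rip_pmu_irr (h : PrimeFam K f μ δ) {H M : Subgroup L} {φ : L → ℂ}
    (hφ : φ ∈ indD K H M) (hi : IsIrrCharacter L φ) (j : B →* ℂˣ) : rip (pmu K μ j) φ = 0 := by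
  have := h.pti.finiteA
  simp [h.pmu_eq_sum, rip_sum_left, h.rip_mu_irr hφ hi]

theorem PrimeFam.odd_deg (h : PrimeFam K f μ δ) (hodd : Odd (Nat.card L)) (i : A →* ℂˣ)
    (j : B →* ℂˣ) : ∃ d : ℕ, Odd d ∧ μ i j 1 = d := by
  obtain ⟨d, -, h1⟩ := (h.irr i j).exists_degree
  exact ⟨d, hodd.of_dvd_nat ((h.irr i j).degree_dvd_card h1), h1⟩

theorem PDade.suppIn_K (h : PDade K K f μ δ g η S₀ τ) {α : L → ℂ} (h0 : ∀ x, x ∉ K → α x = 0)
    (h1 : α 1 = 0) : SuppIn S₀ α := fun x hx => by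
  by_cases e : x ∈ K
  · by_cases e1 : x = 1
    · rw [e1, h1]
    · exact (hx (h.cent x e e1 x e e1 rfl)).elim
  · exact h0 x e

theorem PDade.suppIn_indT (h : PDade K K f μ δ g η S₀ τ) {α : L → ℂ}
    (hα : α ∈ Submodule.span ℂ (indT K)) (h1 : α 1 = 0) : SuppIn S₀ α :=
  have := h.normalK
  h.suppIn_K (fun _ => eq_zero_of_mem_span_indT hα) h1

theorem PDade.pmu_mem_indT (h : PDade K K f μ δ g η S₀ τ) (j : B →* ℂˣ) : pmu K μ j ∈ indT K :=
  have := h.normalK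
  ind_mem_indT (h.fam.isIrr_pchi j)

end PD

namespace P10

variable {K : Subgroup L} {f : A × B →* L}
  {μ : (A →* ℂˣ) → (B →* ℂˣ) → L → ℂ} {δ : (B →* ℂˣ) → ℤ} {g : A × B →* G}
  {η : (A →* ℂˣ) → (B →* ℂˣ) → G → ℂ} {S₀ : Set L} {τ ν : (L → ℂ) →ₗ[ℂ] (G → ℂ)}
  {R : (L → ℂ) → Finset (G → ℂ)} {ζ : L → ℂ} {d n : ℕ} {ε : ℤ}
  (h : P10 K f μ δ g η S₀ τ R)
include h

theorem solvK : Group.IsSolvable K := haveI := h.solv; inferInstance

theorem index : K.index = Nat.card A := h.fam.pti.index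

theorem three_le : 3 ≤ Nat.card A := h.cyc.ti.three_le_A

theorem bot_lt : ⊥ < K := by
  have := h.fam.pti.finiteB
  have := Finite.one_lt_card_iff_nontrivial.1 h.fam.pti.ntB
  obtain ⟨b, hb⟩ := exists_ne (1 : B)
  refine bot_lt_iff_ne_bot.2 fun e => hb ?_
  have := h.fam.pti.memB b
  rw [e, Subgroup.mem_bot, ← map_one f] at this
  exact (Prod.ext_iff.1 (h.fam.pti.inj this)).2

theorem not_le_commutator : ¬ K ≤ ⁅K, K⁆ := by
  have := h.normalK
  simpa using not_le_commutator_sup h.solvK h.bot_lt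

theorem commutator_lt : ⁅K, K⁆ < K :=
  lt_of_le_of_ne (commutator_le_self' K) fun e => h.not_le_commutator e.ge

theorem frobMod : FrobMod K K ⁅K, K⁆ :=
  have := h.normalK
  h.fam.pti.frobMod h.BK (commutator_le_self' K)

theorem le_relIndex : 2 * Nat.card A + 1 ≤ ⁅K, K⁆.relIndex K :=
  have := h.normalK
  h.index ▸ h.frobMod.two_mul_add_one_le h.odd (commutator_le_self' K) h.commutator_lt

theorem card_B_le : Nat.card B ≤ Nat.card (⁅K, K⁆ : Subgroup L) :=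
  Nat.card_le_card_of_injective (fun b => (⟨f (1, b), h.BK b⟩ : (⁅K, K⁆ : Subgroup L)))
    fun _ _ e => (Prod.ext_iff.1 (h.fam.pti.inj (congrArg Subtype.val e))).2

theorem card_le : (2 * Nat.card A + 1) * Nat.card B ≤ Nat.card K := by
  rw [← Subgroup.relIndex_bot_left K, ← Subgroup.relIndex_mul_relIndex ⊥ _ K bot_le
    (commutator_le_self' K), Subgroup.relIndex_bot_left, mul_comm]
  exact Nat.mul_le_mul h.card_B_le h.le_relIndex

theorem le_card : 2 * K.index + 1 ≤ Nat.card K := by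
  have := h.card_le
  have := h.fam.pti.ntB
  rw [h.index]; nlinarith

theorem pmu_not_mem {M : Subgroup L} [M.Normal] (h1 : ⁅K, K⁆ ≤ M) (h2 : M ≤ K) (j : B →* ℂˣ) :
    pmu K μ j ∉ indD K K M := fun hj => by
  have := h.normalK
  have h3 := ((ind_mem_indD_iff (h.fam.isIrr_pchi j)).1 hj).1
  exact h.ne_one_of_mem hj (MonoidHom.ext fun b =>
    (h.fam.le_charKer_pchi_iff h2 j).1 h3 b (h1 (h.BK b)))

/-- Peterfalvi 10.2. -/
theorem irr (hζ : ζ ∈ indD K K ⁅K, K⁆) : IsIrrCharacter L ζ :=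
  have := h.normalK
  (h.irr_or hζ).resolve_right fun ⟨j, _, e⟩ => h.pmu_not_mem le_rfl (commutator_le_self' K) j (e ▸ hζ)

theorem deg_eq (hζ : ζ ∈ indD K K ⁅K, K⁆) : ζ 1 = Nat.card A := by
  rw [apply_one_of_mem_indD hζ le_rfl, h.index]

theorem exists_zeta : ∃ ζ, ζ ∈ indD K K ⁅K, K⁆ :=
  have := h.normalK
  indD_nonempty le_rfl (commutator_le_self' K) h.not_le_commutator

theorem conjSub (M : Subgroup L) : ConjSub (indD K K M) (indD K K ⊥) :=
  conjSub_indD (indD_subset_bot _ _ _)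

theorem coh_der : Coh (indD K K ⁅K, K⁆) τ :=
  have := h.normalK
  h.sys.coh_indD_of_commutator_le le_rfl

theorem card_der : (indF K K ⁅K, K⁆).card * Nat.card A + 1 = ⁅K, K⁆.relIndex K := by
  have := h.normalK
  have h1 := sum_indF_deg_sq_self (K := K) (commutator_le_self' K)
  rw [Finset.sum_congr rfl fun φ hφ => by
    rw [deg_eq_nat (h.deg_eq (mem_indF.1 hφ)), (h.irr (mem_indF.1 hφ)).rip_self, div_one],
    Finset.sum_const, nsmul_eq_mul, h.index] at h1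
  have h2 : (0 : ℝ) < Nat.card A := by have := h.three_le; positivity
  have : ((indF K K ⁅K, K⁆).card : ℝ) * Nat.card A + 1 = ⁅K, K⁆.relIndex K := by
    have := mul_left_cancel₀ h2.ne' (show (Nat.card A : ℝ) * ((indF K K ⁅K, K⁆).card * Nat.card A) =
      Nat.card A * (⁅K, K⁆.relIndex K - 1) by rw [← h1]; ring)
    linarith
  exact_mod_cast this

/-- Peterfalvi 10.3. -/
theorem exists_dn : ∃ d n ε, DN μ δ d n ε := by
  have := h.normalK
  obtain ⟨k, hk⟩ := h.cyc.ti.exists_ne_oneB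
  obtain ⟨d, hd, e⟩ := h.fam.odd_deg h.odd 1 k
  obtain ⟨m, hm⟩ := h.fam.exists_degree 1 k
  have h1 : ∀ j, j ≠ 1 → μ 1 j 1 = d ∧ δ j = δ k := fun j hj => by
    obtain ⟨σ, rfl⟩ := exists_autLc_eq h.primeB hk hj
    have := congrFun (h.fam.map σ 1 k) 1
    rw [autLc_one, e, map_natCast] at this
    exact ⟨this, h.fam.delta_map σ k⟩
  have h2 : d ≠ 1 := by
    rintro rfl
    exact h.pmu_not_mem le_rfl (commutator_le_self' K) k (ind_mem_indD (h.fam.isIrr_pchi k)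
      (kerOn_commutator (h.fam.isIrr_pchi k) (by simpa [pchi] using e)) (h.not_kerOn_pchi hk))
  have h3 : (d : ℤ) = δ k + m * Nat.card A := by rw [e] at hm; exact_mod_cast hm
  have h4 := h.three_le
  obtain ⟨c, rfl⟩ := hd
  obtain ⟨a, ha⟩ := h.fam.pti.oddA
  have h5 : 0 < m := by
    by_contra h5
    have : m * Nat.card A ≤ 0 := mul_nonpos_of_nonpos_of_nonneg (not_lt.1 h5) (by positivity)
    rcases h.fam.sign k with e | e <;> rw [e] at h3 <;> omega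
  obtain ⟨n, rfl⟩ := Int.eq_ofNat_of_zero_le h5.le
  have h6 : Even n := by
    by_contra h6
    obtain ⟨b, rfl⟩ := Nat.not_even_iff_odd.1 h6
    rw [ha] at h3
    rcases h.fam.sign k with e | e <;> rw [e] at h3 <;> push_cast at h3 <;> ring_nf at h3 <;> omega
  exact ⟨_, n, δ k, fun j hj => (h1 j hj).1, fun j hj => (h1 j hj).2, by rw [h3, add_comm], by omega,
    by obtain ⟨b, rfl⟩ := h6; omega, h6⟩

theorem tau_conj (α : L → ℂ) : τ (conjFun α) = conjFun (τ α) := h.map (starRingEnd ℂ) α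

theorem card_A_ne : (Nat.card A : ℂ) ≠ 0 := by have := h.three_le; exact_mod_cast (by omega)

section alph

variable (hζ : ζ ∈ indD K K ⁅K, K⁆) (dn : DN μ δ d n ε) {i : A →* ℂˣ} {j : B →* ℂˣ} (hj : j ≠ 1)

omit h in
theorem isGen_alph_aux (fam : PrimeFam K f μ δ) (hζ : IsGeneralizedCharacter L ζ) (i : A →* ℂˣ)
    (j : B →* ℂˣ) : IsGeneralizedCharacter L (alph μ δ n ζ i j) :=
  ((fam.isGen i j).sub ((fam.isGen i 1).intCast_smul _)).sub (hζ.natCast_smul _)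

include hζ

theorem mem_bot : ζ ∈ indD K K ⊥ := indD_subset_bot _ _ _ hζ

theorem isGen_alph (i : A →* ℂˣ) (j : B →* ℂˣ) : IsGeneralizedCharacter L (alph μ δ n ζ i j) :=
  isGen_alph_aux h.fam (h.irr hζ).isGen i j

theorem rip_alph_irr {φ : L → ℂ} (hφ : φ ∈ indD K K ⊥) (hi : IsIrrCharacter L φ) (i : A →* ℂˣ)
    (j : B →* ℂˣ) : rip (alph μ δ n ζ i j) φ = -(n * rip ζ φ) := by
  simp [alph, h.fam.rip_mu_irr hφ hi]

theorem rip_alph_zeta (i : A →* ℂˣ) (j : B →* ℂˣ) : rip (alph μ δ n ζ i j) ζ = -n := by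
  rw [h.rip_alph_irr hζ (h.mem_bot hζ) (h.irr hζ), (h.irr hζ).rip_self, mul_one]

theorem rip_alph_ne {φ : L → ℂ} (hφ : φ ∈ indD K K ⊥) (hi : IsIrrCharacter L φ) (hne : φ ≠ ζ)
    (i : A →* ℂˣ) (j : B →* ℂˣ) : rip (alph μ δ n ζ i j) φ = 0 := by
  rw [h.rip_alph_irr hζ hφ hi, (h.irr hζ).rip_of_ne hi hne.symm, mul_zero, neg_zero]

theorem rip_alph_mu (i k : A →* ℂˣ) (j l : B →* ℂˣ) : rip (alph μ δ n ζ i j) (μ k l) =
    (if i = k ∧ j = l then 1 else 0) - δ j * if i = k ∧ 1 = l then 1 else 0 := by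
  simp [alph, h.fam.rip_mu, rip_comm ζ, h.fam.rip_mu_irr hζ (h.irr hζ)]

theorem rip_alph_pmu (i : A →* ℂˣ) (j k : B →* ℂˣ) : rip (alph μ δ n ζ i j) (pmu K μ k) =
    (if k = j then 1 else 0) - δ j * if k = 1 then 1 else 0 := by
  simp [alph, h.fam.rip_mu_pmu, rip_comm ζ, h.fam.rip_pmu_irr hζ (h.irr hζ)]

theorem alph_V (i : A →* ℂˣ) (j : B →* ℂˣ) {a : A} (ha : a ≠ 1) (b : B) :
    alph μ δ n ζ i j (f (a, b)) = δ j * (i a * j b - i a) := by
  have := h.normalK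
  simp [alph, h.fam.eq_on _ _ a b ha, h.fam.delta_one,
    eq_zero_of_mem_indD hζ (mt (h.fam.pti.memK a b).1 ha), mul_sub]

theorem beta_one : (pmu K μ 1 - ζ) 1 = 0 := by simp [h.fam.pmu_one_one, h.deg_eq hζ]

theorem beta_mem : pmu K μ 1 - ζ ∈ Submodule.span ℂ (indT K) :=
  sub_mem_span (h.pmu_mem_indT 1) (indD_subset_indT (h.mem_bot hζ))

theorem isGen_beta : IsGeneralizedCharacter L (pmu K μ 1 - ζ) :=
  (h.fam.isCharacter_pmu 1).isGen.sub (h.irr hζ).isGen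

theorem suppIn_beta : SuppIn S₀ (pmu K μ 1 - ζ) := h.suppIn_indT (h.beta_mem hζ) (h.beta_one hζ)

theorem rip_beta : rip (τ (pmu K μ 1 - ζ)) (τ (pmu K μ 1 - ζ)) = Nat.card A + 1 := by
  have h1 := (h.isGen_beta hζ).isClassFunction
  rw [h.rip_eq h1 h1 (h.suppIn_beta hζ) (h.suppIn_beta hζ)]
  simp [h.fam.rip_pmu, rip_comm ζ, h.fam.rip_pmu_irr hζ (h.irr hζ), (h.irr hζ).rip_self]

theorem beta_V {a : A} {b : B} (ha : a ≠ 1) (hb : b ≠ 1) : τ (pmu K μ 1 - ζ) (g (a, b)) = 0 := by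
  have := h.normalK
  rw [h.onV _ (h.isGen_beta hζ).isClassFunction (h.suppIn_beta hζ) a b ha hb]
  exact eq_zero_of_mem_span_indT (h.beta_mem hζ) (mt (h.fam.pti.memK a b).1 ha)

theorem rip_beta_one : rip (τ (pmu K μ 1 - ζ)) (η 1 1) = 1 := by
  rw [h.cyc.one, rip, h.tone _ (h.isGen_beta hζ).isClassFunction (h.suppIn_beta hζ), ← rip,
    ← h.fam.mu_one_one, rip_comm]
  simp [h.fam.rip_mu_pmu, h.fam.rip_mu_irr hζ (h.irr hζ)]

/-- Peterfalvi 10.9. -/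
theorem exists_chi [Finite A] (hlt : Nat.card A < Nat.card B) :
    ∃ χ, IsDirr G χ ∧ (∀ i j, classInner χ (η i j) = 0) ∧ τ (pmu K μ 1 - ζ) = ecol η 1 - χ := by
  classical
  have := h.cyc.ti.finiteB
  have hg := h.gen _ (h.isGen_beta hζ) (h.suppIn_beta hζ)
  have h1 := h.cyc.card_supp_le hg
  rw [h.rip_beta hζ] at h1
  have h1' : (Finset.univ.filter fun p : (A →* ℂˣ) × (B →* ℂˣ) =>
      classInner (τ (pmu K μ 1 - ζ)) (η p.1 p.2) ≠ 0).card ≤ Nat.card A + 1 := by exact_mod_cast h1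
  have h3 := h.three_le
  have h4 : Nat.card A + 2 ≤ Nat.card B := by
    obtain ⟨a, ha⟩ := h.cyc.ti.oddA
    obtain ⟨b, hb⟩ := h.cyc.ti.oddB
    omega
  have h5 : classInner (τ (pmu K μ 1 - ζ)) (η 1 1) = 1 := by
    rw [hg.classInner_eq_rip (h.cyc.isGen 1 1), h.rip_beta_one hζ]; simp
  have key : ∀ i j, classInner (τ (pmu K μ 1 - ζ)) (η i j) = if j = 1 then 1 else 0 := by
    rcases grid_trichotomy (a := fun i j => classInner (τ (pmu K μ 1 - ζ)) (η i j))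
      (fun i j k l => h.cyc.exchange hg.isClassFunction (fun a b => h.beta_V hζ) i k j l)
      (Finset.univ.filter fun p => classInner (τ (pmu K μ 1 - ζ)) (η p.1 p.2) ≠ 0) (fun i j e => Finset.mem_filter.2 ⟨Finset.mem_univ (i, j), e⟩)
      (by rw [h.cyc.ti.card_lcA]; omega) (by rw [h.cyc.ti.card_lcB]; omega)
      (by rw [h.cyc.ti.card_lcA, h.cyc.ti.card_lcB]; omega) with ⟨l, c, e⟩ | ⟨k, c, e⟩
    · have := e 1 1
      rw [h5] at this
      split_ifs at this with e1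
      · subst e1; exact this ▸ e
      · simp at this
    · exfalso
      have := e 1 1
      rw [h5] at this
      split_ifs at this with e1
      · subst e1
        have h6 := Finset.card_le_card (s := Finset.univ.image fun j : B →* ℂˣ => ((1 : A →* ℂˣ), j))
          (t := Finset.univ.filter fun p : (A →* ℂˣ) × (B →* ℂˣ) =>
            classInner (τ (pmu K μ 1 - ζ)) (η p.1 p.2) ≠ 0) fun p hp => by
          obtain ⟨j, -, rfl⟩ := Finset.mem_image.1 hp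
          simp [e, ← this, -map_sub]
        rw [Finset.card_image_of_injective _ (Prod.mk_right_injective _), Finset.card_univ,
          ← Nat.card_eq_fintype_card, h.cyc.ti.card_lcB] at h6
        omega
      · simp at this
  have h6 : rip (τ (pmu K μ 1 - ζ)) (ecol η 1) = Nat.card A := by
    simp [ecol, rip, key, classInner_sum_right, h.cyc.card_lcA, -map_sub]
  refine ⟨ecol η 1 - τ (pmu K μ 1 - ζ), ((h.cyc.isGen_ecol 1).sub hg).isDirr ?_, fun i j => ?_,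
    by simp⟩
  · rw [rip_sub_left, rip_sub_right, rip_sub_right, h.cyc.rip_ecol, rip_comm (ecol η 1), h6,
      h.rip_beta hζ]; simp
  · rw [classInner_sub_left, key, h.cyc.classInner_ecol_eta]; simp [eq_comm]

include hj

theorem rip_alph : rip (alph μ δ n ζ i j) (alph μ δ n ζ i j) = n ^ 2 + 2 := by
  conv_lhs => rw [show rip (alph μ δ n ζ i j) (alph μ δ n ζ i j) =
    rip (alph μ δ n ζ i j) (μ i j - (δ j : ℂ) • μ i 1 - (n : ℂ) • ζ) from rfl]
  simp [h.rip_alph_mu hζ, h.rip_alph_zeta hζ, hj, hj.symm]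
  linear_combination h.fam.delta_sq_real j

include dn

theorem alph_one : alph μ δ n ζ i j 1 = 0 := by
  have := congrArg (Int.cast : ℤ → ℂ) dn.eq
  push_cast at this
  simp [alph, h.fam.mu_apply_one i, dn.deg j hj, dn.sign j hj, h.fam.mu_one_one, h.deg_eq hζ, this]

theorem suppIn_alph : SuppIn S₀ (alph μ δ n ζ i j) :=
  h.suppIn_of (h.isGen_alph hζ i j).isClassFunction (fun x hx h2 => by
    by_cases e : x = 1
    · rw [e, h.alph_one hζ dn hj]
    · exact (h2 (h.cent x hx e x hx e rfl)).elim) fun a ha => by simp [h.alph_V hζ i j ha]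

theorem isGen_tau_alph : IsGeneralizedCharacter G (τ (alph μ δ n ζ i j)) :=
  h.gen _ (h.isGen_alph hζ i j) (h.suppIn_alph hζ dn hj)

theorem rip_tau_alph : rip (τ (alph μ δ n ζ i j)) (τ (alph μ δ n ζ i j)) = n ^ 2 + 2 := by
  rw [h.rip_eq (h.isGen_alph hζ i j).isClassFunction (h.isGen_alph hζ i j).isClassFunction
    (h.suppIn_alph hζ dn hj) (h.suppIn_alph hζ dn hj), h.rip_alph hζ hj]

theorem rip_tau_alph_span {φ : L → ℂ} (hφ : φ ∈ Submodule.span ℂ (indT K)) (h1 : φ 1 = 0) :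
    rip (τ (alph μ δ n ζ i j)) (τ φ) = rip (alph μ δ n ζ i j) φ :=
  have := h.normalK
  h.rip_eq (h.isGen_alph hζ i j).isClassFunction (isClassFunction_of_mem_span_indT hφ)
    (h.suppIn_alph hζ dn hj) (h.suppIn_indT hφ h1)

/-- The product of `α_ij^τ` with the image of a character of degree `c ζ(1)`. -/
theorem rip_alph_nu (hν : IsExt τ ν) {φ : L → ℂ} (hφ : φ ∈ indT K) {c : ℕ}
    (hc : φ 1 = c * Nat.card A) : rip (τ (alph μ δ n ζ i j)) (ν φ) =
      rip (alph μ δ n ζ i j) φ + c * (rip (τ (alph μ δ n ζ i j)) (ν ζ) + n) := by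
  have h1 : φ 1 = c * ζ 1 := by rw [hc, h.deg_eq hζ]
  have := h.rip_tau_alph_span (i := i) hζ dn hj
    (sub_smul_mem_span hφ (indD_subset_indT (h.mem_bot hζ)) (c : ℂ)) (by simp [h1])
  rw [hν.sub_smul h1] at this
  simp only [rip_sub_right, rip_natCast_smul_right, h.rip_alph_zeta hζ] at this
  linarith

theorem pmu_deg : pmu K μ j 1 = d * Nat.card A := by
  rw [h.fam.pmu_apply_one, dn.deg j hj, mul_comm]

theorem sum_alph [Finite A] : ∑ i, alph μ δ n ζ i j =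
    (pmu K μ j - (d : ℂ) • ζ) - (δ j : ℂ) • (pmu K μ 1 - ζ) := by
  have := congrArg (Int.cast : ℤ → ℂ) dn.eq
  push_cast at this
  simp only [alph, Finset.sum_sub_distrib, ← Finset.smul_sum, ← h.fam.pmu_eq_sum, Finset.sum_const,
    Finset.card_univ, h.fam.card_lcA, this, dn.sign j hj, ← Nat.cast_smul_eq_nsmul ℂ]
  module

/-- The last step of (10.5). -/
theorem tau_alph_of {χ : G → ℂ} (hχ : IsDirr G χ) (h0 : ∀ i j, classInner χ (η i j) = 0)
    (h1 : rip (τ (alph μ δ n ζ i j)) χ = -n) :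
    τ (alph μ δ n ζ i j) = (δ j : ℂ) • (η i j - η i 1) - (n : ℂ) • χ := by
  rw [← h.cyc.eq_sub_of_norm_two (Z := (δ j : ℂ) • (τ (alph μ δ n ζ i j) + (n : ℂ) • χ))
    (((h.isGen_tau_alph hζ dn hj).add (hχ.isGen.natCast_smul _)).intCast_smul _) ?_ hj
    fun a b ha hb => ?_, h.fam.delta_smul_smul, add_sub_cancel_right]
  · rw [rip_intCast_smul_left, rip_intCast_smul_right, ← mul_assoc, h.fam.delta_sq_real]
    simp only [rip_add_left, rip_add_right, rip_natCast_smul_left, rip_natCast_smul_right,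
      h.rip_tau_alph hζ dn hj, rip_comm χ (τ _), h1, hχ.rip_self]
    ring
  · rw [Pi.smul_apply, Pi.add_apply, Pi.smul_apply, h.cyc.eq_zero_of_orth hχ.isClassFunction h0 ha hb,
      h.onV _ (h.isGen_alph hζ i j).isClassFunction (h.suppIn_alph hζ dn hj) a b ha hb,
      h.alph_V hζ i j ha, smul_zero, add_zero, smul_eq_mul, ← mul_assoc, h.fam.delta_sq]
    simp

/-- Peterfalvi 10.5. -/
theorem tau_alph (hν : CohWith (indD K K ⊥) τ ν) :
    τ (alph μ δ n ζ i j) = (δ j : ℂ) • (η i j - η i 1) - (n : ℂ) • ν ζ := by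
  have hd := hν.isDirr (h.mem_bot hζ) (h.irr hζ)
  refine h.tau_alph_of hζ dn hj hd
    (h.coh_orth h.sys subset_rfl h.sys.conjSub hν (h.mem_bot hζ) (h.irr hζ)) ?_
  obtain ⟨b, hb⟩ := (h.isGen_tau_alph (i := i) hζ dn hj).rip_eq_int hd.isGen
  have hk := lc_inv_ne_one hj
  have h1 := h.rip_alph_nu (i := i) hζ dn hj hν.ext (h.pmu_mem_indT j⁻¹) (h.pmu_deg hζ dn hk)
  have h2 := rip_sq_le (τ (alph μ δ n ζ i j)) (ν (pmu K μ j⁻¹))
  rw [h1, h.rip_tau_alph hζ dn hj, hν.rip_eq (h.pmu_mem hk) (h.pmu_mem hk), h.fam.rip_pmu, hb,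
    h.rip_alph_pmu hζ, if_neg (h.cyc.ti.inv_neB hj), if_neg hk, if_pos rfl] at h2
  have h3 : (d * (b + n)) ^ 2 ≤ ((n : ℤ) ^ 2 + 2) * Nat.card A := by
    simp only [mul_zero, sub_zero, zero_add] at h2; exact_mod_cast h2
  have h4 : b + n = 0 := by
    by_contra e
    have h5 : 1 ≤ (b + n) ^ 2 := by have := sq_pos_of_ne_zero e; omega
    have h6 : (d : ℤ) ^ 2 ≤ ((n : ℤ) ^ 2 + 2) * Nat.card A := by nlinarith [sq_nonneg (d : ℤ)]
    have h7 : (3 : ℤ) ≤ Nat.card A := by exact_mod_cast h.three_le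
    have h8 : (2 : ℤ) ≤ n := by exact_mod_cast dn.two_le
    have h9 : (n : ℤ) * Nat.card A - 1 ≤ d := by
      rcases h.fam.sign j with e | e <;> rw [dn.eq, ← dn.sign j hj, e] <;> omega
    generalize (Nat.card A : ℤ) = w at *
    have : ((n : ℤ) * w - 1) ^ 2 ≤ d ^ 2 := pow_le_pow_left₀ (by nlinarith) h9 2
    have : (n : ℤ) ^ 2 * w - 2 * n < n ^ 2 + 2 := by
      refine lt_of_mul_lt_mul_right (a := w) ?_ (by omega)
      nlinarith
    nlinarith
  rw [hb]; exact_mod_cast eq_neg_of_add_eq_zero_left h4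

theorem nu_pmu_sub [Finite A] (hν : IsExt τ ν)
    (e : ∀ i, τ (alph μ δ n ζ i j) = (δ j : ℂ) • (η i j - η i 1) - (n : ℂ) • ν ζ) :
    ν (pmu K μ j) - (δ j : ℂ) • ν (pmu K μ 1) = (δ j : ℂ) • (ecol η j - ecol η 1) := by
  have h1 := congrArg τ (h.sum_alph hζ dn hj)
  have h2 := congrArg (Int.cast : ℤ → ℂ) dn.eq
  push_cast at h2
  rw [map_sum, map_sub, map_smul, hν.sub_smul (by rw [h.pmu_deg hζ dn hj, h.deg_eq hζ]),
    hν.sub (by rw [h.fam.pmu_one_one, h.deg_eq hζ])] at h1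
  simp only [e, Finset.sum_sub_distrib, ← Finset.smul_sum, Finset.sum_const, Finset.card_univ,
    h.fam.card_lcA, h2, ← dn.sign j hj, ← Nat.cast_smul_eq_nsmul ℂ] at h1
  rw [ecol, ecol]
  linear_combination (norm := module) -h1

/-- Peterfalvi 10.6(a). -/
theorem nu_pmu [Finite A] (hν : CohWith (indD K K ⊥) τ ν) :
    ν (pmu K μ j) = (δ j : ℂ) • ecol η j := by
  refine (h.coh_pmu h.sys h.red subset_rfl h.sys.conjSub hν (h.mem_bot hζ) (h.irr hζ)
    (h.pmu_mem hj)).resolve_right fun ⟨e, _⟩ => ?_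
  have h0 := fun i j => rip_eq_zero
    (h.coh_orth h.sys subset_rfl h.sys.conjSub hν (h.mem_bot hζ) (h.irr hζ) i j)
  have h1 := h.rip_alph_nu (i := 1) hζ dn hj hν.ext (h.pmu_mem_indT j) (h.pmu_deg hζ dn hj)
  have h2 := hν.rip_eq (h.mem_bot hζ) (h.pmu_mem hj)
  have h3 := (hν.isDirr (h.mem_bot hζ) (h.irr hζ)).rip_self
  rw [rip_comm ζ, h.fam.rip_pmu_irr hζ (h.irr hζ)] at h2
  rw [h.tau_alph hζ dn hj hν, h.rip_alph_pmu hζ] at h1
  simp only [rip_sub_left, rip_intCast_smul_left, rip_natCast_smul_left, h2, h3,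
    rip_comm (η _ _) (ν ζ), h0] at h1
  simp [e, rip_comm (η _ _), h.cyc.rip_ecol_eta, h.cyc.ti.inv_neB hj, hj] at h1

omit hj in
theorem nu_pmu_one [Finite A] (hν : CohWith (indD K K ⊥) τ ν) : ν (pmu K μ 1) = ecol η 1 := by
  obtain ⟨j, hj⟩ := h.cyc.ti.exists_ne_oneB
  have := h.nu_pmu_sub hζ dn hj hν.ext fun i => h.tau_alph hζ dn hj hν
  rw [h.nu_pmu hζ dn hj hν, smul_sub, sub_right_inj] at this
  exact smul_right_injective _ (h.fam.delta_ne_zero j) this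

omit hj in
/-- A criterion for coherence, from (10.10.4) and (11.8). -/
theorem cohWith_of [Finite A] (hν : CohWith (indD K K ⁅K, K⁆) τ ν) (h1 : ν (pmu K μ 1) = ecol η 1)
    (e : ∀ i j, j ≠ 1 → τ (alph μ δ n ζ i j) = (δ j : ℂ) • (η i j - η i 1) - (n : ℂ) • ν ζ) :
    CohWith (indD K K ⁅K, K⁆ ∪ {φ | ∃ j, j ≠ 1 ∧ φ = pmu K μ j}) τ ν ∧
      ∀ j, j ≠ 1 → ν (pmu K μ j) = (δ j : ℂ) • ecol η j := by
  have key : ∀ j, j ≠ 1 → ν (pmu K μ j) = (δ j : ℂ) • ecol η j := fun j hj => by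
    have := h.nu_pmu_sub hζ dn hj hν.ext fun i => e i j hj
    rwa [h1, smul_sub, sub_left_inj] at this
  refine ⟨h.sys.toIsoOn.pivot ?_ hν.ext (Submodule.subset_span (h.mem_bot hζ))
    (h.irr hζ).apply_one_ne_zero (hν.iso _ hζ _ hζ) ?_, key⟩
  · rintro φ (hφ | ⟨j, hj, rfl⟩)
    exacts [h.mem_bot hφ, h.pmu_mem hj]
  · rintro φ (hφ | ⟨j, hj, rfl⟩)
    · exact ⟨hν.gen _ hφ, hν.iso _ hφ _ hζ⟩
    · have h2 := (h.cyc.isGen_ecol j).intCast_smul (δ j)
      rw [key j hj, h2.classInner_eq_rip (hν.gen _ hζ),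
        (h.fam.isCharacter_pmu j).isGen.classInner_eq_rip (h.irr hζ).isGen,
        h.fam.rip_pmu_irr hζ (h.irr hζ), rip_intCast_smul_left, rip_comm, rip_eq_zero (h.cyc.orth_ecol
        fun i => h.coh_orth h.sys subset_rfl (h.conjSub _) hν hζ (h.irr hζ) i j), mul_zero]
      exact ⟨h2, rfl⟩

/-- The inequality behind (10.10.3) and (11.8.2). -/
theorem alph_bessel (hν : CohWith (indD K K ⁅K, K⁆) τ ν) {a : ℝ}
    (ha : rip (τ (alph μ δ n ζ i j)) (ν ζ) = a - n) :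
    (indF K K ⁅K, K⁆).card * a ^ 2 - 2 * a * n ≤ 2 := by
  classical
  have h1 := bessel (indF K K ⁅K, K⁆) (fun φ => ν φ) (fun φ hφ ψ hψ => by
    rw [hν.iso _ (mem_indF.1 hφ) _ (mem_indF.1 hψ)]
    split_ifs with e
    exacts [e ▸ (h.irr (mem_indF.1 hφ)).classInner_self,
      h.sys.orth _ (h.mem_bot (mem_indF.1 hφ)) _ (h.mem_bot (mem_indF.1 hψ)) e])
    (τ (alph μ δ n ζ i j))
  rw [h.rip_tau_alph hζ dn hj, ← Finset.add_sum_erase _ _ (mem_indF.2 hζ),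
    Finset.sum_congr rfl (g := fun _ => a ^ 2) fun φ hφ => ?_, Finset.sum_const,
    Finset.card_erase_of_mem (mem_indF.2 hζ), nsmul_eq_mul,
    Nat.cast_pred (Finset.card_pos.2 ⟨_, mem_indF.2 hζ⟩),
    (h.isGen_tau_alph hζ dn hj).classInner_eq_rip (hν.gen _ hζ), ha, Complex.norm_real,
    Real.norm_eq_abs, sq_abs] at h1
  · linarith
  · have h2 := mem_indF.1 (Finset.mem_of_mem_erase hφ)
    rw [(h.isGen_tau_alph hζ dn hj).classInner_eq_rip (hν.gen _ h2),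
      h.rip_alph_nu hζ dn hj hν.ext (indD_subset_indT (h.mem_bot h2)) (c := 1) (by simp [h.deg_eq h2]),
      h.rip_alph_ne hζ (h.mem_bot h2) (h.irr h2) (Finset.ne_of_mem_erase hφ), ha, Complex.norm_real,
      Real.norm_eq_abs, sq_abs]
    simp

end alph

/-- Peterfalvi 10.10.3, 10.10.4. -/
theorem coh_of_eight [Finite A] (hlt : Nat.card A < Nat.card B) (dn : DN μ δ d 2 ε)
    (h8 : 8 ≤ (indF K K ⁅K, K⁆).card) :
    Coh (indD K K ⁅K, K⁆ ∪ {φ | ∃ j, j ≠ 1 ∧ φ = pmu K μ j}) τ := by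
  obtain ⟨ζ, hζ⟩ := h.exists_zeta
  obtain ⟨ν, hν⟩ := h.coh_der
  have hd := hν.isDirr hζ (h.irr hζ)
  have h0 := h.coh_orth h.sys subset_rfl (h.conjSub _) hν hζ (h.irr hζ)
  have key : ∀ i j, j ≠ 1 →
      τ (alph μ δ 2 ζ i j) = (δ j : ℂ) • (η i j - η i 1) - ((2 : ℕ) : ℂ) • ν ζ := fun i j hj => by
    refine h.tau_alph_of hζ dn hj hd h0 ?_
    obtain ⟨b, hb⟩ := (h.isGen_tau_alph (i := i) hζ dn hj).rip_eq_int hd.isGen
    have h1 := h.alph_bessel (i := i) hζ dn hj hν (a := (b + 2 : ℤ)) (by rw [hb]; simp)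
    have h2 : ((indF K K ⁅K, K⁆).card : ℤ) * (b + 2) ^ 2 - 2 * (b + 2) * 2 ≤ 2 := by exact_mod_cast h1
    have h3 : (8 : ℤ) ≤ (indF K K ⁅K, K⁆).card := by exact_mod_cast h8
    have h4 : b + 2 = 0 := by
      by_contra e
      have := sq_pos_of_ne_zero e
      nlinarith [sq_nonneg (b + 2 - 1), sq_nonneg (b + 2)]
    rw [hb]; exact_mod_cast eq_neg_of_add_eq_zero_left h4
  obtain ⟨χ, h1, h2, h3⟩ := h.exists_chi hζ hlt
  obtain ⟨j, hj⟩ := h.cyc.ti.exists_ne_oneB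
  have h4 := h.rip_tau_alph_span (i := 1) hζ dn hj (h.beta_mem hζ) (h.beta_one hζ)
  have h5 : rip (ν ζ) χ = 1 := by
    rw [key 1 j hj, h3] at h4
    simp [h.rip_alph_pmu hζ, h.rip_alph_zeta hζ, rip_comm (η _ _), h.cyc.rip_ecol_eta, hj.symm,
      rip_eq_zero (h2 _ _), rip_eq_zero (h.cyc.orth_ecol fun i => h0 i 1), -Nat.cast_ofNat] at h4
    push_cast at h4
    linarith
  rw [← hd.eq_of_rip h1 h5, hν.ext.sub (by rw [h.fam.pmu_one_one, h.deg_eq hζ]), sub_left_inj] at h3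
  exact (h.cohWith_of hζ dn hν h3 key).1.coh

/-- Peterfalvi 10.10.1 - 10.10.4. -/
theorem coh_of_cube {p : ℕ} (hp : p.Prime) (hK : Nat.card K = p ^ 3) (hd : Nat.card A ∣ p + 1)
    (hle : ⁅K, K⁆.relIndex K ≤ 4 * K.index ^ 2 + 1) : Coh (indD K K ⊥) τ := by
  classical
  have := h.normalK
  have := h.cyc.ti.finiteA
  have := h.cyc.ti.finiteB
  have := Fact.mk hp
  have hB : Nat.card B = p := (Nat.prime_dvd_prime_iff_eq h.primeB hp).1
    (h.primeB.dvd_of_dvd_pow (hK ▸ h.fam.pti.card_B_dvd))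
  have h3 := h.three_le
  have h1 : Nat.card (⁅K, K⁆ : Subgroup L) * ⁅K, K⁆.relIndex K = p ^ 3 := by
    rw [← hK, ← Subgroup.relIndex_bot_left K, ← Subgroup.relIndex_mul_relIndex ⊥ _ K bot_le
      (commutator_le_self' K), Subgroup.relIndex_bot_left]
  have h2 : ⁅K, K⁆.relIndex K = p ^ 2 := by
    obtain ⟨m, hm, e⟩ := (Nat.dvd_prime_pow hp).1 (Dvd.intro_left _ h1)
    have h4 := h.card_B_le
    have h5 := h.le_relIndex
    interval_cases m
    · rw [pow_zero] at e; omega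
    · have := commutator_le_of_relIndex_prime (K := K) (M := ⊥)
        ((IsPGroup.of_card hK).map _).isNilpotent (by simpa [e] using hp)
      rw [le_bot_iff.1 this, Subgroup.card_bot] at h4
      have := h.fam.pti.ntB
      omega
    · exact e
    · rw [e] at h1
      have := (Nat.mul_eq_right (pow_pos hp.pos 3).ne').1 h1
      have := h.fam.pti.ntB
      omega
  have h4 : p + 1 = 2 * Nat.card A := by
    rw [h2, h.index] at hle
    have h5 : p < 2 * Nat.card A + 1 := lt_of_pow_lt_pow_left₀ 2 (by positivity) (by nlinarith)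
    obtain ⟨c, hc⟩ := hd
    obtain ⟨a, ha⟩ := h.cyc.ti.oddA
    obtain ⟨b, hb⟩ := hB ▸ h.cyc.ti.oddB
    have : c < 3 := by by_contra e; nlinarith
    interval_cases c <;> omega
  have h5 : 8 ≤ (indF K K ⁅K, K⁆).card := by
    have := h.card_der
    rw [h2] at this
    by_contra e
    nlinarith
  obtain ⟨d, n, ε, dn⟩ := h.exists_dn
  obtain ⟨k, hk⟩ := h.cyc.ti.exists_ne_oneB
  have h6 : p ≤ d := by
    obtain ⟨m, -, e⟩ := (Nat.dvd_prime_pow hp).1 (hK ▸ (h.fam.isIrr_pchi k).degree_dvd_card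
      (d := d) (dn.deg k hk))
    have := dn.one_lt
    rcases m with _ | m
    · rw [pow_zero] at e; omega
    · exact e ▸ Nat.le_of_dvd (pow_pos hp.pos _) (dvd_pow_self p m.succ_ne_zero)
  have h7 := sum_indF_deg_sq (K := K) (H := ⁅K, K⁆) (M := ⊥) (commutator_le_self' K) bot_le
  rw [bot_sup_eq, h2, Subgroup.relIndex_bot_left, hK, h.index] at h7
  have h8 : (Finset.univ.erase 1).image (pmu K μ) ⊆ indF K ⁅K, K⁆ ⊥ := fun φ hφ => by
    obtain ⟨j, hj, rfl⟩ := Finset.mem_image.1 hφ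
    rw [mem_indF, ← indD_diff (H := K) (commutator_le_self' K)]
    exact ⟨h.pmu_mem (Finset.ne_of_mem_erase hj), h.pmu_not_mem le_rfl (commutator_le_self' K) j⟩
  have h9 : ∑ φ ∈ (Finset.univ.erase 1).image (pmu K μ), deg φ ^ 2 / rip φ φ =
      (p - 1) * (Nat.card A * d ^ 2) := by
    rw [Finset.sum_image fun _ _ _ _ e => h.fam.pmu_injective e,
      Finset.sum_congr rfl (g := fun _ => (Nat.card A * d ^ 2 : ℝ)) fun j hj => ?_, Finset.sum_const,
      Finset.card_erase_of_mem (Finset.mem_univ _), Finset.card_univ, ← Nat.card_eq_fintype_card,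
      h.cyc.ti.card_lcB, hB, nsmul_eq_mul, Nat.cast_pred hp.pos]
    rw [deg_eq_nat (r := Nat.card A * d) (by
      rw [h.fam.pmu_apply_one, dn.deg j (Finset.ne_of_mem_erase hj)]; simp), h.fam.rip_pmu, if_pos rfl]
    push_cast
    field_simp
  have hpos : ∀ φ ∈ indF K ⁅K, K⁆ ⊥, 0 < deg φ ^ 2 / rip φ φ := fun φ hφ =>
    have := indD_subset _ _ _ (mem_indF.1 hφ)
    div_pos (pow_pos (h.sys.deg_pos this) 2) (h.sys.rip_pos this)
  have hp1 : (1 : ℝ) < p := by exact_mod_cast hp.one_lt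
  have hw : (0 : ℝ) < (p - 1) * Nat.card A := mul_pos (by linarith) (by positivity)
  have h10 : d = p := by
    have := Finset.sum_le_sum_of_subset_of_nonneg h8 fun φ hφ _ => (hpos φ hφ).le
    rw [h7, h9] at this
    push_cast at this
    have : (d : ℝ) ^ 2 ≤ p ^ 2 := le_of_mul_le_mul_left (by linarith) hw
    exact le_antisymm (by exact_mod_cast (pow_le_pow_iff_left₀ (by positivity) (by positivity) two_ne_zero).1 this) h6
  have h11 : n = 2 := by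
    have := dn.eq
    have h12 : n < 3 := by
      by_contra e
      rcases h.fam.sign k with e | e <;> rw [← dn.sign k hk, e] at this <;> nlinarith
    have := dn.two_le
    omega
  subst h11
  refine (h.coh_of_eight (by omega) dn h5).mono fun φ hφ => ?_
  by_contra e
  rw [Set.mem_union, not_or] at e
  have h12 : φ ∈ indF K ⁅K, K⁆ ⊥ := by
    rw [mem_indF, ← indD_diff (H := K) (commutator_le_self' K)]; exact ⟨hφ, e.1⟩
  have := Finset.sum_lt_sum_of_subset h8 h12 (fun h13 => by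
    obtain ⟨j, hj, rfl⟩ := Finset.mem_image.1 h13
    exact e.2 ⟨j, Finset.ne_of_mem_erase hj, rfl⟩) (hpos φ h12) fun φ hφ _ => (hpos φ hφ).le
  rw [h7, h9, h10] at this
  push_cast at this
  linarith

end P10

section cross

variable {L' : Type*} [Group L'] [Fintype L'] {S S₁ : Set (L → ℂ)} {S' S₁' : Set (L' → ℂ)}
  {τ ν : (L → ℂ) →ₗ[ℂ] (G → ℂ)} {τ' ν' : (L' → ℂ) →ₗ[ℂ] (G → ℂ)} {R : (L → ℂ) → Finset (G → ℂ)}
  {R' : (L' → ℂ) → Finset (G → ℂ)} {ζ : L → ℂ} {ζ' : L' → ℂ}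

theorem CohSys.nu_conj_one (h : CohSys S τ R) (hν : IsExt τ ν) (hζ : ζ ∈ S) :
    ν ζ 1 = ν (conjFun ζ) 1 := by
  have := h.one _ (sub_mem_span hζ (h.conj_mem _ hζ)) (by simp [h.conj_one hζ])
  rwa [hν.sub (h.conj_one hζ).symm, Pi.sub_apply, sub_eq_zero] at this

/-- Coherent images for two orthogonal isometries are orthogonal. -/
theorem CohSys.orth_cross (h : CohSys S τ R) (h' : CohSys S' τ' R') (hS : ConjSub S₁ S)
    (hS' : ConjSub S₁' S') (hν : CohWith S₁ τ ν) (hν' : CohWith S₁' τ' ν') (hζ : ζ ∈ S₁)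
    (hζ' : ζ' ∈ S₁') (hi : IsIrrCharacter L ζ) (hi' : IsIrrCharacter L' ζ')
    (h0 : classInner (τ (ζ - conjFun ζ)) (τ' (ζ' - conjFun ζ')) = 0) :
    classInner (ν ζ) (ν' ζ') = 0 := by
  have h1 := hS.sub hζ
  have h2 := hS'.sub hζ'
  rw [hν.ext.sub (h.conj_one h1).symm, hν'.ext.sub (h'.conj_one h2).symm] at h0
  refine (orth_of_mixed (hν.isDirr hζ hi) (hν.isDirr (hS.cj _ hζ) hi.conjFun) (hν'.isDirr hζ' hi')
    (hν'.isDirr (hS'.cj _ hζ') hi'.conjFun) _root_.one_ne_zero _root_.one_ne_zero ?_ ?_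
    (by rwa [one_smul, one_smul])
    (h.nu_conj_one hν.ext h1) (by rw [h'.nu_conj_one hν'.ext h2])).1
  · rw [hν.iso _ hζ _ (hS.cj _ hζ), h.orth _ h1 _ (h.conj_mem _ h1) (h.conj_ne _ h1).symm]
  · rw [hν'.iso _ hζ' _ (hS'.cj _ hζ'), h'.orth _ h2 _ (h'.conj_mem _ h2) (h'.conj_ne _ h2).symm]

theorem CohSys.conjSub_deg (h : CohSys S τ R) (c : ℂ) : ConjSub {φ | φ ∈ S ∧ φ 1 = c} S :=
  ⟨fun _ hφ => hφ.1, fun _ hφ => ⟨h.conj_mem _ hφ.1, (h.conj_one hφ.1).trans hφ.2⟩⟩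

theorem CohSys.coh_deg (h : CohSys S τ R) (c : ℂ) : Coh {φ | φ ∈ S ∧ φ 1 = c} τ :=
  h.coh_of_uniform' (h.conjSub_deg c) fun _ h1 _ h2 => h1.2.trans h2.2.symm

theorem CycFam.rip_ecol_erow {g : A × B →* G} {η : (A →* ℂˣ) → (B →* ℂˣ) → G → ℂ} (h : CycFam g η)
    [Finite A] [Finite B] (i : A →* ℂˣ) (j : B →* ℂˣ) :
    rip (ecol η j) (ecol (fun j i => η i j) i) = 1 := by
  conv_lhs => rw [show ecol (fun j i => η i j) i = ∑ l, η i l from rfl]
  simp [rip_sum_right, h.rip_ecol_eta]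

variable {K H : Subgroup L} {f : A × B →* L} {μ : (A →* ℂˣ) → (B →* ℂˣ) → L → ℂ}
  {δ : (B →* ℂˣ) → ℤ} {g : A × B →* G} {η : (A →* ℂˣ) → (B →* ℂˣ) → G → ℂ} {S₀ : Set L}
  {K' H' : Subgroup L'} {f' : B × A →* L'} {μ' : (B →* ℂˣ) → (A →* ℂˣ) → L' → ℂ}
  {δ' : (A →* ℂˣ) → ℤ} {S₀' : Set L'}

theorem PDade.exists_ecol (h : PDade K H f μ δ g η S₀ τ) [Finite A] (hS : CohSys S τ R)
    (hR : RedR K μ δ η R) (hSH : S ⊆ indD K H ⊥) (hS₁ : ConjSub S₁ S) (hν : CohWith S₁ τ ν)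
    (hζ : ζ ∈ S₁) (hi : IsIrrCharacter L ζ) {j : B →* ℂˣ} (hj : pmu K μ j ∈ S₁) :
    ∃ (e : ℤ) (k : B →* ℂˣ), e ≠ 0 ∧ ν (pmu K μ j) = (e : ℂ) • ecol η k := by
  have : δ j ≠ 0 := by exact_mod_cast h.fam.delta_ne_zero j
  rcases h.coh_pmu hS hR hSH hS₁ hν hζ hi hj with e | ⟨e, -⟩
  exacts [⟨_, _, this, e⟩, ⟨-δ j, _, neg_ne_zero.2 this, by rw [e, Int.cast_neg, neg_smul]⟩]

/-- The computation in (10.7) and (13.4). -/
theorem PDade.cross (h : PDade K H f μ δ g η S₀ τ)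
    (h' : PDade K' H' f' μ' δ' (swapHom g) (fun j i => η i j) S₀' τ') (hS : CohSys S τ R)
    (hR : RedR K μ δ η R) (hSH : S ⊆ indD K H ⊥) (hS₁ : ConjSub S₁ S) (hν : CohWith S₁ τ ν)
    (hζ : ζ ∈ S₁) (hi : IsIrrCharacter L ζ) {j : B →* ℂˣ} (hj : pmu K μ j ∈ S₁) {c : ℕ}
    (hc : pmu K μ j 1 = c * ζ 1) (hS' : CohSys S' τ' R') (hR' : RedR K' μ' δ' (fun j i => η i j) R')
    (hSH' : S' ⊆ indD K' H' ⊥) (hS₁' : ConjSub S₁' S') (hν' : CohWith S₁' τ' ν') (hζ' : ζ' ∈ S₁')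
    (hi' : IsIrrCharacter L' ζ') {i : A →* ℂˣ} (hj' : pmu K' μ' i ∈ S₁') {c' : ℕ}
    (hc' : pmu K' μ' i 1 = c' * ζ' 1)
    (h0 : classInner (τ (ζ - conjFun ζ)) (τ' (ζ' - conjFun ζ')) = 0) :
    classInner (τ (pmu K μ j - (c : ℂ) • ζ)) (τ' (pmu K' μ' i - (c' : ℂ) • ζ')) ≠ 0 := fun h1 => by
  have := h.cyc.ti.finiteA
  have := h.cyc.ti.finiteB
  obtain ⟨e, k, he, e1⟩ := h.exists_ecol hS hR hSH hS₁ hν hζ hi hj
  obtain ⟨e', k', he', e2⟩ := h'.exists_ecol hS' hR' hSH' hS₁' hν' hζ' hi' hj'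
  have h2 := rip_eq_zero h1
  have h3 := rip_eq_zero (hS.orth_cross hS' hS₁ hS₁' hν hν' hζ hζ' hi hi' h0)
  have h4 := rip_eq_zero (h'.cyc.orth_ecol (j := k') fun l =>
    h.coh_orth hS hSH hS₁ hν hζ hi k' l)
  have h5 := rip_eq_zero (h.cyc.orth_ecol (j := k) fun l =>
    h'.coh_orth hS' hSH' hS₁' hν' hζ' hi' k l)
  rw [hν.ext.sub_smul hc, hν'.ext.sub_smul hc', e1, e2] at h2
  simp [h3, h4, rip_comm _ (ν' ζ'), h5, h.cyc.rip_ecol_erow, he, he', rip_comm (ν' ζ') (ν ζ)] at h2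

end cross

/-- The counting argument of Peterfalvi 10.8. -/
theorem P10.not_coh {L : Subgroup G} [Fintype L] {K : Subgroup L} [K.Normal] {f : A × B →* L}
    {μ : (A →* ℂˣ) → (B →* ℂˣ) → L → ℂ} {δ : (B →* ℂˣ) → ℤ} {g : A × B →* G}
    {η : (A →* ℂˣ) → (B →* ℂˣ) → G → ℂ} {S₀ : Set L} {τ : (L → ℂ) →ₗ[ℂ] (G → ℂ)}
    {R : (L → ℂ) → Finset (G → ℂ)} (h : P10 K f μ δ g η S₀ τ R) {A₁ : Set G} {R₁ : G → Subgroup G}
    (h7 : D7 A₁ L R₁ K τ) {X : Set G} (hX : ∀ x, ¬ (orderOf x).Coprime (Nat.card A) → x ∈ X)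
    (hle : nrm X (fun _ => 1) ≤ 1 / (7 * Nat.card B) +
      (Nat.card A - 1) * (Nat.card B - 1) / (Nat.card A * Nat.card B)) : ¬ Coh (indD K K ⊥) τ := by
  rintro ⟨ν, hν⟩
  have := h.cyc.ti.finiteA
  obtain ⟨ζ, hζ⟩ := h.exists_zeta
  obtain ⟨d, n, ε, dn⟩ := h.exists_dn
  have c7 : C7 A₁ L R₁ K τ ν ζ :=
    ⟨h7, hν, h.mem_bot hζ, h.irr hζ, by rw [h.deg_eq hζ, h.index], h.odd⟩
  have h1 := c7.le_nrm h.le_card
  let Y : Set G := {x | x ∉ dadeSupp A₁ R₁ ∧ (orderOf x).Coprime (Nat.card A)}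
  have h2 : nrm Y (fun _ => 1) ≤ nrm Y (ν ζ) := nrm_one_le fun x hx => by
    have := c7.beta_eq_zero hx.1
    rw [← h.fam.pmu_one, h.nu_pmu_one hζ dn hν, Pi.sub_apply, sub_eq_zero] at this
    exact this ▸ h.cyc.one_le_norm_ecol hx.2
  have h3 := nrm_add_le (S := dadeSupp A₁ R₁) (T := Y) (Set.disjoint_right.2 fun _ hx => hx.1) (ν ζ)
  have h4 : nrm Set.univ (fun _ : G => 1) ≤ nrm (dadeSupp A₁ R₁ ∪ Y ∪ X) fun _ => 1 :=
    nrm_mono (fun x _ => by have := hX x; simp only [Y, Set.mem_union, Set.mem_setOf_eq]; tauto) _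
  have h5 := nrm_union_le (dadeSupp A₁ R₁ ∪ Y) X fun _ => 1
  have h6 := nrm_union_le (dadeSupp A₁ R₁) Y fun _ => 1
  have h8 : ((2 * Nat.card A + 1) * Nat.card B : ℝ) ≤ Nat.card K := by exact_mod_cast h.card_le
  have h9 : (3 : ℝ) ≤ Nat.card A := by exact_mod_cast h.three_le
  have h10 : (3 : ℝ) ≤ Nat.card B := by exact_mod_cast h.cyc.ti.three_le_B
  rw [nrm_univ, isIrrCharacter_one.rip_self] at h4
  rw [c7.isDirr.rip_self] at h3
  rw [h7.nrm_one, h.index] at h6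
  rw [h.index] at h1
  generalize (Nat.card A : ℝ) = a at *
  generalize (Nat.card B : ℝ) = b at *
  generalize (Nat.card K : ℝ) = k at *
  have hk : 0 < k := by nlinarith
  have e1 : a / k ≤ 1 / (2 * b) := by rw [div_le_div_iff₀ hk (by positivity)]; nlinarith
  have e2 : (k - 1) / (a * k) ≤ 1 / a := by
    rw [div_le_div_iff₀ (by positivity) (by positivity)]; nlinarith
  have e3 : 1 / (2 * b) + 1 / a + (1 / (7 * b) + (a - 1) * (b - 1) / (a * b)) < 1 := by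
    field_simp
    nlinarith
  linarith

end Cfsg.Agent.Char
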