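import Cfsg.Agent.Lib.Char.Sec10
set_option autoImplicit false
namespace Cfsg.Agent.Char
variable {L : Type*} [Group L] [Fintype L] {G : Type*} [Group G] [Fintype G]
  {A : Type*} [Group A] {B : Type*} [Group B] {K : Subgroup L} {f : A × B →* L}
  {μ : (A →* ℂˣ) → (B →* ℂˣ) → L → ℂ} {δ : (B →* ℂˣ) → ℤ} {g : A × B →* G}
  {η : (A →* ℂˣ) → (B →* ℂˣ) → G → ℂ} {S₀ : Set L} {τ : (L → ℂ) →ₗ[ℂ] (G → ℂ)}
  {R : (L → ℂ) → Finset (G → ℂ)} {ζ : L → ℂ}

theorem sum_eq_add_card_mul {X : Type*} [Fintype X] (o : X) (F : X → ℝ) (c : ℝ)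
    (e : ∀ i, i ≠ o → F i = c) : ∑ i, F i = F o + (Fintype.card X - 1) * c := by
  classical
  rw [← Finset.add_sum_erase _ _ (Finset.mem_univ o), Finset.sum_congr rfl
    fun i a => e i (Finset.ne_of_mem_erase a), Finset.sum_const, Finset.card_erase_of_mem
    (Finset.mem_univ o), nsmul_eq_mul, Nat.cast_pred (Finset.card_pos.2 ⟨o, Finset.mem_univ o⟩),
    Finset.card_univ]

/-- (11.9.a, b) from (11.8) -/
theorem P10.sec11_9a [Finite A] (h : P10 K f μ δ g η S₀ τ R) (hq : (Nat.card A).Prime)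
    (hζ : ζ ∈ indD K K ⁅K, K⁆)
    (h8 : ¬ ∀ i j, classInner (τ (pmu K μ 1 - ζ)) (η i j) = if j = 1 then 1 else 0) :
    (∀ i j, classInner (τ (pmu K μ 1 - ζ)) (η i j) = if i = 1 then 1 else 0) ∧
      Nat.card B < Nat.card A := by
  classical
  have := h.cyc.ti.finiteB
  have := h.normalK
  have hg := h.gen _ (h.isGen_beta hζ) (h.suppIn_beta hζ)
  refine ⟨?_, lt_of_le_of_ne (not_lt.1 fun hlt => ?_) h.cyc.ti.card_ne.symm⟩
  swap
  · obtain ⟨χ, -, a, b⟩ := h.exists_chi hζ hlt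
    exact h8 fun i j => by
      rw [b, classInner_sub_left, a, h.cyc.classInner_ecol_eta, sub_zero]; simp only [eq_comm]
  have gal : ∀ (σ : ℂ →+* ℂ) i j, rip (τ (pmu K μ 1 - ζ)) (η (autLc σ i) (autLc σ j)) =
      rip (τ (pmu K μ 1 - ζ)) (η i j) := fun σ i j => by
    have m := map_mem_indD hζ σ
    have d : (ζ - fun x => σ (ζ x)) 1 = 0 := by simp [h.deg_eq hζ]
    have s := sub_mem_span (R := ℤ) (h.mem_bot hζ) (h.mem_bot m)
    have e : (fun x => σ ((pmu K μ 1 - ζ) x)) = (pmu K μ 1 - ζ) + (ζ - fun x => σ (ζ x)) := by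
      have := h.fam.pmu_map σ 1
      rw [autLc_one] at this
      ext x; simp [← congrFun this x]
    rw [← rip_map_ringHom hg (h.cyc.isGen i j) σ, ← h.cyc.map, ← h.map, e, map_add, rip_add_left,
      rip_eq_zero (h.cyc.orth_of_rip_le_two (h.sys.gen _ s d)
        (fun a b => h.tau_apply_V (mem_span_complex s) d) ?_ _ _), add_zero]
    rw [rip, h.sys.iso _ (mem_span_complex s) _ (mem_span_complex s) d d, ← rip]
    simp only [rip_sub_left, rip_sub_right, (h.irr hζ).rip_self, (h.irr m).rip_self]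
    linarith [(h.irr hζ).isCharacter.rip_nonneg (h.irr m).isCharacter,
      (h.irr m).isCharacter.rip_nonneg (h.irr hζ).isCharacter]
  obtain ⟨i₀, hi⟩ := h.cyc.ti.exists_ne_oneA
  obtain ⟨j₀, hj⟩ := h.cyc.ti.exists_ne_oneB
  obtain ⟨x, hx⟩ := hg.rip_eq_int (h.cyc.isGen i₀ 1)
  obtain ⟨y, hy⟩ := hg.rip_eq_int (h.cyc.isGen 1 j₀)
  have one := h.rip_beta_one hζ
  have ex : ∀ i, i ≠ 1 → rip (τ (pmu K μ 1 - ζ)) (η i 1) = x := fun i n => by
    obtain ⟨σ, rfl⟩ := exists_autLc_eq hq hi n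
    rw [← hx, ← gal σ i₀ 1, autLc_one]
  have ey : ∀ j, j ≠ 1 → rip (τ (pmu K μ 1 - ζ)) (η 1 j) = y := fun j n => by
    obtain ⟨σ, rfl⟩ := exists_autLc_eq h.primeB hj n
    rw [← hy, ← gal σ 1 j₀, autLc_one]
  have ez : ∀ i j, rip (τ (pmu K μ 1 - ζ)) (η i j) =
      (if i = 1 then 1 else x) + (if j = 1 then 1 else y) - 1 := fun i j => by
    have := h.cyc.rip_exchange hg.isClassFunction (fun a b => h.beta_V hζ) i 1 j 1
    split_ifs with a b b
    · rw [a, b, one]; ring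
    · rw [a, ey j b]; ring
    · rw [b, ex i a]; ring
    · rw [one, ex i a, ey j b] at this; linarith
  have be := h.cyc.sum_rip_sq_le (τ (pmu K μ 1 - ζ)) Finset.univ
  rw [h.rip_beta hζ, Fintype.sum_prod_type, sum_eq_add_card_mul 1 _ (x ^ 2 + (Nat.card B - 1) * (x + y - 1) ^ 2)
    (fun i n => by
      rw [sum_eq_add_card_mul 1 _ ((x + y - 1) ^ 2) fun j n' => by simp [ez, n, n', -map_sub], ← Nat.card_eq_fintype_card,
        h.cyc.ti.card_lcB]; simp [ez, n, -map_sub]),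
    sum_eq_add_card_mul 1 _ (y ^ 2) fun j n' => by simp [ez, n', -map_sub], one, ← Nat.card_eq_fintype_card,
    ← Nat.card_eq_fintype_card, h.cyc.ti.card_lcA, h.cyc.ti.card_lcB] at be
  have a3 : (3 : ℤ) ≤ Nat.card A := by exact_mod_cast h.cyc.ti.three_le_A
  have b3 : (3 : ℤ) ≤ Nat.card B := by exact_mod_cast h.cyc.ti.three_le_B
  have be' : 1 ^ 2 + ((Nat.card B : ℤ) - 1) * y ^ 2 + (Nat.card A - 1) *
      (x ^ 2 + (Nat.card B - 1) * (x + y - 1) ^ 2) ≤ Nat.card A + 1 := by exact_mod_cast be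
  have p1 := mul_nonneg (by omega : (0 : ℤ) ≤ Nat.card B - 1) (sq_nonneg y)
  have k1 : x ^ 2 + ((Nat.card B : ℤ) - 1) * (x + y - 1) ^ 2 < 2 := by nlinarith
  have k2 : x + y - 1 = 0 := by
    by_contra n
    have : 1 ≤ (x + y - 1) ^ 2 := sq_pos_of_ne_zero n
    nlinarith [sq_nonneg x]
  rw [k2] at k1 be'
  have k3 : x = 0 ∨ x = 1 := by
    have : x ≠ -1 := fun e => by
      rw [e, show y = 2 by omega] at be'; nlinarith
    have : -2 < x := by nlinarith
    have : x < 2 := by nlinarith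
    omega
  have fin : ∀ i j, classInner (τ (pmu K μ 1 - ζ)) (η i j) =
      (if i = 1 then 1 else x) + (if j = 1 then 1 else y) - 1 := fun i j => by
    rw [hg.classInner_eq_rip (h.cyc.isGen i j), ez]; split_ifs <;> simp
  rcases k3 with rfl | rfl
  · obtain rfl : y = 1 := by omega
    intro i j; rw [fin]; simp
  · obtain rfl : y = 0 := by omega
    exact (h8 fun i j => by rw [fin]; simp).elim

end Cfsg.Agent.Char
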