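import Cfsg.Agent.Lib.Char.Sec7
import Cfsg.Agent.Lib.Char.Down
import Cfsg.Agent.Lib.Char.Triple
import Cfsg.Agent.Lib.Char.PrimeTI
/-! The abstract character theory behind Peterfalvi (12.2) - (12.5). -/
set_option autoImplicit false
set_option linter.unusedSectionVars false
set_option linter.unusedVariables false

namespace Cfsg.Agent.Char
open scoped ComplexConjugate
universe u

variable {L : Type u} [Group L] [Fintype L] {G : Type*} [Group G] [Fintype G]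
  {S S' : Set (L → ℂ)} {τ : (L → ℂ) →ₗ[ℂ] (G → ℂ)} {R : (L → ℂ) → Finset (G → ℂ)} {Y : G → ℂ}

theorem CohSys.tau_sub_orth (h : CohSys S τ R) {χ φ : L → ℂ} (hχ : χ ∈ S) (hφ : φ ∈ S)
    (hd : χ 1 = φ 1) (h1 : ∀ α ∈ R χ, classInner α Y = 0) (h2 : ∀ α ∈ R φ, classInner α Y = 0) :
    classInner (τ (χ - φ)) Y = 0 := by
  by_cases e : φ = χ
  · simp [e]
  by_cases e' : φ = conjFun χ
  · rw [e', h.sum_eq χ hχ]; exact orth_sum_left h1
  rw [(h.tau_sub_eq hχ hφ e e' hd).1, classInner_add_left, proj_orth _ h1, proj_orth _ h2, add_zero]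

/-- A system of multiplicity free characters whose constituents form a coherence system. -/
theorem CohSys.exists_mf (h : CohSys S τ R) (h' : IsoOn S' τ) (hc : ∀ χ ∈ S', conjFun χ ∈ S')
    (hne : ∀ χ ∈ S', conjFun χ ≠ χ) (ho : ∀ χ ∈ S', ∀ φ ∈ S', χ ≠ φ → classInner χ φ = 0)
    (hm : ∀ χ ∈ S', ∀ φ, IsIrrCharacter L φ → classInner χ φ ≠ 0 → classInner χ φ = 1 ∧ φ ∈ S) :
    ∃ R', CohSys S' τ R' ∧
      ∀ χ ∈ S', ∀ φ, IsIrrCharacter L φ → classInner χ φ ≠ 0 → R φ ⊆ R' χ := by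
  classical
  let C : (L → ℂ) → Finset (IrrCharacter L) := fun χ => Finset.univ.filter fun φ => classInner χ φ ≠ 0
  have mC : ∀ χ φ, φ ∈ C χ ↔ classInner χ φ ≠ 0 := fun χ φ => by simp [C]
  have mS : ∀ χ ∈ S', ∀ φ ∈ C χ, φ.1 ∈ S := fun χ hχ φ hφ => (hm χ hχ φ φ.2 ((mC _ _).1 hφ)).2
  have com : ∀ χ ∈ S', ∀ χ' ∈ S', ∀ φ, IsIrrCharacter L φ → classInner χ φ ≠ 0 →
      classInner χ' φ ≠ 0 → χ = χ' := fun χ hχ χ' hχ' φ a b c => by
    by_contra e
    exact (h'.char χ hχ).classInner_ne_zero_of_common (h'.char χ' hχ') a b c (ho χ hχ χ' hχ' e)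
  have key : ∀ χ ∈ S', ∀ χ' ∈ S', χ' ≠ conjFun χ → ∀ φ ∈ C χ, ∀ φ' ∈ C χ', φ' ≠ φ →
      ∀ α ∈ R φ', ∀ β ∈ R φ, classInner α β = 0 := fun χ hχ χ' hχ' n φ hφ φ' hφ' n' =>
    h.disj φ (mS χ hχ φ hφ) φ' (mS χ' hχ' φ' hφ') (fun e => n' (Subtype.ext e)) fun e =>
      n (com _ hχ' _ (hc χ hχ) φ' φ'.2 ((mC _ _).1 hφ') (by
        rw [e, conjFun_eq, conjFun_eq, classInner_conj_conj, Ne, classInner_eq_zero_comm]
        exact (mC _ _).1 hφ))
  refine ⟨fun χ => (C χ).biUnion fun φ => R φ, ⟨h', hc, hne, ho, fun χ hχ => ⟨fun α hα => ?_,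
    fun α hα β hβ n => ?_⟩, fun χ hχ => ?_, fun χ hχ χ' hχ' n1 n2 α hα β hβ => ?_⟩,
    fun χ hχ φ a b => Finset.subset_biUnion_of_mem (fun φ : IrrCharacter L => R φ) (x := ⟨φ, a⟩)
      ((mC _ _).2 b)⟩
  · obtain ⟨φ, a, b⟩ := Finset.mem_biUnion.1 hα
    exact (h.on _ (mS χ hχ φ a)).dirr α b
  · obtain ⟨φ, a, b⟩ := Finset.mem_biUnion.1 hα
    obtain ⟨φ', a', b'⟩ := Finset.mem_biUnion.1 hβ
    by_cases e : φ = φ'
    · exact (h.on _ (mS χ hχ φ a)).orth α b β (e ▸ b') n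
    · exact key χ hχ χ hχ (hne χ hχ).symm φ' a' φ a e α b β b'
  · have e : χ = ∑ φ ∈ C χ, φ.1 := by
      conv_lhs => rw [(h'.char χ hχ).isClassFunction.eq_sum]
      rw [Finset.sum_filter]
      refine Finset.sum_congr rfl fun φ _ => ?_
      split_ifs with a
      · rw [(hm χ hχ φ φ.2 a).1, one_smul]
      · rw [not_not.1 a, zero_smul]
    rw [Finset.sum_biUnion fun φ a φ' a' n => Finset.disjoint_left.2 fun α b b' => ?_]
    · conv_lhs => rw [e]
      rw [conjFun_sum, ← Finset.sum_sub_distrib, map_sum]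
      exact Finset.sum_congr rfl fun φ a => h.sum_eq _ (mS χ hχ φ a)
    · have := key χ hχ χ hχ (hne χ hχ).symm φ' a' φ a n α b α b'
      rw [((h.on _ (mS χ hχ φ a)).dirr α b).classInner_self] at this
      exact _root_.one_ne_zero this
  · obtain ⟨φ', a', b'⟩ := Finset.mem_biUnion.1 hα
    obtain ⟨φ, a, b⟩ := Finset.mem_biUnion.1 hβ
    exact key χ hχ χ' hχ' n2 φ a φ' a' (fun e => n1 (com _ hχ' _ hχ φ φ.2
      ((mC _ _).1 (e ▸ a')) ((mC _ _).1 a))) α b' β b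

variable {K : Subgroup L} [hK : K.Normal] [Fintype K] {θ : K → ℂ}

/-- the irreducible characters not containing `K` in their kernel -/
def irrN (K : Subgroup L) : Set (L → ℂ) := {φ | IsIrrCharacter L φ ∧ ¬ K ≤ charKer φ}

theorem mem_irrN_of_over (hθ : IsIrrCharacter K θ) (h1 : θ ≠ fun _ => 1) {φ : L → ℂ}
    (hφ : IsIrrCharacter L φ) (h : classInner (fun n : K => φ n) θ ≠ 0) : φ ∈ irrN K :=
  ⟨hφ, fun e => h1 ((kerOn_self_iff hθ).1 (KerOn.of_under (hφ.isCharacter.res K) hθ h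
    ((kerOn_res_iff hφ.isCharacter le_rfl).2 e)))⟩

theorem exists_under_of_mem_irrN {φ : L → ℂ} (h : φ ∈ irrN K) :
    ∃ θ, IsIrrCharacter K θ ∧ θ ≠ (fun _ => 1) ∧ classInner (fun n : K => φ n) θ ≠ 0 := by
  obtain ⟨θ, a, b⟩ := h.1.exists_irr_under K
  exact ⟨θ, a, fun e => h.2 (h.1.le_charKer_of_over_one (e ▸ b)), b⟩

/-- `K` is a normal Hall subgroup and the elements with fixed points on `K` commute modulo `K`. -/
structure TyI (K : Subgroup L) : Prop where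
  odd : Odd (Nat.card L)
  cop : K.index.Coprime (Nat.card K)
  comm : ∀ x y : L, (∃ k ∈ K, k ≠ 1 ∧ x * k = k * x) → (∃ k ∈ K, k ≠ 1 ∧ y * k = k * y) →
    x * y * x⁻¹ * y⁻¹ ∈ K

namespace TyI
variable (h : TyI K)
include h

theorem inertia_comm (hθ : IsIrrCharacter K θ) (h1 : θ ≠ fun _ => 1) :
    ⁅inertia K θ, inertia K θ⁆ ≤ K := by
  have key : ∀ g ∈ inertia K θ, ∃ c ∈ K, ∃ k ∈ K, k ≠ 1 ∧ c * g * k = k * (c * g) := fun g hg => by
    by_contra n
    refine h1 (eq_one_of_comp_equiv_eq (MulAut.conjNormal g) (fun k hk => ?_) hθ (congrFun hg))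
    by_contra h2
    obtain ⟨c, hc⟩ := isConj_iff.1 hk
    refine n ⟨c, c.2, k, k.2, by simpa using h2, ?_⟩
    have := congrArg Subtype.val hc
    simp only [Subgroup.coe_mul, MulAut.conjNormal_apply, Subgroup.coe_inv] at this
    conv_rhs => rw [← this]
    group
  rw [Subgroup.commutator_le]
  intro g hg g' hg'
  obtain ⟨c, hc, a⟩ := key g hg
  obtain ⟨c', hc', a'⟩ := key g' hg'
  have := h.comm _ _ a a'
  rw [← QuotientGroup.eq_one_iff] at this ⊢
  simpa [commutatorElement_def, (QuotientGroup.eq_one_iff c).2 hc,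
    (QuotientGroup.eq_one_iff c').2 hc'] using this

theorem mult_one (hθ : IsIrrCharacter K θ) (h1 : θ ≠ fun _ => 1) {χ : L → ℂ}
    (hχ : IsIrrCharacter L χ) (h0 : classInner (fun n : K => χ n) θ ≠ 0) :
    classInner (fun n : K => χ n) θ = 1 := by
  have hKT : K ≤ inertia K θ := le_inertia hθ.isClassFunction
  obtain ⟨ψ, hψ, e⟩ := ((isIrr_subgroupOf_iff hKT).2 hθ).exists_ext_of_coprime
    (fun g => funext fun n => congrFun g.2 ⟨_, Subgroup.mem_subgroupOf.1 n.2⟩) (by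
      rw [Nat.card_congr (Subgroup.subgroupOfEquivOfLe hKT).toEquiv]
      exact h.cop.coprime_dvd_left (Subgroup.relIndex_dvd_index_of_le hKT))
  have e' : (fun n : K => ψ ⟨n, hKT n.2⟩) = θ := funext fun n => e ⟨⟨n, hKT n.2⟩, n.2⟩
  obtain ⟨a, b⟩ := hθ.clifford_ind rfl hKT hψ (by rw [e', hθ.classInner_self]; exact one_ne_zero)
  rw [e', hθ.classInner_self] at b
  rw [classInner_eq_of_inertia_comm hθ (h.inertia_comm hθ h1) hχ a h0
    (by rw [b]; exact one_ne_zero), b]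

theorem ind_mult (hθ : IsIrrCharacter K θ) (h1 : θ ≠ fun _ => 1) {φ : L → ℂ}
    (hφ : IsIrrCharacter L φ) (h0 : classInner (fun n : K => φ n) θ ≠ 0) :
    classInner (indFun K θ) φ = 1 := by
  rw [frobenius_left _ _ hφ.isClassFunction, ← conj_classInner, h.mult_one hθ h1 hφ h0, map_one]

/-- (12.2), (12.3) and the orthogonality used in (12.4), (12.5) -/
theorem orth (h1 : IsoOn (irrN K) τ) (h2 : IsoOn (indD K K ⊥) τ) (hY : IsDirr G Y)
    (h0 : ∀ χ ∈ indD K K ⊥, classInner (τ (χ - conjFun χ)) Y = 0) :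
    (∀ φ ∈ irrN K, ∀ φ' ∈ irrN K, φ 1 = φ' 1 → classInner (τ (φ - φ')) Y = 0) ∧
      ∀ χ ∈ indD K K ⊥, ∀ χ' ∈ indD K K ⊥, χ 1 = χ' 1 → classInner (τ (χ - χ')) Y = 0 := by
  obtain ⟨R, sys⟩ := h1.exists_cohSys_irr (fun _ a => a.1) (fun φ a => ⟨a.1.conjFun, fun e =>
    a.2 fun k hk x => (starRingEnd ℂ).injective (e hk x)⟩) fun φ a e => a.2 (by
      rw [a.1.eq_one_of_conj_eq h.odd e]; exact fun _ _ _ => rfl)
  obtain ⟨R', sys', sub⟩ := sys.exists_mf h2 (fun _ => conj_mem_indD)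
    (fun _ => conj_ne_of_mem_indD h.odd) (fun _ a _ b => orth_of_mem_indD a b) (by
      rintro _ ⟨θ, hθ, -, n, rfl⟩ φ hφ e
      rw [frobenius_left _ _ hφ.isClassFunction, Ne, classInner_eq_zero_comm] at e
      have n' : θ ≠ fun _ => 1 := mt (kerOn_self_iff hθ).2 n
      exact ⟨h.ind_mult hθ n' hφ e, mem_irrN_of_over hθ n' hφ e⟩)
  have k' : ∀ χ ∈ indD K K ⊥, ∀ α ∈ R' χ, classInner α Y = 0 := fun χ a α b =>
    (sys'.on χ a).orth_of_sum hY (sys'.sum_eq χ a ▸ h0 χ a) b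
  have k : ∀ φ ∈ irrN K, ∀ α ∈ R φ, classInner α Y = 0 := fun φ a α b => by
    obtain ⟨θ, hθ, n, e⟩ := exists_under_of_mem_irrN a
    have m := ind_mem_indD hθ (kerOn_bot θ) (mt (kerOn_self_iff hθ).1 n)
    exact k' _ m α (sub _ m φ a.1 (by rw [h.ind_mult hθ n a.1 e]; exact one_ne_zero) b)
  exact ⟨fun φ a φ' b e => sys.tau_sub_orth a b e (k _ a) (k _ b),
    fun φ a φ' b e => sys'.tau_sub_orth a b e (k' _ a) (k' _ b)⟩

/-- (12.4) -/
theorem const_coset {F : L → ℂ} (hF : IsClassFunction L F)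
    (h1 : ∀ φ ∈ irrN K, ∀ φ' ∈ irrN K, (∀ k ∈ K, φ k = φ' k) → classInner F φ = classInner F φ')
    {x k : L} (hx : x ∉ K) (hk : k ∈ K) : F (k * x) = F x := by
  classical
  have key : ∀ y, y ∉ K →
      F y = ∑ φ : IrrCharacter L with K ≤ charKer φ.1, classInner F φ * φ.1 y := fun y hy => by
    rw [hF.apply_eq_sum, ← Finset.sum_filter_add_sum_filter_not _ fun φ => K ≤ charKer φ.1,
      add_eq_left]
    refine Finset.sum_cancels_of_partition_cancels
      (Setoid.ker fun φ : IrrCharacter L => fun n : K => φ.1 n) fun φ₀ a => ?_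
    have m₀ : φ₀.1 ∈ irrN K := ⟨φ₀.2, (Finset.mem_filter.1 a).2⟩
    obtain ⟨θ, hθ, n, e⟩ := exists_under_of_mem_irrN m₀
    have z := indFun_normal_of_not_mem θ hy
    rw [(isClassFunction_indFun K θ).apply_eq_sum] at z
    rw [← mul_zero (classInner F φ₀), ← z, Finset.mul_sum, Finset.filter_filter, Finset.sum_filter]
    refine Finset.sum_congr rfl fun φ _ => ?_
    by_cases e' : classInner (fun n : K => φ.1 n) θ = 0
    · rw [if_neg fun c => e (by rw [← show _ = fun n : K => φ₀.1 n from c.2]; exact e'),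
        frobenius_left _ _ φ.2.isClassFunction, classInner_eq_zero_comm.1 e', zero_mul, mul_zero]
    · have r : (fun n : K => φ.1 n) = fun n : K => φ₀.1 n := by
        rw [φ.2.clifford hθ e', φ₀.2.clifford hθ e, h.mult_one hθ n φ.2 e', h.mult_one hθ n φ₀.2 e]
      have m := mem_irrN_of_over hθ n φ.2 e'
      rw [if_pos ⟨m.2, r⟩, h.ind_mult hθ n φ.2 e', one_mul,
        h1 _ m _ m₀ fun k hk => congrFun r ⟨k, hk⟩]
  rw [key x hx, key _ (mt (K.mul_mem_cancel_left hk).1 hx)]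
  exact Finset.sum_congr rfl fun φ a => by rw [(Finset.mem_filter.1 a).2 hk x]

end TyI

theorem exists_linear_ne {x : L} (hx : x ∉ commutator L) :
    ∃ μ, IsIrrCharacter L μ ∧ μ 1 = 1 ∧ μ x ≠ 1 := by
  obtain ⟨χ, a, b⟩ := exists_irr_apply_ne (mt (QuotientGroup.eq_one_iff x).1 hx)
  have c := a.apply_one_of_comm fun u v => mul_comm (G := Abelianization L) u v
  exact ⟨_, a.inflate, c, c ▸ b⟩

/-- (12.5) -/
theorem exists_int_off_commutator {F : L → ℂ} (hF : IsGeneralizedCharacter L F)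
    (h : ∀ θ θ', IsIrrCharacter L θ → IsIrrCharacter L θ' → θ ≠ (fun _ => 1) → θ' ≠ (fun _ => 1) →
      θ 1 = θ' 1 → classInner F θ = classInner F θ') :
    ∃ c : ℤ, ∀ x, x ∉ commutator L → F x = c := by
  by_cases hx : ∃ x, x ∉ commutator L
  swap
  · exact ⟨0, fun x a => (hx ⟨x, a⟩).elim⟩
  obtain ⟨x₀, h₀⟩ := hx
  obtain ⟨μ, m1, m2, m3⟩ := exists_linear_ne h₀
  have m4 : μ ≠ fun _ => 1 := fun e => m3 (congrFun e x₀)
  obtain ⟨a, ha⟩ := hF.classInner_eq_int isIrrCharacter_one.isGen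
  obtain ⟨b, hb⟩ := hF.classInner_eq_int m1.isGen
  set F' := F - ((a - b : ℤ) : ℂ) • fun _ => (1 : ℂ) with hF'
  have cF : IsClassFunction L F' := hF.isClassFunction.sub ((IsClassFunction.const 1).smul _)
  have k1 : ∀ θ, IsIrrCharacter L θ → θ ≠ (fun _ => 1) → classInner F' θ = classInner F θ :=
    fun θ c d => by rw [hF', classInner_sub_left, classInner_smul_left,
      isIrrCharacter_one.classInner_of_ne c d.symm, mul_zero, sub_zero]
  have k2 : ∀ θ, IsIrrCharacter L θ → θ 1 = 1 → classInner F' θ = b := fun θ c d => by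
    by_cases e : θ = fun _ => 1
    · rw [e, hF', classInner_sub_left, classInner_smul_left, isIrrCharacter_one.classInner_self, ha]
      push_cast; ring
    · rw [k1 θ c e, h θ μ c m1 e m4 (d.trans m2.symm), hb]
  refine ⟨a - b, fun x hx => ?_⟩
  obtain ⟨l, l1, l2, l3⟩ := exists_linear_ne hx
  have e : F' * l = F' := (cF.mul l1.isClassFunction).ext_classInner cF fun θ c => by
    have d := c.mul_linear l1.isCharacter.conj (by simp [l2])
    have d1 : ((fun g => conj (l g)) * θ) 1 = θ 1 := by simp [l2]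
    rw [classInner_mul_left]
    by_cases e : θ 1 = 1
    · rw [k2 _ d (d1.trans e), k2 _ c e]
    · have n : θ ≠ fun _ => 1 := fun z => e (congrFun z 1)
      have n' : (fun g => conj (l g)) * θ ≠ fun _ => 1 := fun z => e (d1.symm.trans (congrFun z 1))
      rw [k1 _ d n', k1 _ c n, h _ _ d c n' n d1]
  have := congrFun e x
  rw [Pi.mul_apply, ← sub_eq_zero, ← mul_sub_one, mul_eq_zero, sub_eq_zero, or_iff_left l3] at this
  simpa [hF', sub_eq_zero] using this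

end Cfsg.Agent.Char
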