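import Cfsg.Agent.Lib.Char.Sec10

/-!
Peterfalvi's (13.5) - (13.9): values of virtual characters on a normal abelian TI-subgroup.
-/

set_option autoImplicit false
set_option linter.unusedSectionVars false

namespace Cfsg.Agent.Char

open scoped ComplexConjugate

section split
variable {L : Type*} [Group L] [Fintype L]

theorem nrm_res (H : Subgroup L) [Fintype H] {S : Set L} (hS : ∀ x ∈ S, x ∈ H) (ψ : L → ℂ) :
    Nat.card L * nrm S ψ = Nat.card H * nrm {x : H | (x : L) ∈ S} fun x => ψ x := by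
  classical
  rw [nrm, nrm, mul_inv_cancel_left₀ (Nat.cast_ne_zero.2 Nat.card_pos.ne'),
    mul_inv_cancel_left₀ (Nat.cast_ne_zero.2 Nat.card_pos.ne'),
    ← Finset.sum_subset (Finset.subset_univ (Finset.univ.filter (· ∈ H))) fun x _ hx =>
      Set.indicator_of_notMem (fun k => hx (by simpa using hS x k)) _,
    Finset.sum_subtype (p := (· ∈ H)) _ (by simp)]
  exact Finset.sum_congr rfl fun x _ => by simp [Set.indicator_apply]

theorem nrm_one_le_of_ne {χ : L → ℂ} (hχ : IsGeneralizedCharacter L χ) {X : Set L}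
    (hX : ∀ k : ℕ, k.Coprime (Nat.card L) → ∀ x, x ^ k ∈ X ↔ x ∈ X) (h0 : ∀ x ∈ X, χ x ≠ 0) :
    nrm X (fun _ => 1) ≤ nrm X χ := by
  classical
  have h := card_le_sum_norm_sq (fun g : X => χ g) (fun g => hχ.isIntegral g) (fun g => h0 g g.2)
    fun σ => by
      obtain ⟨k, hk, hσ⟩ := exists_pow_of_ringHom_char L σ.toRingHom
      exact ⟨(powCoprime hk.symm).subtypeEquiv fun g => (hX k hk g).symm, fun g => hσ χ hχ g⟩
  rw [nrm_eq, nrm_eq, Finset.sum_subtype (F := inferInstance) (p := (· ∈ X)) _ (by simp),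
    Finset.sum_subtype (F := inferInstance) (p := (· ∈ X)) _ (by simp)]
  exact mul_le_mul_of_nonneg_left (by simpa using h) (by positivity)

theorem nrm_one_le_add {χ ψ : L → ℂ} (hχ : IsGeneralizedCharacter L χ) (hψ : IsGeneralizedCharacter L ψ)
    {X : Set L} (hX : ∀ k : ℕ, k.Coprime (Nat.card L) → ∀ x, x ^ k ∈ X ↔ x ∈ X)
    (h0 : ∀ x ∈ X, χ x = 0 → ψ x ≠ 0) : nrm X (fun _ => 1) ≤ nrm X χ + nrm X ψ := by
  have k : ∀ k : ℕ, k.Coprime (Nat.card L) → ∀ x, χ (x ^ k) = 0 ↔ χ x = 0 := fun k hk x => by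
    obtain ⟨σ, hσ⟩ := exists_ringEquiv_char_pow L hk
    rw [← hσ χ hχ, map_eq_zero]
  rw [← Set.sdiff_union_inter X {x | χ x = 0}, nrm_union Set.disjoint_sdiff_inter,
    Set.sdiff_union_inter]
  exact add_le_add ((nrm_one_le_of_ne hχ (fun n hn x => and_congr (hX n hn x) (k n hn x).not)
    fun x hx => hx.2).trans (nrm_mono Set.sdiff_subset _)) ((nrm_one_le_of_ne hψ
      (fun n hn x => and_congr (hX n hn x) (k n hn x)) fun x hx => h0 x hx.1 hx.2).trans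
      (nrm_mono Set.inter_subset_left _))

variable {K H P : Subgroup L}

theorem indD_subset_span [P.Normal] (hPH : P ≤ H) (hHK : H ≤ K) {φ : L → ℂ} (h : φ ∈ indD H P ⊥) :
    φ ∈ Submodule.span ℤ (indD K P ⊥) := by
  classical
  obtain ⟨θ, h1, -, h2, rfl⟩ := h
  have := Fintype.ofFinite K
  have := Fintype.ofFinite H
  obtain ⟨c, a, b⟩ := ((h1.comp_equiv (Subgroup.subgroupOfEquivOfLe hHK)).isCharacter.ind).exists_coeff
  rw [← indFun_trans hHK]
  erw [b]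
  rw [indFun_sum]
  refine Submodule.sum_mem _ fun χ _ => ?_
  rw [indFun_smul, Nat.cast_smul_eq_nsmul]
  by_cases e : c χ = 0
  · simp [e]
  refine nsmul_mem (Submodule.subset_span (ind_mem_indD χ.2 (kerOn_bot _) fun k => h2 ?_)) _
  refine KerOn.of_under (χ.2.isCharacter.res_le hHK) h1 ?_ fun x hx => k ⟨x, hHK x.2⟩ hx
  rw [Ne, classInner_eq_zero_comm, ← frobenius_subgroupOf hHK θ χ.2.isClassFunction]
  erw [a]
  exact Nat.cast_ne_zero.2 e

theorem deg_of_comm (ab : ∀ a b : H, a * b = b * a) {φ : L → ℂ} (h : φ ∈ indD H P ⊥) :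
    φ 1 = H.index := by
  obtain ⟨θ, h1, -, -, rfl⟩ := h
  rw [indFun_one, h1.apply_one_of_comm ab, mul_one]

theorem mem_indD_of_indLin [P.Normal] (hPH : P ≤ H) (hPK : P ≤ K) [K.Normal] {M : Subgroup L} {φ : L → ℂ}
    (h : φ ∈ indD K P M) (h1 : IndLin H φ) : φ ∈ indD H P ⊥ := by
  obtain ⟨ω, rfl⟩ := h1
  exact ind_mem_indD (isIrr_lc ω) (kerOn_bot _) fun k =>
    not_le_charKer_of_mem_indD hPK h ((kerOn_iff_ind (isIrr_lc ω) hPH).1 k)

/-- Peterfalvi 13.5. -/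
theorem split5 [H.Normal] [P.Normal] (hPH : P ≤ H) (ab : ∀ a b : H, a * b = b * a)
    {ψ ζ : L → ℂ} (hψ : IsGeneralizedCharacter L ψ) (hζ : ζ ∈ indD H P ⊥) {c : ℝ} {b : ℤ}
    (h : ∀ φ ∈ indD H P ⊥, classInner ψ φ = b + c * classInner ζ φ) :
    ∃ n m : ℤ, (∀ y ∈ P, y ≠ 1 → ψ y = c * ζ y + n) ∧ |n| ≤ m ∧
      (Nat.card P : ℝ) * n ^ 2 ≤ Nat.card H * m ∧ Nat.card L * nrm {x | x ∈ H ∧ x ≠ 1} ψ =
        c ^ 2 * (Nat.card L * rip ζ ζ) + Nat.card H * m - (c * H.index + n) ^ 2 := by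
  classical
  have := Fintype.ofFinite H
  have cζ := (isCharacter_of_mem_indD hζ).isClassFunction
  obtain ⟨α, hα⟩ : ∃ α : H → ℂ, α = (fun x : H => ψ x) - (c : ℂ) • (fun x : H => ζ x) -
    (b : ℂ) • regChar H := ⟨_, rfl⟩
  have o : ∀ ω : H →* ℂˣ, KerOn P (lc ω) → classInner (fun x : H => ζ x) (lc ω) = 0 := fun ω k => by
    rw [← frobenius_right H _ cζ]
    obtain ⟨θ, h1, -, h2, rfl⟩ := id hζ
    exact orth_ind h1 (isIrr_lc ω) fun e => ((ind_mem_indD_iff (isIrr_lc ω)).1 (e ▸ hζ)).2 k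
  have key : ∀ ω : H →* ℂˣ, ∃ k : ℤ, classInner α (lc ω) = k ∧ (k ≠ 0 → KerOn P (lc ω)) := fun ω => by
    rw [hα, classInner_sub_left, classInner_sub_left, classInner_smul_left, classInner_smul_left,
      classInner_regChar_left]
    by_cases e : KerOn P (lc ω)
    · obtain ⟨k, hk⟩ := (hψ.res H).classInner_eq_int (isIrr_lc ω).isGen
      exact ⟨k - b, by rw [hk, o ω e]; simp, fun _ => e⟩
    · refine ⟨0, ?_, fun k => absurd rfl k⟩
      rw [← frobenius_right H _ cζ, ← frobenius_right H _ hψ.isClassFunction,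
        h _ (ind_mem_indD (isIrr_lc ω) (kerOn_bot _) e)]
      simp
  choose k hk hk' using key
  have e1 := eq_sum_lc ab α
  have e2 := rip_eq_sum_lc ab α
  simp only [hk, Complex.norm_intCast, sq_abs] at e1 e2
  have e3 : ∀ y : H, (y : L) ∈ P → α y = (∑ ω, k ω : ℤ) := fun y hy => by
    rw [e1, Finset.sum_apply, Int.cast_sum]
    refine Finset.sum_congr rfl fun ω _ => ?_
    by_cases e : k ω = 0
    · simp [e]
    · rw [Pi.smul_apply, hk' ω e y hy]; simp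
  have e4 : rip (fun x : H => ζ x) α = 0 := by
    rw [e1, rip_sum_right]
    refine Finset.sum_eq_zero fun ω _ => ?_
    by_cases e : k ω = 0
    · simp [e]
    · rw [rip_intCast_smul_right, rip_eq_zero (o ω (hk' ω e)), mul_zero]
  have e5 : ∀ y : H, y ≠ 1 → ψ y = ((c : ℂ) • (fun x : H => ζ x) + α) y := fun y hy => by
    simp [hα, regChar_of_ne hy]
  have hH : (0 : ℝ) < Nat.card H := Nat.cast_pos.2 Nat.card_pos
  refine ⟨∑ ω, k ω, ∑ ω, k ω ^ 2, fun y hy y1 => ?_, (Finset.abs_sum_le_sum_abs _ _).trans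
    (Finset.sum_le_sum fun ω _ => by rw [← sq_abs]; exact Int.le_self_sq _), ?_, ?_⟩
  · rw [← e3 ⟨y, hPH hy⟩ hy]; exact e5 ⟨y, hPH hy⟩ (by simpa using y1)
  · have := nrm_le_rip (P.subgroupOf H : Set H) α
    rw [nrm_of_eq (S := (P.subgroupOf H : Set H)) (c := (∑ ω, k ω : ℤ)) e3, e2, Complex.norm_intCast, sq_abs, ← Nat.card_coe_set_eq,
      SetLike.coe_sort_coe, Nat.card_congr (Subgroup.subgroupOfEquivOfLe hPH).toEquiv, ← mul_div_assoc,
      div_le_iff₀ hH] at this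
    push_cast at this ⊢
    linarith
  · have a1 := nrm_add_compl {1} ((c : ℂ) • (fun x : H => ζ x) + α)
    have a2 := nrm_res H (S := H) (fun _ h => h) ζ
    rw [← rip_eq_nrm fun g => eq_zero_of_mem_indD hζ, show {x : H | (x : L) ∈ (H : Set L)} = Set.univ by
      simp, nrm_univ] at a2
    rw [nrm_singleton, Pi.add_apply, e3 1 (one_mem _), Pi.smul_apply, OneMemClass.coe_one,
      deg_of_comm ab hζ, smul_eq_mul, ← Complex.ofReal_natCast, ← Complex.ofReal_intCast,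
      ← Complex.ofReal_mul, ← Complex.ofReal_add, Complex.norm_real, Real.norm_eq_abs, sq_abs] at a1
    simp only [rip_add_left, rip_add_right, rip_real_smul_left, rip_real_smul_right, e4,
      rip_comm α fun x : H => ζ x, e2] at a1
    rw [nrm_res H (fun _ h => h.1), show {x : H | (x : L) ∈ {x | x ∈ H ∧ x ≠ 1}} = {1}ᶜ by ext; simp,
      nrm_congr (S := {1}ᶜ) e5, a2, eq_sub_of_add_eq' a1]
    push_cast
    field_simp
    ring

end split

variable {G : Type*} [Group G] [Fintype G] {A : Type*} [Group A] {B : Type*} [Group B] [Finite A]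

/-- The character theory of one member of the pair in Section 13; `H = P C`. -/
structure P13 {L : Subgroup G} [Fintype L] (K P H : Subgroup L) (f : A × B →* L)
    (μ : (A →* ℂˣ) → (B →* ℂˣ) → L → ℂ) (δ : (B →* ℂˣ) → ℤ) (g : A × B →* G)
    (η : (A →* ℂˣ) → (B →* ℂˣ) → G → ℂ) (S₀ : Set L) (τ ν : (L → ℂ) →ₗ[ℂ] (G → ℂ))
    (R : (L → ℂ) → Finset (G → ℂ)) (u : ℕ) : Prop extends PDade K P f μ δ g η S₀ τ where
  hg : ∀ w, g w = f w
  sys : CohSys (indD K P ⊥) τ R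
  red : RedR K μ δ η R
  coh : CohWith (indD K P ⊥) τ ν
  col : ∀ j, j ≠ 1 → ∃ (e : ℤ) (k : B →* ℂˣ), (e = 1 ∨ e = -1) ∧ k ≠ 1 ∧
    ν (pmu K μ j) = (e : ℂ) • ecol η k
  normal : H.Normal
  PH : P ≤ H
  le : H ≤ K
  ab : ∀ a b : H, a * b = b * a
  tau : ∀ α, IsClassFunction L α → (∀ x, x ∉ H → α x = 0) → α 1 = 0 → τ α = indFun L α
  primeA : (Nat.card A).Prime
  idx : H.relIndex K = u
  two : 2 * u + 1 ≤ Nat.card P
  mu : ∀ j, j ≠ 1 → pmu K μ j ∈ indD H P ⊥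

/-- (13.3.c) -/
theorem PDade.exists_col {L : Type*} [Group L] [Fintype L] {K P : Subgroup L} {f : A × B →* L}
    {μ δ} {g : A × B →* G} {η S₀ τ R} (h : PDade K P f μ δ g η S₀ τ)
    (hS : CohSys (indD K P ⊥) τ R) (hR : RedR K μ δ η R) (hc : Coh (indD K P ⊥) τ)
    (hd : ∀ j k, j ≠ 1 → k ≠ 1 → μ 1 j 1 = μ 1 k 1) : ∃ ν, CohWith (indD K P ⊥) τ ν ∧
      ∀ j, j ≠ 1 → ∃ (e : ℤ) (k : B →* ℂˣ), (e = 1 ∨ e = -1) ∧ k ≠ 1 ∧
        ν (pmu K μ j) = (e : ℂ) • ecol η k := by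
  by_cases c : ∃ ζ ∈ indD K P ⊥, IsIrrCharacter L ζ
  · obtain ⟨ζ, a, b⟩ := c
    obtain ⟨ν, hν⟩ := hc
    refine ⟨ν, hν, fun j hj => ?_⟩
    rcases h.coh_pmu hS hR subset_rfl hS.conjSub hν a b (h.pmu_mem hj) with e | ⟨e, -⟩
    · exact ⟨_, j, h.fam.sign j, hj, e⟩
    · exact ⟨-δ j, j⁻¹, by have := h.fam.sign j; omega, lc_inv_ne_one hj, by simp [e]⟩
  · obtain ⟨k, hk⟩ := h.cyc.ti.exists_ne_oneB
    obtain ⟨ν, a, b⟩ := h.exists_cohWith_pmu hk
    refine ⟨ν, a.mono fun φ hφ => ?_, fun j hj => ⟨_, j, h.fam.sign k, hj, b j hj (hd j k hj hk)⟩⟩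
    obtain ⟨j, hj, e⟩ := (h.irr_or hφ).resolve_left fun e => c ⟨φ, hφ, e⟩
    exact ⟨j, hj, hd j k hj hk, e⟩

namespace P13
variable {L : Subgroup G} [Fintype L] {K P H : Subgroup L} {f : A × B →* L}
  {μ : (A →* ℂˣ) → (B →* ℂˣ) → L → ℂ} {δ : (B →* ℂˣ) → ℤ} {g : A × B →* G}
  {η : (A →* ℂˣ) → (B →* ℂˣ) → G → ℂ} {S₀ : Set L} {τ ν : (L → ℂ) →ₗ[ℂ] (G → ℂ)}
  {R : (L → ℂ) → Finset (G → ℂ)} {u : ℕ} (h : P13 K P H f μ δ g η S₀ τ ν R u)
  {χ : G → ℂ} {ζ φ : L → ℂ}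
include h

theorem index : H.index = u * Nat.card A := by
  rw [← h.idx, ← h.fam.pti.index, Subgroup.relIndex_mul_index h.le]

theorem span (hφ : φ ∈ indD H P ⊥) : φ ∈ Submodule.span ℤ (indD K P ⊥) :=
  have := h.normalH
  indD_subset_span h.PH h.le hφ

theorem nu_sub (hφ : φ ∈ indD H P ⊥) (hζ : ζ ∈ indD H P ⊥) : ν φ - ν ζ = indFun L (φ - ζ) := by
  have := h.normal
  have e := (deg_of_comm h.ab hφ).trans (deg_of_comm h.ab hζ).symm
  rw [← h.coh.ext.sub e, h.tau _ ((isCharacter_of_mem_indD hφ).isClassFunction.sub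
    (isCharacter_of_mem_indD hζ).isClassFunction) (fun x hx => by
      simp [eq_zero_of_mem_indD hφ hx, eq_zero_of_mem_indD hζ hx]) (by simp [e])]

theorem split (hχ : IsGeneralizedCharacter G χ) (hζ : ζ ∈ indD H P ⊥) {c : ℝ}
    (e : ∀ φ ∈ indD K P ⊥, classInner (ν φ) χ = c * classInner φ ζ) :
    ∃ n m : ℤ, (∀ y ∈ P, y ≠ 1 → χ y = c * ζ y + n) ∧ |n| ≤ m ∧
      (Nat.card P : ℝ) * n ^ 2 ≤ Nat.card H * m ∧
      Nat.card L * nrm {x | x ∈ H ∧ x ≠ 1} (fun x : L => χ x) =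
        c ^ 2 * (Nat.card L * rip ζ ζ) + Nat.card H * m - (c * (u * Nat.card A) + n) ^ 2 := by
  have := h.normal
  have := h.normalH
  obtain ⟨a, ha⟩ := (hχ.res L).classInner_eq_int (isCharacter_of_mem_indD hζ).isGen
  obtain ⟨b, hb⟩ := hχ.classInner_eq_int (h.coh.gen_span (h.span hζ))
  have := split5 h.PH h.ab (hχ.res L) hζ (c := c) (b := a - b) fun φ hφ => by
    have k : classInner (ν φ) χ = c * classInner φ ζ := by
      refine Submodule.span_induction (p := fun φ _ => classInner (ν φ) χ = c * classInner φ ζ) e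
        (by simp) (fun x y _ _ a b => ?_) (fun n x _ a => ?_) (h.span hφ)
      · rw [map_add, classInner_add_left, classInner_add_left, a, b, mul_add]
      · rw [map_zsmul, classInner_zsmul_left, classInner_zsmul_left, a, mul_left_comm]
    have k1 := frobenius_right L (φ - ζ) hχ.isClassFunction
    rw [← h.nu_sub hφ hζ, classInner_sub_right, classInner_sub_right, ha, hb, ← conj_classInner (ν φ),
      k, map_mul, conj_classInner, Complex.conj_ofReal] at k1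
    push_cast
    linear_combination -k1
  rwa [h.index, Nat.cast_mul] at this

theorem dvd_of {ψ : L → ℂ} (hψ : IsGeneralizedCharacter L ψ) {n : ℤ}
    (h1 : ∀ a b, a ≠ 1 → b ≠ 1 → ψ (f (a, b)) = 0) (h2 : ∀ y ∈ P, y ≠ 1 → ψ y = n) :
    (Nat.card A : ℤ) ∣ n := by
  obtain ⟨a, ha⟩ := h.fam.pti.exists_ne_one
  have := h.fam.pti.finiteB
  obtain ⟨b, hb⟩ := @exists_ne _ (Finite.one_lt_card_iff_nontrivial.1 h.fam.pti.ntB) (1 : B)
  refine (Int.dvd_neg).1 (hψ.prime_dvd_of_sub_eq (k := 1) h.primeA (x := f (a, 1)) (y := f (1, b))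
    (by rw [Commute, SemiconjBy, ← map_mul, ← map_mul]; simp) (by
      rw [← map_pow, pow_one]; simp [← Prod.one_eq_mk]) ?_)
  rw [← map_mul, Prod.mk_mul_mk, mul_one, one_mul, h1 a b ha hb, h2 _ (h.BH b) fun e =>
    hb (congrArg Prod.snd ((injective_iff_map_eq_one f).1 h.fam.pti.inj _ e))]
  simp

theorem two' : (2 * u + 1 : ℝ) ≤ Nat.card P := by exact_mod_cast h.two

/-- Peterfalvi 13.6. -/
theorem le_nrm_irr (h1 : ζ ∈ indD K P ⊥) (hζ : ζ ∈ indD H P ⊥) (hi : IsIrrCharacter L ζ) :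
    (Nat.card L : ℝ) - (u * Nat.card A) ^ 2 ≤
      Nat.card L * nrm {x | x ∈ H ∧ x ≠ 1} fun x : L => ν ζ x := by
  have := h.normalK
  obtain ⟨n, m, a1, -, a3, a4⟩ := h.split (h.coh.gen ζ h1) hζ (c := 1) fun φ hφ => by
    rw [h.coh.iso φ hφ ζ h1]; simp
  obtain ⟨t, rfl⟩ := h.dvd_of (((h.coh.gen ζ h1).res L).sub hi.isGen) (n := n) (fun a b ha hb => by
    rw [Pi.sub_apply, ← h.hg, h.coh_apply_V h.sys subset_rfl h.sys.conjSub h.coh h1 hi
      (Submodule.subset_span h1) ha hb, eq_zero_of_mem_indD h1 (mt (h.fam.pti.memK a b).1 ha), sub_zero])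
    fun y hy y1 => by simp [a1 y hy y1]
  rw [a4, hi.rip_self]
  have := h.two'
  have := int_le_sq t
  push_cast at a3 ⊢
  have k : (0 : ℝ) ≤ (Nat.card A : ℝ) ^ 2 := sq_nonneg _
  nlinarith [mul_nonneg k (mul_nonneg (sub_nonneg.2 h.two') (sq_nonneg (t : ℝ))),
    mul_nonneg k (mul_nonneg (Nat.cast_nonneg (α := ℝ) u) (sub_nonneg.2 this))]

theorem orth_row (hφ : φ ∈ indD K P ⊥) (i : A →* ℂˣ) : classInner (ν φ) (η i 1) = 0 := by
  rcases h.irr_or hφ with e | ⟨j, hj, rfl⟩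
  · exact h.coh_orth h.sys subset_rfl h.sys.conjSub h.coh hφ e i 1
  · obtain ⟨e, k, -, a, b⟩ := h.col j hj
    rw [b, classInner_smul_left, h.cyc.classInner_ecol_eta, if_neg a, mul_zero]

/-- Peterfalvi 13.7. -/
theorem le_nrm_row (i : A →* ℂˣ) :
    (Nat.card H : ℝ) - 1 ≤ Nat.card L * nrm {x | x ∈ H ∧ x ≠ 1} fun x : L => η i 1 x := by
  obtain ⟨j, hj⟩ := h.cyc.ti.exists_ne_oneB
  obtain ⟨n, m, a1, a2, a3, a4⟩ := h.split (h.cyc.isGen i 1) (h.mu j hj) (c := 0) fun φ hφ => by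
    rw [h.orth_row hφ]; simp
  have d := h.dvd_of (((h.cyc.isGen i 1).res L).sub (h.fam.isGen i 1)) (n := n - 1) (fun a b ha hb => by
    rw [Pi.sub_apply, ← h.hg, h.cyc.eq_on i 1 a b ha hb, h.fam.eq_on i 1 a b ha, h.fam.delta_one]; simp)
    fun y hy y1 => by simp [a1 y hy y1, h.fam.mu_of_mem i 1 (h.HK hy), h.fam.mu_one_one]
  have n0 : n ≠ 0 := by
    rintro rfl
    exact h.primeA.one_lt.ne' (by simpa using Int.natAbs_dvd_natAbs.2 d)
  have p2 : (2 : ℝ) ≤ Nat.card P := by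
    have := h.fam.pti.finiteB
    obtain ⟨b, hb⟩ := @exists_ne _ (Finite.one_lt_card_iff_nontrivial.1 h.fam.pti.ntB) (1 : B)
    exact_mod_cast (Subgroup.one_lt_card_iff_ne_bot P).2 fun e => hb (congrArg Prod.snd
      ((injective_iff_map_eq_one f).1 h.fam.pti.inj _ (Subgroup.mem_bot.1 (e ▸ h.BH b))))
  have hH : (0 : ℝ) < Nat.card H := Nat.cast_pos.2 Nat.card_pos
  rw [a4]
  have := abs_pos.2 n0
  rcases (show m = 1 ∨ 2 ≤ m by omega) with rfl | e
  · have : (n : ℝ) ^ 2 ≤ 1 := by exact_mod_cast (sq_le_one_iff_abs_le_one n).2 a2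
    simp; linarith
  · have : (2 : ℝ) ≤ m := by exact_mod_cast e
    nlinarith [mul_nonneg (sub_nonneg.2 p2) (sq_nonneg (n : ℝ)), mul_nonneg hH.le (sub_nonneg.2 this)]

/-- Peterfalvi 13.8. -/
theorem le_nrm_col : ∃ k, k ≠ 1 ∧
    (Nat.card K : ℝ) - u ^ 2 ≤ Nat.card L * nrm {x | x ∈ H ∧ x ≠ 1} fun x : L => η 1 k x := by
  obtain ⟨j, hj⟩ := h.cyc.ti.exists_ne_oneB
  obtain ⟨e, k, he, hk, b⟩ := h.col j hj
  have q0 : (Nat.card A : ℝ) ≠ 0 := Nat.cast_ne_zero.2 h.primeA.ne_zero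
  have q1 : (Nat.card A : ℂ) ≠ 0 := Nat.cast_ne_zero.2 h.primeA.ne_zero
  have := h.normalK
  obtain ⟨n, m, -, -, a3, a4⟩ := h.split (h.cyc.isGen 1 k) (h.mu j hj) (c := e / Nat.card A)
    fun φ hφ => by
      rcases h.irr_or hφ with c | ⟨l, hl, rfl⟩
      · rw [h.coh_orth h.sys subset_rfl h.sys.conjSub h.coh hφ c, orth_of_mem_indD hφ (h.pmu_mem hj)
          fun a => h.fam.not_isIrr_pmu j (a ▸ c), mul_zero]
      rw [h.fam.classInner_pmu]
      split_ifs with c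
      · rw [c, b, classInner_smul_left, h.cyc.classInner_ecol_eta, if_pos rfl]
        push_cast; field_simp
      obtain ⟨e', k', he', -, b'⟩ := h.col l hl
      have i := h.coh.iso _ hφ _ (h.pmu_mem hj)
      rw [h.fam.classInner_pmu, if_neg c, b, b', classInner_smul_left, classInner_smul_right,
        h.cyc.classInner_ecol] at i
      rw [b', classInner_smul_left, h.cyc.classInner_ecol_eta, if_neg, mul_zero, mul_zero]
      rintro rfl
      rcases he with rfl | rfl <;> rcases he' with rfl | rfl <;> simp [q1] at i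
  refine ⟨k, hk, ?_⟩
  rw [a4, h.fam.rip_pmu, if_pos rfl, ← K.index_mul_card, h.fam.pti.index,
    show (e / Nat.card A * (u * Nat.card A) : ℝ) = e * u by field_simp, Nat.cast_mul,
    show ((e / Nat.card A) ^ 2 * (Nat.card A * Nat.card K * Nat.card A) : ℝ) = e ^ 2 * Nat.card K by
      field_simp]
  have a := mul_nonneg (sub_nonneg.2 h.two') (sq_nonneg (n : ℝ))
  have c := mul_nonneg (Nat.cast_nonneg (α := ℝ) u) (sub_nonneg.2 (int_le_sq (e * n)))
  rcases he with rfl | rfl <;> push_cast at * <;> nlinarith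

/-- Peterfalvi 13.9 (a). -/
theorem eta_ne_zero (hζ : ζ ∈ indD H P ⊥) {i : A →* ℂˣ} (hi : i ≠ 1) {x : G}
    (hx : ∀ y : G, ∀ z ∈ H, y * x * y⁻¹ = z → z = 1) (h0 : ν ζ x = 0) : η i 1 x ≠ 0 := fun h1 => by
  classical
  have := h.normal
  obtain ⟨j, hj⟩ := h.cyc.ti.exists_ne_oneB
  obtain ⟨e, k, he, hk, b⟩ := h.col j hj
  have a1 : ecol η k x = 0 := by
    have := congrFun (h.nu_sub (h.mu j hj) hζ) x
    rw [indFun_eq_zero L _ x fun y hy => ?_, Pi.sub_apply, h0, b] at this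
    · rcases he with rfl | rfl <;> simpa using this
    by_cases c : (⟨_, hy⟩ : L) ∈ H
    · rw [hx y _ c rfl, Pi.sub_apply, deg_of_comm h.ab hζ, deg_of_comm h.ab (h.mu j hj), sub_self]
    · rw [Pi.sub_apply, eq_zero_of_mem_indD hζ c, eq_zero_of_mem_indD (h.mu j hj) c, sub_self]
  have a2 : ∀ l, l ≠ 1 → η l 1 x = 0 := fun l hl => by
    obtain ⟨σ, rfl⟩ := exists_autLc_eq h.primeA hi hl
    rw [← autLc_eq_one.2 (rfl : (1 : B →* ℂˣ) = 1), h.cyc.map]
    simp [h1]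
  have a3 : ∀ l, 1 - η l 1 x - η 1 k x + η l k x = 0 := fun l => by
    refine (congrFun (h.cyc.ind_alpha l k) x).symm.trans
      (indHom_eq_zero h.cyc.ti.inj _ fun y w e => by_contra fun c => ?_)
    obtain ⟨c1, c2⟩ := supp_alpha l k w.1 w.2 c
    rw [← (h.cyc.isClassFunction i 1).apply_conj x y, e, h.cyc.eq_on i 1 _ _ c1 c2] at h1
    simp at h1
  have a4 := Finset.sum_eq_zero (s := Finset.univ) fun l _ => a3 l
  rw [ecol, Finset.sum_apply] at a1
  rw [Finset.sum_add_distrib, a1, Finset.sum_sub_distrib, Finset.sum_sub_distrib,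
    Finset.sum_eq_single 1 (fun l _ => a2 l) (by simp), h.cyc.one] at a4
  simp only [Finset.sum_const, Finset.card_univ, h.cyc.card_lcA, nsmul_eq_mul] at a4
  have q2 := h.primeA.two_le
  have := Nat.le_of_dvd (by omega) (nat_dvd_of_isIntegral_div (a := Nat.card A - 1) h.primeA.ne_zero (by
    convert (h.cyc.isGen 1 k).isIntegral x
    rw [div_eq_iff (Nat.cast_ne_zero.2 h.primeA.ne_zero), Nat.cast_pred h.primeA.pos]
    linear_combination a4))
  omega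

end P13

end Cfsg.Agent.Char
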