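import Cfsg.Agent.Lib.Char.Sec10

/-!
The character theory of Peterfalvi (13.18), (13.19) and of Section 14, in abstract form.
-/

set_option autoImplicit false

namespace Cfsg.Agent.Char

open scoped ComplexConjugate

variable {L : Type*} [Group L] {G : Type*} [Group G] {A : Type*} [Group A] {B : Type*} [Group B]
  [Fintype G]

/-- The conclusions of (13.18): `X - η 1 j` is `β_j^τ`. -/
structure Beta (η : (A →* ℂˣ) → (B →* ℂˣ) → G → ℂ) (X : G → ℂ) (r : ℝ) (Z : Set G) : Prop where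
  gen : IsGeneralizedCharacter G X
  real : conjFun X = X
  one : rip X (fun _ => 1) = 1
  supp : ∀ j, j ≠ 1 → ∀ x, x ∉ Z → (X - η 1 j) x = 0
  norm : ∀ j, j ≠ 1 → rip (X - η 1 j) (X - η 1 j) = r + 2

theorem lc_pow_eq_one (ω : A →* ℂˣ) {n : ℕ} (h : Nat.card A ∣ n) : ω ^ n = 1 := by
  obtain ⟨c, rfl⟩ := h
  ext a
  simp [pow_mul, ← map_pow]

theorem exists_even_sum_of_inv {ι : Type*} [Fintype ι] (s : ι → ι) (hs : ∀ i, s (s i) = i) (o : ι)
    (h1 : ∀ i, s i = i ↔ i = o) (c : ι → ℤ) (hc : ∀ i, Even (c i + c (s i))) :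
    ∃ m : ℤ, ∑ i, c i = c o + 2 * m := by
  classical
  have h3 : ((∑ i ∈ Finset.univ.erase o, c i : ℤ) : ZMod 2) = 0 := by
    rw [Int.cast_sum]
    exact Finset.sum_involution (fun i _ => s i)
      (fun i _ => by rw [← Int.cast_add, (ZMod.intCast_eq_zero_iff_even).2 (hc i)])
      (fun i hi _ e => Finset.ne_of_mem_erase hi ((h1 i).1 e))
      (fun i hi => Finset.mem_erase.2 ⟨fun e => Finset.ne_of_mem_erase hi (by
        rw [← hs i, e, (h1 o).2 rfl]), Finset.mem_univ _⟩) fun i _ => hs i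
  obtain ⟨m, hm⟩ := (ZMod.intCast_zmod_eq_zero_iff_dvd _ 2).1 h3
  exact ⟨m, by rw [← Finset.add_sum_erase _ _ (Finset.mem_univ o), hm]; rfl⟩

section

variable {g : A × B →* G} {η : (A →* ℂˣ) → (B →* ℂˣ) → G → ℂ} {X X' Y χ : G → ℂ} {r r' : ℝ}
  {Z Z' : Set G}

/-- An odd combination of all `η i j` does not vanish on elements of order prime to `|W|`. -/
theorem CycFam.one_le_norm_sum (h : CycFam g η) [Finite A] [Finite B]
    (a : (A →* ℂˣ) × (B →* ℂˣ) → ℤ) (ha : ∀ p, Odd (a p)) {x : G}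
    (hx : (orderOf x).Coprime (Nat.card A * Nat.card B)) :
    1 ≤ ‖(∑ p : (A →* ℂˣ) × (B →* ℂˣ), (a p : ℂ) • η p.1 p.2) x‖ := by
  choose c hc using fun p : (A →* ℂˣ) × (B →* ℂˣ) =>
    h.exists_int (i := p.1) (j := p.2) (mul_pos Nat.card_pos Nat.card_pos).ne'
      (lc_pow_eq_one _ (dvd_mul_right _ _)) (lc_pow_eq_one _ (dvd_mul_left _ _)) hx
  have h1 : c (1, 1) = 1 := by
    have : (c (1, 1) : ℂ) = 1 := by rw [← hc, h.one]
    exact_mod_cast this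
  have h2 : ∀ p, c (p.1⁻¹, p.2⁻¹) = c p := fun p => by
    have := congrFun (h.conjFun_eq p.1 p.2) x
    rw [conjFun_apply, hc p, hc (p.1⁻¹, p.2⁻¹), map_intCast] at this
    exact_mod_cast this.symm
  obtain ⟨m, hm⟩ := exists_even_sum_of_inv (fun p : (A →* ℂˣ) × (B →* ℂˣ) => (p.1⁻¹, p.2⁻¹))
    (fun p => by simp) (1, 1) (fun p => ⟨fun e => Prod.ext
      (by_contra fun e1 => h.ti.inv_neA e1 (congrArg Prod.fst e))
      (by_contra fun e1 => h.ti.inv_neB e1 (congrArg Prod.snd e)), by rintro rfl; simp⟩)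
    (fun p => a p * c p) fun p => by rw [h2, ← add_mul]; exact ((ha _).add_odd (ha _)).mul_right _
  obtain ⟨k, hk⟩ := ha (1, 1)
  rw [Finset.sum_apply, Finset.sum_congr rfl (g := fun p => ((a p * c p : ℤ) : ℂ)) fun p _ => by
    simp [hc], ← Int.cast_sum, hm, Complex.norm_intCast]
  exact_mod_cast Int.one_le_abs (show a (1, 1) * c (1, 1) + 2 * m ≠ 0 by rw [h1, hk]; omega)

namespace Beta

variable (h : Beta η X r Z) (cyc : CycFam g η)
include h cyc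

/-- (13.18.d) -/
theorem bound (h1 : rip X Y = rip Y Y) (h2 : ∀ i j, classInner Y (η i j) = 0) : rip Y Y ≤ r := by
  classical
  obtain ⟨j, hj⟩ := cyc.ti.exists_ne_oneB
  have hj' := cyc.ti.inv_neB hj
  have hj'' := lc_inv_ne_one hj
  obtain ⟨a, ha⟩ := h.gen.rip_eq_int (cyc.isGen 1 j)
  have h3 : rip X (η 1 j⁻¹) = a := by
    rw [← ha, ← lc_inv_one, ← cyc.conjFun_eq, ← rip_conjFun_left, h.real, lc_inv_one]
  have h4 := cyc.sum_rip_sq_le (X - η 1 j - Y) {(1, 1), (1, j), (1, j⁻¹)}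
  rw [Finset.sum_insert (by simp [hj.symm, hj''.symm]), Finset.sum_pair (by simp [hj'.symm]),
    rip_sub_left _ Y (_ - _), rip_sub_right _ _ Y, rip_sub_right _ _ Y, h.norm j hj,
    rip_comm Y (_ - _)] at h4
  have h5 : rip X (η 1 1) = 1 := cyc.one ▸ h.one
  simp only [rip_sub_left, h1, rip_comm (η _ _) Y, rip_eq_zero (h2 _ _), ha, h3, h5, cyc.rip_eq, hj,
    hj'.symm, and_true, and_false, if_true, if_false] at h4
  nlinarith [int_le_sq a]

theorem rip_const (h0 : ∀ x ∈ Z, Y x = 0) {j k : B →* ℂˣ} (hj : j ≠ 1) (hk : k ≠ 1) :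
    rip Y (η 1 j) = rip Y (η 1 k) := by
  have h1 := fun j hj => rip_eq_zero (classInner_eq_zero_of_disjoint (χ := Y) disjoint_compl_left
    (fun x hx => h0 x (not_not.1 hx)) (h.supp j hj))
  have := h1 j hj
  have := h1 k hk
  simp only [rip_sub_right] at *
  linarith

theorem parity (hodd : Odd (Nat.card G)) (hX : IsGeneralizedCharacter G X') (hr : conjFun X' = X')
    (h1 : rip X' (fun _ => 1) = 1) (h0 : ∀ x ∈ Z, (X' - χ) x = 0) {j : B →* ℂˣ} (hj : j ≠ 1)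
    (h2 : rip χ (η 1 j) = 0) : ∃ n : ℤ, rip X' (η 1 j) + rip X χ = 2 * n + 1 := by
  obtain ⟨n, hn⟩ := exists_rip_eq_of_real hodd hX h.gen hr h.real
  have := rip_eq_zero (classInner_eq_zero_of_disjoint (χ := X' - χ) disjoint_compl_left
    (fun x hx => h0 x (not_not.1 hx)) (h.supp j hj))
  simp only [rip_sub_left, rip_sub_right, h2, hn, h1, h.one, rip_comm χ X] at this
  exact ⟨n, by linarith⟩

end Beta

variable {A₁ : Set G} {M : Subgroup G} [Fintype M] {R : G → Subgroup G} {H : Subgroup M} [H.Normal]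
  {τ ν : (M → ℂ) →ₗ[ℂ] (G → ℂ)} {ζ : M → ℂ}

namespace C7

variable (h : C7 A₁ M R H τ ν ζ) (cyc : CycFam g η) (hV : ∀ a b, g (a, b) ∉ dadeSupp A₁ R)
  (hi : ∀ φ ∈ indD H H ⊥, IsIrrCharacter M φ)
include h cyc hV hi

/-- (13.19.b) -/
theorem orth_eta {φ : M → ℂ} (hφ : φ ∈ indD H H ⊥) (i : A →* ℂˣ) (j : B →* ℂˣ) :
    classInner (ν φ) (η i j) = 0 := by
  have h1 := hi φ hφ
  have h0 : (φ - conjFun φ) 1 = 0 := by simp [h1.isCharacter.conjFun_one]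
  have hm := sub_mem_span (R := ℂ) hφ (conj_mem_indD hφ)
  refine (h.coh.isDirr hφ h1).orth_of_sub_conj (cyc.dirr i j) (h.rip_conj hφ h1) (rip_eq_zero ?_)
  rw [← h.tau_sub_conj hφ h1]
  exact cyc.orth_of_rip_le_two (h.isoOn_S.gen _ (sub_mem_span hφ (conj_mem_indD hφ)) h0)
    (fun a b _ _ => h.tau_eq_zero (Submodule.span_mono indD_subset_indT hm) h0 (hV a b))
    (by rw [h.isoOn_S.rip_eq hm hm h0 h0, rip_sub_conj h1 (h.conj_ne hφ)]) i j

theorem orth_eta_span {α : M → ℂ} (hα : α ∈ Submodule.span ℂ (indD H H ⊥)) (i : A →* ℂˣ)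
    (j : B →* ℂˣ) : classInner (ν α) (η i j) = 0 :=
  orth_map_span_left (fun _ hφ => h.orth_eta cyc hV hi hφ i j) hα

theorem card_le (he : 2 * H.index + 1 ≤ Nat.card H) (s : Finset ((A →* ℂˣ) × (B →* ℂˣ)))
    (h1 : (1, 1) ∉ s) : ∑ p ∈ s, rip (ν (indFun H fun _ => 1)) (η p.1 p.2) ^ 2 ≤ H.index - 1 := by
  classical
  have h2 : ∀ p ∈ s, rip (∑ p ∈ s, ((rip (ν (indFun H fun _ => 1)) (η p.1 p.2) : ℝ) : ℂ) • η p.1 p.2)
      (η p.1 p.2) = rip (ν (indFun H fun _ => 1)) (η p.1 p.2) := fun p hp => by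
    simp [rip_sum_left, cyc.rip_eq, ← Prod.ext_iff, hp]
  have h3 := h.gamma_le he
    (Y := ∑ p ∈ s, ((rip (ν (indFun H fun _ => 1)) (η p.1 p.2) : ℝ) : ℂ) • η p.1 p.2) ?_ ?_ ?_
  · rw [rip_sum_right, Finset.sum_congr rfl fun p hp => by rw [rip_real_smul_right, h2 p hp]] at h3
    simpa only [sq] using h3
  · rw [rip_sum_right, rip_sum_right]
    exact Finset.sum_congr rfl fun p hp => by rw [rip_real_smul_right, rip_real_smul_right, h2 p hp]
  · rw [← cyc.one, rip_sum_left]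
    exact Finset.sum_eq_zero fun p hp => by
      rw [rip_real_smul_left, cyc.rip_eq, if_neg (fun e : p.1 = 1 ∧ p.2 = 1 => h1 (by
        rwa [← e.1, ← e.2])), mul_zero]
  · intro φ hφ
    simp only [classInner_sum_right, classInner_smul_right, h.orth_eta cyc hV hi hφ, mul_zero,
      Finset.sum_const_zero]

/-- (13.19.c) -/
theorem le_or_odd (hodd : Odd (Nat.card G)) (hb : Beta η X r Z) (hd : Disjoint (dadeSupp A₁ R) Z) :
    ((Nat.card H : ℝ) - 1) / H.index ≤ r ∨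
      ∀ j, j ≠ 1 → ∃ n : ℤ, rip (ν (indFun H fun _ => 1)) (η 1 j) = 2 * n + 1 := by
  obtain ⟨b, e⟩ := hb.gen.rip_eq_int h.isDirr.isGen
  by_cases h0 : b = 0
  · refine Or.inr fun j hj => ?_
    obtain ⟨n, hn⟩ := hb.parity cyc hodd h.gen_X h.conj_X h.X_one
      (fun x hx => h.beta_eq_zero (Set.disjoint_right.1 hd hx)) hj
      (rip_eq_zero (h.orth_eta cyc hV hi h.mem_S 1 j))
    exact ⟨n, by rw [← hn, e, h0]; simp⟩
  left
  obtain ⟨j, hj⟩ := cyc.ti.exists_ne_oneB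
  obtain ⟨α, hα, h1, h2⟩ := h.exists_proj (Y := X) fun α hα h1 => by
    have := h.tau_orth (Y := X - η 1 j) (fun x hx => hb.supp j hj x (Set.disjoint_left.1 hd hx))
      (Submodule.span_mono indD_subset_indT hα) h1
    rwa [classInner_sub_right, ← h.coh.ext α h1, h.orth_eta_span cyc hV hi hα, sub_zero,
      h.coh.ext α h1] at this
  have h3 := hb.bound cyc h1 (h.orth_eta_span cyc hV hi hα)
  have h4 := one_le_sq_of_ne ⟨b, e⟩ (by rw [e]; exact_mod_cast h0)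
  have h5 : (0 : ℝ) ≤ ((Nat.card H : ℝ) - 1) / H.index :=
    div_nonneg (by rw [sub_nonneg]; exact_mod_cast Nat.card_pos) h.index_pos.le
  nlinarith

theorem card_B_le (he : 2 * H.index + 1 ≤ Nat.card H)
    (h1 : ∀ j, j ≠ 1 → ∃ n : ℤ, rip (ν (indFun H fun _ => 1)) (η 1 j) = 2 * n + 1) :
    Nat.card B ≤ H.index := by
  classical
  have := cyc.ti.finiteB
  have h2 := h.card_le cyc hV hi he ((Finset.univ.erase 1).image fun j => (1, j)) (by simp)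
  rw [Finset.sum_image fun _ _ _ _ e => (Prod.ext_iff.1 e).2] at h2
  have h3 := (Finset.card_nsmul_le_sum _ _ (1 : ℝ) fun j hj => ?_).trans h2
  · rw [Finset.card_erase_of_mem (Finset.mem_univ _), Finset.card_univ, ← Nat.card_eq_fintype_card,
      cyc.ti.card_lcB, nsmul_eq_mul, Nat.cast_pred Nat.card_pos] at h3
    exact_mod_cast (show (Nat.card B : ℝ) ≤ H.index by linarith)
  · obtain ⟨n, hn⟩ := h1 j (Finset.ne_of_mem_erase hj)
    exact one_le_sq_of_ne ⟨2 * n + 1, by simpa using hn⟩ (by rw [hn]; exact_mod_cast (by omega))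

/-- (14.11.2) -/
theorem exists_sum [Finite A] [Finite B] (he : 2 * H.index + 1 ≤ Nat.card H)
    (hle : H.index ≤ Nat.card A * Nat.card B)
    (h1 : ∀ j, j ≠ 1 → ∃ n : ℤ, rip (ν (indFun H fun _ => 1)) (η 1 j) = 2 * n + 1)
    (h2 : ∀ i, i ≠ 1 → ∃ n : ℤ, rip (ν (indFun H fun _ => 1)) (η i 1) = 2 * n + 1) :
    H.index = Nat.card A * Nat.card B ∧ ∃ (a : (A →* ℂˣ) × (B →* ℂˣ) → ℤ) (c : ℤ) (φ : M → ℂ),
      (∀ p, Odd (a p)) ∧ (c = 1 ∨ c = -1) ∧ (φ = ζ ∨ φ = conjFun ζ) ∧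
      ν (indFun H fun _ => 1) - ν ζ = ∑ p, (a p : ℂ) • η p.1 p.2 + (c : ℂ) • ν φ := by
  classical
  choose a ha using fun p : (A →* ℂˣ) × (B →* ℂˣ) => h.gen_X.rip_eq_int (cyc.isGen p.1 p.2)
  have h0 := fun φ hφ i j => rip_eq_zero (h.orth_eta cyc hV hi (φ := φ) hφ i j)
  have hβ := h.gen_X.sub h.isDirr.isGen
  have h3 : rip (ν (indFun H fun _ => 1)) (η 1 1) = 1 := cyc.one ▸ h.X_one
  have h1' : ∀ j, Odd (a (1, j)) := fun j => by
    by_cases hj : j = 1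
    · exact ⟨0, by have := ha (1, 1); rw [h3] at this; subst hj; exact_mod_cast this.symm⟩
    · obtain ⟨n, hn⟩ := h1 j hj
      exact ⟨n, by rw [ha (1, j)] at hn; exact_mod_cast hn⟩
  have h2' : ∀ i, Odd (a (i, 1)) := fun i => by
    by_cases hj : i = 1
    · exact hj ▸ h1' 1
    · obtain ⟨n, hn⟩ := h2 i hj
      exact ⟨n, by rw [ha (i, 1)] at hn; exact_mod_cast hn⟩
  have hodd : ∀ p, Odd (a p) := fun ⟨i, j⟩ => by
    have := cyc.rip_exchange hβ.isClassFunction (fun a b _ _ => h.beta_eq_zero (hV a b)) i 1 j 1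
    simp only [rip_sub_left, h0 _ h.mem_S, sub_zero, ha (i, j), ha (1, 1), ha (i, 1), ha (1, j)] at this
    have e : a (i, j) + a (1, 1) = a (i, 1) + a (1, j) := by exact_mod_cast this
    obtain ⟨x, hx⟩ := h1' 1
    obtain ⟨y, hy⟩ := h1' j
    obtain ⟨z, hz⟩ := h2' i
    exact ⟨y + z - x, by omega⟩
  have hsq : ∀ p, (1 : ℝ) ≤ (a p : ℝ) ^ 2 := fun p =>
    one_le_sq_of_ne ⟨_, rfl⟩ (by obtain ⟨x, hx⟩ := hodd p; exact_mod_cast (by omega))
  have hc : Fintype.card ((A →* ℂˣ) × (B →* ℂˣ)) = Nat.card A * Nat.card B := by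
    rw [Fintype.card_prod, cyc.card_lcA, cyc.swap.card_lcA]
  have h4 := h.card_le cyc hV hi he (Finset.univ.erase (1, 1)) (by simp)
  have h5 := (Finset.card_nsmul_le_sum _ _ (1 : ℝ) fun p _ => by rw [ha]; exact hsq p).trans h4
  rw [Finset.card_erase_of_mem (Finset.mem_univ _), Finset.card_univ, nsmul_eq_mul,
    Nat.cast_pred Fintype.card_pos, hc] at h5
  have h6 : H.index = Nat.card A * Nat.card B :=
    le_antisymm hle (by exact_mod_cast (show ((Nat.card A * Nat.card B : ℕ) : ℝ) ≤ H.index by linarith))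
  refine ⟨h6, a, ?_⟩
  obtain ⟨b, hb⟩ := h.exists_int
  set P := ∑ p : (A →* ℂˣ) × (B →* ℂˣ), (a p : ℂ) • η p.1 p.2 with hP
  have h7 : ∀ p : (A →* ℂˣ) × (B →* ℂˣ), rip P (η p.1 p.2) = a p := fun p => by
    simp [hP, rip_sum_left, cyc.rip_eq, ← Prod.ext_iff]
  have h8 : rip P P = ∑ p, (a p : ℝ) ^ 2 := by
    conv_lhs => rw [show rip P P = rip P (∑ p, (a p : ℂ) • η p.1 p.2) from rfl, rip_sum_right]
    simp [h7, sq]
  have h9 : rip (ν (indFun H fun _ => 1) - ν ζ) P = rip P P := by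
    rw [h8, hP, rip_sum_right]; simp [ha, h0 _ h.mem_S, sq]
  have h10 : (H.index : ℝ) ≤ rip P P := by
    have := Finset.card_nsmul_le_sum Finset.univ _ (1 : ℝ) fun p _ => hsq p
    rwa [Finset.card_univ, hc, ← h6, nsmul_one, ← h8] at this
  have key : ∀ φ ∈ indD H H ⊥, ∀ c : ℤ, c ≠ 0 → rip (ν (indFun H fun _ => 1) - ν ζ) (ν φ) = c →
      (c = 1 ∨ c = -1) ∧ ν (indFun H fun _ => 1) - ν ζ = P + (c : ℂ) • ν φ := fun φ hφ c hc e => by
    have e1 := (h.coh.isDirr hφ (hi φ hφ)).rip_self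
    have e2 : rip P ((c : ℂ) • ν φ) = 0 := by
      rw [rip_comm, hP, rip_sum_right]; simp [h0 _ hφ]
    have e3 : rip (ν (indFun H fun _ => 1) - ν ζ) ((c : ℂ) • ν φ) =
        rip ((c : ℂ) • ν φ) ((c : ℂ) • ν φ) := by
      rw [rip_intCast_smul_right, rip_intCast_smul_right, rip_intCast_smul_left, e, e1, mul_one]
    have e4 := rip_add_le_of_orth h9 e3 e2
    have e5 := one_le_sq_of_ne ⟨c, rfl⟩ (by exact_mod_cast hc)
    have e6 : rip ((c : ℂ) • ν φ) ((c : ℂ) • ν φ) = c ^ 2 := by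
      rw [rip_intCast_smul_right, rip_intCast_smul_left, e1]; ring
    rw [h.rip_beta] at e4
    refine ⟨?_, eq_add_of_orth h9 e3 e2 (by rw [h.rip_beta]; linarith)⟩
    have : c ^ 2 = 1 := by exact_mod_cast (show (c : ℝ) ^ 2 = 1 by linarith)
    exact sq_eq_one_iff.1 this
  by_cases e : b = 1
  · have h11 := conj_mem_indD h.mem_S
    obtain ⟨e1, e2⟩ := key _ h11 1 one_ne_zero (by
      rw [h.conj_nu h.mem_S h.irr, rip_sub_left, h.rip_conj h.mem_S h.irr, ← rip_conjFun_left,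
        h.conj_X, hb, e]; simp)
    exact ⟨_, _, hodd, e1, Or.inr rfl, e2⟩
  · obtain ⟨e1, e2⟩ := key _ h.mem_S (b - 1) (sub_ne_zero.2 e) (by
      rw [rip_sub_left, hb, h.isDirr.rip_self]; simp)
    exact ⟨_, _, hodd, e1, Or.inl rfl, e2⟩

/-- (14.11.3), (14.11.4) -/
theorem count [Finite A] [Finite B] (he : 2 * H.index + 1 ≤ Nat.card H)
    (hle : H.index ≤ Nat.card A * Nat.card B)
    (h1 : ∀ j, j ≠ 1 → ∃ n : ℤ, rip (ν (indFun H fun _ => 1)) (η 1 j) = 2 * n + 1)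
    (h2 : ∀ i, i ≠ 1 → ∃ n : ℤ, rip (ν (indFun H fun _ => 1)) (η i 1) = 2 * n + 1)
    (hZ : ∀ x, ¬ (orderOf x).Coprime (Nat.card A * Nat.card B) → x ∈ Z) :
    1 ≤ (H.index : ℝ) / Nat.card H + 1 / H.index + nrm Z fun _ => 1 := by
  obtain ⟨-, a, c, φ, ha, hc, hφ, e⟩ := h.exists_sum cyc hV hi he hle h1 h2
  have h3 := h.le_nrm he
  let Y : Set G := {x | x ∉ dadeSupp A₁ R ∧ (orderOf x).Coprime (Nat.card A * Nat.card B)}
  have h4 : nrm Y (fun _ => 1) ≤ nrm Y (ν ζ) := Char.nrm_one_le fun x hx => by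
    have e1 := h.beta_eq_zero hx.1
    have e2 := cyc.one_le_norm_sum a ha hx.2
    rw [e, Pi.add_apply, add_eq_zero_iff_eq_neg] at e1
    rw [e1, norm_neg, Pi.smul_apply, norm_smul] at e2
    rcases hc with rfl | rfl <;> rcases hφ with rfl | rfl <;>
      simpa [h.conj_nu h.mem_S h.irr, conjFun_apply] using e2
  have h5 := nrm_add_le (S := dadeSupp A₁ R) (T := Y) (Set.disjoint_right.2 fun _ hx => hx.1) (ν ζ)
  have h6 : nrm Set.univ (fun _ : G => 1) ≤ nrm (dadeSupp A₁ R ∪ Y ∪ Z) fun _ => 1 :=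
    nrm_mono (fun x _ => by have := hZ x; simp only [Y, Set.mem_union, Set.mem_setOf_eq]; tauto) _
  have h7 := nrm_union_le (dadeSupp A₁ R ∪ Y) Z fun _ => 1
  have h8 := nrm_union_le (dadeSupp A₁ R) Y fun _ => 1
  rw [nrm_univ, isIrrCharacter_one.rip_self] at h6
  rw [h.isDirr.rip_self] at h5
  rw [h.nrm_one] at h8
  have h9 := h.index_pos
  have h10 : (0 : ℝ) < Nat.card H := by exact_mod_cast Nat.card_pos
  have : ((Nat.card H : ℝ) - 1) / (H.index * Nat.card H) ≤ 1 / H.index := by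
    rw [div_le_div_iff₀ (by positivity) h9]; nlinarith
  linarith

variable {A₂ : Set G} {M₂ : Subgroup G} [Fintype M₂] {R₂ : G → Subgroup G} {H₂ : Subgroup M₂}
  [H₂.Normal] {τ₂ ν₂ : (M₂ → ℂ) →ₗ[ℂ] (G → ℂ)} {ζ₂ : M₂ → ℂ} (h₂ : C7 A₂ M₂ R₂ H₂ τ₂ ν₂ ζ₂)
  (hd : Disjoint (dadeSupp A₁ R) (dadeSupp A₂ R₂)) (hi₂ : ∀ φ ∈ indD H₂ H₂ ⊥, IsIrrCharacter M₂ φ)
include h₂ hd hi₂

/-- The last step of (14.16). -/
theorem rip_X_eq_zero [Finite A] [Finite B] (he : 2 * H.index + 1 ≤ Nat.card H)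
    (hle : H.index ≤ Nat.card A * Nat.card B)
    (h1 : ∀ j, j ≠ 1 → ∃ n : ℤ, rip (ν (indFun H fun _ => 1)) (η 1 j) = 2 * n + 1)
    (h2 : ∀ i, i ≠ 1 → ∃ n : ℤ, rip (ν (indFun H fun _ => 1)) (η i 1) = 2 * n + 1)
    (hV₂ : ∀ a b, g (a, b) ∉ dadeSupp A₂ R₂) : rip (ν (indFun H fun _ => 1)) (ν₂ ζ₂) = 0 := by
  obtain ⟨-, a, c, φ, -, -, hφ, e⟩ := h.exists_sum cyc hV hi he hle h1 h2
  have h3 : φ ∈ indD H H ⊥ := by rcases hφ with rfl | rfl; exacts [h.mem_S, conj_mem_indD h.mem_S]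
  have h4 := fun φ hφ => rip_eq_zero (h.orth_of_disjoint h₂ hd (φ := φ) hφ (hi φ hφ) h₂.mem_S h₂.irr)
  rw [sub_eq_iff_eq_add.1 e]
  simp [rip_sum_left, h4 _ h3, h4 _ h.mem_S, rip_comm (η _ _),
    rip_eq_zero (h₂.orth_eta cyc hV₂ hi₂ h₂.mem_S _ _)]

omit cyc hV in
/-- The inequality of (14.14). -/
theorem le_of_ne (he : 2 * H.index + 1 ≤ Nat.card H)
    (hne : rip (ν (indFun H fun _ => 1)) (ν₂ ζ₂) ≠ 0) :
    ((Nat.card H₂ : ℝ) - 1) / H₂.index ≤ H.index - 1 := by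
  obtain ⟨α, hα, h1, h2⟩ := h₂.exists_proj fun α => h.tau_orth_X h₂ hd hi₂
  have h3 := h.gamma_le he h1 (rip_eq_zero (orth_map_span_left (fun _ => h₂.orth_one) hα))
    fun φ hφ => classInner_eq_zero_comm.1 (orth_map_span_left (fun ψ hψ =>
      h₂.orth_of_disjoint h hd.symm hψ (hi₂ ψ hψ) hφ (hi φ hφ)) hα)
  have h4 := one_le_sq_of_ne (h.gen_X.rip_eq_int h₂.isDirr.isGen) hne
  have h5 : (0 : ℝ) ≤ ((Nat.card H₂ : ℝ) - 1) / H₂.index :=
    div_nonneg (by rw [sub_nonneg]; exact_mod_cast Nat.card_pos) h₂.index_pos.le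
  nlinarith

end C7

end

section

variable [Fintype L] {K H U : Subgroup L} {f : A × B →* L}
  {μ : (A →* ℂˣ) → (B →* ℂˣ) → L → ℂ} {δ : (B →* ℂˣ) → ℤ} {g : A × B →* G}
  {η : (A →* ℂˣ) → (B →* ℂˣ) → G → ℂ} {S₀ : Set L} {τ : (L → ℂ) →ₗ[ℂ] (G → ℂ)}
  {R : (L → ℂ) → Finset (G → ℂ)} {X : G → ℂ} {r : ℝ} {Z : Set G}

/-- The inequality of (14.9). -/
theorem P10.card_le_of_beta (h : P10 K f μ δ g η S₀ τ R) [K.Normal] (hb : Beta (fun j i => η i j) X r Z)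
    (hZ : ∀ α ∈ Submodule.span ℂ (indT K), α 1 = 0 → ∀ x ∈ Z, τ α x = 0)
    (h11 : ∀ ζ ∈ indD K K ⁅K, K⁆, ∀ i, i ≠ 1 → classInner (τ (pmu K μ 1 - ζ)) (η i 1) = 0) :
    (indF K K ⁅K, K⁆).card ≤ r := by
  classical
  obtain ⟨ζ, hζ⟩ := h.exists_zeta
  obtain ⟨ν, hν⟩ := h.coh_der
  obtain ⟨i, hi⟩ := h.cyc.ti.exists_ne_oneA
  have h0 := fun φ hφ => h.coh_orth h.sys subset_rfl (h.conjSub _) hν (φ := φ) hφ (h.irr hφ)
  have h1 : ∀ φ ∈ indD K K ⁅K, K⁆, τ (pmu K μ 1 - φ) = ν (pmu K μ 1) - ν φ := fun φ hφ =>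
    hν.ext.sub (by rw [h.fam.pmu_one_one, h.deg_eq hφ])
  have h2 : ν (pmu K μ 1) = τ (pmu K μ 1 - ζ) + ν ζ := by rw [h1 ζ hζ, sub_add_cancel]
  obtain ⟨n, hn⟩ := hb.parity h.cyc.swap h.oddG (X' := ν (pmu K μ 1)) (χ := ν ζ)
    (h2 ▸ (h.gen _ (h.isGen_beta hζ) (h.suppIn_beta hζ)).add (hν.gen _ hζ))
    (by
      conv_lhs => rw [h2, conjFun_add, ← h.tau_conj, conjFun_sub, h.fam.conjFun_pmu, lc_inv_one,
        h1 _ (conj_mem_indD hζ), ← h.sys.toIsoOn.conj_ext (indD_subset_bot _ _ _) hν h.tau_conj hζ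
          (conj_mem_indD hζ) (h.irr hζ) (h.sys.conj_ne _ (h.mem_bot hζ)), sub_add_cancel])
    (by rw [h2, ← h.cyc.one, rip_add_left, h.rip_beta_one hζ, rip_eq_zero (h0 ζ hζ 1 1), add_zero])
    (fun x hx => h1 ζ hζ ▸ hZ _ (h.beta_mem hζ) (h.beta_one hζ) x hx) hi (rip_eq_zero (h0 ζ hζ i 1))
  rw [h2, rip_add_left, rip_eq_zero (h11 ζ hζ i hi), rip_eq_zero (h0 ζ hζ i 1), add_zero,
    zero_add] at hn
  have h3 : ∀ φ ∈ indF K K ⁅K, K⁆, rip X (ν φ) = 2 * n + 1 := fun φ hφ => by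
    have e := mem_indF.1 hφ
    have e1 : φ 1 = ζ 1 := by rw [h.deg_eq e, h.deg_eq hζ]
    have := rip_eq_zero (classInner_eq_zero_of_disjoint (χ := τ (φ - ζ)) disjoint_compl_left
      (fun x hx => hZ _ (sub_mem_span (indD_subset_indT (h.mem_bot e)) (indD_subset_indT (h.mem_bot hζ)))
        (by simp [e1]) x (not_not.1 hx)) (hb.supp i hi))
    rw [hν.ext.sub e1] at this
    simp only [rip_sub_left, rip_sub_right, rip_eq_zero (h0 _ e _ _), rip_eq_zero (h0 _ hζ _ _),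
      rip_comm _ X, hn] at this
    linarith
  have h4 : rip (∑ φ ∈ indF K K ⁅K, K⁆, ν φ) (∑ φ ∈ indF K K ⁅K, K⁆, ν φ) = (indF K K ⁅K, K⁆).card :=
    rip_sum_orthonormal _ _ fun φ hφ ψ hψ => by
      rw [hν.iso _ (mem_indF.1 hφ) _ (mem_indF.1 hψ)]
      split_ifs with e
      exacts [e ▸ (h.irr (mem_indF.1 hφ)).classInner_self,
        h.sys.orth _ (h.mem_bot (mem_indF.1 hφ)) _ (h.mem_bot (mem_indF.1 hψ)) e]
  have h5 := hb.bound h.cyc.swap (Y := ((2 * n + 1 : ℤ) : ℂ) • ∑ φ ∈ indF K K ⁅K, K⁆, ν φ)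
    (by
      rw [rip_intCast_smul_right, rip_intCast_smul_right, rip_intCast_smul_left, h4, rip_sum_right,
        Finset.sum_congr rfl h3, Finset.sum_const, nsmul_eq_mul]
      push_cast; ring)
    fun j i => by
      rw [classInner_smul_left, classInner_sum_left,
        Finset.sum_eq_zero fun φ hφ => h0 φ (mem_indF.1 hφ) i j, mul_zero]
  rw [rip_intCast_smul_right, rip_intCast_smul_left, h4] at h5
  have h6 := one_le_sq_of_ne (r := ((2 * n + 1 : ℤ) : ℝ)) ⟨_, rfl⟩ (by exact_mod_cast (by omega))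
  nlinarith [Nat.cast_nonneg (α := ℝ) (indF K K ⁅K, K⁆).card]

end

universe u

/-- Peterfalvi 13.18. -/
theorem Sec9.exists_beta {L : Type u} [Group L] [Fintype L] {K H U : Subgroup L} {f : A × B →* L}
    {μ : (A →* ℂˣ) → (B →* ℂˣ) → L → ℂ} {δ : (B →* ℂˣ) → ℤ} {g : A × B →* G}
    {η : (A →* ℂˣ) → (B →* ℂˣ) → G → ℂ} {S₀ : Set L} {τ : (L → ℂ) →ₗ[ℂ] (G → ℂ)} {p q : ℕ}
    (h : Sec9 K H U ⊥ f p q) (hP : PDade K H f μ δ g η S₀ τ) (hC : U ⊓ cmod H ⊥ = ⊥)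
    (cj : ∀ α, τ (conjFun α) = conjFun (τ α))
    (tone : ∀ α, IsClassFunction L α → SuppIn S₀ α →
      classInner (τ α) (fun _ => 1) = classInner α fun _ => 1) {Z : Set G}
    (hZ : ∀ α, IsClassFunction L α → (∀ x, α x ≠ 0 → (x ∈ H ∧ x ≠ 1) ∨
      ∃ y a b, a ≠ 1 ∧ b ≠ 1 ∧ y * x * y⁻¹ = f (a, b)) → ∀ x, x ∉ Z → τ α x = 0) :
    ∃ X, Beta η X ((Nat.card U - 1) / q) Z := by
  classical
  have := hP.normalK
  have := h.normalH
  have := hP.cyc.ti.finiteA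
  have hq : (q : ℂ) ≠ 0 := by exact_mod_cast h.primeq.ne_zero
  have hKi : K.index = q := h.pti.index.trans h.cardA
  have hu : H.relIndex K = Nat.card U := by
    rw [← sup_bot_eq H, h.relIndex_sup bot_le, Subgroup.relIndex_bot_left]
  have hK : ⁅K, K⁆ ≤ H := by
    have h1 : ⁅U, U⁆ = ⊥ := le_bot_iff.1 (hC ▸ le_inf (commutator_le_self' U) h.derU)
    rw [Subgroup.commutator_le]
    intro x hx y hy
    obtain ⟨a, ha, u, hu, rfl⟩ := h.decK hx
    obtain ⟨b, hb, v, hv, rfl⟩ := h.decK hy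
    have h2 := commutatorElement_eq_one_iff_mul_comm.1
      (Subgroup.mem_bot.1 (h1 ▸ Subgroup.commutator_mem_commutator hu hv))
    rw [← QuotientGroup.eq_one_iff] at ha hb ⊢
    have h3 := congrArg (QuotientGroup.mk (s := H)) h2
    simp only [QuotientGroup.mk_mul] at h3
    simp [commutatorElement_def, ha, hb, h3]
  have hi : ∀ φ ∈ indF K K H, IsIrrCharacter L φ := fun φ hφ => by
    obtain ⟨θ, h1, h2, h3, rfl⟩ := mem_indF.1 hφ
    refine (hP.fam.ind_irr_or h1).resolve_right ?_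
    rintro ⟨j, rfl⟩
    by_cases hj : j = 1
    · exact h3 (by rw [hj, hP.fam.pchi_one]; exact kerOn_one K)
    · exact hP.not_kerOn_pchi hj h2
  have hd : ∀ φ ∈ indF K K H, deg φ = q := fun φ hφ =>
    deg_eq_nat (by rw [apply_one_of_mem_indD (mem_indF.1 hφ) hK, hKi])
  have h1 : ((indF K K H).card : ℝ) = (Nat.card U - 1) / q := by
    have := sum_indF_deg_sq_self (K := K) h.HK
    rw [Finset.sum_congr rfl fun φ hφ => by rw [hd φ hφ, (hi φ hφ).rip_self, div_one],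
      Finset.sum_const, nsmul_eq_mul, hKi, hu] at this
    have hq' : (q : ℝ) ≠ 0 := by exact_mod_cast h.primeq.ne_zero
    rw [eq_div_iff hq']
    exact mul_left_cancel₀ hq' (by rw [← this]; ring)
  set γ := μ 1 1 + ∑ φ ∈ indF K K H, φ with hγ
  have h2 : ∀ x, γ x = if x ∈ K then if x ∈ H then (Nat.card U : ℂ) else 0 else 1 := fun x => by
    rw [hγ, Pi.add_apply, Finset.sum_apply, hP.fam.mu_one_one]
    split_ifs with e e1
    rotate_right
    · rw [Finset.sum_eq_zero fun φ hφ => eq_zero_of_mem_indD (mem_indF.1 hφ) e, add_zero]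
    all_goals
      have := sum_indF_apply (K := K) le_rfl h.HK x
      rw [Finset.sum_congr rfl fun φ hφ => by rw [hd φ hφ, (hi φ hφ).rip_self, div_one],
        ← Finset.mul_sum, hKi, sup_eq_right.2 h.HK, Subgroup.relIndex_self, if_pos e, hu] at this
      rw [mul_left_cancel₀ hq this]; simp [e1]
  have h3 : IsGeneralizedCharacter L γ :=
    (hP.fam.isGen 1 1).add (IsGeneralizedCharacter.sum fun φ hφ => (hi φ hφ).isGen)
  have h4 : ∀ j, j ≠ 1 → μ 1 j 1 = Nat.card U ∧ ∀ x ∈ K, x ∉ H → μ 1 j x = 0 := fun j hj => by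
    obtain ⟨e1, -, ω, e2⟩ := h.red_spec hP.fam (hP.pmu_mem hj)
    refine ⟨by rw [e1, hC, Subgroup.relIndex_bot_left], fun x hx h5 => mul_left_cancel₀ hq ?_⟩
    have := h.normal_HC
    have := congrFun (hP.fam.pmu_eq_sum j) x
    rw [e2, indFun_normal_of_not_mem _ (by rwa [hC, sup_bot_eq]), Finset.sum_apply,
      Finset.sum_congr rfl fun i _ => hP.fam.mu_of_mem i j hx, Finset.sum_const, Finset.card_univ,
      hP.fam.card_lcA, h.cardA, nsmul_eq_mul] at this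
    rw [← this, mul_zero]
  have h5 : ∀ j, j ≠ 1 → δ j = 1 := fun j hj => by
    obtain ⟨n, hn⟩ := hP.fam.exists_degree 1 j
    obtain ⟨c, hc⟩ := h.q_dvd
    rw [hC, Subgroup.relIndex_bot_left] at hc
    rw [(h4 j hj).1, h.cardA] at hn
    refine (hP.fam.sign j).resolve_right fun e => ?_
    have e1 : (Nat.card U : ℤ) = δ j + n * q := by exact_mod_cast hn
    have e2 : (q : ℤ) ∣ 2 := ⟨n - c, by have := Nat.card_pos (α := U); rw [mul_sub]; lia⟩
    have := Int.le_of_dvd two_pos e2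
    have := h.cardA ▸ hP.cyc.ti.three_le_A
    omega
  have h6 : ∀ j, j ≠ 1 → ∀ x, (γ - μ 1 j) x ≠ 0 → (x ∈ H ∧ x ≠ 1) ∨
      ∃ y a b, a ≠ 1 ∧ b ≠ 1 ∧ y * x * y⁻¹ = f (a, b) := fun j hj x hx => by
    by_cases e : x ∈ K
    · refine Or.inl ⟨by_contra fun e1 => hx ?_, ?_⟩
      · simp [h2, e, e1, (h4 j hj).2 x e e1]
      · rintro rfl
        exact hx (by simp [h2, (h4 j hj).1])
    · obtain ⟨y, -, a, b, ha, e1⟩ := h.pti.exists_conj e
      refine Or.inr ⟨y, a, b, ha, fun hb => hx ?_, e1⟩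
      rw [← (h3.sub (hP.fam.isGen 1 j)).isClassFunction.apply_conj x y, e1, hb]
      simp [h2, h.pti.memK, ha, hP.fam.eq_on _ _ a 1 ha, h5 j hj]
  have h7 : ∀ j, j ≠ 1 → SuppIn S₀ (γ - μ 1 j) := fun j hj x hx => by
    by_contra e
    rcases h6 j hj x e with ⟨e1, e2⟩ | ⟨y, a, b, ha, hb, e1⟩
    · exact hx (hP.cent x (h.HK e1) e2 x e1 e2 rfl)
    · exact hx (by simpa [← e1, mul_assoc] using hP.memV a b y⁻¹ ha hb)
  obtain ⟨k, hk⟩ := hP.cyc.ti.exists_ne_oneB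
  have h8 : ∀ j, j ≠ 1 → τ (γ - μ 1 k) + η 1 k - η 1 j = τ (γ - μ 1 j) := fun j hj => by
    have := hP.tau_mu_sub 1 hj hk (by rw [(h4 j hj).1, (h4 k hk).1])
    rw [h5 j hj, Int.cast_one, one_smul, map_sub] at this
    rw [map_sub, map_sub]
    linear_combination (norm := module) this
  have h9 := fun j => (h3.sub (hP.fam.isGen 1 j)).isClassFunction
  have h10 : ∀ i j, rip (∑ φ ∈ indF K K H, φ) (μ i j) = 0 := fun i j => by
    rw [rip_comm, rip_sum_right]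
    exact Finset.sum_eq_zero fun φ hφ => hP.fam.rip_mu_irr (mem_indF.1 hφ) (hi φ hφ) i j
  refine ⟨τ (γ - μ 1 k) + η 1 k, (hP.gen _ (h3.sub (hP.fam.isGen 1 k)) (h7 k hk)).add
    (hP.cyc.isGen 1 k), ?_, ?_, fun j hj x hx => h8 j hj ▸ hZ _ (h9 j) (h6 j hj) x hx, fun j hj => ?_⟩
  · rw [conjFun_add, ← cj, conjFun_sub, hP.fam.conjFun_mu, hP.cyc.conjFun_eq, lc_inv_one,
      show conjFun γ = γ from funext fun x => by rw [conjFun_apply, h2]; split_ifs <;> simp,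
      ← h8 _ (lc_inv_ne_one hk), sub_add_cancel]
  · rw [rip_add_left, rip, tone _ (h9 k) (h7 k hk), ← rip, ← hP.cyc.one, ← hP.fam.mu_one_one]
    simp [hγ, h10, hP.fam.rip_mu, hP.cyc.rip_eq, hk]
  · have := rip_sum_orthonormal (indF K K H) id fun φ hφ ψ hψ => by
      split_ifs with e
      exacts [e ▸ (hi φ hφ).classInner_self, orth_of_mem_indD (mem_indF.1 hφ) (mem_indF.1 hψ) e]
    rw [h8 j hj, hP.rip_eq (h9 j) (h9 j) (h7 j hj) (h7 j hj), ← h1, ← this]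
    simp [hγ, h10, hP.fam.rip_mu, hj, hj.symm, rip_comm (μ _ _) (∑ φ ∈ _, φ)]
    ring

end Cfsg.Agent.Char
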