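import Cfsg.Agent.Lib.Char.Sec6
import Cfsg.Agent.Lib.Solv.SylowIn

/-!
Peterfalvi's Section 6, second part: the congruence (6.7) and Sibley's theorem (6.8).
-/

set_option autoImplicit false

namespace Cfsg.Agent.Char

open scoped ComplexConjugate
open QuotientGroup

variable {G : Type*} [Group G]

theorem exists_integral_sum_free {Γ M X : Type*} [Group Γ] [Finite Γ] [Group M] [MulAction M X]
    (φ : Γ →* M) (f : X → ℂ) (s : Finset X) (hs : ∀ g, ∀ x ∈ s, φ g • x ∈ s)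
    (hfree : ∀ x ∈ s, ∀ g, φ g • x = x → g = 1) (hf : ∀ x ∈ s, IsIntegral ℤ (f x))
    (hinv : ∀ g x, f (φ g • x) = f x) :
    ∃ ω, IsIntegral ℤ ω ∧ ∑ x ∈ s, f x = Nat.card Γ * ω := by
  classical
  have := Fintype.ofFinite Γ
  induction s using Finset.strongInduction with | _ s ih
  rcases s.eq_empty_or_nonempty with rfl | ⟨x, hx⟩
  · exact ⟨0, isIntegral_zero, by simp⟩
  have h1 : (Finset.univ.image fun g => φ g • x) ⊆ s := by
    intro y hy
    obtain ⟨g, -, rfl⟩ := Finset.mem_image.1 hy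
    exact hs g x hx
  obtain ⟨ω, h2, h3⟩ := ih (s \ Finset.univ.image fun g => φ g • x)
    (Finset.sdiff_ssubset h1 ⟨x, Finset.mem_image.2 ⟨1, Finset.mem_univ _, by simp⟩⟩)
    (fun g y hy => by
      simp only [Finset.mem_sdiff, Finset.mem_image, Finset.mem_univ, true_and, not_exists] at hy ⊢
      exact ⟨hs g y hy.1, fun k hk => hy.2 (g⁻¹ * k) (by rw [map_mul, mul_smul, hk]; simp)⟩)
    (fun y hy => hfree y (Finset.mem_sdiff.1 hy).1) (fun y hy => hf y (Finset.mem_sdiff.1 hy).1)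
  refine ⟨ω + f x, h2.add (hf x hx), ?_⟩
  rw [← Finset.sum_sdiff h1, h3, Finset.sum_image fun g _ k _ e => by
    have := hfree x hx (k⁻¹ * g) (by rw [map_mul, mul_smul, e]; simp)
    exact (inv_mul_eq_one.1 this).symm]
  simp [hinv, mul_add]

/-- Peterfalvi 6.7. -/
theorem sylow_TI_congr [Finite G] {p : ℕ} [hp : Fact p.Prime] {P Z : Subgroup G}
    (hP : Solv.IsSylowIn p P ⊤) (hTI : IsTISubset (P : Set G))
    (hodd : Odd (Nat.card (Subgroup.normalizer (P : Set G)))) (hZP : Z ≤ P)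
    (hZn : ∀ x ∈ Subgroup.normalizer (P : Set G), ∀ z ∈ Z, x * z * x⁻¹ ∈ Z)
    (hZc : ∀ z ∈ Z, ∀ y ∈ P, z * y = y * z) {ψ : G → ℂ} (hψ : IsIrrCharacter G ψ)
    (hconst : ∀ z ∈ Z, ∀ z' ∈ Z, z ≠ 1 → z' ≠ 1 → ψ z = ψ z') {z : G} (hz : z ∈ Z) (hz1 : z ≠ 1) :
    ∃ n d : ℤ, ψ z = n ∧ ψ 1 = d ∧ (Nat.card P : ℤ) ∣ d - n := by
  classical
  have := Fintype.ofFinite G
  have hN : ∀ {x g : G}, x ∈ P → x ≠ 1 → g * x * g⁻¹ ∈ P → g ∈ Subgroup.normalizer (P : Set G) :=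
    fun {x g} hx h1 h2 => by_contra fun h => h1 (hTI g h x hx h2)
  have h1 : ∀ b ∈ Z, b ≠ 1 → ∀ u, IsConj b u → ∀ x : P, x ≠ 1 → x * u * (x : G)⁻¹ = u → u ∈ Z := by
    intro b hb hb1 u hu x hx e
    obtain ⟨g, rfl⟩ := isConj_iff.1 hu
    have h2 : g⁻¹ * x * g⁻¹⁻¹ ∈ Subgroup.normalizer (P : Set G) := hN (hZP hb) hb1 (by
      convert hZP hb using 1
      calc _ = g⁻¹ * (x * (g * b * g⁻¹) * (x : G)⁻¹) * g := by group
        _ = b := by rw [e]; group)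
    have h3 : g⁻¹ * x * g⁻¹⁻¹ ∈ P := hP.le_of_le_normalizer' (U := Subgroup.zpowers _)
      (Solv.isPGroup_iff_forall_mem.2 (by
        obtain ⟨k, hk⟩ := Solv.isPGroup_iff_forall_mem.1 hP.isPGroup x x.2
        rintro _ ⟨j, rfl⟩
        exact ⟨k, by
          rw [← zpow_natCast, ← zpow_mul, mul_comm, zpow_mul, zpow_natCast, conj_pow, hk]; simp⟩))
      le_top (Subgroup.zpowers_le.2 h2) (Subgroup.mem_zpowers _)
    exact hZn g (Subgroup.inv_mem_iff _ |>.1 (hN x.2 (by simpa using hx) h3)) b hb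
  set c := (Subgroup.centralizer ({z} : Set G)).index with hc
  have key : ∀ b ∈ Z, b ≠ 1 → ∃ N : ℕ, ∀ χ, IsIrrCharacter G χ →
      (∀ z ∈ Z, ∀ z' ∈ Z, z ≠ 1 → z' ≠ 1 → χ z = χ z') → ∃ ω, IsIntegral ℤ ω ∧
        c * (Subgroup.centralizer ({b} : Set G)).index * (χ z * χ z / χ 1) =
          (if IsConj z⁻¹ b then c else 0) * χ 1 + N * χ z + Nat.card P * ω := by
    intro b hb hb1
    let s : Finset (G × G) := Finset.univ.filter fun w => IsConj z w.1 ∧ IsConj b w.2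
    let Q : G × G → Prop := fun w => ∃ y ∈ Z, IsConj y (w.1 * w.2)
    refine ⟨((s.filter Q).filter fun w => ¬ w.1 * w.2 = 1).card, fun χ hχ hχc => ?_⟩
    obtain ⟨ω, h2, h3⟩ := exists_integral_sum_free (MulAut.conj.comp P.subtype)
      (fun w : G × G => χ (w.1 * w.2)) (s.filter fun w => ¬ Q w) (by
        rintro g ⟨u, v⟩ hw
        simp only [s, Q, Finset.mem_filter, Finset.mem_univ, true_and, MonoidHom.comp_apply,
          Prod.smul_mk, MulAut.smul_def, MulAut.conj_apply, conj_mul] at hw ⊢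
        exact ⟨⟨hw.1.1.trans (isConj_iff.2 ⟨_, rfl⟩), hw.1.2.trans (isConj_iff.2 ⟨_, rfl⟩)⟩,
          fun ⟨y, hy, h⟩ => hw.2 ⟨y, hy, h.trans (isConj_iff.2 ⟨_, rfl⟩).symm⟩⟩) (by
        rintro ⟨u, v⟩ hw g e
        simp only [s, Q, Finset.mem_filter, Finset.mem_univ, true_and, MonoidHom.comp_apply,
          Prod.smul_mk, MulAut.smul_def, MulAut.conj_apply, Prod.mk.injEq] at hw e
        by_contra h
        exact hw.2 ⟨_, Z.mul_mem (h1 z hz hz1 u hw.1.1 g h e.1) (h1 b hb hb1 v hw.1.2 g h e.2),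
          IsConj.refl _⟩) (fun w _ => hχ.isCharacter.isIntegral _) (by
        rintro g ⟨u, v⟩
        simp only [MonoidHom.comp_apply, Prod.smul_mk, MulAut.smul_def, MulAut.conj_apply, conj_mul,
          hχ.isCharacter.apply_conj])
    refine ⟨ω, h2, ?_⟩
    have h4 := sum_classInd_mul_mul hχ z b
    rw [hχc b hb z hz hb1 hz1, ← Fintype.sum_prod_type', ← hc] at h4
    rw [← h4, ← h3, show ∑ w : G × G, classInd z w.1 * classInd b w.2 * χ (w.1 * w.2) =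
      ∑ w ∈ s, χ (w.1 * w.2) by
        rw [Finset.sum_filter]
        refine Finset.sum_congr rfl fun w _ => ?_
        by_cases e1 : IsConj z w.1 <;> by_cases e2 : IsConj b w.2 <;>
          simp [classInd, e1, e2, -isConj_iff],
      ← Finset.sum_filter_add_sum_filter_not s Q,
      ← Finset.sum_filter_add_sum_filter_not (s.filter Q) fun w => w.1 * w.2 = 1]
    congr 2
    · rw [Finset.sum_congr rfl (g := fun _ => χ 1) fun w hw => by rw [(Finset.mem_filter.1 hw).2],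
        Finset.sum_const, nsmul_eq_mul]
      congr 1
      split_ifs with e
      · rw [hc, ← card_isConj_eq_index, Nat.card_eq_fintype_card, Fintype.card_subtype]
        congr 1
        refine Finset.card_bij (fun w _ => w.1) (fun w hw => ?_) (fun w hw w' hw' e => ?_)
          fun u hu => ⟨(u, u⁻¹), ?_, rfl⟩
        · simp only [s, Finset.mem_filter, Finset.mem_univ, true_and] at hw ⊢
          exact hw.1.1.1
        · exact Prod.ext e (by
            rw [eq_inv_of_mul_eq_one_right (Finset.mem_filter.1 hw).2,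
              eq_inv_of_mul_eq_one_right (Finset.mem_filter.1 hw').2, e])
        · simp only [s, Q, Finset.mem_filter, Finset.mem_univ, true_and, mul_inv_cancel,
            and_true] at hu ⊢
          obtain ⟨g, rfl⟩ := isConj_iff.1 hu
          exact ⟨⟨hu, e.symm.trans (isConj_iff.2 ⟨g, by group⟩)⟩, 1, Z.one_mem, IsConj.refl _⟩
      · rw [Nat.cast_inj, Finset.card_eq_zero, Finset.eq_empty_iff_forall_notMem]
        intro w hw
        simp only [s, Finset.mem_filter, Finset.mem_univ, true_and] at hw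
        obtain ⟨g, hg⟩ := isConj_iff.1 hw.1.1.1
        refine e (IsConj.trans (isConj_iff.2 ⟨g, ?_⟩) hw.1.1.2.symm)
        rw [eq_inv_of_mul_eq_one_right hw.2, ← hg]; group
    · rw [Finset.sum_congr rfl (g := fun _ => χ z) fun w hw => by
        obtain ⟨hw, e⟩ := Finset.mem_filter.1 hw
        obtain ⟨y, hy, h⟩ := (Finset.mem_filter.1 hw).2
        rw [← hχ.isClassFunction.eq_of_isConj h, hχc y hy z hz (by
          rintro rfl; exact e (isConj_one_right.1 h)) hz1], Finset.sum_const, nsmul_eq_mul]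
  obtain ⟨N₁, h2⟩ := key z hz hz1
  obtain ⟨N₂, h3⟩ := key z⁻¹ (Z.inv_mem hz) (inv_ne_one.2 hz1)
  have h4 : ¬ IsConj z⁻¹ z := fun h => by
    obtain ⟨g, hg⟩ := isConj_iff.1 h.symm
    have h5 := hN (hZP hz) hz1 (hg ▸ P.inv_mem (hZP hz))
    exact hz1 (congrArg Subtype.val (eq_one_of_isConj_inv_of_odd hodd
      (g := ⟨z, Subgroup.le_normalizer (hZP hz)⟩) (isConj_iff.2 ⟨⟨g, h5⟩, Subtype.ext hg⟩)))
  have h5 : (Subgroup.centralizer ({z⁻¹} : Set G)).index = c := by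
    congr 1
    ext x
    simp only [Subgroup.mem_centralizer_singleton_iff]
    exact Commute.inv_right_iff
  simp only [if_neg h4, h5, IsConj.refl, if_true, ← hc] at h2 h3
  obtain ⟨ω₁, i₁, e₁⟩ := h2 ψ hψ hconst
  obtain ⟨ω₂, i₂, e₂⟩ := h3 ψ hψ hconst
  obtain ⟨ω₃, i₃, e₃⟩ := h2 _ isIrrCharacter_one (by simp)
  obtain ⟨ω₄, i₄, e₄⟩ := h3 _ isIrrCharacter_one (by simp)
  obtain ⟨n, hn⟩ := hψ.isGen.exists_int_of_forall_pow z fun k hk =>
    hconst _ (Z.pow_mem hz k) z hz (fun h => hz1 (orderOf_eq_one_iff.1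
      (Nat.eq_one_of_dvd_coprimes hk (orderOf_dvd_of_pow_eq_one h) dvd_rfl))) hz1
  obtain ⟨d, hd⟩ := hψ.isGen.exists_degree
  refine ⟨n, d, hn, hd, ?_⟩
  have h6 : (Nat.card P : ℤ) ∣ c * (d - n) := int_dvd_of_isIntegral_div
    (by exact_mod_cast Nat.card_pos.ne') (by
      rw [hn, hd] at e₁ e₂
      rw [(div_eq_iff (by exact_mod_cast Nat.card_pos.ne')).2 (show _ = (ω₁ - ω₂ - (ω₃ - ω₄) * n) * _
        by push_cast; linear_combination e₁ - e₂ - n * e₃ + n * e₄)]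
      exact (i₁.sub i₂).sub ((i₃.sub i₄).mul (isIntegral_algebraMap (x := n))))
  refine IsCoprime.dvd_of_dvd_mul_left (Nat.isCoprime_iff_coprime.2 ?_) h6
  refine Nat.Coprime.coprime_dvd_right (Subgroup.index_dvd_of_le (H := P) fun y hy =>
    Subgroup.mem_centralizer_singleton_iff.2 (hZc z hz y hy).symm) ?_
  simpa using hP.coprime

section general

variable {L : Type*} [Group L] [Fintype L] [Fintype G] {S S₁ : Set (L → ℂ)}
  {τ τ' ν : (L → ℂ) →ₗ[ℂ] (G → ℂ)} {R : (L → ℂ) → Finset (G → ℂ)}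

theorem CohWith.congr (h : CohWith S τ ν) (e : ∀ α ∈ Submodule.span ℂ S, α 1 = 0 → τ' α = τ α) :
    ∃ ν', CohWith S τ' ν' ∧ ∀ χ ∈ S, ν' χ = ν χ := by
  suffices ∃ ν', IsExt τ' ν' ∧ ∀ χ ∈ S, ν' χ = ν χ by
    obtain ⟨ν', h1, h2⟩ := this
    exact ⟨ν', ⟨h1, fun χ hχ ψ hψ => by rw [h2 χ hχ, h2 ψ hψ, h.iso χ hχ ψ hψ],
      fun χ hχ => h2 χ hχ ▸ h.gen χ hχ⟩, h2⟩
  by_cases h0 : ∃ χ ∈ S, χ 1 ≠ 0
  · obtain ⟨χ₀, h1, h2⟩ := h0
    obtain ⟨ν', h3, h4⟩ := exists_isExt τ' h2 (ν χ₀)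
    refine ⟨ν', h3, fun χ hχ => ?_⟩
    have h5 : χ 1 = χ 1 / χ₀ 1 * χ₀ 1 := by field_simp
    have := e _ (sub_smul_mem_span hχ h1 (χ 1 / χ₀ 1)) (by simp [← h5])
    rwa [h3.sub_smul h5, h.ext.sub_smul h5, h4, sub_left_inj] at this
  · push Not at h0
    exact ⟨τ', fun _ _ => rfl, fun χ hχ => by
      rw [e χ (Submodule.subset_span hχ) (h0 χ hχ), h.ext χ (h0 χ hχ)]⟩

theorem Coh.congr (h : Coh S τ) (e : ∀ α ∈ Submodule.span ℂ S, α 1 = 0 → τ' α = τ α) :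
    Coh S τ' := by
  obtain ⟨ν, hν⟩ := h
  obtain ⟨ν', h', -⟩ := hν.congr e
  exact h'.coh

theorem IsoOn.congr (h : IsoOn S τ) (e : ∀ α ∈ Submodule.span ℂ S, α 1 = 0 → τ' α = τ α) :
    IsoOn S τ' where
  char := h.char
  iso α hα β hβ h1 h2 := by rw [e α hα h1, e β hβ h2, h.iso α hα β hβ h1 h2]
  gen α hα h1 := by rw [e α (mem_span_complex hα) h1]; exact h.gen α hα h1
  one α hα h1 := by rw [e α hα h1, h.one α hα h1]

namespace CohSys

variable (h : CohSys S τ R)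
include h

theorem congr (e : ∀ α ∈ Submodule.span ℂ S, α 1 = 0 → τ' α = τ α) : CohSys S τ' R :=
  { h.toIsoOn.congr e, h with
    sum_eq := fun χ hχ => by
      rw [e _ (sub_mem_span hχ (h.conj_mem χ hχ)) (by simp [h.conj_one hχ]), h.sum_eq χ hχ] }

theorem rip_le_ext (hS : ConjSub S₁ S) (hν : CohWith S₁ τ ν) {χ χ₁ : L → ℂ} (hχ : χ ∈ S)
    (hχ₁ : χ ∉ S₁) (h₁ : χ₁ ∈ S₁) (hg : IsGeneralizedCharacter G (ν χ)) :
    rip χ χ ≤ rip (ν χ) (ν χ) := by
  have ho : ∀ φ ∈ S₁, classInner φ χ = 0 := fun φ hφ =>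
    h.orth φ (hS.sub hφ) χ hχ (by rintro rfl; exact hχ₁ hφ)
  have ha : χ 1 = χ 1 / χ₁ 1 * χ₁ 1 := by have := h.one_ne_zero (hS.sub h₁); field_simp
  have h4 := h.rip_sum_R hχ (Submodule.smul_mem _ (χ 1 / χ₁ 1) (Submodule.subset_span (hS.sub h₁)))
    (by simp [← ha]) (rip_eq_zero (by rw [classInner_smul_left, ho _ h₁, mul_zero]))
    (rip_eq_zero (by
      rw [classInner_smul_left, h.orth _ (hS.sub h₁) _ (h.conj_mem χ hχ) (by
        rintro rfl; exact hS.conj_not_mem hχ₁ h₁), mul_zero]))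
  rw [hν.ext.sub_smul ha, rip_sub_left, rip_eq_zero (φ := _ • _) (by
    rw [classInner_smul_left, orth_sum_right fun α => h.orth_R hS hν h₁ hχ hχ₁, mul_zero]),
    sub_zero] at h4
  exact h4 ▸ ((h.on χ hχ).le_rip_proj hg).trans ((h.on χ hχ).rip_proj_le _)

theorem rip_ext_nonneg (hS : ConjSub S₁ S) (hν : CohWith S₁ τ ν) {χ χ₁ : L → ℂ} (hχ : χ ∈ S)
    (hχ₁ : χ ∉ S₁) (h₁ : χ₁ ∈ S₁) {a : ℕ} (ha : χ 1 = a * χ₁ 1) : 0 ≤ rip (ν χ) (ν χ₁) := by
  have h1 := h.rip_le_ext hS hν hχ hχ₁ h₁ (h.gen_ext hν.ext hχ (hS.sub h₁) ha (hν.gen _ h₁))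
  have hm := sub_smul_mem_span (R := ℂ) hχ (hS.sub h₁) a
  have h0 : (χ - (a : ℂ) • χ₁) 1 = 0 := by simp [ha]
  have h3 := h.rip_ext hν.ext hm hm h0 h0
  simp only [map_sub, map_smul, rip_sub_left, rip_sub_right, rip_natCast_smul_left,
    rip_natCast_smul_right, rip_comm (ν χ₁) (ν χ), rip_comm χ₁ χ,
    h.rip_orth hχ (hS.sub h₁) (by rintro rfl; exact hχ₁ h₁), hν.rip_eq h₁ h₁] at h3
  have h4 : (0 : ℝ) < a := by
    refine Nat.cast_pos.2 (Nat.pos_of_ne_zero ?_)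
    rintro rfl
    exact h.one_ne_zero hχ (by simpa using ha)
  nlinarith

theorem exists_swap (hS : ConjSub S₁ S) (hν : CohWith S₁ τ ν) (hi : ∀ η ∈ S₁, IsIrrCharacter L η)
    {η₁ : L → ℂ} (h₁ : η₁ ∈ S₁) (hd : ∀ η ∈ S₁, η 1 = η₁ 1) {ξ : L → ℂ}
    (hξ : ξ ∈ Submodule.span ℂ S) (ho : ∀ η ∈ S₁, classInner ξ η = 0) {a : ℝ}
    (ha : ξ 1 = a * η₁ 1) (hlt : rip ξ ξ < a ^ 2) {x : ℤ} (hx : rip (ν ξ) (ν η₁) = x * a) :
    ∃ ν', CohWith S₁ τ ν' ∧ rip (ν' ξ) (ν' η₁) = 0 := by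
  by_cases h0 : x = 0
  · exact ⟨ν, hν, by simp [hx, h0]⟩
  have h1 := h.one_ne_zero (hS.sub h₁)
  have h2 : ∀ η ∈ S₁, rip (ν ξ) (ν η) = x * a := fun η hη => by
    have := h.inner_prop hS.sub hν hξ hη h₁ h1 (ho η hη) (ho _ h₁)
    rw [hd η hη, mul_right_inj' h1] at this
    rw [rip, this, ← rip, hx]
  have h3 : ∀ η ∈ S₁, rip (ν η) (ν η) = 1 := fun η hη => by
    rw [hν.rip_eq hη hη, (hi η hη).rip_self]
  have h4 : ∀ η ∈ S₁, ∀ η' ∈ S₁, η ≠ η' → rip (ν η) (ν η') = 0 := fun η hη η' hη' e => by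
    rw [hν.rip_eq hη hη', h.rip_orth (hS.sub hη) (hS.sub hη') e]
  have hm : ξ - (a : ℂ) • η₁ ∈ Submodule.span ℂ S :=
    Submodule.sub_mem _ hξ (Submodule.smul_mem _ _ (Submodule.subset_span (hS.sub h₁)))
  have h5 : (ξ - (a : ℂ) • η₁) 1 = 0 := by simp [ha]
  have h6 := h.rip_ext hν.ext hm hm h5 h5
  simp only [map_sub, map_smul, rip_sub_left, rip_sub_right, rip_real_smul_left,
    rip_real_smul_right, rip_comm (ν η₁) (ν ξ), rip_comm η₁ ξ, rip_eq_zero (ho _ h₁), hx,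
    h3 _ h₁, (hi _ h₁).rip_self] at h6
  have h₂ := hS.cj _ h₁
  have e₂ := h.conj_ne _ (hS.sub h₁)
  have h7 : (0 : ℝ) < a ^ 2 := (rip_self_nonneg ξ).trans_lt hlt
  have h8 : x = 1 := by
    have h8 := rip_self_nonneg (ν ξ - ((x * a : ℝ) : ℂ) • ν η₁ - ((x * a : ℝ) : ℂ) • ν (conjFun η₁))
    simp only [rip_sub_left, rip_sub_right, rip_real_smul_left, rip_real_smul_right,
      rip_comm _ (ν ξ), h2 _ h₁, h2 _ h₂, h3 _ h₁, h3 _ h₂, h4 _ h₁ _ h₂ e₂.symm,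
      h4 _ h₂ _ h₁ e₂] at h8
    have h9 : (2 * x ^ 2 : ℝ) < 1 + 2 * x := lt_of_mul_lt_mul_right (a := a ^ 2) (by nlinarith) h7.le
    have h10 : 2 * x ^ 2 < 1 + 2 * x := by exact_mod_cast h9
    rcases lt_trichotomy x 1 with h | h | h
    · have : x ≤ -1 := by omega
      nlinarith
    · exact h
    · nlinarith
  subst h8
  have h9 : ∀ η ∈ S₁, η = η₁ ∨ η = conjFun η₁ := fun η hη => by
    by_contra! e
    have h8 := rip_self_nonneg (ν ξ - (a : ℂ) • ν η₁ - (a : ℂ) • ν (conjFun η₁) - (a : ℂ) • ν η)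
    simp only [rip_sub_left, rip_sub_right, rip_real_smul_left, rip_real_smul_right,
      rip_comm _ (ν ξ), h2 _ h₁, h2 _ h₂, h3 _ h₁, h3 _ h₂, h4 _ h₁ _ h₂ e₂.symm,
      h4 _ h₂ _ h₁ e₂, h2 _ hη, h3 _ hη, h4 _ hη _ h₁ e.1, h4 _ h₁ _ hη e.1.symm,
      h4 _ hη _ h₂ e.2, h4 _ h₂ _ hη e.2.symm] at h8
    push_cast at h6 h8
    nlinarith
  obtain ⟨ν', hν', e⟩ := exists_isExt τ h1 (-ν (conjFun η₁))
  have e' : ν' (conjFun η₁) = -ν η₁ := by
    have := (hν'.sub (hd _ h₂)).symm.trans (hν.ext.sub (hd _ h₂))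
    rw [e] at this
    linear_combination this
  refine ⟨ν', h.pivot hS.sub hν' (Submodule.subset_span (hS.sub h₁)) h1 (by
    rw [e, classInner_neg_left, classInner_neg_right, neg_neg, hν.iso _ h₂ _ h₂,
      (hi _ h₂).classInner_self, (hi _ h₁).classInner_self]) fun η hη => ?_, ?_⟩
  · rcases h9 η hη with rfl | rfl
    · exact ⟨e ▸ (hν.gen _ h₂).neg, by
        rw [e, classInner_neg_left, classInner_neg_right, neg_neg, hν.iso _ h₂ _ h₂,
          (hi _ h₂).classInner_self, (hi _ h₁).classInner_self]⟩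
    · exact ⟨e' ▸ (hν.gen _ h₁).neg, by
        rw [e, e', classInner_neg_left, classInner_neg_right, neg_neg, hν.iso _ h₁ _ h₂,
          h.orth _ (hS.sub h₁) _ (hS.sub h₂) e₂.symm, h.orth _ (hS.sub h₂) _ (hS.sub h₁) e₂]⟩
  · have := (hν'.sub_smul ha).symm.trans (hν.ext.sub_smul ha)
    rw [sub_eq_iff_eq_add.1 this, e]
    simp [h2 _ h₂, h3 _ h₂, h4 _ h₁ _ h₂ e₂.symm]

end CohSys

end general

/-- The common part of the two cases of Sibley's theorem. -/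
structure SibHyp [Fintype G] (L : Subgroup G) [Fintype L] (H : Subgroup L) (p : ℕ)
    (R : (L → ℂ) → Finset (G → ℂ)) : Prop where
  sys : CohSys (indD H H ⊥) (indLin L) R
  odd : Odd (Nat.card L)
  ti : ∀ x ∈ H, x ≠ 1 → ∀ y ∈ H, ∀ g : G, g * x * g⁻¹ = y → g ∈ L
  prime : p.Prime
  pg : IsPGroup p H
  frob : FrobMod H H ⁅H, H⁆
  nab : ⁅H, H⁆ ≠ ⊥

theorem ind_apply_of_ti [Fintype G] {L : Subgroup G} {H : Subgroup L}
    (ti : ∀ x ∈ H, x ≠ 1 → ∀ y ∈ H, ∀ g : G, g * x * g⁻¹ = y → g ∈ L) {α : L → ℂ}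
    (hα : IsClassFunction L α) (h0 : ∀ x, x ∉ H → α x = 0) {x : L} (hx : x ∈ H) (h1 : x ≠ 1) :
    indFun L α x = α x :=
  indFun_apply_of_TI L hα x fun g hg h => h0 _ fun h' => hg (ti x hx h1 _ h' g rfl)

theorem isoOn_ind_of_ti [Fintype G] {L : Subgroup G} [Fintype L] {H : Subgroup L} [H.Normal]
    (ti : ∀ x ∈ H, x ≠ 1 → ∀ y ∈ H, ∀ g : G, g * x * g⁻¹ = y → g ∈ L) :
    IsoOn (indD H H ⊥) (indLin L) :=
  isoOn_of_supp (A := {x | x ∈ H ∧ x ≠ 1}) (fun _ => isCharacter_of_mem_indD)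
    (fun _ hχ _ h1 h2 => eq_zero_of_mem_indD hχ fun h => h2 ⟨h, h1⟩)
    (fun α β _ hβ h1 h2 => classInner_indFun_of_TI L α hβ fun a ha g hg h => h2 _ fun h' => by
      have := by_contra fun e => ha (h1 a e)
      exact hg (ti a this.1 this.2 _ h'.1 g rfl))
    (fun α hα _ => hα.ind) fun α _ h => by
      change indFun L α 1 = 0
      rw [indFun_one, h 1 (by simp), mul_zero]

namespace SibHyp

variable [Fintype G] {L : Subgroup G} [Fintype L] {H Z : Subgroup L} [hH : H.Normal] {p : ℕ}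
  {R : (L → ℂ) → Finset (G → ℂ)} (h : SibHyp L H p R) {ν : (L → ℂ) →ₗ[ℂ] (G → ℂ)}
include h

omit hH in
theorem nilpotent : Group.IsNilpotent H := haveI := Fact.mk h.prime; h.pg.isNilpotent

theorem commutator_lt : ⁅H, H⁆ < H :=
  Solv.commutator_lt_of_nilpotent h.nilpotent le_rfl le_rfl Subgroup.le_normalizer
    fun e => h.nab (by simp [e])

theorem le_relIndex : 2 * H.index + 1 ≤ ⁅H, H⁆.relIndex H :=
  h.frob.two_mul_add_one_le h.odd (commutator_le_self' H) h.commutator_lt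

theorem not_dvd : ¬ p ∣ H.index := fun h1 => by
  have := Fact.mk h.prime
  obtain ⟨k, hk⟩ := IsPGroup.iff_card.1 h.pg
  obtain ⟨j, -, hj⟩ := (Nat.dvd_prime_pow h.prime).1 (hk ▸ Subgroup.relIndex_dvd_card ⁅H, H⁆ H)
  have h2 := one_lt_relIndex_of_lt h.commutator_lt
  have h3 : p ∣ ⁅H, H⁆.relIndex H := hj ▸ dvd_pow_self p (by rintro rfl; simp [hj] at h2)
  have := (Nat.dvd_sub_iff_right h2.le h3).1 (h1.trans (h.frob.index_dvd (commutator_le_self' H)))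
  exact h.prime.one_lt.ne' (Nat.dvd_one.1 this)

theorem congr_dirr [hZ : Z.Normal] (hZH : Z ≤ H) (hZc : ∀ z ∈ Z, ∀ y ∈ H, z * y = y * z)
    {ψ : G → ℂ} (hψ : IsDirr G ψ)
    (hc : ∀ z ∈ Z, ∀ z' ∈ Z, z ≠ 1 → z' ≠ 1 → ψ z = ψ z') {z : L} (hz : z ∈ Z) (hz1 : z ≠ 1) :
    ∃ n d : ℤ, ψ z = n ∧ ψ 1 = d ∧ (Nat.card H : ℤ) ∣ d - n := by
  have := Fact.mk h.prime
  have h1 : Subgroup.normalizer ((H.map L.subtype : Subgroup G) : Set G) = L := by
    refine le_antisymm (fun g hg => ?_) fun g hg => Solv.mem_normalizer_of_conj_mem ?_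
    · obtain ⟨y, hy, e⟩ := Solv.conj_mem_of_mem_normalizer hg ⟨z, hZH hz, rfl⟩
      exact h.ti z (hZH hz) hz1 y hy g e.symm
    · rintro _ ⟨x, hx, rfl⟩
      exact ⟨_, hH.conj_mem x hx ⟨g, hg⟩, rfl⟩
  have key : ∀ ψ, IsIrrCharacter G ψ → (∀ z ∈ Z, ∀ z' ∈ Z, z ≠ 1 → z' ≠ 1 → ψ z = ψ z') →
      ∃ n d : ℤ, ψ z = n ∧ ψ 1 = d ∧ (Nat.card H : ℤ) ∣ d - n := fun ψ hψ hc => by
    have := sylow_TI_congr (P := H.map L.subtype) (Z := Z.map L.subtype)
      (Solv.IsSylowIn.of_normalizer le_top (by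
        rw [h1, inf_top_eq]
        exact ⟨Subgroup.map_subtype_le H, h.pg.map _, by
          rw [Solv.relIndex_map_subtype]; exact h.not_dvd⟩))
      (by
        rintro g hg _ ⟨x, hx, rfl⟩ ⟨y, hy, e⟩
        by_contra h2
        exact hg (h1.ge (h.ti x hx (fun e => h2 (by simp [e])) y hy g e.symm)))
      (by rw [h1]; exact h.odd) (Subgroup.map_mono hZH)
      (by
        rw [h1]
        rintro g hg _ ⟨x, hx, rfl⟩
        exact ⟨_, hZ.conj_mem x hx ⟨g, hg⟩, rfl⟩)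
      (by
        rintro _ ⟨x, hx, rfl⟩ _ ⟨y, hy, rfl⟩
        exact congrArg Subtype.val (hZc x hx y hy)) hψ
      (by
        rintro _ ⟨x, hx, rfl⟩ _ ⟨y, hy, rfl⟩ h2 h3
        exact hc x hx y hy (fun e => h2 (by simp [e])) fun e => h3 (by simp [e]))
      ⟨z, hz, rfl⟩ (by simpa using hz1)
    rwa [Subgroup.card_map_of_injective L.subtype_injective] at this
  rcases hψ with hψ | hψ
  · exact key ψ hψ hc
  · obtain ⟨n, d, h2, h3, h4⟩ := key _ hψ fun z hz z' hz' e e' => by simp [hc z hz z' hz' e e']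
    refine ⟨-n, -d, by simp [← h2], by simp [← h3], ?_⟩
    rwa [neg_sub_neg, ← neg_sub, dvd_neg, ← neg_sub_neg, neg_sub_neg]

omit h in
theorem irr_Y {η : L → ℂ} (frob : FrobMod H H ⁅H, H⁆) (hη : η ∈ indD H H ⁅H, H⁆) :
    IsIrrCharacter L η := by
  obtain ⟨θ, hθ, h1, h2, rfl⟩ := hη
  refine hθ.ind_of_inertia_le fun g hg => by_contra fun hg' => h2 fun x _ => ?_
  have := hH.map (mk' ⁅H, H⁆) (mk'_surjective _)
  obtain ⟨_, ⟨y, hy, rfl⟩, e⟩ := exists_conj_eq_mul_of_fpf (N := H.map (mk' ⁅H, H⁆))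
    (h := mk' _ g) (by
      rintro _ ⟨a, ha, rfl⟩ e
      by_contra h4
      refine hg' (frob a ha (fun h5 => h4 ((eq_one_iff a).2 h5)) g ((eq_one_iff _).1 ?_))
      simp only [mk'_apply] at e
      simp [e]) ⟨x, x.2, rfl⟩
  have h3 : y * (g * y⁻¹ * g⁻¹) * (x : L)⁻¹ ∈ ⁅H, H⁆ := (eq_one_iff _).1 (by
    simp only [mk'_apply] at e
    simp only [mk_mul, mk_inv, ← mul_assoc, e]
    group)
  have h4 := h1.apply_one_eq_one hθ
  have h5 := hθ.isCharacter.map_mul_of_apply_one h4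
  have h6 := h1 (⟨y, hy⟩ * ⟨_, hH.conj_mem _ (H.inv_mem hy) g⟩ * x⁻¹) h3
  have h7 := mem_inertia'.1 hg (⟨y, hy⟩⁻¹ : H)
  rw [h5, h5, show θ ⟨g * y⁻¹ * g⁻¹, _⟩ = _ from h7, ← h5, mul_inv_cancel, h4, one_mul] at h6
  rw [← one_mul (θ x), ← h6, ← h5, inv_mul_cancel]

theorem coh_union [Z.Normal] (hZ1 : Z ≠ ⊥) (hZ : Z ≤ ⁅H, H⁆)
    (hZc : ∀ z ∈ Z, ∀ y ∈ H, z * y = y * z) (hν : CohWith (indD H H ⁅H, H⁆) (indLin L) ν)
    {η₁ : L → ℂ} (h₁ : η₁ ∈ indD H H ⁅H, H⁆)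
    (hc : ∀ z ∈ Z, ∀ z' ∈ Z, z ≠ 1 → z' ≠ 1 → ν η₁ z = ν η₁ z') :
    Coh (indD H Z ⊥ ∪ indD H H ⁅H, H⁆) (indLin L) := by
  classical
  have hZH := hZ.trans (commutator_le_self' H)
  have hY := conjSub_indD (indD_subset H H ⁅H, H⁆)
  have hd : ∀ η ∈ indD H H ⁅H, H⁆, η 1 = H.index := fun η hη => apply_one_of_mem_indD hη le_rfl
  have hXY : ∀ χ ∈ indD H Z ⊥, χ ∉ indD H H ⁅H, H⁆ := fun χ h1 h2 =>
    not_le_charKer_of_mem_indD hZH h1 (hZ.trans (le_charKer_of_mem_indD (commutator_le_self' H) h2))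
  obtain ⟨z, hz, hz1⟩ := Solv.exists_ne_one_of_ne_bot hZ1
  obtain ⟨n, d, hn, hd1, k, hk⟩ := h.congr_dirr hZH hZc (hν.isDirr h₁ (irr_Y h.frob h₁)) hc hz hz1
  set ξ := ∑ φ ∈ indF H Z ⊥, ((deg φ / rip φ φ : ℝ) : ℂ) • φ with hξ
  have hXS : (indF H Z ⊥ : Set (L → ℂ)) ⊆ indD H H ⊥ := by simpa using indD_subset H Z ⊥
  have h1 : ξ ∈ Submodule.span ℂ (indD H H ⊥) :=
    Submodule.sum_mem _ fun φ hφ => Submodule.smul_mem _ _ (Submodule.subset_span (hXS hφ))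
  have h2 : ∀ x, ξ x = H.index * ((if x = 1 then (Nat.card H : ℂ) else 0) -
      if x ∈ Z then (Z.relIndex H : ℂ) else 0) := fun x => by
    simpa [hξ, Finset.sum_apply] using sum_indF_apply (K := H) (H := Z) (M := ⊥) hZH bot_le x
  have h3 : rip ξ ξ = H.index * ((Nat.card H : ℝ) - Z.relIndex H) := by
    rw [hξ, h.sys.rip_wsum_self hXS]
    simpa using sum_indF_deg_sq (K := H) (H := Z) (M := ⊥) hZH bot_le
  set a : ℝ := Nat.card H - Z.relIndex H with ha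
  have h4 : ξ 1 = a * η₁ 1 := by rw [h2, hd _ h₁, ha]; simp [mul_comm]
  have h5 := Solv.card_mul_relIndex hZH
  have h6 : (H.index : ℝ) < a := by
    have h6 := h.le_relIndex.trans
      (Subgroup.relIndex_le_of_le_left hZ Subgroup.index_ne_zero_of_finite)
    have h7 : 2 ≤ Nat.card Z := (Subgroup.one_lt_card_iff_ne_bot Z).2 hZ1
    rw [ha, ← h5, lt_sub_iff_add_lt]
    norm_cast
    nlinarith
  have h7 : (0 : ℝ) < H.index := by
    exact_mod_cast Nat.pos_of_ne_zero Subgroup.index_ne_zero_of_finite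
  have hg := hν.gen _ h₁
  obtain ⟨m, hm⟩ := (isCharacter_of_mem_indD h₁).isGen.classInner_eq_int (hg.res L)
  have h8 : classInner ξ (fun x : L => ν η₁ x) = a * k := by
    have e1 : ∑ x : L with x ∈ Z, conj (ν η₁ x) = d + (Nat.card Z - 1) * n := by
      rw [← Finset.add_sum_erase _ _ (a := 1) (by simp), Finset.sum_congr rfl (g := fun _ => (n : ℂ))
        fun x hx => by
          simp only [Finset.mem_erase, Finset.mem_filter, Finset.mem_univ, true_and] at hx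
          rw [hc x hx.2 z hz hx.1 hz1, hn, map_intCast],
        Finset.sum_const, Finset.card_erase_of_mem (by simp), ← Fintype.card_subtype,
        ← Nat.card_eq_fintype_card, nsmul_eq_mul, Nat.cast_sub Nat.card_pos]
      simp [hd1]
    simp only [classInner, h2, mul_assoc, sub_mul, ite_mul, zero_mul, ← Finset.mul_sum,
      Finset.sum_sub_distrib, Finset.sum_ite_eq', Finset.mem_univ, if_true, ← Finset.sum_filter, e1]
    have e2 : (d : ℂ) = n + Nat.card H * k := by exact_mod_cast (by linarith : d = n + Nat.card H * k)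
    have e3 := H.index_mul_card
    have e4 := card_ne_zero' L
    rw [OneMemClass.coe_one, hd1, map_intCast, e2, ha, inv_mul_eq_iff_eq_mul₀ e4, ← e3, ← h5]
    push_cast
    ring
  obtain ⟨ν', hν', h9⟩ := h.sys.exists_swap hY hν (fun η => irr_Y h.frob) h₁
    (fun η hη => by rw [hd _ hη, hd _ h₁]) h1 (fun η hη => by
      rw [hξ, classInner_sum_left]
      refine Finset.sum_eq_zero fun φ hφ => ?_
      rw [classInner_smul_left, orth_of_mem_indD (mem_indF.1 hφ) hη (by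
        rintro rfl; exact hXY _ (mem_indF.1 hφ) hη), mul_zero]) h4 (by rw [h3]; nlinarith)
    (x := k - m + 1) (by
      have e := hν.ext.sub_smul h4
      rw [eq_sub_iff_add_eq] at e
      rw [← e, rip_add_left, rip_real_smul_left, hν.rip_eq h₁ h₁, (irr_Y h.frob h₁).rip_self,
        rip_eq_of_classInner (r := a * k - a * m)]
      · push_cast; ring
      · change classInner (indFun L _) _ = _
        rw [frobenius_left _ _ hg.isClassFunction, classInner_sub_left, classInner_smul_left, h8, hm]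
        push_cast; ring)
  have hpos : ∀ φ ∈ indD H Z ⊥, ∃ a : ℕ, φ 1 = a * η₁ 1 := fun φ hφ => by
    obtain ⟨c, -, hc⟩ := exists_degree_of_mem_indD hφ
    exact ⟨c, by rw [hc, hd _ h₁, mul_comm]⟩
  rw [hξ, map_sum, rip_sum_left, Finset.sum_eq_zero_iff_of_nonneg fun φ hφ => by
    obtain ⟨c, hc⟩ := hpos φ (mem_indF.1 hφ)
    rw [map_smul, rip_real_smul_left]
    exact mul_nonneg (div_pos (h.sys.deg_pos (hXS hφ)) (h.sys.rip_pos (hXS hφ))).le
      (h.sys.rip_ext_nonneg hY hν' (hXS hφ) (hXY _ (mem_indF.1 hφ)) h₁ hc)] at h9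
  refine ⟨ν', h.sys.pivot (Set.union_subset (indD_subset H Z ⊥) hY.sub) hν'.ext
    (Submodule.subset_span (hY.sub h₁)) (h.sys.one_ne_zero (hY.sub h₁)) (hν'.iso _ h₁ _ h₁) ?_⟩
  rintro χ (hχ | hχ)
  · obtain ⟨c, hc⟩ := hpos χ hχ
    have hχ' := indD_subset H Z ⊥ hχ
    have hg' := h.sys.gen_ext hν'.ext hχ' (hY.sub h₁) hc (hν'.gen _ h₁)
    have := h9 χ (mem_indF.2 hχ)
    rw [map_smul, rip_real_smul_left,
      mul_eq_zero_iff_left (div_pos (h.sys.deg_pos hχ') (h.sys.rip_pos hχ')).ne'] at this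
    exact ⟨hg', by
      rw [hg'.classInner_eq_zero (hν'.gen _ h₁) this,
        orth_of_mem_indD hχ h₁ (by rintro rfl; exact hXY _ hχ h₁)]⟩
  · exact ⟨hν'.gen χ hχ, hν'.iso _ hχ _ h₁⟩

theorem coh_of_union [Z.Normal] (hZ : Z ≤ ⁅H, H⁆) (hZc : ∀ z ∈ Z, ∀ y ∈ H, z * y = y * z)
    (hU : Coh (indD H Z ⊥ ∪ indD H H ⁅H, H⁆) (indLin L))
    (hlt : Z = ⁅H, H⁆ ∨ 4 * H.index ^ 2 < Z.relIndex H * (Nat.card Z - 1) ^ 2) :
    Coh (indD H H ⊥) (indLin L) := by
  have hZH := hZ.trans (commutator_le_self' H)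
  rcases hlt with rfl | hlt
  · refine hU.mono fun χ hχ => by_contra fun h1 => h1 (Or.inl ?_)
    rw [← indD_diff hZH]
    exact ⟨hχ, fun h2 => h1 (Or.inr h2)⟩
  obtain ⟨ν, hν⟩ := hU
  obtain ⟨η₁, h₁⟩ := indD_nonempty (K := H) le_rfl (commutator_le_self' H) h.commutator_lt.not_ge
  have hd := apply_one_of_mem_indD h₁ le_rfl
  refine (h.sys.extend_set ((conjSub_indD (indD_subset H Z ⊥)).union
    (conjSub_indD (indD_subset H H _))) hν subset_rfl (Or.inr h₁) (T := indF H Z ⊥)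
    (by simp) fun χ hχ _ => ⟨?_, ?_⟩).coh.mono Set.subset_union_right
  · obtain ⟨c, -, hc⟩ := exists_degree_of_mem_indD hχ
    exact ⟨c, by rw [hc, hd, mul_comm]⟩
  have h1 := deg_sq_le_of_mem_indD hZH le_rfl (fun d hd c hc => by rw [hZc d hd c hc]; simp) hχ
  rw [sum_indF_deg_sq hZH bot_le, deg_eq_nat hd, bot_sup_eq, Subgroup.relIndex_bot_left,
    ← Solv.card_mul_relIndex hZH, mul_comm]
  have h2 : (4 * (H.index : ℝ) ^ 2) < Z.relIndex H * ((Nat.card Z : ℝ) - 1) ^ 2 := by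
    rw [← Nat.cast_one (R := ℝ), ← Nat.cast_sub Nat.card_pos]; exact_mod_cast hlt
  have h3 : (0 : ℝ) < H.index := by
    exact_mod_cast Nat.pos_of_ne_zero Subgroup.index_ne_zero_of_finite
  have h4 : (1 : ℝ) ≤ Z.relIndex H := by exact_mod_cast one_le_relIndex Z H
  have h5 : (1 : ℝ) ≤ Nat.card Z := by exact_mod_cast Nat.card_pos
  push_cast
  gcongr
  exact lt_of_pow_lt_pow_left₀ 2 (by nlinarith) (by nlinarith)

theorem caseA [Z.Normal] (hZ1 : Z ≠ ⊥) (hZ : Z ≤ ⁅H, H⁆) (hZc : ∀ z ∈ Z, ∀ y ∈ H, z * y = y * z)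
    (hirr : ∀ χ ∈ indD H Z ⊥, IsIrrCharacter L χ) (hf : FrobMod H Z ⊥) :
    Coh (indD H H ⊥) (indLin L) := by
  classical
  have hZH := hZ.trans (commutator_le_self' H)
  obtain ⟨ν, hν⟩ := h.sys.coh_indD_of_commutator_le le_rfl
  obtain ⟨ν₂, hν₂⟩ := h.sys.coh_indD_center h.odd h.nilpotent h.frob hZH hZc hirr
  obtain ⟨η₁, h₁⟩ := indD_nonempty (K := H) le_rfl (commutator_le_self' H) h.commutator_lt.not_ge
  refine h.coh_of_union hZ hZc (h.coh_union hZ1 hZ hZc hν h₁ fun z hz z' hz' e e' => ?_)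
    (Or.inr ?_)
  · obtain ⟨χ₁, hχ₁⟩ := indD_nonempty (K := H) hZH bot_le (by simpa using hZ1)
    have hg := (hν.gen _ h₁).isClassFunction
    have h1 : ∀ χ ∈ indD H Z ⊥, classInner (ν η₁) (ν₂ χ) = 0 := fun χ hχ =>
      h.sys.orth_coh (conjSub_indD (indD_subset H H _)) hν (conjSub_indD (indD_subset H Z ⊥)) hν₂
        h₁ hχ fun h2 => not_le_charKer_of_mem_indD hZH hχ
          (hZ.trans (le_charKer_of_mem_indD (commutator_le_self' H) h2))
    have h2 := (hirr _ hχ₁).apply_one_ne_zero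
    have h3 : ∀ χ : IrrCharacter L, classInner (fun x : L => ν η₁ x) χ * (χ.1 z - χ.1 z') =
        classInner (fun x : L => ν η₁ x) χ₁ / χ₁ 1 * (χ.1 1 * χ.1 z - χ.1 1 * χ.1 z') := by
      intro χ
      by_cases h3 : Z ≤ charKer χ.1
      · rw [χ.2.isCharacter.mem_charKer.1 (h3 hz), χ.2.isCharacter.mem_charKer.1 (h3 hz')]; simp
      have h4 : χ.1 ∈ indD H Z ⊥ := by rw [indD_eq_irr hZH bot_le hirr]; exact ⟨χ.2, bot_le, h3⟩
      have h5 : χ.1 1 = χ.1 1 / χ₁ 1 * χ₁ 1 := by field_simp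
      have h6 := frobenius_right L (χ.1 - (χ.1 1 / χ₁ 1) • χ₁) hg
      rw [show indFun L _ = _ from hν₂.ext.sub_smul h5, classInner_sub_right, classInner_smul_right,
        h1 _ h4, h1 _ hχ₁, classInner_sub_right, classInner_smul_right, map_div₀,
        χ.2.isCharacter.conj_apply_one, (hirr _ hχ₁).isCharacter.conj_apply_one, mul_zero, sub_zero,
        eq_comm, sub_eq_zero] at h6
      rw [h6]; ring
    rw [← sub_eq_zero, (hg.res L).apply_eq_sum z, (hg.res L).apply_eq_sum z',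
      ← Finset.sum_sub_distrib, Finset.sum_congr rfl fun χ _ => (mul_sub ..).symm.trans (h3 χ),
      ← Finset.mul_sum, Finset.sum_sub_distrib, sum_degree_mul, sum_degree_mul, regChar_of_ne e,
      regChar_of_ne e', sub_zero, mul_zero]
  · have h1 := hf.two_mul_add_one_le h.odd bot_le (bot_lt_iff_ne_bot.2 hZ1)
    have h2 := one_lt_relIndex_of_lt (hZ.trans_lt h.commutator_lt)
    have h3 := Nat.pos_of_ne_zero (Subgroup.index_ne_zero_of_finite (H := H))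
    rw [Subgroup.relIndex_bot_left] at h1
    have h4 := Nat.pow_le_pow_left (show 2 * H.index ≤ Nat.card Z - 1 by omega) 2
    nlinarith [pow_pos h3 2]

theorem caseB [Z.Normal] (hZp : (Nat.card Z).Prime) (hZ : Z ≤ ⁅H, H⁆)
    (hZc : ∀ z ∈ Z, ∀ y ∈ H, z * y = y * z) (hf : FrobMod H H Z) :
    Coh (indD H H ⊥) (indLin L) := by
  have hZH := hZ.trans (commutator_le_self' H)
  have hZ1 : Z ≠ ⊥ := (Subgroup.one_lt_card_iff_ne_bot Z).1 hZp.one_lt
  obtain ⟨ν, hν⟩ := h.sys.coh_indD_of_commutator_le le_rfl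
  obtain ⟨η₁, h₁⟩ := indD_nonempty (K := H) le_rfl (commutator_le_self' H) h.commutator_lt.not_ge
  refine h.coh_of_union hZ hZc (h.coh_union hZ1 hZ hZc hν h₁ fun z hz z' hz' e e' => ?_) ?_
  · have := Fact.mk hZp
    have h1 : orderOf (z : G) = Nat.card Z := by
      rw [Subgroup.orderOf_coe]
      exact orderOf_eq_prime (congrArg Subtype.val (pow_card_eq_one' (x := (⟨z, hz⟩ : Z)))) e
    obtain ⟨k, hk⟩ := mem_powers_of_prime_card (G := Z) rfl (g := ⟨z, hz⟩) (g' := ⟨z', hz'⟩)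
      (by simpa using e)
    obtain rfl : z ^ k = z' := congrArg Subtype.val hk
    obtain ⟨σ, hσ⟩ := exists_ringEquiv_pow (k := k) hZp.ne_zero
      ((hZp.coprime_iff_not_dvd.2 fun h2 => e' (Subtype.ext
        (orderOf_dvd_iff_pow_eq_one.1 (h1 ▸ h2)))).symm)
    have h₂ := conj_mem_indD h₁
    have h2 := h.sys.map_ext (indD_subset H H _) hν σ.toRingHom
      (fun α => funext fun g => indFun_map L α _ g) h₁ h₂ (irr_Y h.frob h₁) (irr_Y h.frob h₂)
      (h.sys.conj_ne _ (indD_subset H H _ h₁)).symm (map_mem_indD h₁ _) (map_mem_indD h₂ _)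
    have h3 := map_mem_indD h₁ σ.toRingHom
    have h4 := (apply_one_of_mem_indD h3 le_rfl).trans (apply_one_of_mem_indD h₁ le_rfl).symm
    have h5 := congrFun (hν.ext.sub (χ := fun x => σ.toRingHom (η₁ x)) h4) z
    have h6 : ∀ η ∈ indD H H ⁅H, H⁆, η z = η 1 := fun η hη => (isCharacter_of_mem_indD hη).mem_charKer.1
      (le_charKer_of_mem_indD (commutator_le_self' H) hη (hZ hz))
    rw [show indLin L _ _ = _ from ind_apply_of_ti h.ti ((isCharacter_of_mem_indD h3).isClassFunction.sub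
      (isCharacter_of_mem_indD h₁).isClassFunction) (fun x hx => by
        rw [Pi.sub_apply, eq_zero_of_mem_indD h3 hx, eq_zero_of_mem_indD h₁ hx, sub_zero]) (hZH hz) e,
      Pi.sub_apply, h6 _ h3, h6 _ h₁, h4, sub_self, h2, Pi.sub_apply,
      (hν.gen _ h₁).ringHom_apply σ.toRingHom (k := k) _ (by rw [h1]; exact hσ), eq_comm,
      sub_eq_zero] at h5
    exact h5.symm
  · refine or_iff_not_imp_left.2 fun e => ?_
    have h1 := (hf.mono (commutator_le_self' H)).two_mul_add_one_le h.odd hZH (lt_of_le_of_ne hZ e)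
    have h2 := Nat.mul_le_mul h1 h.le_relIndex
    rw [Subgroup.relIndex_mul_relIndex _ _ _ hZ (commutator_le_self' H)] at h2
    have h3 := Nat.pow_le_pow_left (show 1 ≤ Nat.card Z - 1 by have := hZp.two_le; omega) 2
    nlinarith

end SibHyp

theorem center_inf_commutator {L : Type*} [Group L] [Finite L] {H : Subgroup L} [hH : H.Normal]
    (hnil : Group.IsNilpotent H) (h : ⁅H, H⁆ ≠ ⊥) :
    ⁅H, H⁆ ⊓ Subgroup.centralizer (H : Set L) ≠ ⊥ := by
  obtain ⟨N, h1, hN, h2, h3⟩ := Solv.exists_minimal_normal_le ⁅H, H⁆ h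
  have h4 := Solv.commutator_lt_of_nilpotent hnil (h1.trans (commutator_le_self' H)) le_rfl
    Subgroup.le_normalizer_of_normal h2
  exact fun e => h2 (eq_bot_iff.2 (e ▸ le_inf h1 (Subgroup.commutator_eq_bot_iff_le_centralizer.1
    ((h3 _ inferInstance h4.le).resolve_right h4.ne))))

theorem PrimeTI.frobMod {L A B : Type*} [Group L] [Finite L] [Group A] [Group B] {K M : Subgroup L}
    {f : A × B →* L} (h : PrimeTI K f) [hM : M.Normal] (h1 : ∀ b, f (1, b) ∈ M) (h2 : M ≤ K) :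
    FrobMod K K M := by
  intro k hk hkM x hx
  by_contra hxK
  have := h.normal
  obtain ⟨y, hy, a, b, ha, e⟩ := h.exists_conj hxK
  have e1 : f (a, 1) = y * x * y⁻¹ * (f (1, b))⁻¹ := by rw [e, ← map_inv, ← map_mul]; simp
  have h3 : y * k * y⁻¹ * f (a, 1) * (y * k * y⁻¹)⁻¹ * (f (a, 1))⁻¹ ∈ M := by
    rw [← eq_one_iff] at hx ⊢
    have h4 := (eq_one_iff _).2 (h1 b)
    simp only [e1, mk_mul, mk_inv, h4, inv_one, mul_one] at hx ⊢
    rw [mul_inv_eq_one, mul_inv_eq_iff_eq_mul] at hx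
    calc _ = (y : L ⧸ M) * ((k : L ⧸ M) * x) * ((x : L ⧸ M) * k)⁻¹ * (y : L ⧸ M)⁻¹ := by group
      _ = 1 := by rw [hx]; group
  have h4 := (h.orderOf_coprime a).coprime_dvd_right (Subgroup.card_dvd_of_le h2)
  obtain ⟨u, hu, c, hc, e2, e3⟩ := exists_conj_mul_eq (K := M) (b := f (a, 1))
    (Subgroup.le_normalizer_of_normal (K := ⊤) trivial) h4 h3
  have h5 : c = 1 := by
    have h5 : (c * f (a, 1)) ^ orderOf (f (a, 1)) = 1 := by
      rw [← e3, inv_mul_cancel_right, conj_pow, conj_pow, pow_orderOf_eq_one]; simp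
    rw [Commute.mul_pow e2, pow_orderOf_eq_one, mul_one] at h5
    exact orderOf_eq_one_iff.1 (Nat.eq_one_of_dvd_coprimes h4 (orderOf_dvd_of_pow_eq_one h5)
      (M.orderOf_dvd_natCard hc))
  obtain ⟨b', e4⟩ := h.cent a ha (u * (y * k * y⁻¹)) (K.mul_mem (h2 hu) (this.conj_mem k hk y)) (by
    rw [h5, one_mul, inv_mul_cancel_right] at e3
    conv_lhs => rw [← e3]
    group)
  have h6 := hM.conj_mem _ (M.mul_mem (M.inv_mem hu) (e4 ▸ h1 b')) y⁻¹
  exact hkM (by simpa [mul_assoc] using h6)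

section sibley

variable [Fintype G] {L : Subgroup G} [Fintype L] {H : Subgroup L} [hH : H.Normal]

theorem sibley_reduce {R : (L → ℂ) → Finset (G → ℂ)} (sys : CohSys (indD H H ⊥) (indLin L) R)
    (hodd : Odd (Nat.card L)) (hnil : Group.IsNilpotent H)
    (ti : ∀ x ∈ H, x ≠ 1 → ∀ y ∈ H, ∀ g : G, g * x * g⁻¹ = y → g ∈ L)
    (frob : FrobMod H H ⁅H, H⁆) : Coh (indD H H ⊥) (indLin L) ∨ ∃ p, SibHyp L H p R := by
  by_cases h0 : H = ⊥
  · left
    rw [indD_eq_empty h0.le]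
    exact coh_empty _
  refine (sys.coh_or_chief inferInstance hodd (bot_lt_iff_ne_bot.2 h0) (Solv.isNilpotent_map _ hnil)
    (by rwa [sup_bot_eq])).imp_right ?_
  rintro ⟨-, -, h1, p, m, hp, h2, -⟩
  exact ⟨p, sys, hodd, ti, hp, IsPGroup.of_card (by rwa [Subgroup.relIndex_bot_left] at h2), frob,
    by simpa using h1⟩

/-- Peterfalvi 6.8, case (c1). -/
theorem sibley_frob (hodd : Odd (Nat.card L)) (hnil : Group.IsNilpotent H)
    (ti : ∀ x ∈ H, x ≠ 1 → ∀ y ∈ H, ∀ g : G, g * x * g⁻¹ = y → g ∈ L) (frob : FrobMod H H ⊥) :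
    Coh (indD H H ⊥) (indLin L) := by
  have hirr : ∀ χ ∈ indD H H ⊥, IsIrrCharacter L χ := by
    rintro _ ⟨θ, hθ, -, h2, rfl⟩
    exact hθ.ind_of_centralizer_le (frobMod_bot_iff.1 frob) fun e => h2 (e ▸ kerOn_one H)
  obtain ⟨R, sys⟩ := (isoOn_ind_of_ti ti).exists_cohSys_irr hirr (fun _ => conj_mem_indD)
    fun _ => conj_ne_of_mem_indD hodd
  refine (sibley_reduce sys hodd hnil ti (frob.of_le bot_le (commutator_le_self' H))).elim id ?_
  rintro ⟨p, h⟩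
  exact h.caseA (center_inf_commutator hnil h.nab) inf_le_left (fun z hz y hy => (hz.2 y hy).symm)
    (fun χ hχ => hirr χ (indD_subset _ _ _ hχ))
    (frob.mono (inf_le_left.trans (commutator_le_self' H)))

/-- Peterfalvi 6.8, case (c2). -/
theorem sibley_prime {A B : Type*} [Group A] [Group B] {f : A × B →* L}
    {μ : (A →* ℂˣ) → (B →* ℂˣ) → L → ℂ} {δ : (B →* ℂˣ) → ℤ} (fam : PrimeFam H f μ δ)
    {R : (L → ℂ) → Finset (G → ℂ)} (sys : CohSys (indD H H ⊥) (indLin L) R)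
    (hodd : Odd (Nat.card L)) (hnil : Group.IsNilpotent H)
    (ti : ∀ x ∈ H, x ≠ 1 → ∀ y ∈ H, ∀ g : G, g * x * g⁻¹ = y → g ∈ L)
    (hB : (Nat.card B).Prime) (hBH : ∀ b, f (1, b) ∈ ⁅H, H⁆) : Coh (indD H H ⊥) (indLin L) := by
  have hp := fam.pti
  refine (sibley_reduce sys hodd hnil ti (hp.frobMod hBH (commutator_le_self' H))).elim id ?_
  rintro ⟨p, h⟩
  by_cases h1 : ∀ b, f (1, b) ∈ Subgroup.centralizer (H : Set L) → b = 1
  · refine h.caseA (center_inf_commutator hnil h.nab) inf_le_left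
      (fun z hz y hy => (hz.2 y hy).symm) ?_ fun z hz hz1 x hx => ?_
    · rintro _ ⟨θ, hθ, -, h2, rfl⟩
      refine (fam.ind_irr_or hθ).resolve_right ?_
      rintro ⟨j, rfl⟩
      exact h2 ((fam.le_charKer_pchi_iff (inf_le_left.trans (commutator_le_self' H)) j).2
        fun b hb => by rw [h1 b hb.2, map_one])
    · obtain ⟨k, hk, a, rfl⟩ := hp.surj x
      by_cases ha : a = 1
      · exact H.mul_mem hk ((hp.memK a 1).2 ha)
      obtain ⟨b, rfl⟩ := hp.cent a ha z (commutator_le_self' H hz.1) (by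
        rw [Subgroup.mem_bot, mul_inv_eq_one, mul_inv_eq_iff_eq_mul, ← mul_assoc,
          ← hz.2 k hk, mul_assoc, mul_assoc, mul_right_inj] at hx
        exact hx)
      exact absurd (by rw [h1 b hz.2]; exact (map_one f).symm ▸ Subgroup.one_mem _) hz1
  push Not at h1
  obtain ⟨b, h1, h2⟩ := h1
  have h3 : (f.comp (MonoidHom.inr A B)).range ≤ Subgroup.centralizer (H : Set L) := by
    rintro _ ⟨b', rfl⟩
    have := hp.finiteB
    have := Fact.mk hB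
    obtain ⟨k, rfl⟩ := mem_powers_of_prime_card rfl h2 (g' := b')
    rw [map_pow]
    exact pow_mem h1 k
  have : (f.comp (MonoidHom.inr A B)).range.Normal := ⟨by
    rintro _ ⟨b', rfl⟩ x
    obtain ⟨k, hk, a, rfl⟩ := hp.surj x
    refine ⟨b', ?_⟩
    rw [eq_mul_inv_iff_mul_eq, ← mul_assoc, ← h3 ⟨b', rfl⟩ k hk, mul_assoc, mul_assoc]
    simp [← map_mul]⟩
  refine h.caseB (Z := (f.comp (MonoidHom.inr A B)).range) ?_ ?_
    (fun z hz y hy => (h3 hz y hy).symm) (hp.frobMod (fun b => ⟨b, rfl⟩) ?_)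
  · rwa [← Nat.card_congr (MonoidHom.ofInjective (f := f.comp (MonoidHom.inr A B))
      (hp.inj.comp fun _ _ e => (Prod.mk.inj e).2)).toEquiv]
  · rintro _ ⟨b, rfl⟩; exact hBH b
  · rintro _ ⟨b, rfl⟩; exact hp.memB b

end sibley

end Cfsg.Agent.Char
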