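import Cfsg.Agent.Lib.Char.Sec9Def
import Cfsg.Agent.Lib.FT.Wielandt
import Cfsg.Agent.Lib.FT.AppC1
import Cfsg.Agent.Lib.Solv.Frattini
import Mathlib.LinearAlgebra.Matrix.ToLinearEquiv

/-!
Peterfalvi (9.6), (9.7), (11.7): the group theory of the chief factor `H / H₀`.
-/

set_option autoImplicit false

namespace Cfsg.Agent.Char

open Subgroup
open scoped commutatorElement

universe u

variable {L : Type u} [Group L] {A : Type*} [Group A] {B : Type*} [Group B]

/-- `V` is the section `H / H₀` as a module. -/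
structure VMod (H H₀ : Subgroup L) (p : ℕ) {V : Type*} [AddCommGroup V] [Module (ZMod p) V]
    (ρ : L →* Module.End (ZMod p) V) (φ : L → V) : Prop where
  normal : H.Normal
  le : H₀ ≤ H
  add : ∀ x ∈ H, ∀ y ∈ H, φ (x * y) = φ x + φ y
  ker : ∀ x ∈ H, φ x = 0 ↔ x ∈ H₀
  surj : ∀ v, ∃ x ∈ H, φ x = v
  act : ∀ g, ∀ x ∈ H, φ (g * x * g⁻¹) = ρ g (φ x)

theorem exists_vMod [Finite L] {H H₀ : Subgroup L} [hH : H.Normal] [H₀.Normal] {p : ℕ} (le : H₀ ≤ H)
    (hc : ⁅H, H⁆ ≤ H₀) (hp : ∀ x ∈ H, x ^ p ∈ H₀) :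
    ∃ (V : Type u) (_ : AddCommGroup V) (_ : Module (ZMod p) V) (_ : Finite V)
      (ρ : L →* Module.End (ZMod p) V) (φ : L → V), VMod H H₀ p ρ φ := by
  classical
  have hM : IsElementaryAbelian p (H.map (QuotientGroup.mk' H₀)) := by
    refine ⟨Solv.isMulCommutative_iff.2 ?_, ?_⟩
    · rintro _ ⟨x, hx, rfl⟩ _ ⟨y, hy, rfl⟩
      rw [← commutatorElement_eq_one_iff_mul_comm, ← map_commutatorElement]
      exact (QuotientGroup.eq_one_iff _).2 (hc (commutator_mem_commutator hx hy))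
    · rintro _ ⟨x, hx, rfl⟩
      rw [← map_pow]
      exact (QuotientGroup.eq_one_iff _).2 (hp x hx)
  refine ⟨Solv.EMod hM, inferInstance, inferInstance, inferInstance,
    (Solv.EMod.rep hM).comp ((QuotientGroup.mk' H₀).codRestrict _ fun g =>
      (normalizer_eq_top _).ge trivial),
    fun x => if hx : x ∈ H then Solv.EMod.mk hM x ⟨x, hx, rfl⟩ else 0, hH, le, ?_, ?_, ?_, ?_⟩
  · intro x hx y hy
    rw [dif_pos hx, dif_pos hy, dif_pos (mul_mem hx hy)]
    rfl
  · intro x hx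
    rw [dif_pos hx, ← Solv.EMod.val_eq_one]
    exact QuotientGroup.eq_one_iff _
  · intro v
    obtain ⟨x, hx, e⟩ := v.val_mem
    exact ⟨x, hx, (dif_pos hx).trans (Solv.EMod.ext' e)⟩
  · intro g x hx
    rw [dif_pos hx, dif_pos (hH.conj_mem x hx g)]
    rfl

namespace VMod

variable {H H₀ N : Subgroup L} {p : ℕ} {V : Type*} [AddCommGroup V] [Module (ZMod p) V]
  {ρ : L →* Module.End (ZMod p) V} {φ : L → V} (m : VMod H H₀ p ρ φ)

/-- `φ` as a homomorphism. -/
def hom : H →* Multiplicative V :=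
  MonoidHom.mk' (fun x => .ofAdd (φ x)) fun x y => m.add x x.2 y y.2

/-- The subgroup attached to a submodule. -/
def grp (W : Submodule (ZMod p) V) : Subgroup L :=
  (W.toAddSubgroup.toSubgroup.comap m.hom).map H.subtype

/-- The submodule attached to a subgroup. -/
def sub (N : Subgroup L) : Submodule (ZMod p) V :=
  AddSubgroup.toZModSubmodule p (toAddSubgroup' ((N.subgroupOf H).map m.hom))

theorem mem_grp {W : Submodule (ZMod p) V} {x : L} : x ∈ m.grp W ↔ x ∈ H ∧ φ x ∈ W :=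
  ⟨fun ⟨y, a, b⟩ => b ▸ ⟨y.2, a⟩, fun a => ⟨⟨x, a.1⟩, a.2, rfl⟩⟩

theorem mem_sub {v : V} : v ∈ m.sub N ↔ ∃ x ∈ N, x ∈ H ∧ φ x = v :=
  ⟨fun ⟨y, a, b⟩ => ⟨y, a, y.2, b⟩, fun ⟨x, a, b, c⟩ => ⟨⟨x, b⟩, a, c⟩⟩

include m

theorem one : φ 1 = 0 := (m.ker 1 (one_mem _)).2 (one_mem _)

theorem inv {x : L} (hx : x ∈ H) : φ x⁻¹ = -φ x := map_inv m.hom ⟨x, hx⟩

theorem pow {x : L} (hx : x ∈ H) (k : ℕ) : φ (x ^ k) = k • φ x := map_pow m.hom ⟨x, hx⟩ k

theorem eq_iff {x y : L} (hx : x ∈ H) (hy : y ∈ H) : φ x = φ y ↔ x * y⁻¹ ∈ H₀ := by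
  rw [← m.ker _ (mul_mem hx (inv_mem hy)), m.add _ hx _ (inv_mem hy), m.inv hy, ← sub_eq_add_neg,
    sub_eq_zero]

theorem grp_le (W : Submodule (ZMod p) V) : m.grp W ≤ H := fun _ h => (m.mem_grp.1 h).1

theorem le_grp (W : Submodule (ZMod p) V) : H₀ ≤ m.grp W := fun x h =>
  m.mem_grp.2 ⟨m.le h, by rw [(m.ker x (m.le h)).2 h]; exact zero_mem _⟩

theorem grp_sub (h0 : H₀ ≤ N) (h1 : N ≤ H) : m.grp (m.sub N) = N := by
  ext x
  rw [m.mem_grp, m.mem_sub]
  refine ⟨fun ⟨a, y, b, c, d⟩ => ?_, fun a => ⟨h1 a, x, a, h1 a, rfl⟩⟩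
  simpa using mul_mem (h0 ((m.eq_iff a c).1 d.symm)) b

theorem grp_eq_bot {W : Submodule (ZMod p) V} : m.grp W = H₀ ↔ W = ⊥ := by
  refine ⟨fun e => eq_bot_iff.2 fun v hv => ?_, fun e => le_antisymm (fun x hx => ?_) (m.le_grp W)⟩
  · obtain ⟨x, a, rfl⟩ := m.surj v
    exact (m.ker x a).2 (e.le (m.mem_grp.2 ⟨a, hv⟩))
  · obtain ⟨a, b⟩ := m.mem_grp.1 hx
    exact (m.ker x a).1 (e.le b)

theorem grp_eq_top {W : Submodule (ZMod p) V} : m.grp W = H ↔ W = ⊤ := by
  refine ⟨fun e => eq_top_iff.2 fun v _ => ?_, fun e => le_antisymm (m.grp_le W) fun x hx =>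
    m.mem_grp.2 ⟨hx, e.ge trivial⟩⟩
  obtain ⟨x, a, rfl⟩ := m.surj v
  exact (m.mem_grp.1 (e.ge a)).2

theorem relIndex_grp (W : Submodule (ZMod p) V) : H₀.relIndex (m.grp W) = Nat.card W := by
  have : H₀ = m.hom.ker.map H.subtype := by
    ext x
    exact ⟨fun a => ⟨⟨x, m.le a⟩, (m.ker x (m.le a)).2 a, rfl⟩,
      fun ⟨y, a, b⟩ => b ▸ (m.ker y y.2).1 a⟩
  refine (congrArg (relIndex · (m.grp W)) this).trans ?_
  simp only [grp]
  rw [relIndex_map_map_of_injective _ _ H.subtype_injective, relIndex_ker,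
    map_comap_eq_self_of_surjective fun v => by
      obtain ⟨x, a, b⟩ := m.surj v.toAdd
      exact ⟨⟨x, a⟩, b⟩]
  rfl

theorem relIndex_eq_card : H₀.relIndex H = Nat.card V := by
  rw [← m.grp_eq_top.2 rfl, m.relIndex_grp, Nat.card_congr (Submodule.topEquiv).toEquiv]

theorem mem_normalizer_grp [Finite L] {W : Submodule (ZMod p) V} {g : L}
    (h : ∀ v ∈ W, ρ g v ∈ W) : g ∈ normalizer (m.grp W : Set L) :=
  Solv.mem_normalizer_of_conj_mem fun x hx => by
    obtain ⟨a, b⟩ := m.mem_grp.1 hx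
    exact m.mem_grp.2 ⟨m.normal.conj_mem x a g, m.act g x a ▸ h _ b⟩

theorem act_mem_sub {g : L} (h : g ∈ normalizer (N : Set L)) {v : V} (hv : v ∈ m.sub N) :
    ρ g v ∈ m.sub N := by
  obtain ⟨x, a, b, rfl⟩ := m.mem_sub.1 hv
  exact m.mem_sub.2 ⟨_, Solv.conj_mem_of_mem_normalizer h a, m.normal.conj_mem x b g, m.act g x b⟩

theorem mem_cmod_iff [H₀.Normal] (h1 : N ≤ H) {g : L} :
    g ∈ cmod N H₀ ↔ ∀ v ∈ m.sub N, ρ g v = v := by
  refine ⟨fun a v hv => ?_, fun a x hx => ?_⟩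
  · obtain ⟨x, b, c, rfl⟩ := m.mem_sub.1 hv
    rw [← m.act g x c, m.eq_iff (m.normal.conj_mem x c g) c]
    exact a x b
  · rw [← m.eq_iff (m.normal.conj_mem x (h1 hx) g) (h1 hx), m.act g x (h1 hx)]
    exact a _ (m.mem_sub.2 ⟨x, hx, h1 hx, rfl⟩)

theorem mem_cmod [H₀.Normal] {g : L} : g ∈ cmod H H₀ ↔ ρ g = 1 := by
  rw [m.mem_cmod_iff le_rfl]
  refine ⟨fun a => LinearMap.ext fun v => a v ?_, fun a v _ => by rw [a]; rfl⟩
  obtain ⟨x, b, c⟩ := m.surj v
  exact m.mem_sub.2 ⟨x, b, b, c⟩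

theorem act_of_mem {x : L} (hx : x ∈ H) : ρ x = 1 := LinearMap.ext fun v => by
  obtain ⟨y, a, rfl⟩ := m.surj v
  rw [← m.act x y a, m.add _ (mul_mem hx a) _ (inv_mem hx), m.add _ hx _ a, m.inv hx]
  simp

end VMod

theorem normal_cmod {X N : Subgroup L} [hX : X.Normal] [hN : N.Normal] : (cmod X N).Normal :=
  ⟨fun x hx g y hy => by
    have := hN.conj_mem _ (hx _ (hX.conj_mem _ hy g⁻¹)) g
    convert this using 1
    group⟩

theorem act_act_inv {k V : Type*} [CommRing k] [AddCommGroup V] [Module k V]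
    (ρ : L →* Module.End k V) (g : L) (v : V) : ρ g (ρ g⁻¹ v) = v := by
  rw [← Module.End.mul_apply, ← map_mul, mul_inv_cancel, map_one, Module.End.one_apply]

theorem act_inv_act {k V : Type*} [CommRing k] [AddCommGroup V] [Module k V]
    (ρ : L →* Module.End k V) (g : L) (v : V) : ρ g⁻¹ (ρ g v) = v := by
  rw [← Module.End.mul_apply, ← map_mul, inv_mul_cancel, map_one, Module.End.one_apply]

theorem act_mul {k V : Type*} [CommRing k] [AddCommGroup V] [Module k V]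
    (ρ : L →* Module.End k V) (g g' : L) (v : V) : ρ (g * g') v = ρ g (ρ g' v) := by
  rw [map_mul, Module.End.mul_apply]

namespace Sec9

variable [Fintype L] {K H U H₀ H₁ : Subgroup L} [hH₀ : H₀.Normal] {f : A × B →* L} {p q a : ℕ}
  (h : Sec9 K H U H₀ f p q)
include h

theorem HK : H ≤ K := h.sup ▸ le_sup_left
theorem UK : U ≤ K := h.sup ▸ le_sup_right
theorem H₀K : H₀ ≤ K := h.lt.le.trans h.HK

theorem H_le_cmod : H ≤ cmod H H₀ := fun _ hx _ hy => h.comm (commutator_mem_commutator hx hy)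

theorem decK {x : L} (hx : x ∈ K) : ∃ y ∈ H, ∃ u ∈ U, x = y * u := by
  have := h.normalH
  rw [← h.sup] at hx
  exact (Solv.mem_sup_of_le_normalizer' le_normalizer_of_normal).1 hx

theorem dec (x : L) : ∃ y ∈ H, ∃ u ∈ U, ∃ w, x = y * u * f (w, 1) := by
  obtain ⟨k, hk, w, rfl⟩ := h.pti.surj x
  obtain ⟨y, hy, u, hu, rfl⟩ := h.decK hk
  exact ⟨y, hy, u, hu, w, rfl⟩

theorem f_inv (w : A) : (f (w, 1))⁻¹ = f (w⁻¹, 1) := by rw [← map_inv]; simp

theorem f_mul (w w' : A) : f (w * w', 1) = f (w, 1) * f (w', 1) := by rw [← map_mul]; simp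

theorem conj_mem {u : L} (hu : u ∈ U) (w : A) : f (w, 1) * u * (f (w, 1))⁻¹ ∈ U :=
  Solv.conj_mem_of_mem_normalizer (h.normU w) hu

theorem conj_mem' {u : L} (hu : u ∈ U) (w : A) : (f (w, 1))⁻¹ * u * f (w, 1) ∈ U :=
  Solv.conj_mem_of_mem_normalizer' (h.normU w) hu

theorem eq_one_of_mem {x : L} (h1 : x ∈ H) (h2 : x ∈ U) : x = 1 := mem_bot.1 (h.inf.le ⟨h1, h2⟩)

theorem fpf {w : A} (hw : w ≠ 1) : U ⊓ centralizer {f (w, 1)} = ⊥ :=
  Solv.fpf_iff.2 fun u hu e => by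
    obtain ⟨b, rfl⟩ := h.pti.cent w hw u (h.UK hu) e
    exact h.eq_one_of_mem (h.BH b) hu

theorem normal_of {N : Subgroup L} (h1 : H ≤ normalizer (N : Set L)) (h2 : U ≤ normalizer (N : Set L))
    (h3 : ∀ w, f (w, 1) ∈ normalizer (N : Set L)) : N.Normal :=
  normalizer_eq_top_iff.1 (eq_top_iff.2 fun x _ => by
    obtain ⟨y, hy, u, hu, w, rfl⟩ := h.dec x
    exact mul_mem (mul_mem (h1 hy) (h2 hu)) (h3 w))

theorem normC : normalizer (U : Set L) ≤ normalizer ((U ⊓ cmod H H₀ : Subgroup L) : Set L) :=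
  have := h.normalH
  have := normal_cmod (X := H) (N := H₀)
  Solv.le_normalizer_inf le_rfl le_normalizer_of_normal

theorem normal_sup {X : Subgroup L} (h1 : X ≤ cmod H H₀)
    (h2 : normalizer (U : Set L) ≤ normalizer (X : Set L)) : (H₀ ⊔ X).Normal := by
  have n : normalizer (U : Set L) ≤ normalizer ((H₀ ⊔ X : Subgroup L) : Set L) :=
    Solv.le_normalizer_sup le_normalizer_of_normal h2
  refine h.normal_of (fun y hy => Solv.mem_normalizer_of_conj_mem fun x hx => ?_)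
    (le_normalizer.trans n) fun w => n (h.normU w)
  obtain ⟨z, hz, t, ht, rfl⟩ := (Solv.mem_sup_of_le_normalizer' le_normalizer_of_normal).1 hx
  convert mul_mem (mem_sup_left (T := X) (mul_mem (hH₀.conj_mem _ hz y) (inv_mem (h1 ht _ hy))))
    (mem_sup_right ht) using 1
  group

theorem normal_HC : (H ⊔ (U ⊓ cmod H H₀)).Normal :=
  have := h.normalH
  have n := Solv.le_normalizer_sup (le_normalizer_of_normal (H := H)) h.normC
  h.normal_of (le_sup_left.trans le_normalizer) (le_normalizer.trans n) fun w => n (h.normU w)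

theorem normal_H0C : (H₀ ⊔ (U ⊓ cmod H H₀)).Normal := h.normal_sup inf_le_right h.normC

theorem normal_H0C' : (H₀ ⊔ ⁅U ⊓ cmod H H₀, U ⊓ cmod H H₀⁆).Normal :=
  h.normal_sup ((commutator_le_self' _).trans inf_le_right)
    (Solv.le_normalizer_commutator h.normC h.normC)

theorem normal_H0U' : (H₀ ⊔ ⁅U, U⁆).Normal :=
  h.normal_sup h.derU (Solv.le_normalizer_commutator le_rfl le_rfl)

theorem exists_vMod : ∃ (V : Type u) (_ : AddCommGroup V) (_ : Module (ZMod p) V) (_ : Finite V)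
    (ρ : L →* Module.End (ZMod p) V) (φ : L → V), VMod H H₀ p ρ φ :=
  have := h.normalH
  Char.exists_vMod h.lt.le h.comm h.pow

theorem mem_C_of_comm {u : L} (hu : u ∈ U) {w : A} (hw : w ≠ 1)
    (e : u * f (w, 1) * u⁻¹ * (f (w, 1))⁻¹ ∈ cmod H H₀) : u ∈ cmod H H₀ := by
  obtain ⟨x, hx, e⟩ := Solv.exists_conj_eq_mul_of_fpf (h.normC (h.normU w))
    (eq_bot_iff.2 ((inf_le_inf_right _ inf_le_left).trans (h.fpf hw).le))
    (mem_inf.2 ⟨by simpa [mul_assoc] using mul_mem hu (h.conj_mem (inv_mem hu) w), e⟩)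
  have := Solv.eq_one_of_fpf (h.fpf hw) (mul_mem (inv_mem hx.1) hu) (by
    rw [inv_mul_cancel_right] at e
    calc _ = x⁻¹ * (x * f (w, 1) * x⁻¹) * u := by group
      _ = _ := by rw [e]; group)
  exact inv_mul_eq_one.1 this ▸ hx.2

theorem card_W₁ : Nat.card (f.comp (MonoidHom.inl A B)).range = q :=
  (Nat.card_congr (MonoidHom.ofInjective (f := f.comp (MonoidHom.inl A B))
    fun _ _ e => (Prod.mk.inj (h.pti.inj e)).1).toEquiv).symm.trans h.cardA

theorem fpf' : ∀ x ∈ (f.comp (MonoidHom.inl A B)).range, x ≠ 1 → U ⊓ centralizer {x} = ⊥ := by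
  rintro _ ⟨w, rfl⟩ e
  exact h.fpf (w := w) (by rintro rfl; exact e (map_one _))

theorem normU' : (f.comp (MonoidHom.inl A B)).range ≤ normalizer (U : Set L) := by
  rintro _ ⟨w, rfl⟩
  exact h.normU w

/-- `(U/C) W₁` is a Frobenius group. -/
theorem q_dvd : q ∣ (U ⊓ cmod H H₀).relIndex U - 1 := by
  have a := Solv.card_modEq_one_of_fpf h.normU' h.fpf'
  have b := Solv.card_modEq_one_of_fpf (h.normU'.trans h.normC)
    (Solv.fpf_mono inf_le_left le_rfl h.fpf')
  rw [h.card_W₁] at a b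
  rw [← Solv.card_mul_relIndex (inf_le_left : U ⊓ cmod H H₀ ≤ U)] at a
  refine (Nat.modEq_iff_dvd' (Nat.pos_of_ne_zero index_ne_zero_of_finite)).1 ?_
  exact a.symm.trans ((b.mul_right _).trans (by rw [one_mul]; rfl))

section mod

variable {V : Type*} [AddCommGroup V] [Module (ZMod p) V]
  {ρ : L →* Module.End (ZMod p) V} {φ : L → V} (m : VMod H H₀ p ρ φ)
include m

theorem irr {W : Submodule (ZMod p) V} (h1 : ∀ u ∈ U, ∀ v ∈ W, ρ u v ∈ W)
    (h2 : ∀ w, ∀ v ∈ W, ρ (f (w, 1)) v ∈ W) : W = ⊥ ∨ W = ⊤ :=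
  (h.chief _ (h.normal_of (fun x hx => m.mem_normalizer_grp fun v hv => by
    rwa [m.act_of_mem hx]) (fun u hu => m.mem_normalizer_grp (h1 u hu))
    fun w => m.mem_normalizer_grp (h2 w)) (m.le_grp W) (m.grp_le W)).imp m.grp_eq_bot.1 m.grp_eq_top.1

omit h in
theorem gal_irr (hG : Gal9 H U H₀) {W : Submodule (ZMod p) V} (h1 : ∀ u ∈ U, ∀ v ∈ W, ρ u v ∈ W) :
    W = ⊥ ∨ W = ⊤ :=
  (hG _ (m.le_grp W) (m.grp_le W) fun u hu => m.mem_normalizer_grp (h1 u hu)).imp
    m.grp_eq_bot.1 m.grp_eq_top.1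

theorem act_comm {u v : L} (hu : u ∈ U) (hv : v ∈ U) : ρ u * ρ v = ρ v * ρ u := by
  have := m.mem_cmod.1 (h.derU (commutator_mem_commutator hu hv))
  rw [← map_mul, ← map_mul, show u * v = ⁅u, v⁆ * (v * u) by rw [commutatorElement_def]; group,
    map_mul, this, one_mul]

theorem eq_zero_of_fix {v : V} (hv : ∀ u ∈ U, ρ u v = v) : v = 0 := by
  rcases h.irr m (W := FT.fix ρ U) (fun u hu v hv => by rwa [hv u hu]) (fun w v hv u hu => by
    rw [← act_mul, show u * f (w, 1) = f (w, 1) * ((f (w, 1))⁻¹ * u * f (w, 1)) by group, act_mul,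
      hv _ (h.conj_mem' hu w)]) with e | e
  · exact e.le hv
  · exact absurd (fun u hu => m.mem_cmod.2 (LinearMap.ext fun v => e.ge trivial u hu)) h.notC

end mod

theorem index_pow : H₀.relIndex H = (H₀.comap (f.comp (MonoidHom.inr A B))).index ^ q := by
  obtain ⟨V, _, _, _, ρ, φ, m⟩ := h.exists_vMod
  have := h.normalH
  have cop : (Nat.card H).Coprime (Nat.card (U ⊔ (f.comp (MonoidHom.inl A B)).range : Subgroup L)) := by
    rw [sup_comm]
    refine Nat.Coprime.coprime_dvd_right (Solv.card_sup_dvd h.normU') (Nat.Coprime.mul_right ?_ h.cop)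
    rw [h.card_W₁, ← h.cardA]
    exact (h.pti.cop.coprime_dvd_right (card_dvd_of_le h.HK)).symm
  have s := h.solv
  have e1 := FT.frobenius_wielandt (H := H) h.normU' h.fpf' le_normalizer_of_normal inferInstance cop
  have e2 := FT.frobenius_wielandt (H := H₀) h.normU' h.fpf' le_normalizer_of_normal inferInstance
    (cop.coprime_dvd_left (card_dvd_of_le h.lt.le))
  have k : ∀ X : Subgroup L, U ≤ X → H ⊓ centralizer (X : Set L) = H₀ ⊓ centralizer (X : Set L) :=
    fun X hX => le_antisymm (fun x hx => ⟨(m.ker x hx.1).1 (h.eq_zero_of_fix m fun u hu => by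
      rw [← m.act u x hx.1, hx.2 u (hX hu), mul_inv_cancel_right]), hx.2⟩)
      (inf_le_inf_right _ h.lt.le)
  have k2 : ∀ X : Subgroup L, X ≤ H → Nat.card (X ⊓ centralizer
      ((f.comp (MonoidHom.inl A B)).range : Set L) : Subgroup L) =
      Nat.card (X.comap (f.comp (MonoidHom.inr A B))) := fun X hX => by
    rw [← card_map_of_injective (f := f.comp (MonoidHom.inr A B))
      fun _ _ e => (Prod.mk.inj (h.pti.inj e)).2, map_comap_eq, inf_comm]
    congr 2
    ext x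
    refine and_congr_left fun hx => ⟨fun c => ?_, ?_⟩
    · obtain ⟨w, hw⟩ := h.pti.exists_ne_one
      obtain ⟨b, rfl⟩ := h.pti.cent w hw x (h.HK (hX hx)) (c _ ⟨w, rfl⟩)
      exact ⟨b, rfl⟩
    · rintro ⟨b, rfl⟩ _ ⟨w, rfl⟩
      simp [← map_mul]
  rw [k _ le_sup_left, k _ le_rfl, k2 _ le_rfl, h.card_W₁, ← Solv.card_mul_relIndex h.lt.le,
    (eq_top_iff' (H.comap (f.comp (MonoidHom.inr A B)))).2 h.BH, card_top,
    ← (H₀.comap (f.comp (MonoidHom.inr A B))).index_mul_card, ← mul_assoc] at e1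
  rw [k2 _ h.lt.le, h.card_W₁] at e2
  have := h.pti.finiteB
  rw [e2, mul_pow, mul_comm, mul_assoc (_ ^ q)] at e1
  exact Nat.eq_of_mul_eq_mul_right (mul_pos (pow_pos Nat.card_pos _) Nat.card_pos) e1

/-- (9.6): the image of `W₂` in `H/H₀` has order `p`. -/
theorem index_W₂ : (H₀.comap (f.comp (MonoidHom.inr A B))).index = p := by
  refine (h.primep.eq_one_or_self_of_dvd _ ?_).resolve_left fun e => ?_
  · obtain ⟨g, hg⟩ := h.pti.cycB.exists_generator
    rw [index_comap, show (f.comp (MonoidHom.inr A B)).range = zpowers (f (1, g)) by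
      rw [MonoidHom.range_eq_map, ← (eq_top_iff' _).2 hg, MonoidHom.map_zpowers]; rfl,
      ← Solv.card_map_mk_eq_relIndex, MonoidHom.map_zpowers, Nat.card_zpowers]
    refine orderOf_dvd_of_pow_eq_one ?_
    rw [← map_pow]
    exact (QuotientGroup.eq_one_iff _).2 (h.pow _ (h.BH g))
  · have := h.index_pow
    rw [e, one_pow, relIndex_eq_one] at this
    exact h.lt.not_ge this

/-- (9.6) -/
theorem relIndex_eq : H₀.relIndex H = p ^ q := by rw [h.index_pow, h.index_W₂]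

/-- Conjugation `u ↦ w⁻¹ u w` on `U`. -/
def cw (w : A) : U →* U :=
  MonoidHom.mk' (fun u => ⟨(f (w, 1))⁻¹ * u * f (w, 1), h.conj_mem' u.2 w⟩) fun _ _ =>
    Subtype.ext (by simp only [coe_mul]; group)

theorem cw_cw (w w' : A) (u : U) : h.cw w (h.cw w' u) = h.cw (w' * w) u :=
  Subtype.ext (by simp only [cw, MonoidHom.mk'_apply, h.f_mul]; group)

theorem cw_one (u : U) : h.cw 1 u = u :=
  Subtype.ext (by simp only [cw, MonoidHom.mk'_apply, Prod.mk_one_one, map_one]; group)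

theorem eq_one_of_cw {M : Type*} [Group M] (D : U →* M) {w : A} (hw : w ≠ 1)
    (hD : ∀ u, D (h.cw w u) = D u) (u : U) : D u = 1 := by
  obtain ⟨x, hx, e⟩ := Solv.exists_conj_eq_mul_of_fpf (h.normU w⁻¹) (h.fpf (inv_ne_one.2 hw)) u.2
  have : u = ⟨x, hx⟩ * (h.cw w ⟨x, hx⟩)⁻¹ := Subtype.ext (by
    rw [eq_mul_inv_of_mul_eq e.symm, ← h.f_inv]
    simp only [cw, MonoidHom.mk'_apply, coe_mul, coe_inv]; group)
  rw [this, map_mul, map_inv, hD, mul_inv_cancel]

section mod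

variable {V : Type*} [AddCommGroup V] [Module (ZMod p) V]
  {ρ : L →* Module.End (ZMod p) V} {φ : L → V} (m : VMod H H₀ p ρ φ)
include m

theorem card_V : Nat.card V = p ^ q := m.relIndex_eq_card.symm.trans h.relIndex_eq

theorem finrank_V [Finite V] : Module.finrank (ZMod p) V = q := by
  have := Fact.mk h.primep
  have e := h.card_V m
  rw [Module.natCard_eq_pow_finrank (K := ZMod p), Nat.card_zmod] at e
  exact Nat.pow_right_injective h.primep.two_le e

theorem act_cw (w : A) (u : U) (v : V) :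
    ρ u (ρ (f (w, 1)) v) = ρ (f (w, 1)) (ρ (h.cw w u) v) := by
  rw [← act_mul, ← act_mul]
  simp [cw, mul_assoc]

end mod

end Sec9

/-- The line `H₁ / H₀` of case (9.7.a), with its character. -/
structure Line (U H₀ H₁ : Subgroup L) [H₀.Normal] (f : A × B →* L) {p : ℕ} {V : Type*}
    [AddCommGroup V] [Module (ZMod p) V] (ρ : L →* Module.End (ZMod p) V) (v : V)
    (lam : U →* (ZMod p)ˣ) : Prop where
  ne : v ≠ 0
  act : ∀ u : U, ρ u v = (lam u : ZMod p) • v
  span : ⊤ ≤ Submodule.span (ZMod p) (Set.range fun w : A => ρ (f (w, 1)) v)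
  ker : ∀ u : U, (u : L) ∈ cmod H₁ H₀ ↔ lam u = 1

namespace Sec9

variable [Fintype L] {K H U H₀ H₁ : Subgroup L} [hH₀ : H₀.Normal] {f : A × B →* L} {p q a : ℕ}
  (h : Sec9 K H U H₀ f p q)
include h

section mod

variable {V : Type*} [AddCommGroup V] [Module (ZMod p) V] [Finite V]
  {ρ : L →* Module.End (ZMod p) V} {φ : L → V} (m : VMod H H₀ p ρ φ)
include m

theorem exists_line (le₀ : H₀ ≤ H₁) (le : H₁ ≤ H) (card : H₀.relIndex H₁ = p)
    (norm : U ≤ normalizer (H₁ : Set L)) (gen : ⨆ w : A, cjS (f (w, 1)) H₁ = H) :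
    ∃ v lam, Line U H₀ H₁ f ρ v lam := by
  have := Fact.mk h.primep
  rw [← m.grp_sub le₀ le, m.relIndex_grp, Module.natCard_eq_pow_finrank (K := ZMod p),
    Nat.card_zmod] at card
  obtain ⟨⟨v, hv⟩, v0, e⟩ := finrank_eq_one_iff'.1
    (Nat.pow_right_injective h.primep.two_le (card.trans (pow_one p).symm))
  have v0 : v ≠ 0 := fun e => v0 (Subtype.ext e)
  have e : ∀ x ∈ m.sub H₁, ∃ c : ZMod p, c • v = x := fun x hx =>
    (e ⟨x, hx⟩).imp fun c => congrArg Subtype.val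
  choose c hc using fun u : U => e _ (m.act_mem_sub (norm u.2) hv)
  let c' : U →* ZMod p :=
    { toFun := c
      map_one' := smul_left_injective _ v0 (by simp [hc])
      map_mul' := fun x y => smul_left_injective _ v0 (by
        simp only
        rw [hc, coe_mul, act_mul, ← hc y, map_smul, ← hc x, mul_comm, mul_smul]) }
  refine ⟨v, c'.toHomUnits, v0, fun u => (hc u).symm, ?_, fun u => ?_⟩
  · rw [top_le_iff, ← m.grp_eq_top]
    refine le_antisymm (m.grp_le _) (gen.ge.trans (iSup_le fun w => ?_))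
    rintro _ ⟨x, hx, rfl⟩
    refine m.mem_grp.2 ⟨m.normal.conj_mem x (le hx) _, ?_⟩
    obtain ⟨d, e⟩ := e _ (m.mem_sub.2 ⟨x, hx, le hx, rfl⟩)
    rw [show φ ((MulAut.conj (f (w, 1))).toMonoidHom x) = _ from m.act _ x (le hx), ← e, map_smul]
    exact Submodule.smul_mem _ _ (Submodule.subset_span ⟨w, rfl⟩)
  · rw [m.mem_cmod_iff le, Units.ext_iff]
    refine ⟨fun a => smul_left_injective _ v0 ?_, fun a x hx => ?_⟩
    · exact (hc u).trans ((a v hv).trans (one_smul _ v).symm)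
    · obtain ⟨d, rfl⟩ := e x hx
      rw [map_smul, ← hc, show c u = 1 from a, one_smul]

theorem _root_.Cfsg.Agent.Char.CaseA.exists_line (hA : CaseA H U H₀ H₁ f p q a) :
    ∃ v lam, Line U H₀ H₁ f ρ v lam := h.exists_line m hA.le₀ hA.le hA.card hA.norm hA.gen

variable {v : V} {lam : U →* (ZMod p)ˣ} (l : Line U H₀ H₁ f ρ v lam)
include l

omit [Finite V] in
theorem act_line (w : A) (u : U) :
    ρ u (ρ (f (w, 1)) v) = (lam (h.cw w u) : ZMod p) • ρ (f (w, 1)) v := by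
  rw [h.act_cw m, l.act, map_smul]

omit [Finite V] in
theorem mem_C_iff (u : U) : (u : L) ∈ cmod H H₀ ↔ ∀ w, lam (h.cw w u) = 1 := by
  have := Fact.mk h.primep
  rw [m.mem_cmod]
  refine ⟨fun e w => Units.ext (smul_left_injective _ (m := ρ (f (w, 1)) v) (fun e => l.ne (by
    rw [← act_inv_act ρ (f (w, 1)) v, e, map_zero])) ?_), fun e => LinearMap.ext_on_range
      (top_le_iff.1 l.span) fun w => ?_⟩
  · simp only [← h.act_line m l, e]
    simp
  · simp [h.act_line m l, e]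

omit [Finite V] m h in
theorem card_range_lam : (U ⊓ cmod H₁ H₀).relIndex U = Nat.card lam.range := by
  rw [← index_ker, inf_relIndex_left, relIndex]
  congr 1
  ext u
  exact l.ker u

/-- The basis of `V` permuted by `W₁`. -/
noncomputable def basis : Module.Basis A (ZMod p) V :=
  have := Fact.mk h.primep
  have := h.pti.finiteA
  have := Fintype.ofFinite A
  basisOfTopLeSpanOfCardEqFinrank _ l.span (by
    rw [h.finrank_V m, ← h.cardA, Nat.card_eq_fintype_card])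

theorem basis_apply (w : A) : h.basis m l w = ρ (f (w, 1)) v := by
  simp [basis]

end mod

/-- (9.7.a) -/
theorem caseA (hG : ¬ Gal9 H U H₀) : ∃ H₁ a, CaseA H U H₀ H₁ f p q a := by
  classical
  obtain ⟨V, _, _, _, ρ, φ, m⟩ := h.exists_vMod
  have := Fact.mk h.primep
  have := h.pti.finiteA
  have := Fintype.ofFinite A
  obtain ⟨W, ⟨W0, W1⟩, W2⟩ := exists_minimal_of_wellFoundedLT
    (fun W : Submodule (ZMod p) V => W ≠ ⊥ ∧ ∀ u ∈ U, ∀ v ∈ W, ρ u v ∈ W)
    ⟨⊤, fun e => h.lt.ne ((m.grp_eq_bot.2 e).symm.trans (m.grp_eq_top.2 rfl)), by simp⟩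
  have inj : ∀ g, Function.Injective (ρ g) := fun g x y e => by
    rw [← act_inv_act ρ g x, e, act_inv_act]
  have i1 : ∀ s : Finset A, ∀ u ∈ U, ∀ v ∈ s.sup fun w => W.map (ρ (f (w, 1))),
      ρ u v ∈ s.sup fun w => W.map (ρ (f (w, 1))) := fun s u hu =>
    (Finset.sup_le (f := fun w => W.map (ρ (f (w, 1)))) (a := Submodule.comap (ρ u) _) fun w hw => by
      rintro _ ⟨v, hv, rfl⟩
      refine Finset.le_sup (f := fun w => W.map (ρ (f (w, 1)))) hw ?_
      exact ⟨_, W1 _ (h.cw w ⟨u, hu⟩).2 v hv, (h.act_cw m w ⟨u, hu⟩ v).symm⟩ :)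
  have dvd : ∀ s : Finset A, Module.finrank (ZMod p) W ∣
      Module.finrank (ZMod p) (s.sup fun w => W.map (ρ (f (w, 1))) : Submodule _ _) := fun s => by
    induction s using Finset.induction_on with
    | empty => rw [Finset.sup_empty, finrank_bot]; exact dvd_zero _
    | insert w s _ ih =>
      rw [Finset.sup_insert]
      generalize s.sup (fun w => W.map (ρ (f (w, 1)))) = S, i1 s = i at ih
      by_cases e : W ⊓ S.comap (ρ (f (w, 1))) = ⊥
      · have := Submodule.finrank_sup_add_finrank_inf_eq (W.map (ρ (f (w, 1)))) S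
        rw [Submodule.map_inf_eq_map_inf_comap, e, Submodule.map_bot, finrank_bot, add_zero,
          ← (Submodule.equivMapOfInjective _ (inj _) W).finrank_eq] at this
        rw [this]
        exact dvd_add dvd_rfl ih
      · have := W2 ⟨e, fun u hu v hv => ⟨W1 u hu v hv.1, by
          have := i _ (h.conj_mem hu w) _ hv.2
          rwa [← act_mul, inv_mul_cancel_right, act_mul] at this⟩⟩ inf_le_left
        rwa [sup_eq_right.2 (Submodule.map_le_iff_le_comap.2 (this.trans inf_le_right))]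
  have top : (Finset.univ.sup fun w => W.map (ρ (f (w, 1)))) = ⊤ := by
    refine (h.irr m (i1 _) fun w' => (Finset.sup_le (f := fun w => W.map (ρ (f (w, 1))))
      (a := Submodule.comap (ρ _) _) fun w hw => by
      rintro _ ⟨v, hv, rfl⟩
      refine Finset.le_sup (f := fun w => W.map (ρ (f (w, 1)))) (Finset.mem_univ (w' * w)) ?_
      exact ⟨v, hv, by rw [h.f_mul, act_mul]⟩ :)).resolve_left fun e => W0 (eq_bot_iff.2 fun v hv => ?_)
    refine e.le (Finset.le_sup (f := fun w => W.map (ρ (f (w, 1)))) (Finset.mem_univ 1) ⟨v, hv, ?_⟩)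
    simp [Prod.mk_one_one]
  have d := dvd Finset.univ
  rw [top, finrank_top, h.finrank_V m] at d
  have d1 := (h.primeq.eq_one_or_self_of_dvd _ d).resolve_right fun e => hG fun N n0 n1 n2 => by
    obtain rfl := Submodule.eq_top_of_finrank_eq (e.trans (h.finrank_V m).symm)
    rw [← m.grp_sub n0 n1, m.grp_eq_bot, m.grp_eq_top]
    exact (em _).imp_right fun e => top_le_iff.1
      (W2 ⟨e, fun u hu v hv => m.act_mem_sub (n2 hu) hv⟩ le_top)
  have card : H₀.relIndex (m.grp W) = p := by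
    rw [m.relIndex_grp, Module.natCard_eq_pow_finrank (K := ZMod p), d1, Nat.card_zmod, pow_one]
  have norm : U ≤ normalizer (m.grp W : Set L) := fun u hu => m.mem_normalizer_grp (W1 u hu)
  have gen : ⨆ w : A, cjS (f (w, 1)) (m.grp W) = H := by
    have le : ⨆ w : A, cjS (f (w, 1)) (m.grp W) ≤ H := iSup_le fun w => by
      rintro _ ⟨x, hx, rfl⟩
      exact m.normal.conj_mem x (m.grp_le W hx) _
    rw [← m.grp_sub ((m.le_grp W).trans (le_iSup_of_le (f := fun w : A => cjS (f (w, 1)) (m.grp W)) 1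
      fun x hx => ⟨x, hx, by simp [Prod.mk_one_one]⟩)) le,
      m.grp_eq_top, eq_top_iff, ← top]
    refine Finset.sup_le fun w _ => ?_
    rintro _ ⟨v, hv, rfl⟩
    obtain ⟨x, hx, rfl⟩ := m.surj v
    exact m.mem_sub.2 ⟨_, mem_iSup_of_mem w ⟨x, m.mem_grp.2 ⟨hx, hv⟩, rfl⟩,
      m.normal.conj_mem x hx _, m.act _ x hx⟩
  obtain ⟨v, lam, l⟩ := h.exists_line m (m.le_grp W) (m.grp_le W) card norm gen
  refine ⟨m.grp W, Nat.card lam.range, m.le_grp W, m.grp_le W, card, norm, gen, card_range_lam l,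
    ?_, ?_, ?_⟩
  · refine (one_lt_card_iff_ne_bot _).2 fun e => h.notC fun u hu => (h.mem_C_iff m l ⟨u, hu⟩).2
      fun w => e.le ⟨_, rfl⟩
  · have := card_subgroup_dvd_card lam.range
    rwa [Nat.card_units, Nat.card_zmod] at this
  · let e := (zmodCyclicMulEquiv (G := lam.range) inferInstance).symm
    let ι : Fin (q - 1) ≃ {w : A // w ≠ 1} := (Fintype.equivFinOfCardEq (by
      simp [← h.cardA])).symm
    refine ⟨MonoidHom.pi fun i => e.toMonoidHom.comp (lam.rangeRestrict.comp (h.cw (ι i))), ?_⟩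
    ext u
    rw [MonoidHom.mem_ker, mem_subgroupOf, mem_inf, h.mem_C_iff m l, and_iff_right u.2, funext_iff]
    simp only [MonoidHom.pi_apply, MonoidHom.comp_apply, MulEquiv.coe_toMonoidHom, Pi.one_apply,
      map_eq_one_iff _ e.injective, Subtype.ext_iff, MonoidHom.coe_rangeRestrict, coe_one]
    refine ⟨fun a => ?_, fun a i => a _⟩
    have a : ∀ w, w ≠ 1 → lam (h.cw w u) = 1 := fun w hw => by simpa using a (ι.symm ⟨w, hw⟩)
    obtain ⟨w₀, hw₀⟩ := h.pti.exists_ne_one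
    have := h.eq_one_of_cw (∏ w, lam.comp (h.cw w)) hw₀ (fun u => by
      simp only [MonoidHom.finsetProd_apply, MonoidHom.comp_apply, h.cw_cw]
      exact Fintype.prod_equiv (Equiv.mulLeft w₀) _ _ fun w => rfl) u
    rw [MonoidHom.finsetProd_apply, Finset.prod_eq_single 1 (fun w _ hw => by exact a w hw)
      fun e => absurd (Finset.mem_univ _) e] at this
    intro w
    by_cases hw : w = 1
    · rwa [hw]
    · exact a w hw

/-- `C` is the intersection of the conjugates of `U₁`. -/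
theorem caseA_iInf (hA : CaseA H U H₀ H₁ f p q a) :
    ⨅ w : A, cjS (f (w, 1)) (U ⊓ cmod H₁ H₀) = U ⊓ cmod H H₀ := by
  obtain ⟨V, _, _, _, ρ, φ, m⟩ := h.exists_vMod
  obtain ⟨v, lam, l⟩ := hA.exists_line h m
  ext u
  simp only [mem_iInf, Solv.mem_map_conj, mem_inf]
  refine ⟨fun e => ?_, fun e w => ⟨h.conj_mem' e.1 w, (l.ker (h.cw w ⟨u, e.1⟩)).2
    ((h.mem_C_iff m l ⟨u, e.1⟩).1 e.2 w)⟩⟩
  have hu : u ∈ U := by simpa [Prod.mk_one_one] using (e 1).1
  exact ⟨hu, (h.mem_C_iff m l ⟨u, hu⟩).2 fun w => (l.ker (h.cw w ⟨u, hu⟩)).1 (e w).2⟩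

/-- (9.7.b) -/
theorem caseB (hG : Gal9 H U H₀) : CaseB H U H₀ f p q := by
  classical
  obtain ⟨V, _, _, _, ρ, φ, m⟩ := h.exists_vMod
  have := Fact.mk h.primep
  let R := Algebra.adjoin (ZMod p) (ρ '' U)
  have cm : ∀ x ∈ ρ '' U, ∀ y ∈ ρ '' U, x * y = y * x := by
    rintro _ ⟨u, hu, rfl⟩ _ ⟨v, hv, rfl⟩
    exact h.act_comm m hu hv
  let _ : CommRing R :=
    { (inferInstance : Ring R) with mul_comm := (Algebra.isMulCommutative_adjoin _ cm).is_comm.comm }
  have mem : ∀ u ∈ U, ρ u ∈ R := fun u hu => Algebra.subset_adjoin ⟨u, hu, rfl⟩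
  have inj : ∀ x : R, ∀ v, x.1 v = 0 → x = 0 ∨ v = 0 := fun x v e =>
    ((gal_irr m hG (W := LinearMap.ker x.1) fun u hu v hv => by
      rw [LinearMap.mem_ker, ← Module.End.mul_apply, show x.1 * ρ u = ρ u * x.1 from
        congrArg Subtype.val (mul_comm x ⟨_, mem u hu⟩), Module.End.mul_apply, hv, map_zero]).imp
      (fun a => a.le e) fun a => Subtype.ext (LinearMap.ker_eq_top.1 a)).symm
  have := h.pti.finiteB
  have := h.pti.cycB
  obtain ⟨g, hg⟩ := IsCyclic.exists_monoid_generator (α := B)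
  have v0 : φ (f (1, g)) ≠ 0 := fun e => h.primep.ne_one (by
    rw [← h.index_W₂, index_eq_one, eq_top_iff']
    intro b
    obtain ⟨k, rfl⟩ := hg b
    exact pow_mem (show g ∈ H₀.comap (f.comp (MonoidHom.inr A B)) from (m.ker _ (h.BH g)).1 e) k)
  have : Nontrivial V := nontrivial_of_ne _ _ v0
  have : NoZeroDivisors R := ⟨fun {x y} e => (inj x (y.1 (φ (f (1, g))))
    (by rw [← Module.End.mul_apply]; exact congrArg (fun z : R => z.1 _) e)).imp_right
      fun a => (inj y _ a).resolve_right v0⟩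
  have : IsDomain R := NoZeroDivisors.to_isDomain R
  have : Finite (Module.End (ZMod p) V) := DFunLike.finite _
  have := Fintype.ofFinite R
  let _ : Field R := Fintype.fieldOfDomain R
  let ev : R →ₗ[ZMod p] V := (LinearMap.applyₗ (φ (f (1, g)))).comp R.val.toLinearMap
  have eb : Function.Bijective ev := ⟨(injective_iff_map_eq_zero _).2 fun x e =>
    (inj x _ e).resolve_right v0, LinearMap.range_eq_top.1 ((gal_irr m hG (by
      rintro u hu _ ⟨x, rfl⟩
      exact ⟨⟨_, mem u hu⟩ * x, rfl⟩)).resolve_left fun e => v0 (e.le ⟨1, rfl⟩))⟩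
  let E := LinearEquiv.ofBijective ev eb
  have := Fintype.ofFinite (GaloisField p q)
  have cF : Fintype.card (GaloisField p q) = p ^ q := by
    rw [← Nat.card_eq_fintype_card, GaloisField.card p q h.primeq.ne_zero]
  let e : R ≃+* GaloisField p q := FiniteField.ringEquivOfCardEq (by
    rw [cF, ← h.card_V m, ← Nat.card_eq_fintype_card, Nat.card_congr E.toEquiv])
  let ψ : U →* R := (ρ.comp U.subtype).codRestrict R fun u => mem u u.2
  have k : ψ.toHomUnits.ker = (cmod H H₀).subgroupOf U := by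
    ext u
    rw [MonoidHom.mem_ker, mem_subgroupOf, m.mem_cmod, Units.ext_iff, Subtype.ext_iff]
    rfl
  have cu : (U ⊓ cmod H H₀).relIndex U = Nat.card ψ.toHomUnits.range := by
    rw [← index_ker, k, inf_relIndex_left, relIndex]
  have : CharP R p := charP_of_injective_algebraMap (algebraMap (ZMod p) R).injective p
  have fx : ∀ x : R, x ^ p = x ↔ ∃ n : ℕ, (n : R) = x := fun x =>
    ⟨AppC.exists_cast_of_pow_eq, fun ⟨n, e⟩ => e ▸ map_natCast (frobenius R p) n⟩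
  have cop : ((U ⊓ cmod H H₀).relIndex U).Coprime (p - 1) := by
    rw [cu]
    refine Nat.coprime_of_dvd fun r hr r1 r2 => ?_
    have := Fact.mk hr
    obtain ⟨⟨_, u, rfl⟩, e⟩ := exists_prime_orderOf_dvd_card' r r1
    have e1 : ψ.toHomUnits u ^ (p - 1) = 1 := orderOf_dvd_iff_pow_eq_one.1 (by
      rw [← e, ← orderOf_coe] at r2; exact r2)
    obtain ⟨n, hn⟩ := (fx (ψ u)).1 (by
      rw [← mul_pow_sub_one h.primep.ne_zero, show ψ u ^ (p - 1) = 1 from
        (Units.val_pow_eq_pow_val _ _).symm.trans (congrArg Units.val e1), mul_one])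
    have hn : (n : Module.End (ZMod p) V) = ρ u := congrArg Subtype.val hn
    obtain ⟨w, hw⟩ := h.pti.exists_ne_one
    have := h.mem_C_of_comm u.2 hw (m.mem_cmod.2 (by
      rw [mul_assoc, ← mul_inv_rev, map_mul, map_mul, ← hn, (Nat.cast_commute n _).eq, hn,
        ← map_mul, ← map_mul, mul_inv_cancel, map_one]))
    rw [show (⟨_, u, rfl⟩ : ψ.toHomUnits.range) = 1 from Subtype.ext (k.ge this), orderOf_one] at e
    exact hr.ne_one e.symm
  refine ⟨⟨GaloisField p q, inferInstance, inferInstance, fun x => e (E.symm (φ x)),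
    fun u => if hu : u ∈ U then e (ψ ⟨u, hu⟩) else 0, cF, fun z _ => ?_, fun x hx y hy => ?_,
    fun x hx => ?_, fun u hu => ⟨?_, fun x hx => ?_⟩, fun u hu v hv => ?_, fun u hu => ?_,
    fun x hx => ?_⟩, cop, ?_⟩
  all_goals beta_reduce
  · obtain ⟨x, hx, a⟩ := m.surj (E (e.symm z))
    exact ⟨x, hx, by simp [a]⟩
  · rw [m.add x hx y hy, map_add, map_add]
  · rw [← m.ker x hx]; simp
  · rw [dif_pos hu, Ne, map_eq_zero]
    exact (ψ.toHomUnits ⟨u, hu⟩).ne_zero
  · rw [dif_pos hu, ← map_mul, m.act u x hx]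
    obtain ⟨y, hy⟩ := E.surjective (φ x)
    rw [← hy, E.symm_apply_apply]
    exact congrArg e (E.symm_apply_eq.2 rfl)
  · rw [dif_pos hu, dif_pos hv, dif_pos (mul_mem hu hv), ← map_mul, ← map_mul]
    rfl
  · rw [dif_pos hu, map_eq_one_iff _ e.injective, m.mem_cmod, Subtype.ext_iff]
    rfl
  · rw [← map_pow, e.injective.eq_iff, fx]
    have : ∀ n : ℕ, (n : R) = E.symm (φ x) ↔ x * (f (1, g ^ n))⁻¹ ∈ H₀ := fun n => by
      rw [← m.eq_iff hx (h.BH _), E.eq_symm_apply, show f (1, g ^ n) = f (1, g) ^ n by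
        rw [← map_pow]; simp, m.pow (h.BH g), eq_comm, ← nsmul_one, map_nsmul]
      rfl
    simp only [this]
    refine ⟨fun ⟨n, a⟩ => ⟨_, a⟩, fun ⟨b, a⟩ => ?_⟩
    obtain ⟨n, rfl⟩ := hg b
    exact ⟨n, a⟩
  · refine cop.dvd_of_dvd_mul_right ?_
    rw [AppC.geom_mul h.primep, cu, ← h.card_V m, ← Nat.card_congr E.toEquiv, ← Nat.card_units]
    exact card_subgroup_dvd_card _

/-- (13.2.c) -/
theorem u_le : (U ⊓ cmod H H₀).relIndex U ≤ (p ^ q - 1) / (p - 1) := by
  have p1 : 0 < p - 1 := Nat.sub_pos_of_lt h.primep.one_lt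
  have e : (p ^ q - 1) / (p - 1) = ∑ i ∈ Finset.range (q - 1), p ^ i + p ^ (q - 1) := by
    rw [AppC.geom h.primep, ← Finset.sum_range_succ, Nat.sub_add_cancel h.primeq.one_le]
  by_cases hG : Gal9 H U H₀
  · exact Nat.le_of_dvd (by rw [e]; have := pow_pos h.primep.pos (q - 1); omega) (h.caseB hG).dvd
  · obtain ⟨H₁, a, hA⟩ := h.caseA hG
    obtain ⟨φ, k⟩ := hA.emb
    have : NeZero a := ⟨by have := hA.one_lt; omega⟩
    have := card_le_card_group φ.range
    rw [← index_ker, k, Nat.card_fun, Nat.card_fin, Nat.card_congr Multiplicative.toAdd, Nat.card_zmod] at this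
    rw [e]
    exact this.trans ((Nat.pow_le_pow_left ((Nat.le_of_dvd p1 hA.dvd).trans (Nat.sub_le _ _)) _).trans
      (Nat.le_add_left _ _))

omit h hH₀ in
theorem exists_rad {V : Type*} [AddCommGroup V] [Module (ZMod p) V] [Finite V] [Fact p.Prime]
    (hp : p ≠ 2) (ho : Odd (Module.finrank (ZMod p) V)) (β : V →ₗ[ZMod p] V →ₗ[ZMod p] ZMod p)
    (hβ : ∀ x y, β y x = -β x y) : ∃ v ≠ 0, β v = 0 := by
  let b := Module.finBasis (ZMod p) V
  let M : Matrix _ _ (ZMod p) := Matrix.of fun i j => β (b j) (b i)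
  have : M.det = 0 := by
    have e : M.transpose = -M := Matrix.ext fun i j => hβ _ _
    have := M.det_transpose
    rw [e, Matrix.det_neg, Fintype.card_fin, ho.neg_one_pow, neg_one_mul, neg_eq_iff_add_eq_zero,
      ← two_mul] at this
    exact (mul_eq_zero.1 this).resolve_left fun e => hp ((Nat.prime_dvd_prime_iff_eq Fact.out
      Nat.prime_two).1 ((CharP.cast_eq_zero_iff (ZMod p) p 2).1 e))
  obtain ⟨c, c0, hc⟩ := Matrix.exists_mulVec_eq_zero_iff.2 this
  refine ⟨b.equivFun.symm c, (map_ne_zero_iff _ b.equivFun.symm.injective).2 c0, b.ext fun i => ?_⟩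
  simpa [M, Matrix.mulVec, dotProduct, mul_comm] using congrFun hc i

theorem p_ne_two : p ≠ 2 := by
  rintro rfl
  have := (relIndex_dvd_card H₀ H).trans (card_subgroup_dvd_card H)
  rw [h.relIndex_eq] at this
  exact (Nat.not_even_iff_odd.2 h.odd)
    (even_iff_two_dvd.2 ((dvd_pow_self 2 h.primeq.ne_zero).trans this))

theorem odd_q : Odd q := h.cardA ▸ h.pti.oddA

theorem eq_one_of_sq {M : Type*} [Group M] (D : U →* M) (u : U) (e : D u * D u = 1) : D u = 1 := by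
  refine orderOf_eq_one_iff.1 (Nat.eq_one_of_dvd_coprimes (k := orderOf (D u))
    (Nat.coprime_two_left.2 h.odd) (orderOf_dvd_of_pow_eq_one (by rwa [sq])) ?_)
  exact (orderOf_map_dvd D u).trans ((orderOf_dvd_natCard u).trans (card_subgroup_dvd_card U))

/-- (11.7): pure group theory (commutator form on H/H₀, q odd). -/
theorem eq_bot_of_commutator (hp : IsPGroup p H) (h1 : H₀ = ⁅H, H⁆)
    (h2 : U ≤ Subgroup.centralizer (H₀ : Set L)) : H₀ = ⊥ := by
  by_contra h0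
  obtain ⟨V, _, _, _, ρ, φ, m⟩ := h.exists_vMod
  have := Fact.mk h.primep
  have hH := h.normalH
  have lt := Solv.commutator_lt_of_nilpotent hp.isNilpotent h.lt.le le_rfl
    le_normalizer_of_normal h0
  obtain ⟨M, M1, M2⟩ := Solv.exists_coatom_ge (H := ⁅H₀, H⁆.subgroupOf H₀)
    fun e => lt.not_ge (subgroupOf_eq_top.1 e)
  have : M.Normal := ⟨fun x hx g => by
    have : g * x * g⁻¹ * x⁻¹ ∈ M := M2 (commutator_mem_commutator g.2 (h.lt.le x.2))
    simpa using mul_mem this hx⟩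
  let κ : H₀ →* Multiplicative (ZMod p) := (mulEquivOfPrimeCardEq (p := p)
    (Solv.index_eq_of_coatom_of_isPGroup (hp.to_le h.lt.le) M1) (by simp)).toMonoidHom.comp
    (QuotientGroup.mk' M)
  have κk : ∀ x, κ x = 1 ↔ x ∈ M := fun x => by simp [κ]
  have c : ∀ x ∈ H, ∀ y ∈ H, ⁅x, y⁆ ∈ H₀ := fun x hx y hy => h.comm (commutator_mem_commutator hx hy)
  let β : H → H → ZMod p := fun x y => (κ ⟨⁅x.1, y.1⁆, c _ x.2 _ y.2⟩).toAdd
  have b1 : ∀ x y : H, β y x = -β x y := fun x y => by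
    simp only [β, ← toAdd_inv, ← map_inv]
    congr 2
    exact Subtype.ext (commutatorElement_inv _ _).symm
  have b2 : ∀ x x' y : H, β (x * x') y = β x y + β x' y := fun x x' y => by
    have : κ ⟨⁅⁅x'.1, y.1⁆⁻¹, x.1⁆, h.comm (commutator_mem_commutator (inv_mem (h.lt.le
      (c _ x'.2 _ y.2))) x.2)⟩ = 1 := (κk _).2 (M2 (commutator_mem_commutator
        (inv_mem (c _ x'.2 _ y.2)) x.2))
    rw [add_comm, ← add_zero (β x' y), ← toAdd_one, ← this]
    simp only [β, ← toAdd_mul, ← map_mul]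
    congr 2
    exact Subtype.ext (by simp only [coe_mul, commutatorElement_def]; group)
  have b3 : ∀ x x' y : H, φ x = φ x' → β x y = β x' y := fun x x' y e => by
    rw [← inv_mul_cancel_right x x', b2, add_eq_right]
    exact (κk _).2 (M2 (commutator_mem_commutator ((m.eq_iff x.2 x'.2).1 e) y.2))
  choose s s1 s2 using m.surj
  have b4 : ∀ x x' y, β ⟨s (x + x'), s1 _⟩ y = β ⟨s x, s1 _⟩ y + β ⟨s x', s1 _⟩ y := fun x x' y => by
    rw [← b2]
    exact b3 _ _ _ (by rw [coe_mul, m.add _ (s1 _) _ (s1 _), s2, s2, s2])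
  let γ : V →ₗ[ZMod p] V →ₗ[ZMod p] ZMod p := AddMonoidHom.toZModLinearMap p
    (AddMonoidHom.mk' (fun x => AddMonoidHom.toZModLinearMap p (AddMonoidHom.mk'
      (fun y => β ⟨s x, s1 _⟩ ⟨s y, s1 _⟩) fun y y' => by rw [b1, b4, neg_add, ← b1, ← b1]))
      fun x x' => LinearMap.ext fun y => b4 _ _ _)
  have g1 : ∀ x y : H, γ (φ x) (φ y) = β x y := fun x y => by
    show β ⟨s _, s1 _⟩ ⟨s _, s1 _⟩ = _
    rw [b3 _ x _ (s2 _), b1, b3 _ y _ (s2 _), ← b1]
  have g2 : ∀ u ∈ U, ∀ x y, γ (ρ u x) (ρ u y) = γ x y := fun u hu x y => by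
    rw [← s2 x, ← s2 y, ← m.act u _ (s1 x), ← m.act u _ (s1 y), g1 ⟨_, s1 x⟩ ⟨_, s1 y⟩,
      g1 ⟨_, hH.conj_mem _ (s1 x) u⟩ ⟨_, hH.conj_mem _ (s1 y) u⟩]
    simp only [β]
    congr 3
    rw [← conjugate_commutatorElement, ← h2 hu _ (c _ (s1 x) _ (s1 y)), mul_inv_cancel_right]
  have g0 : γ ≠ 0 := fun e => M1.1 (by
    rw [eq_top_iff, ← map_subtype_le_map_subtype, ← MonoidHom.range_eq_map, range_subtype]
    refine h1.le.trans (commutator_le.2 fun x hx y hy => ⟨⟨_, c x hx y hy⟩, (κk _).1 ?_, rfl⟩)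
    have := g1 ⟨x, hx⟩ ⟨y, hy⟩
    rw [e] at this
    exact this.symm)
  by_cases hG : Gal9 H U H₀
  · obtain ⟨v, v0, e⟩ := exists_rad h.p_ne_two (by rw [h.finrank_V m]; exact h.odd_q) γ
      fun x y => b1 _ _
    rcases gal_irr m hG (W := LinearMap.ker γ) (fun u hu v hv => LinearMap.ext fun y => by
      rw [← act_act_inv ρ u y, g2 u hu, show γ v = 0 from hv]; rfl) with a | a
    · exact v0 (a.le e)
    · exact g0 (LinearMap.ker_eq_top.1 a)
  obtain ⟨H₁, a, hA⟩ := h.caseA hG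
  obtain ⟨v, lam, l⟩ := hA.exists_line h m
  refine g0 (LinearMap.ext_on_range (top_le_iff.1 l.span) fun w =>
    LinearMap.ext_on_range (top_le_iff.1 l.span) fun w' => by_contra fun e => ?_)
  have k : ∀ u, lam (h.cw w u) * lam (h.cw w' u) = 1 := fun u => Units.ext (by
    have := g2 u u.2 (ρ (f (w, 1)) v) (ρ (f (w', 1)) v)
    simp only [h.act_line m l, map_smul, LinearMap.smul_apply, smul_eq_mul] at this
    exact mul_right_cancel₀ e (by push_cast; linear_combination this))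
  have k : ∀ u, lam (h.cw (w⁻¹ * w') u) = (lam u)⁻¹ := fun u => by
    have := k (h.cw w⁻¹ u)
    rw [h.cw_cw, h.cw_cw, inv_mul_cancel, h.cw_one] at this
    exact eq_inv_of_mul_eq_one_right this
  refine h.notC fun u hu => (h.mem_C_iff m l ⟨u, hu⟩).2 fun _ => ?_
  by_cases e : w⁻¹ * w' = 1
  · exact h.eq_one_of_sq _ _ (eq_inv_iff_mul_eq_one.1 (by rw [← k, e, h.cw_one]))
  · refine h.eq_one_of_cw lam (w := (w⁻¹ * w') * (w⁻¹ * w')) (fun e' => e ?_)
      (fun u => by rw [← h.cw_cw, k, k, inv_inv]) _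
    have := h.pti.finiteA
    exact orderOf_eq_one_iff.1 (Nat.eq_one_of_dvd_coprimes (Nat.coprime_two_left.2 h.pti.oddA)
      (orderOf_dvd_of_pow_eq_one (by rwa [sq])) (orderOf_dvd_natCard _))

end Sec9

end Cfsg.Agent.Char
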