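import Cfsg.Agent.Lib.Char.PDade

/-!
The abstract set-up of Peterfalvi's Section 9 (maximal subgroups of types II, III, IV), inside
one finite group `L = (H ⋊ U) ⋊ W₁`.
-/

set_option autoImplicit false

namespace Cfsg.Agent.Char

variable {L : Type*} [Group L] {A : Type*} [Group A] {B : Type*} [Group B]

/-- The elements centralising `X` modulo the normal subgroup `N`. -/
def cmod (X N : Subgroup L) [hN : N.Normal] : Subgroup L where
  carrier := {x | ∀ y ∈ X, x * y * x⁻¹ * y⁻¹ ∈ N}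
  mul_mem' {a b} ha hb y hy := by
    have := N.mul_mem (hN.conj_mem _ (hb y hy) a) (ha y hy)
    convert this using 1
    group
  one_mem' y _ := by simp
  inv_mem' {a} ha y hy := by
    have := hN.conj_mem _ (N.inv_mem (ha y hy)) a⁻¹
    convert this using 1
    group

theorem mem_cmod {X N : Subgroup L} [N.Normal] {x : L} :
    x ∈ cmod X N ↔ ∀ y ∈ X, x * y * x⁻¹ * y⁻¹ ∈ N := Iff.rfl

/-- The conjugate `x X x⁻¹`. -/
abbrev cjS (x : L) (X : Subgroup L) : Subgroup L := X.map (MulAut.conj x).toMonoidHom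

/-- `χ` is induced from a linear character of `X`. -/
def IndLin [Fintype L] (X : Subgroup L) (χ : L → ℂ) : Prop := ∃ ω : X →* ℂˣ, χ = indFun X (lc ω)

/-- Hypotheses (9.2), (9.4), (9.5): `K = H ⋊ U`, `W₁ × W₂` is embedded by `f`, `q = |W₁|`, and
`H / H₀` is a chief factor of exponent `p` not centralised by `U`. -/
structure Sec9 (K H U H₀ : Subgroup L) [H₀.Normal] (f : A × B →* L) (p q : ℕ) : Prop where
  pti : PrimeTI K f
  odd : Odd (Nat.card L)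
  solv : Group.IsSolvable L
  cardA : Nat.card A = q
  primeq : q.Prime
  primep : p.Prime
  normalH : H.Normal
  lt : H₀ < H
  inf : H ⊓ U = ⊥
  sup : H ⊔ U = K
  cop : (Nat.card H).Coprime (Nat.card U)
  normU : ∀ a, f (a, 1) ∈ Subgroup.normalizer (U : Set L)
  BH : ∀ b, f (1, b) ∈ H
  chief : ∀ N : Subgroup L, N.Normal → H₀ ≤ N → N ≤ H → N = H₀ ∨ N = H
  comm : ⁅H, H⁆ ≤ H₀
  pow : ∀ x ∈ H, x ^ p ∈ H₀
  notC : ¬ U ≤ cmod H H₀
  derU : ⁅U, U⁆ ≤ cmod H H₀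

/-- `U` acts irreducibly on `H / H₀` (case (9.7.b)). -/
def Gal9 (H U H₀ : Subgroup L) : Prop :=
  ∀ N : Subgroup L, H₀ ≤ N → N ≤ H → U ≤ Subgroup.normalizer (N : Set L) → N = H₀ ∨ N = H

/-- Case (9.7.a). -/
structure CaseA (H U H₀ H₁ : Subgroup L) [H₀.Normal] (f : A × B →* L) (p q a : ℕ) : Prop where
  le₀ : H₀ ≤ H₁
  le : H₁ ≤ H
  card : H₀.relIndex H₁ = p
  norm : U ≤ Subgroup.normalizer (H₁ : Set L)
  gen : ⨆ w : A, cjS (f (w, 1)) H₁ = H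
  a_eq : (U ⊓ cmod H₁ H₀).relIndex U = a
  one_lt : 1 < a
  dvd : a ∣ p - 1
  emb : ∃ φ : U →* (Fin (q - 1) → Multiplicative (ZMod a)), φ.ker = (U ⊓ cmod H H₀).subgroupOf U

/-- Case (9.7.b): the field structure. -/
structure CaseB (H U H₀ : Subgroup L) [H₀.Normal] (f : A × B →* L) (p q : ℕ) : Prop where
  field : ∃ (F : Type) (_ : Field F) (_ : Fintype F) (φ : L → F) (ψ : L → F),
    Fintype.card F = p ^ q ∧ Set.SurjOn φ (H : Set L) Set.univ ∧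
    (∀ x ∈ H, ∀ y ∈ H, φ (x * y) = φ x + φ y) ∧ (∀ x ∈ H, φ x = 0 ↔ x ∈ H₀) ∧
    (∀ u ∈ U, ψ u ≠ 0 ∧ ∀ x ∈ H, φ (u * x * u⁻¹) = ψ u * φ x) ∧
    (∀ u ∈ U, ∀ v ∈ U, ψ (u * v) = ψ u * ψ v) ∧ (∀ u ∈ U, ψ u = 1 ↔ u ∈ cmod H H₀) ∧
    (∀ x ∈ H, φ x ^ p = φ x ↔ ∃ b, x * (f (1, b))⁻¹ ∈ H₀)
  cop : ((U ⊓ cmod H H₀).relIndex U).Coprime (p - 1)
  dvd : (U ⊓ cmod H H₀).relIndex U ∣ (p ^ q - 1) / (p - 1)

end Cfsg.Agent.Char
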