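import Cfsg.Agent.Lib.Char.Sec7

/-!
Coherence for Frobenius groups of arbitrary order (Feit) and exceptional characters of T.I. subgroups.
-/

set_option autoImplicit false

namespace Cfsg.Agent.Char

open scoped ComplexConjugate
open QuotientGroup

variable {L : Type*} [Group L] {G : Type*} [Group G]

theorem exists_center_orderOf_of_nilpotent {X : Type*} [Group X] [Finite X] (h : Group.IsNilpotent X)
    {q : ℕ} (hq : q.Prime) (hd : q ∣ Nat.card X) : ∃ x ∈ Subgroup.center X, orderOf x = q := by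
  have := Fact.mk hq
  obtain ⟨Q⟩ : Nonempty (Sylow q X) := inferInstance
  have hn : (Q : Subgroup X).Normal := inferInstance
  have h0 : (Q : Subgroup X) ≠ ⊥ := Q.ne_bot_of_dvd_card hd
  have h1 := Solv.inf_centralizer_ne_bot_of_nilpotent (L := ⊤) (N := (Q : Subgroup X))
    (Group.nilpotent_of_mulEquiv Subgroup.topEquiv.symm) le_top Subgroup.le_normalizer_of_normal h0
  have h2 : IsPGroup q ((Q : Subgroup X) ⊓ Subgroup.centralizer ((⊤ : Subgroup X) : Set X) :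
      Subgroup X) := Q.2.to_le inf_le_left
  obtain ⟨n, hn⟩ := IsPGroup.iff_card.1 h2
  have h3 : n ≠ 0 := by rintro rfl; exact h1 (Subgroup.card_eq_one.1 (by simpa using hn))
  obtain ⟨x, hx⟩ := exists_prime_orderOf_dvd_card' (G := ((Q : Subgroup X) ⊓
    Subgroup.centralizer ((⊤ : Subgroup X) : Set X) : Subgroup X)) q (hn ▸ dvd_pow_self q h3)
  refine ⟨x, Subgroup.mem_center_iff.2 fun g => x.2.2 g trivial, ?_⟩
  rw [Subgroup.orderOf_coe, hx]

section

variable [Fintype L] [Fintype G]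

namespace IsoOn

variable {S S₁ S₂ : Set (L → ℂ)} {τ ν : (L → ℂ) →ₗ[ℂ] (G → ℂ)} (h : IsoOn S τ)
include h

theorem extend_set_irr (hi : ∀ χ ∈ S, IsIrrCharacter L χ) (hS : S₁ ⊆ S) (hν : CohWith S₁ τ ν)
    (hS₂ : S₂ ⊆ S) {ψ : L → ℂ} (hψ : ψ ∈ S₁) {T : Finset (L → ℂ)} (hT : ↑T ⊆ S₁)
    (hb : ∀ χ ∈ S₂, χ ∉ S₁ → (∃ a : ℕ, χ 1 = a * ψ 1) ∧ 2 * deg χ * deg ψ < ∑ φ ∈ T, deg φ ^ 2) :
    CohWith S₂ τ ν := by
  refine h.pivot hS₂ hν.ext (Submodule.subset_span (hS hψ)) (hi ψ (hS hψ)).apply_one_ne_zero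
    (hν.iso ψ hψ ψ hψ) fun χ hχ => ?_
  by_cases e : χ ∈ S₁
  · exact ⟨hν.gen χ e, hν.iso χ e ψ hψ⟩
  obtain ⟨⟨a, ha⟩, hlt⟩ := hb χ hχ e
  obtain ⟨h1, h2⟩ := h.extend_irr hS hν hi (hS₂ hχ) e hψ ha hT hlt
  exact ⟨h1, by rw [h2, (hi χ (hS₂ hχ)).classInner_of_ne (hi ψ (hS hψ)) (by rintro rfl; exact e hψ)]⟩

theorem exists_uniform_irr (hi : ∀ χ ∈ S, IsIrrCharacter L χ) (hd : ∀ χ ∈ S, ∀ ψ ∈ S, χ 1 = ψ 1) :
    ∃ ε : ℂ, (ε = 1 ∨ ε = -1) ∧ ∃ μ : S → G → ℂ, (∀ i, IsIrrCharacter G (μ i)) ∧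
      Function.Injective μ ∧ ∀ i j : S, τ (i - j) = ε • (μ i - μ j) := by
  classical
  rcases S.eq_empty_or_nonempty with rfl | ⟨χ₀, h₀⟩
  · exact ⟨1, Or.inl rfl, fun _ _ => 1, fun _ => isIrrCharacter_one, fun i => i.2.elim,
      fun i => i.2.elim⟩
  have h1 : ∀ i : S, ((i : L → ℂ) - χ₀) 1 = 0 := fun i => by simp [hd i i.2 χ₀ h₀]
  obtain ⟨ε, hε, μ, h2, h3, h4⟩ := isometry_lemma (⟨χ₀, h₀⟩ : S) (τ := fun i : S => τ (i - χ₀))
    (by simp) (fun i => h.gen _ (sub_mem_span i.2 h₀) (h1 i))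
    (fun i => h.one _ (sub_mem_span i.2 h₀) (h1 i)) (fun i j hi0 hj0 => by
      have e1 : (i : L → ℂ) ≠ χ₀ := fun e => hi0 (Subtype.ext e)
      have e2 : (j : L → ℂ) ≠ χ₀ := fun e => hj0 (Subtype.ext e)
      rw [h.iso _ (sub_mem_span i.2 h₀) _ (sub_mem_span j.2 h₀) (h1 i) (h1 j)]
      simp only [classInner_sub_left, classInner_sub_right, (hi _ h₀).classInner_self,
        (hi _ i.2).classInner_of_ne (hi _ h₀) e1, (hi _ h₀).classInner_of_ne (hi _ j.2) e2.symm]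
      split_ifs with e
      · rw [e, (hi _ j.2).classInner_self]; norm_num
      · rw [(hi _ i.2).classInner_of_ne (hi _ j.2) fun e' => e (Subtype.ext e')]; norm_num)
  refine ⟨ε, hε, μ, h2, h3, fun i j => ?_⟩
  have : (i : L → ℂ) - j = (i - χ₀) - (j - χ₀) := by abel
  rw [this, map_sub, h4 i, h4 j, ← smul_sub]
  congr 1
  abel

theorem coh_uniform_irr (hi : ∀ χ ∈ S, IsIrrCharacter L χ) (hd : ∀ χ ∈ S, ∀ ψ ∈ S, χ 1 = ψ 1) :
    Coh S τ := by
  rcases S.eq_empty_or_nonempty with rfl | ⟨χ₀, h₀⟩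
  · exact coh_empty τ
  obtain ⟨ε, hε, μ, h1, h2, h3⟩ := h.exists_uniform_irr hi hd
  obtain ⟨ν, h4, h5⟩ := exists_isExt τ (hi _ h₀).apply_one_ne_zero (ε • μ ⟨χ₀, h₀⟩)
  have h6 : ∀ i : S, ν i = ε • μ i := fun i => by
    have := h4.sub (hd i i.2 χ₀ h₀)
    rw [h3 i ⟨χ₀, h₀⟩, h5, smul_sub, sub_left_inj] at this
    exact this.symm
  refine ⟨ν, h4, fun χ hχ ψ hψ => ?_, fun χ hχ => ?_⟩
  · rw [h6 ⟨χ, hχ⟩, h6 ⟨ψ, hψ⟩]
    have : classInner (ε • μ ⟨χ, hχ⟩) (ε • μ ⟨ψ, hψ⟩) = classInner (μ ⟨χ, hχ⟩) (μ ⟨ψ, hψ⟩) := by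
      rcases hε with rfl | rfl <;> simp [classInner_neg_left, classInner_neg_right]
    rw [this]
    by_cases e : χ = ψ
    · subst e; rw [(h1 _).classInner_self, (hi _ hχ).classInner_self]
    · rw [(h1 _).classInner_of_ne (h1 _) (h2.ne fun e' => e (congrArg Subtype.val e')),
        (hi _ hχ).classInner_of_ne (hi _ hψ) e]
  · rw [h6 ⟨χ, hχ⟩]
    exact ((h1 _).isDirr.sign_smul hε).isGen

end IsoOn

variable {K : Subgroup L} [hK : K.Normal] {τ : (L → ℂ) →ₗ[ℂ] (G → ℂ)}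

theorem coh_indD_of_lt_irr (h : IsoOn (indD K K ⊥) τ) (frob : FrobMod K K ⊥)
    (hs : Group.IsSolvable K) {A B D : Subgroup L} [A.Normal] (hAK : A < K)
    (hDK : D ≤ K) (hcent : ∀ d ∈ D, ∀ c ∈ K, d * c * d⁻¹ * c⁻¹ ∈ B)
    (hA : Coh (indD K K A) τ)
    (hlt : 4 * K.index ^ 2 * D.relIndex K < (A.relIndex K - 1) ^ 2) : Coh (indD K K B) τ := by
  obtain ⟨ν, hν⟩ := hA
  obtain ⟨χ₁, h1, h2⟩ := exists_mem_indD_index le_rfl hAK.le (not_le_commutator_sup hs hAK)
  refine (h.extend_set_irr (fun _ => frob.irr) (indD_subset K K A) hν (indD_subset K K B) h1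
    (T := indF K K A) (by simp) fun χ hχ _ => ⟨?_, ?_⟩).coh
  · obtain ⟨d, -, hd⟩ := exists_degree_of_mem_indD hχ
    exact ⟨d, by rw [hd, h2, mul_comm]⟩
  have h0 := sum_indF_deg_sq_self (K := K) hAK.le
  rw [Finset.sum_congr rfl (g := fun φ => deg φ ^ 2) fun φ hφ => by
    rw [(frob.irr (mem_indF.1 hφ)).rip_self, div_one]] at h0
  rw [h0, deg_eq_nat h2, mul_comm]
  have h3 := deg_sq_le_of_mem_indD hDK le_rfl hcent hχ
  have h4 := one_le_relIndex A K
  have h5 : (4 * (K.index : ℝ) ^ 2 * D.relIndex K) < ((A.relIndex K : ℝ) - 1) ^ 2 := by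
    rw [← Nat.cast_one (R := ℝ), ← Nat.cast_sub h4]; exact_mod_cast hlt
  have h6 : (0 : ℝ) < K.index := by exact_mod_cast Nat.pos_of_ne_zero Subgroup.index_ne_zero_of_finite
  have h7 : (1 : ℝ) ≤ A.relIndex K := by exact_mod_cast h4
  gcongr
  exact lt_of_pow_lt_pow_left₀ 2 (by linarith) (by nlinarith)

omit [Fintype L] hK in
theorem FrobMod.succ_le [Finite L] {A B : Subgroup L} [A.Normal] [B.Normal] (frob : FrobMod K K ⊥)
    (hAB : A < B) (hBK : B ≤ K) : K.index + 1 ≤ A.relIndex B := by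
  have h1 := ((frob.of_le bot_le (hAB.le.trans hBK)).mono hBK).index_dvd (hAB.le.trans hBK)
  have h2 := one_lt_relIndex_of_lt hAB
  have := Nat.le_of_dvd (by omega) h1
  omega

/-- Feit's coherence theorem for a Frobenius group. -/
theorem feit_coh (h : IsoOn (indD K K ⊥) τ) (frob : FrobMod K K ⊥) (hne : K ≠ ⊤) :
    Coh (indD K K ⊥) τ ∨ ∃ p : ℕ, p.Prime ∧ IsPGroup p K ∧ ⁅K, K⁆ ≠ ⊥ ∧
      ⁅K, K⁆.relIndex K ≤ 4 * K.index ^ 2 + 1 := by
  have hnil := frob.isNilpotent hne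
  have hs : Group.IsSolvable K := inferInstance
  have h0 : Coh (indD K K ⁅K, K⁆) τ := (h.mono (indD_subset _ _ _)).coh_uniform_irr
    (fun _ => frob.irr) fun φ hφ ψ hψ => by
      rw [apply_one_of_mem_indD hφ le_rfl, apply_one_of_mem_indD hψ le_rfl]
  obtain ⟨A, hA, ⟨hn, h2⟩, h3⟩ := Solv.exists_minimal_le
    (P := fun A => A.Normal ∧ Coh (indD K K A) τ) ⟨inferInstance, h0⟩
  by_cases hA0 : A = ⊥
  · exact Or.inl (hA0 ▸ h2)
  right
  have hK' : ⁅K, K⁆ ≠ ⊥ := fun e => hA0 (le_bot_iff.1 (e ▸ hA))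
  have hK0 : ⊥ < K := bot_lt_iff_ne_bot.2 fun e => hK' (by simp [e])
  have hK'K : ⁅K, K⁆ < K := lt_of_le_not_ge (commutator_le_self' K)
    (by simpa using not_le_commutator_sup hs hK0)
  have hAK : A < K := hA.trans_lt hK'K
  obtain ⟨B, hBn, -, hBA, hch⟩ := exists_chief_below (N := ⊥) (bot_lt_iff_ne_bot.2 hA0)
  have hnc : ¬ Coh (indD K K B) τ := fun e => hBA.ne (h3 B ⟨hBn, e⟩ hBA.le)
  have hnq := Solv.isNilpotent_map (mk' B) hnil
  have hAc : ⁅A, K⁆ ≤ B := by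
    rcases hch (⁅A, K⁆ ⊔ B) inferInstance le_sup_right
      (sup_le (Subgroup.commutator_le_left A K) hBA.le) with e | e
    · exact e ▸ le_sup_left
    refine (hBA.not_ge ?_).elim
    rw [← Solv.map_mk_eq_bot_iff]
    refine Solv.eq_bot_of_le_commutator_of_nilpotent hnq (Subgroup.map_mono hAK.le) le_rfl ?_
    rw [← Subgroup.map_commutator, Solv.map_mk_le_map_mk_iff, e]
  have hKq := hK.map (mk' B) (mk'_surjective B)
  let D : Subgroup L := K ⊓ (Subgroup.centralizer (K.map (mk' B) : Set (L ⧸ B))).comap (mk' B)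
  have hDn : D.Normal := inferInstance
  have hmem : ∀ d, d ∈ D ↔ d ∈ K ∧ ∀ c ∈ K, d * c * d⁻¹ * c⁻¹ ∈ B := fun d => by
    refine and_congr_right fun _ => ⟨fun e c hc => (eq_one_iff _).1 ?_, ?_⟩
    · have := e _ ⟨c, hc, rfl⟩
      simp only [mk'_apply] at this
      simp [← this]
    · rintro e _ ⟨c, hc, rfl⟩
      have := (eq_one_iff _).2 (e c hc)
      simp only [mk_mul, mk_inv, mul_inv_eq_iff_eq_mul, one_mul] at this
      exact this.symm
  have hAD : A ≤ D := fun a ha => (hmem a).2 ⟨hAK.le ha, fun c hc =>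
    hAc (Subgroup.commutator_mem_commutator ha hc)⟩
  have hDK : D < K := lt_of_le_not_ge inf_le_left fun e => hBA.not_ge (hA.trans
    (Subgroup.commutator_le.2 fun a ha c hc => ((hmem a).1 (e ha)).2 c hc))
  have hco := fun hlt => hnc (coh_indD_of_lt_irr h frob hs hAK hDK.le
    (fun d hd => ((hmem d).1 hd).2) h2 hlt)
  have he := Nat.pos_of_ne_zero (Subgroup.index_ne_zero_of_finite (H := K))
  have hDA : D = A := by
    by_contra e
    have h4 := frob.succ_le (lt_of_le_of_ne hAD (Ne.symm e)) hDK.le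
    have h5 := frob.succ_le hDK le_rfl
    refine hco ?_
    rw [← Subgroup.relIndex_mul_relIndex A D K hAD hDK.le]
    obtain ⟨s, hs⟩ := Nat.exists_eq_add_of_le h4
    obtain ⟨t, ht⟩ := Nat.exists_eq_add_of_le h5
    rw [hs, ht]
    set e := K.index
    have h6 : e * (e + 1 + t + 1) ≤ (e + 1 + s) * (e + 1 + t) - 1 := by
      apply Nat.le_sub_one_of_lt; nlinarith [Nat.zero_le (s * e), Nat.zero_le (s * t)]
    refine lt_of_lt_of_le ?_ (Nat.pow_le_pow_left h6 2)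
    have : 4 * (e + 1 + t) < (e + 1 + t + 1) ^ 2 := by nlinarith [Nat.zero_le (e * t)]
    calc 4 * e ^ 2 * (e + 1 + t) = e ^ 2 * (4 * (e + 1 + t)) := by ring
      _ < e ^ 2 * (e + 1 + t + 1) ^ 2 := by gcongr
      _ = _ := by ring
  have hAq := hn.map (mk' B) (mk'_surjective B)
  obtain ⟨-, p, hp, h4⟩ := Solv.minimal_normal_elementary (A.map (mk' B))
    (Solv.isSolvable_map _ (Solv.isSolvable_of_le hAK.le hs))
    (by rw [Ne, Solv.map_mk_eq_bot_iff]; exact hBA.not_ge) (by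
      intro N hN h5
      rw [← Solv.map_comap_mk _ N]
      rcases hch (N.comap (mk' _)) inferInstance (Solv.le_comap_mk _ _) (by
        have := Subgroup.comap_mono (f := mk' B) h5
        rwa [Solv.comap_map_mk, sup_eq_left.2 hBA.le] at this) with h6 | h6
      · left; rw [h6, Solv.map_mk_eq_bot_iff]
      · right; rw [h6])
  have := Fact.mk hp
  refine ⟨p, hp, IsPGroup.of_card (n := (Nat.card K).primeFactorsList.length)
    (Nat.eq_prime_pow_of_unique_prime_dvd Nat.card_pos.ne' fun {q} hq h5 => ?_), hK', ?_⟩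
  · have h6 := prime_dvd_relIndex_commutator (M := ⊥) (Solv.isNilpotent_map _ hnil) hq
      (by rwa [Subgroup.relIndex_bot_left])
    rw [sup_bot_eq] at h6
    have h7 : q ∣ Nat.card (K.map (mk' B)) := by
      rw [Solv.card_map_mk_eq_relIndex]
      exact h6.trans (Subgroup.relIndex_dvd_of_le_left K (hBA.le.trans hA))
    obtain ⟨⟨_, x, hx, rfl⟩, h8, h9⟩ := exists_center_orderOf_of_nilpotent hnq hq h7
    have h10 : x ∈ D := ⟨hx, fun y hy => congrArg Subtype.val (Subgroup.mem_center_iff.1 h8 ⟨y, hy⟩)⟩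
    rw [← Subgroup.orderOf_coe] at h9
    exact (Nat.prime_dvd_prime_iff_eq hq hp).1
      (h9 ▸ orderOf_dvd_of_pow_eq_one (h4 _ ⟨x, hDA ▸ h10, rfl⟩))
  · refine (Subgroup.relIndex_le_of_le_left hA Subgroup.index_ne_zero_of_finite).trans
      (not_lt.1 fun h5 => hco ?_)
    rw [hDA]
    obtain ⟨x, hx⟩ := Nat.exists_eq_add_of_lt h5
    rw [hx, Nat.add_sub_cancel]
    nlinarith [Nat.zero_le (K.index ^ 2 * x)]

omit [Fintype G] in
theorem FrobMod.set_eq (frob : FrobMod K K ⊥) :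
    {χ : L → ℂ | IsIrrCharacter L χ ∧ ∃ k ∈ K, χ k ≠ χ 1} = indD K K ⊥ := by
  rw [indD_eq_irr le_rfl bot_le fun _ => frob.irr]
  ext χ
  refine and_congr_right fun hχ => ?_
  rw [and_iff_right bot_le]
  simp only [SetLike.le_def, hχ.isCharacter.mem_charKer, not_forall, exists_prop]

omit [Fintype G] in
theorem FrobMod.set_eq' (frob : FrobMod K K ⊥) {Z : Subgroup L} [Z.Normal] (hZ : Z ≤ K) :
    {χ : L → ℂ | IsIrrCharacter L χ ∧ ∃ k ∈ Z, χ k ≠ χ 1} = indD K Z ⊥ := by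
  rw [indD_eq_irr hZ bot_le fun _ => frob.irr]
  ext χ
  refine and_congr_right fun hχ => ?_
  rw [and_iff_right bot_le]
  simp only [SetLike.le_def, hχ.isCharacter.mem_charKer, not_forall, exists_prop]

omit [Fintype G] in
theorem exists_vanish_of_nontrivial {S : Set (L → ℂ)} (hi : ∀ χ ∈ S, IsIrrCharacter L χ)
    (h : S.Nontrivial) : ∃ α ∈ zspanOn S {1}ᶜ, α ≠ 0 := by
  obtain ⟨χ, hχ, ψ, hψ, e⟩ := h
  obtain ⟨c, hc0, hc⟩ := (hi χ hχ).exists_degree
  obtain ⟨d, hd0, hd⟩ := (hi ψ hψ).exists_degree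
  refine ⟨(d : ℤ) • χ - (c : ℤ) • ψ, mem_zspanOn_one.2 ⟨smul_sub_smul_mem_span hχ hψ _ _,
    by simp [hc, hd, mul_comm]⟩, fun h0 => ?_⟩
  have := congrArg (fun α => classInner α χ) h0
  simp only [natCast_zsmul, ← Nat.cast_smul_eq_nsmul ℂ, classInner_sub_left, classInner_smul_left,
    (hi χ hχ).classInner_self, (hi ψ hψ).classInner_of_ne (hi χ hχ) e.symm,
    classInner_zero_left] at this
  simp [hd0.ne'] at this

omit [Fintype G] in
theorem FrobMod.sum_sq (frob : FrobMod K K ⊥) :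
    ∑ φ ∈ indF K K ⊥, deg φ ^ 2 = K.index * ((Nat.card K : ℝ) - 1) := by
  have h0 := sum_indF_deg_sq_self (K := K) (M := ⊥) bot_le
  rwa [Finset.sum_congr rfl (g := fun φ => deg φ ^ 2) fun φ hφ => by
    rw [(frob.irr (mem_indF.1 hφ)).rip_self, div_one], Subgroup.relIndex_bot_left] at h0

omit [Fintype G] in
theorem FrobMod.nontrivial (frob : FrobMod K K ⊥) (h0 : K ≠ ⊥) (h1 : K ≠ ⊤)
    (he : Nat.card K ≠ K.index + 1) : (indD K K ⊥).Nontrivial := by
  have hnil := frob.isNilpotent h1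
  obtain ⟨ζ, h2, h3⟩ := exists_mem_indD_index (K := K) (H := K) (M := ⊥) le_rfl bot_le
    (not_le_commutator_sup inferInstance (bot_lt_iff_ne_bot.2 h0))
  by_contra h4
  have h5 : indF K K ⊥ = {ζ} := by
    ext φ
    simp only [mem_indF, Finset.mem_singleton]
    exact ⟨fun h => Set.not_nontrivial_iff.1 h4 h h2, fun h => h ▸ h2⟩
  have h6 := frob.sum_sq
  rw [h5, Finset.sum_singleton, deg_eq_nat h3, pow_two,
    mul_right_inj' (by exact_mod_cast Subgroup.index_ne_zero_of_finite), eq_sub_iff_add_eq] at h6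
  exact he (by exact_mod_cast h6.symm)

omit [Fintype G] in
theorem FrobMod.card_eq_one (frob : FrobMod K K ⊥) (h0 : K ≠ ⊥) (he : Nat.card K = K.index + 1) :
    Nat.card (indD K K ⊥) = 1 := by
  obtain ⟨ζ, h2⟩ := indD_nonempty (K := K) (H := K) (M := ⊥) le_rfl bot_le (by simpa using h0)
  have h3 := frob.sum_sq
  have hi : (0 : ℝ) < K.index := by
    exact_mod_cast Nat.pos_of_ne_zero Subgroup.index_ne_zero_of_finite
  have h4 : ∀ φ ∈ indF K K ⊥, (K.index : ℝ) ^ 2 ≤ deg φ ^ 2 := fun φ hφ => by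
    obtain ⟨d, hd0, hd⟩ := exists_degree_of_mem_indD (mem_indF.1 hφ)
    rw [deg_eq_nat (r := K.index * d) (by rw [hd]; simp)]
    norm_cast
    exact Nat.pow_le_pow_left (Nat.le_mul_of_pos_right _ hd0) 2
  have h5 := Finset.card_nsmul_le_sum _ _ _ h4
  rw [h3, he, nsmul_eq_mul] at h5
  push_cast at h5
  have h6 : ((indF K K ⊥).card : ℝ) ≤ 1 := by
    by_contra! h6
    nlinarith [mul_pos hi hi]
  have h7 : 0 < (indF K K ⊥).card := Finset.card_pos.2 ⟨ζ, mem_indF.2 h2⟩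
  rw [← coe_indF, Nat.card_coe_set_eq, Set.ncard_coe_finset]
  have : (indF K K ⊥).card ≤ 1 := by exact_mod_cast h6
  omega

omit [Fintype G] in
theorem FrobMod.elementary (frob : FrobMod K K ⊥) (h1 : K ≠ ⊤) (he : Nat.card K = K.index + 1) :
    ∃ p : ℕ, p.Prime ∧ IsElementaryAbelian p K := by
  have hnil := frob.isNilpotent h1
  have hi := Nat.pos_of_ne_zero (Subgroup.index_ne_zero_of_finite (H := K))
  have h0 : K ≠ ⊥ := fun e => by have := Subgroup.card_eq_one.2 e; omega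
  obtain ⟨h2, p, hp, h3⟩ := Solv.minimal_normal_elementary K inferInstance h0 fun M hM hMK => by
    by_contra! h4
    have := frob.succ_le (bot_lt_iff_ne_bot.2 h4.1) hMK
    rw [Subgroup.relIndex_bot_left, ← he] at this
    exact h4.2 (Subgroup.eq_of_le_of_card_ge hMK this)
  exact ⟨p, hp, h2, h3⟩

omit [Fintype G] in
theorem FrobMod.coprime (frob : FrobMod K K ⊥) : K.index.Coprime (Nat.card K) := by
  have h1 := frob.index_dvd (B := K) (A := ⊥) bot_le
  rw [Subgroup.relIndex_bot_left] at h1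
  refine Nat.Coprime.coprime_dvd_left h1 ?_
  have : Nat.card K = Nat.card K - 1 + 1 := (Nat.sub_add_cancel Nat.card_pos).symm
  conv_rhs => rw [this]
  simp

omit [Fintype G] in
theorem FrobMod.comm_of_even (frob : FrobMod K K ⊥) (he : Even K.index) : ⁅K, K⁆ = ⊥ := by
  obtain ⟨t, ht⟩ := exists_prime_orderOf_dvd_card' (G := L) 2 (he.two_dvd.trans K.index_dvd_card)
  have htK : t ∉ K := fun h => by
    have h1 : 2 ∣ Nat.card K := ht ▸ K.orderOf_dvd_natCard h
    simpa using Nat.dvd_gcd he.two_dvd h1 |>.trans frob.coprime.dvd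
  have ht2 : t * t = 1 := by rw [← pow_two, ← ht, pow_orderOf_eq_one]
  have hinv : ∀ k ∈ K, t * k * t⁻¹ = k⁻¹ := fun k hk => by
    obtain ⟨y, hy, e⟩ := exists_conj_eq_mul_of_fpf (N := K) (h := t) (fun k hk e => by
      by_contra h
      exact htK (frob k hk h t (by simp [e]))) hk
    have h1 : (k * t) * (k * t) = 1 := by
      rw [← e]
      calc y * t * y⁻¹ * (y * t * y⁻¹) = y * (t * t) * y⁻¹ := by group
        _ = 1 := by simp [ht2]
    rw [inv_eq_of_mul_eq_one_right ht2, eq_inv_iff_mul_eq_one, ← mul_left_inj k⁻¹,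
      ← mul_right_inj k]
    simpa [mul_assoc] using h1
  rw [Subgroup.commutator_eq_bot_iff_le_centralizer]
  intro a ha b hb
  have := hinv _ (K.mul_mem ha hb)
  rw [show t * (a * b) * t⁻¹ = (t * a * t⁻¹) * (t * b * t⁻¹) by group, hinv a ha, hinv b hb,
    ← mul_inv_rev, inv_inj] at this
  exact this

omit [Fintype G] in
/-- A class function whose inner products with the relevant characters are proportional to the
degrees is constant on the non-identity elements of the kernel. -/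
theorem FrobMod.apply_eq (frob : FrobMod K K ⊥) {β : L → ℂ} (hβ : IsClassFunction L β) {c : ℂ}
    (hc : ∀ χ ∈ indD K K ⊥, classInner β χ = c * χ 1) {k : L} (hk : k ∈ K) (hk1 : k ≠ 1) :
    β k = β 1 - c * K.index * Nat.card K := by
  classical
  have h1 : ∀ x ∈ K, β x = ∑ χ : IrrCharacter L with K ≤ charKer χ.1, classInner β χ * χ.1 1 +
      c * (regChar L x - ∑ χ : IrrCharacter L with K ≤ charKer χ.1, χ.1 1 * χ.1 x) := fun x hx => by
    have h2 := congrFun hβ.eq_sum x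
    have h3 := congrFun (isCharacter_regChar (G := L)).isClassFunction.eq_sum x
    simp only [Finset.sum_apply, Pi.smul_apply, smul_eq_mul, classInner_regChar_left,
      (Subtype.prop _ : IsIrrCharacter L _).isCharacter.conj_apply_one] at h2 h3
    rw [h2, h3, ← Finset.sum_filter_add_sum_filter_not _ (fun χ : IrrCharacter L => K ≤ charKer χ.1),
      ← Finset.sum_filter_add_sum_filter_not _ (fun χ : IrrCharacter L => K ≤ charKer χ.1)
        (fun χ : IrrCharacter L => χ.1 1 * χ.1 x), add_sub_cancel_left, Finset.mul_sum]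
    congr 1
    · exact Finset.sum_congr rfl fun χ hχ => by
        rw [χ.2.isCharacter.mem_charKer.1 ((Finset.mem_filter.1 hχ).2 hx)]
    · refine Finset.sum_congr rfl fun χ hχ => ?_
      rw [hc χ (by
        rw [indD_eq_irr le_rfl bot_le fun _ => frob.irr]
        exact ⟨χ.2, bot_le, (Finset.mem_filter.1 hχ).2⟩), mul_assoc]
  rw [h1 k hk, h1 1 K.one_mem, sum_le_charKer, sum_le_charKer, if_pos hk, if_pos K.one_mem,
    regChar_of_ne hk1, regChar_one, ← K.index_mul_card]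
  push_cast
  ring

omit [Fintype G] in
theorem classInner_eq_zero_of_const {β α : L → ℂ} (hα : α ∈ Submodule.span ℂ (indD K K ⊥))
    (h1 : α 1 = 0) (hβ : ∀ a ∈ K, ∀ b ∈ K, a ≠ 1 → b ≠ 1 → β a = β b) : classInner α β = 0 := by
  have h2 : ∀ x, x ∉ K → α x = 0 := fun x hx =>
    (Submodule.span_le (p := LinearMap.ker (LinearMap.proj x))).2
      (fun χ hχ => eq_zero_of_mem_indD hχ hx) hα
  have h3 : classInner α (fun _ => 1) = 0 := orth_span_left (fun _ => classInner_one_of_mem_indD) hα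
  by_cases h0 : ∀ a ∈ K, a = 1
  · have : α = 0 := funext fun x => by
      by_cases e : x ∈ K
      · rw [h0 x e, h1]; rfl
      · exact h2 x e
    simp [this]
  push Not at h0
  obtain ⟨a, ha, ha1⟩ := h0
  have h4 : classInner α β = classInner α (β a • fun _ => 1) := by
    unfold classInner
    congr 1
    refine Finset.sum_congr rfl fun x _ => ?_
    by_cases e : x ∈ K
    · by_cases e' : x = 1
      · simp [e', h1]
      · simp [hβ x e a ha e' ha1]
    · simp [h2 x e]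
  rw [h4, classInner_smul_right, h3, mul_zero]

end

section TI

variable [Fintype G] {K : Subgroup G}

local notation "NN" => Subgroup.normalizer (K : Set G)

omit [Fintype G] in
theorem ti_subgroupOf (hTI : ∀ g : G, g ∉ NN → ∀ k ∈ K, g * k * g⁻¹ ∈ K → k = 1) :
    ∀ x ∈ K.subgroupOf NN, x ≠ 1 → ∀ y ∈ K.subgroupOf NN, ∀ g : G, g * x * g⁻¹ = y → g ∈ NN :=
  fun x hx h1 y hy g e => by
    by_contra hg
    exact h1 (Subtype.ext (hTI g hg x hx (e ▸ hy)))

omit [Fintype G] in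
theorem frobMod_subgroupOf (N : Subgroup G)
    (hC : ∀ k ∈ K, k ≠ 1 → Subgroup.centralizer ({k} : Set G) ≤ K) :
    FrobMod (K.subgroupOf N) (K.subgroupOf N) ⊥ :=
  frobMod_bot_iff.2 fun n hn h1 x hx => hC n hn (fun e => h1 (Subtype.ext e))
    (Subgroup.mem_centralizer_singleton_iff.2
      (congrArg Subtype.val (Subgroup.mem_centralizer_singleton_iff.1 hx)))

omit [Fintype G] in
theorem subgroupOf_ne_top (hlt : K < NN) : K.subgroupOf NN ≠ ⊤ := fun e =>
  hlt.not_ge (Subgroup.subgroupOf_eq_top.1 e)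

omit [Fintype G] in
theorem card_subgroupOf_normalizer : Nat.card (K.subgroupOf NN) = Nat.card K :=
  Nat.card_congr (Subgroup.subgroupOfEquivOfLe Subgroup.le_normalizer).toEquiv

omit [Fintype G] in
theorem isElementaryAbelian_of_subgroupOf {N : Subgroup G} (hK : K ≤ N) {p : ℕ}
    (h : IsElementaryAbelian p (K.subgroupOf N)) : IsElementaryAbelian p K :=
  ⟨⟨⟨fun a b => Subtype.ext (congrArg (fun x : K.subgroupOf N => ((x : N) : G))
    (h.1.1.1 ⟨⟨a, hK a.2⟩, a.2⟩ ⟨⟨b, hK b.2⟩, b.2⟩))⟩⟩,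
    fun a ha => congrArg Subtype.val (h.2 ⟨a, hK ha⟩ ha)⟩

theorem ti_set_eq [Fintype NN] (hC : ∀ k ∈ K, k ≠ 1 → Subgroup.centralizer ({k} : Set G) ≤ K) :
    {χ : NN → ℂ | IsIrrCharacter NN χ ∧ ∃ k : NN, (k : G) ∈ K ∧ χ k ≠ χ 1} =
      indD (K.subgroupOf NN) (K.subgroupOf NN) ⊥ :=
  (frobMod_subgroupOf _ hC).set_eq

omit [Fintype G] in
/-- A T.I. subgroup containing the centralizers of its non-identity elements is a Hall subgroup. -/
theorem not_dvd_index_of_centralizer_le [Finite G]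
    (hC : ∀ k ∈ K, k ≠ 1 → Subgroup.centralizer ({k} : Set G) ≤ K) {p : ℕ} (hp : p.Prime)
    (h : p ∣ Nat.card K) : ¬ p ∣ K.index := by
  have := Fact.mk hp
  obtain ⟨x, hx⟩ := exists_prime_orderOf_dvd_card' (G := K) p h
  have hx1 : (x : G) ≠ 1 := fun e => by
    rw [← Subgroup.orderOf_coe, e, orderOf_one] at hx; exact hp.one_lt.ne hx
  have h1 : IsPGroup p (Subgroup.zpowers (x : G)) :=
    IsPGroup.of_card (n := 1) (by rw [Nat.card_zpowers, Subgroup.orderOf_coe, hx, pow_one])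
  obtain ⟨P, hP⟩ := h1.exists_le_sylow
  have hP0 : (P : Subgroup G) ≠ ⊥ := fun e => hx1 (Subgroup.mem_bot.1 (e ▸ hP (Subgroup.mem_zpowers _)))
  have h2 := Solv.inf_centralizer_ne_bot_of_nilpotent (L := (P : Subgroup G)) P.2.isNilpotent le_rfl
    Subgroup.le_normalizer hP0
  obtain ⟨⟨z, hz⟩, hz1⟩ := Subgroup.ne_bot_iff_exists_ne_one.1 h2
  have hz1' : z ≠ 1 := fun e => hz1 (Subtype.ext e)
  have hzK : z ∈ K := hC x x.2 hx1 (Subgroup.mem_centralizer_singleton_iff.2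
    (hz.2 x (hP (Subgroup.mem_zpowers _))).symm)
  have h3 : (P : Subgroup G) ≤ K := fun y hy => hC z hzK hz1'
    (Subgroup.mem_centralizer_singleton_iff.2 (hz.2 y hy))
  exact fun e => P.not_dvd_index (e.trans (Subgroup.index_dvd_of_le h3))

/-- The Feit–Sibley theorem. -/
theorem feit_sibley [Fintype NN] (hTI : ∀ g : G, g ∉ NN → ∀ k ∈ K, g * k * g⁻¹ ∈ K → k = 1)
    (hlt : K < NN) (hC : ∀ k ∈ K, k ≠ 1 → Subgroup.centralizer ({k} : Set G) ≤ K) :
    Coh (indD (K.subgroupOf NN) (K.subgroupOf NN) ⊥) (indLin NN) ∨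
      (IsPGroup 2 K ∧ ⁅K, K⁆ ≠ ⊥ ∧ ⁅K, K⁆.relIndex K < 4 * (K.subgroupOf NN).index ^ 2) := by
  have frob := frobMod_subgroupOf NN hC
  have hne := subgroupOf_ne_top hlt
  refine (feit_coh (isoOn_ind_of_ti (ti_subgroupOf hTI)) frob hne).elim Or.inl ?_
  rintro ⟨p, hp, h1, h2, h3⟩
  have := Fact.mk hp
  have he : Odd (K.subgroupOf NN).index := Nat.not_even_iff_odd.1 fun e => h2 (frob.comm_of_even e)
  obtain ⟨n, hn⟩ := IsPGroup.iff_card.1 h1
  by_cases hp2 : p = 2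
  swap
  · left
    refine sibley_frob ?_ (frob.isNilpotent hne) (ti_subgroupOf hTI) frob
    rw [← (K.subgroupOf NN).index_mul_card, hn]
    exact he.mul (hp.odd_of_ne_two hp2).pow
  subst hp2
  right
  have h4 : ⁅K.subgroupOf NN, K.subgroupOf NN⁆.map (NN).subtype = ⁅K, K⁆ := by
    rw [Subgroup.map_commutator, Subgroup.subgroupOf_map_subtype, inf_eq_left.2 hlt.le]
  have h5 : ⁅K, K⁆.relIndex K = ⁅K.subgroupOf NN, K.subgroupOf NN⁆.relIndex (K.subgroupOf NN) := by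
    rw [← Subgroup.relIndex_map_map_of_injective _ _ (NN).subtype_injective, h4,
      Subgroup.subgroupOf_map_subtype, inf_eq_left.2 hlt.le]
  refine ⟨IsPGroup.of_card (card_subgroupOf_normalizer.symm.trans hn), fun e => h2 ?_, ?_⟩
  · rwa [← h4, Subgroup.map_eq_bot_iff_of_injective _ (NN).subtype_injective] at e
  rw [h5]
  obtain ⟨m, -, hm⟩ := (Nat.dvd_prime_pow hp).1 (hn ▸ Subgroup.relIndex_dvd_card
    ⁅K.subgroupOf NN, K.subgroupOf NN⁆ (K.subgroupOf NN))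
  rw [hm] at h3 ⊢
  have h6 : (K.subgroupOf NN).index ≠ 1 := mt Subgroup.index_eq_one.1 hne
  set e := (K.subgroupOf NN).index
  rcases h3.lt_or_eq with h7 | h7
  · rcases (Nat.lt_succ_iff.1 h7).lt_or_eq with h8 | h8
    · exact h8
    · have : e ∣ 2 ^ m := h8 ▸ Dvd.dvd.mul_left (dvd_pow_self e two_ne_zero) 4
      exact (h6 (Nat.Coprime.eq_one_of_dvd (Nat.Coprime.pow_right m he.coprime_two_right) this)).elim
  · rcases m with _ | m
    · have := he.pos
      have := Nat.pos_of_ne_zero (pow_ne_zero 2 this.ne')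
      omega
    · omega

end TI

end Cfsg.Agent.Char
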