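import Cfsg.Agent.Lib.Char.Codeg
import Cfsg.Agent.Lib.Block.Defect
import Mathlib.RingTheory.Valuation.LocalSubring

/-!
Constituents of the permutation character on the cosets of an overgroup of the normalizer of a
trivial-intersection Sylow subgroup have large degree.
-/

set_option autoImplicit false

namespace Cfsg.Agent.Char

open scoped ComplexConjugate Pointwise
open Subgroup Cfsg.Agent.Solv

variable {G : Type*} [Group G]

theorem exists_valuation_complex {p : ℕ} (hp : p.Prime) :
    ∃ O : ValuationSubring ℂ, CharP (IsLocalRing.ResidueField O) p := by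
  obtain ⟨O, -, h⟩ := Ideal.image_subset_nonunits_valuationSubring (A := (⊥ : Subring ℂ))
    (Ideal.span {(p : (⊥ : Subring ℂ))}) (by
      rw [Ne, Ideal.span_singleton_eq_top, isUnit_iff_exists_inv]
      rintro ⟨⟨_, n, rfl⟩, h⟩
      have h1 : (p : ℤ) * n = 1 := by
        have : (p : ℂ) * n = 1 := congrArg Subtype.val h
        exact_mod_cast this
      exact hp.not_dvd_one (by exact_mod_cast Dvd.intro _ h1))
  refine ⟨O, (CharP.charP_iff_prime_eq_zero hp).2 ?_⟩
  rw [← map_natCast (IsLocalRing.residue O), IsLocalRing.residue_eq_zero_iff,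
    ← O.coe_mem_nonunits_iff]
  exact h ⟨_, Ideal.subset_span rfl, rfl⟩

theorem sum_eq_sum_free {P X M : Type*} [Group P] [Fintype P] [MulAction P X] [AddCommMonoid M]
    (S : Finset X) (hS : ∀ (x : P) q, q ∈ S → x • q ∈ S) (hf : ∀ (x : P), ∀ q ∈ S, x • q = q → x = 1) :
    ∃ T : Finset X, ∀ F : X → M, ∑ q ∈ S, F q = ∑ x : P, ∑ t ∈ T, F (x • t) := by
  classical
  let r : X → X := fun q => (Quotient.mk (MulAction.orbitRel P X) q).out
  have h1 : ∀ q, ∃ x : P, x • r q = q := fun q =>
    (MulAction.orbitRel P X).symm (Quotient.mk_out (s := MulAction.orbitRel P X) q)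
  have h2 : ∀ (x : P) q, r (x • q) = r q := fun x q => congrArg Quotient.out (Quotient.sound ⟨x, rfl⟩)
  refine ⟨S.filter fun q => r q = q, fun F => ?_⟩
  rw [← Finset.sum_product']
  symm
  refine Finset.sum_bij (fun y _ => y.1 • y.2) (fun y hy => hS _ _ (by simp at hy; exact hy.1))
    (fun y hy z hz h => ?_) (fun q hq => ?_) fun _ _ => rfl
  · simp only [Finset.mem_product, Finset.mem_univ, Finset.mem_filter, true_and] at hy hz
    have h3 : y.2 = z.2 := by rw [← hy.2, ← hz.2, ← h2 y.1, h, h2]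
    rw [h3, ← inv_smul_eq_iff, smul_smul] at h
    exact Prod.ext (inv_mul_eq_one.1 (hf _ _ hz.1 h)).symm h3
  · obtain ⟨x, hx⟩ := h1 q
    refine ⟨(x, r q), ?_, hx⟩
    simp only [Finset.mem_product, Finset.mem_univ, Finset.mem_filter, true_and]
    exact ⟨inv_smul_eq_iff.2 hx.symm ▸ hS x⁻¹ q hq, by rw [← h2 x, hx]⟩

theorem card_le_finrank_of_ti [Fintype G] {V : Type*} [AddCommGroup V] [Module ℂ V]
    [FiniteDimensional ℂ V] (ρ : Representation ℂ G V) {p : ℕ} [hp : Fact p.Prime]
    {P H : Subgroup G} (hP : IsPGroup p P) (hPH : P ≤ H)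
    (hTI : ∀ g, g ∉ H → ∀ x ∈ P, g⁻¹ * x * g ∈ H → x = 1) {v : V} (hv0 : v ≠ 0)
    (hv : ∀ h ∈ H, ρ h v = v) (h0 : ∑ g, ρ g v = 0) : Nat.card P ≤ Module.finrank ℂ V := by
  classical
  have := Fintype.ofFinite P
  have := Fintype.ofFinite (G ⧸ H)
  have h1 : ∀ g (h : H), ρ (g * h) v = ρ g v := fun g h => by simp [hv h h.2]
  have h2 : ∀ g : G, ρ (g : G ⧸ H).out v = ρ g v := fun g => by
    obtain ⟨h, e⟩ := QuotientGroup.mk_out_eq_mul H g
    rw [e, h1]
  rw [sum_eq_card_smul_sum_out H _ h1, ← Nat.cast_smul_eq_nsmul ℂ,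
    smul_eq_zero_iff_right (card_ne_zero' H), ← Finset.add_sum_erase _ _ (Finset.mem_univ ((1 : G) : G ⧸ H)),
    h2] at h0
  obtain ⟨T, hT⟩ := sum_eq_sum_free (P := P) (M := V) (Finset.univ.erase ((1 : G) : G ⧸ H))
    (fun x q hq => by
      simp only [Finset.mem_erase, Finset.mem_univ, and_true] at hq ⊢
      refine fun h => hq ?_
      rw [← inv_smul_eq_iff.2 h.symm]
      exact QuotientGroup.eq.2 (by simpa using hPH x.2))
    fun x q hq h => by
      obtain ⟨g, rfl⟩ := QuotientGroup.mk_surjective q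
      refine Subtype.ext (hTI g (fun hg => Finset.ne_of_mem_erase hq
        (QuotientGroup.eq.2 (by simpa using hg))) x x.2 ?_)
      simpa [mul_assoc] using QuotientGroup.eq.1 h.symm
  let u := ∑ t ∈ T, ρ t.out v
  have h3 : v + ∑ x : P, ρ x u = 0 := by
    rw [← h0, hT, map_one, Module.End.one_apply]
    congr 1
    refine Finset.sum_congr rfl fun x _ => ?_
    rw [map_sum]
    refine Finset.sum_congr rfl fun t _ => ?_
    rw [← Module.End.mul_apply, ← map_mul, ← h2]
    congr 3
    conv_rhs => rw [← QuotientGroup.out_eq' t]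
    rfl
  by_contra! h4
  obtain ⟨c, h5, x₁, h6⟩ := Fintype.not_linearIndependent_iff.1 fun h : LinearIndependent ℂ
    fun x : P => ρ x u => h4.not_ge (Nat.card_eq_fintype_card (α := P) ▸ h.fintype_card_le_finrank)
  obtain ⟨w, hw⟩ : ∃ w : Module.Dual ℂ V, w v ≠ 0 := by
    by_contra! h; exact hv0 ((Module.forall_dual_apply_eq_zero_iff ℂ v).1 h)
  obtain ⟨O, hO⟩ := exists_valuation_complex hp.out
  have key : ∀ {ι : Type _} [Finite ι] (f : ι → ℂ) (i : ι), f i ≠ 0 →
      ∃ j, f j ≠ 0 ∧ ∀ i, f i / f j ∈ O := fun f i hi => by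
    have : Nonempty _ := ⟨i⟩
    obtain ⟨j, hj⟩ := Finite.exists_max fun i => O.valuation (f i)
    have h7 : O.valuation (f j) ≠ 0 := fun h => hi (by simpa [h] using hj i)
    exact ⟨j, by simpa using h7, fun i => by
      rw [← O.valuation_le_one_iff, map_div₀]; exact div_le_one_of_le₀ (hj i) zero_le⟩
  obtain ⟨g₀, h7, h8⟩ := key (fun g => w (ρ g v)) 1 (by simpa using hw)
  obtain ⟨x₀, h9, h10⟩ := key c x₁ h6
  let b : P → O := fun x => ⟨w (ρ (g₀ * x) u) / w (ρ g₀ v), by
    simp only [u, map_sum, ← Module.End.mul_apply, ← map_mul, Finset.sum_div]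
    exact sum_mem fun t _ => h8 _⟩
  let π := IsLocalRing.residue O
  have h11 : 1 + ∑ x, π (b x) = 0 := by
    rw [← map_sum, ← map_one π, ← map_add, ← map_zero π]
    congr 1
    refine Subtype.ext ?_
    have := congrArg (fun y => w (ρ g₀ y) / w (ρ g₀ v)) h3
    simpa [b, add_div, div_self h7, Finset.sum_div] using this
  let σ : Representation (IsLocalRing.ResidueField O) P (P → IsLocalRing.ResidueField O) :=
    { toFun := fun z => LinearMap.funLeft _ _ fun x => z⁻¹ * x
      map_one' := by ext; simp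
      map_mul' := fun _ _ => by ext; simp [mul_assoc] }
  let W : AddSubgroup (P → IsLocalRing.ResidueField O) :=
    { carrier := {c | ∀ y, ∑ x, c x * π (b (y * x)) = 0}
      add_mem' := fun h h' y => by simp [add_mul, Finset.sum_add_distrib, h y, h' y]
      zero_mem' := fun y => by simp
      neg_mem' := fun h y => by simp [h y] }
  obtain ⟨d, h12, h13, h14⟩ := Blk.exists_fixed_vector hP σ W (fun z d hd y => by
      rw [← hd (y * z), ← Equiv.sum_comp (Equiv.mulLeft z)]
      simp [σ, mul_assoc]) (v := fun x => π ⟨_, h10 x⟩) (fun y => by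
      simp only [← map_mul, ← map_sum]
      rw [← map_zero π]
      congr 1
      refine Subtype.ext ?_
      have := congrArg (fun z => w (ρ (g₀ * y) z) / c x₀ / w (ρ g₀ v)) h5
      simp only [map_sum, map_smul, Finset.sum_div, smul_eq_mul, map_zero, zero_div] at this
      rw [ZeroMemClass.coe_zero, ← this, AddSubmonoidClass.coe_finset_sum]
      refine Finset.sum_congr rfl fun x _ => ?_
      simp only [b, MulMemClass.coe_mul, map_mul, Module.End.mul_apply]
      ring)
    fun h => by simpa [div_self h9, show ∀ h, (⟨1, h⟩ : O) = 1 from fun _ => rfl] using congrFun h x₀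
  have h15 : ∀ x, d x = d 1 := fun x => by simpa [σ] using congrFun (h14 x⁻¹) 1
  have h16 := h12 1
  simp only [h15, one_mul, ← Finset.mul_sum, eq_neg_of_add_eq_zero_right h11] at h16
  exact h13 (funext fun x => (h15 x).trans (by simpa using h16))

theorem card_le_degree_of_ti [Fintype G] {p : ℕ} [hp : Fact p.Prime] (P : Sylow p G)
    (hTI : ∀ g : G, g ∉ normalizer ((P : Subgroup G) : Set G) →
      (P : Subgroup G) ⊓ (MulAut.conj g • (P : Subgroup G)) = ⊥) {H : Subgroup G} [Fintype H]
    (hH : normalizer ((P : Subgroup G) : Set G) ≤ H) {φ : G → ℂ} (hφ : IsIrrCharacter G φ)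
    (h1 : φ ≠ fun _ => 1) (h2 : classInner (fun h : H => φ h) (fun _ => 1) ≠ 0) :
    Nat.card P ≤ charDegree φ := by
  have h3 := hφ.classInner_of_ne isIrrCharacter_one h1
  obtain ⟨n, ρ, -, rfl⟩ := hφ
  rw [classInner_rep_one, Nat.cast_eq_zero, Submodule.finrank_eq_zero] at h3
  have h4 := classInner_rep_one (ρ.comp H.subtype)
  obtain ⟨v, hv, h5⟩ := (Submodule.ne_bot_iff _).1 fun h : Representation.invariants
    (ρ.comp H.subtype) = ⊥ => h2 (h4.trans (by rw [h, finrank_bot, Nat.cast_zero]))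
  have h6 := card_le_finrank_of_ti ρ P.isPGroup' (le_normalizer.trans hH) (fun g hg x hx h7 => ?_) h5
    (fun h hh => hv ⟨h, hh⟩) (by
      rw [← Submodule.mem_bot ℂ, ← h3]
      intro g
      rw [map_sum, ← Equiv.sum_comp (Equiv.mulLeft g) fun g => ρ g v]
      simp)
  · simpa [charDegree] using h6
  · obtain ⟨k, hk, h8⟩ := (isSylowIn_of_le P (le_normalizer.trans hH)).exists_le_conj
      (U := zpowers (g⁻¹ * x * g)) (by
        have := (P.isPGroup'.to_le (zpowers_le.2 hx)).map (MulAut.conj g⁻¹).toMonoidHom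
        rw [MonoidHom.map_zpowers] at this
        rwa [show (MulAut.conj g⁻¹).toMonoidHom x = g⁻¹ * x * g by simp] at this) (zpowers_le.2 h7)
    rw [← mem_bot, ← hTI (g * k) fun h => hg ((H.mul_mem_cancel_right hk).1 (hH h))]
    refine mem_inf.2 ⟨hx, ?_⟩
    have := h8 (mem_zpowers _)
    rw [mem_pointwise_smul_iff_inv_smul_mem] at this ⊢
    simpa [mul_assoc] using this

theorem eq_top_of_forall_conj_mem [Finite G] {C : Subgroup G} (h : ∀ x, ∃ c, c * x * c⁻¹ ∈ C) :
    C = ⊤ := by
  classical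
  have := Fintype.ofFinite G
  have := Fintype.ofFinite C
  have h1 := frobenius_left C (fun _ => 1) isIrrCharacter_one.isClassFunction
  rw [isIrrCharacter_one.classInner_self, classInner_one_right, inv_mul_eq_one₀ (card_ne_zero' G)]
    at h1
  simp only [indFun_one_eq_card_fixedBy_quotient, ← Nat.cast_sum, Nat.cast_inj] at h1
  have h2 := (Finset.sum_eq_sum_iff_of_le (s := Finset.univ) (f := fun _ => 1)
    (g := fun g : G => Nat.card (MulAction.fixedBy (G ⧸ C) g)) fun x _ => by
      obtain ⟨c, hc⟩ := h x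
      have : Nonempty (MulAction.fixedBy (G ⧸ C) x) := ⟨⟨(c⁻¹ : G), QuotientGroup.eq.2 (by
        simpa [mul_assoc] using C.inv_mem hc)⟩⟩
      exact Nat.card_pos).1 (by rw [← h1]; simp) 1 (Finset.mem_univ _)
  rw [MulAction.fixedBy_one_eq_univ, Nat.card_univ] at h2
  exact index_eq_one.1 h2.symm

/-- A group fixing all irreducible characters of a group of coprime order centralizes it. -/
theorem le_centralizer_of_fix_irr [Finite G] {K Q : Subgroup G} [hK : K.Normal]
    (hc : (Nat.card Q).Coprime (Nat.card K)) (hs : Group.IsSolvable Q ∨ Group.IsSolvable K)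
    (h : ∀ θ, IsIrrCharacter K θ → Q ≤ inertia K θ) : Q ≤ centralizer (K : Set G) :=
  le_centralizer_iff.1 (subgroupOf_eq_top.1 (eq_top_of_forall_conj_mem fun k => by
    obtain ⟨c, hc, h1⟩ := @glauberman_fixed_point G _ _ G (MulAction.compHom G MulAut.conj) Q K
      le_normalizer_of_normal hc hs k fun a ha => by
        obtain ⟨c, hc⟩ := isConj_iff.1 ((isConj_iff_forall_irr k ⟨_, hK.conj_mem _ k.2 a⟩).2
          fun θ => (congrFun (h θ.1 θ.2 ha) k).symm)
        exact ⟨c, c.2, congrArg Subtype.val hc⟩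
    exact ⟨⟨c, hc⟩, fun a ha => mul_inv_eq_iff_eq_mul.1 (h1 a ha)⟩))

end Cfsg.Agent.Char
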