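import Cfsg.Agent.Lib.Char.RankOne9
import Cfsg.Agent.S0283

/-!
The doubly transitive action of `PSU₃(q)`, `q` even.
-/

set_option autoImplicit false
set_option linter.unusedSectionVars false
set_option linter.style.haveILetI false

namespace Cfsg.Agent.RankOne

open MulAction Subgroup Cfsg.Agent.Perm Cfsg.Agent.Transfer Matrix

section general

variable {G Ω : Type*} [Group G] [Finite G] [MulAction G Ω] {a : Ω} {t : G} {Q : Subgroup G}

theorem setup_mk (h1 : t * t = 1) (h2 : t • a ≠ a) (h3 : Q ≤ stabilizer G a)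
    (h4 : ∀ d ∈ D a t, ∀ x ∈ Q, d * x * d⁻¹ ∈ Q) (h5 : ∀ x ∈ Q, x • t • a = t • a → x = 1)
    (h6 : ∀ c, c ≠ a → ∃ x ∈ Q, x • t • a = c) (h7 : Even (Nat.card Q)) (h8 : Odd (Nat.card (D a t))) :
    IsRankOneSetup G Ω a t Q := by
  have h9 : ∀ h ∈ stabilizer G a, ∃ x ∈ Q, x⁻¹ * h ∈ D a t := fun h hh => by
    obtain ⟨x, hx, e⟩ := h6 (h • t • a) fun e => h2 (smul_left_cancel h (e.trans hh.symm))
    exact ⟨x, hx, mem_inf.2 ⟨mul_mem (inv_mem (h3 hx)) hh, by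
      rw [mem_stabilizer_iff, mul_smul, ← e, inv_smul_smul]⟩⟩
  have h10 : ∀ b c : Ω, b ≠ c → ∃ g : G, g • a = b ∧ g • t • a = c := fun b c h => by
    obtain ⟨g, rfl⟩ : ∃ g : G, g • a = b := by
      by_cases hb : b = a
      · exact ⟨1, by simp [hb]⟩
      · exact (h6 b hb).elim fun x hx => ⟨x * t, by rw [mul_smul, hx.2]⟩
    obtain ⟨x, hx, e⟩ := h6 (g⁻¹ • c) fun e => h (by rw [← e, smul_inv_smul])
    exact ⟨g * x, by rw [mul_smul, h3 hx], by rw [mul_smul, e, smul_inv_smul]⟩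
  refine ⟨is_two_pretransitive_iff.2 fun {b c b' c'} h h' => ?_, h1, fun e => h2 (by rw [e, one_smul]),
    h2, h3, fun h hh x hx => ?_, eq_bot_iff.2 fun x hx => h5 x hx.1 hx.2,
    le_antisymm (sup_le h3 inf_le_left) fun h hh => ?_, h7, h8⟩
  · obtain ⟨g, rfl, rfl⟩ := h10 b c h
    obtain ⟨g', rfl, rfl⟩ := h10 b' c' h'
    exact ⟨g' * g⁻¹, by simp [mul_smul], by simp [mul_smul]⟩
  · obtain ⟨y, hy, e⟩ := h9 h hh
    simpa [mul_assoc] using mul_mem (mul_mem hy (h4 _ e x hx)) (inv_mem hy)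
  · obtain ⟨y, hy, e⟩ := h9 h hh
    simpa using mul_mem_sup hy e

theorem setup_map (hS : IsRankOneSetup G Ω a t Q) {G' : Type*} [Group G'] [Finite G'] [MulAction G' Ω]
    (φ : G →* G') (hφ : Function.Surjective φ) (h : ∀ g (c : Ω), φ g • c = g • c) :
    IsRankOneSetup G' Ω a (φ t) (Q.map φ) := by
  have h1 : D a (φ t) = (D a t).map φ := by
    ext g
    obtain ⟨g, rfl⟩ := hφ g
    refine ⟨fun hg => ⟨g, by simpa only [SetLike.mem_coe, mem_D, h] using hg, rfl⟩, ?_⟩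
    rintro ⟨d, hd, e⟩
    simpa only [← e, mem_D, h] using mem_D.1 hd
  refine setup_mk (by rw [← map_mul, hS.mul_self, map_one]) (by rw [h]; exact ta_ne hS) ?_ ?_ ?_
    (fun c hc => ?_) ?_ (h1 ▸ hS.odd_card.of_dvd_nat (card_map_dvd _ φ))
  · rintro _ ⟨x, hx, rfl⟩
    exact (h x a).trans (hS.le hx)
  · rw [h1]
    rintro _ ⟨d, hd, rfl⟩ _ ⟨x, hx, rfl⟩
    exact ⟨_, hS.conj_mem d hd.1 x hx, by simp⟩
  · rintro _ ⟨x, hx, rfl⟩ e
    rw [h, h] at e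
    rw [eq_one_of_fix hS hx (ta_ne hS) e, map_one]
  · obtain ⟨x, hx, e⟩ := exists_Q hS hc
    exact ⟨_, ⟨x, hx, rfl⟩, by rw [h, h, e]⟩
  · obtain ⟨s, hs⟩ := I_nonempty hS
    refine even_iff_two_dvd.2 (orderOf_eq_two (x := φ s) (by rw [← map_mul, hs.2.2, map_one]) (fun e =>
      hs.2.1 (eq_one_of_fix hS (I_Q hS hs) (ta_ne hS) (by rw [← h, e, one_smul]))) ▸
      Solv.orderOf_dvd_card_of_mem ⟨s, I_Q hS hs, rfl⟩)

theorem center_smul (hS : IsRankOneSetup G Ω a t Q) {z : G} (hz : z ∈ center G) (c : Ω) : z • c = c := by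
  obtain ⟨s, hs⟩ := I_nonempty hS
  obtain ⟨g, rfl⟩ := (pretrans hS).exists_smul_eq a c
  rw [← mul_smul, ← mem_center_iff.1 hz, mul_smul,
    centralizer_le hS (I_Q hS hs) hs.2.1 (mem_center_iff.1 hz s).symm]

end general

namespace U3

variable {E : Type*} [Field E] [Fintype E] [CharP E 2] (σ : E ≃+* E)

/-- The hermitian form with a hyperbolic basis. -/
def BJ (u v : Fin 3 → E) : E := u 0 * σ (v 2) + u 1 * σ (v 1) + u 2 * σ (v 0)

/-- Its special unitary group. -/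
abbrev UJ : Subgroup (SpecialLinearGroup (Fin 3) E) := preserving (slToMat 3 E) (BJ σ)

/-- The affine isotropic points. -/
abbrev Af : Type _ := {p : E × E // p.2 + σ p.2 = p.1 * σ p.1}

/-- The isotropic points. -/
def Pt : Type _ := Option (Af σ)

/-- The point at infinity. -/
def oo : Pt σ := none

variable {σ}

/-- The affine points. -/
def pt (p : Af σ) : Pt σ := some p

/-- The origin. -/
def o : Af σ := ⟨(0, 0), by simp⟩

/-- Representing vectors. -/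
def pv : Pt σ → Fin 3 → E
  | none => ![1, 0, 0]
  | some p => ![p.1.2, p.1.1, 1]

theorem pv_oo : pv (oo σ) = ![1, 0, 0] := rfl
theorem pv_pt (p : Af σ) : pv (pt p) = ![p.1.2, p.1.1, 1] := rfl
theorem pt_ne (p : Af σ) : pt p ≠ oo σ := Option.some_ne_none _
theorem pt_inj {p q : Af σ} (h : pt p = pt q) : p = q := Option.some_injective _ h

theorem mat_mul (g h : UJ σ) : (g * h).1.1 = g.1.1 * h.1.1 := rfl

theorem BJ_mul (g : UJ σ) (u v : Fin 3 → E) : BJ σ (g.1.1 *ᵥ u) (g.1.1 *ᵥ v) = BJ σ u v := g.2 u v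

/-- Elements from matrices. -/
def mk (M : Matrix (Fin 3) (Fin 3) E) (h1 : M.det = 1) (h2 : ∀ u v, BJ σ (M *ᵥ u) (M *ᵥ v) = BJ σ u v) :
    UJ σ := ⟨⟨M, h1⟩, h2⟩

theorem pv_ne (p : Pt σ) : pv p ≠ 0 := by
  rcases p with _ | a
  · exact fun h => by simpa [pv] using congrFun h 0
  · exact fun h => by simpa [pv] using congrFun h 2

theorem pv_inj {p q : Pt σ} {c : E} (h : pv p = c • pv q) : p = q := by
  have h0 := congrFun h 0
  have h1 := congrFun h 1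
  have h2 := congrFun h 2
  rcases p with _ | ⟨⟨a, b⟩, _⟩ <;> rcases q with _ | ⟨⟨a', b'⟩, _⟩ <;> simp [pv] at h0 h1 h2
  · rfl
  · simp [← h2] at h0
  · simp only [← h2, one_mul] at h0 h1
    subst h0 h1
    rfl

theorem exists_pv (g : UJ σ) (p : Pt σ) : ∃ q : Pt σ, ∃ c : E, g.1.1 *ᵥ pv p = c • pv q := by
  have h1 : BJ σ (g.1.1 *ᵥ pv p) (g.1.1 *ᵥ pv p) = 0 := (BJ_mul g _ _).trans (by
    rcases p with _ | ⟨p, hp⟩
    · simp [BJ, pv]
    · simp only [BJ, pv]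
      simp
      linear_combination (norm := (ring_nf; reduce_mod_char!)) hp)
  generalize g.1.1 *ᵥ pv p = v at h1
  by_cases h : v 2 = 0
  · refine ⟨none, v 0, ?_⟩
    have h2 : v 1 = 0 := by simpa [BJ, h] using h1
    ext i; fin_cases i <;> simp [pv, h, h2]
  · have : σ (v 2) ≠ 0 := by simpa using h
    refine ⟨some ⟨(v 1 / v 2, v 0 / v 2), ?_⟩, v 2, ?_⟩
    · simp only [map_div₀]
      field_simp
      rw [BJ] at h1
      linear_combination (norm := (ring_nf; reduce_mod_char!)) h1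
    · ext i; fin_cases i <;> simp [pv] <;> field_simp

noncomputable instance : SMul (UJ σ) (Pt σ) := ⟨fun g p => (exists_pv g p).choose⟩

theorem smul_eq_iff {g : UJ σ} {p q : Pt σ} : g • p = q ↔ ∃ c : E, g.1.1 *ᵥ pv p = c • pv q := by
  obtain ⟨c, hc⟩ : ∃ c : E, g.1.1 *ᵥ pv p = c • pv (g • p) := (exists_pv g p).choose_spec
  refine ⟨fun h => ⟨c, h ▸ hc⟩, fun ⟨d, h⟩ => ?_⟩
  have h0 : c ≠ 0 := fun e => pv_ne p (by
    rw [← one_mulVec (pv p), show (1 : Matrix _ _ E) = (g⁻¹ * g).1.1 by rw [inv_mul_cancel]; rfl,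
      mat_mul, ← mulVec_mulVec, hc, e]; simp)
  exact pv_inj (c := d / c) (by rw [div_eq_inv_mul, mul_smul, ← h, hc, inv_smul_smul₀ h0])

noncomputable instance : MulAction (UJ σ) (Pt σ) where
  one_smul p := smul_eq_iff.2 ⟨1, by simp⟩
  mul_smul g h p := by
    obtain ⟨c, e⟩ := (smul_eq_iff (g := h) (p := p)).1 rfl
    obtain ⟨d, e'⟩ := (smul_eq_iff (g := g) (p := h • p)).1 rfl
    exact smul_eq_iff.2 ⟨c * d, by rw [mat_mul, ← mulVec_mulVec, e, mulVec_smul, e', smul_smul]⟩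

variable (σ) in
/-- The reflection. -/
def ww : UJ σ :=
  mk !![0, 0, 1; 0, 1, 0; 1, 0, 0] (by simp [det_fin_three, CharTwo.neg_eq]) fun u v => by
    simp [BJ, mulVec, dotProduct, Fin.sum_univ_three]
    ring

theorem ww_oo : ww σ • oo σ = pt o := smul_eq_iff.2 ⟨1, by
  ext i; fin_cases i <;> simp [ww, mk, pv_oo, pv_pt, o]⟩

theorem rel_inv (p : Af σ) : p.1.2⁻¹ + σ p.1.2⁻¹ = p.1.1 / p.1.2 * σ (p.1.1 / p.1.2) := by
  rcases eq_or_ne p.1.2 0 with h0 | h0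
  · simp [h0]
  have : σ p.1.2 ≠ 0 := by simpa using h0
  simp only [map_div₀, map_inv₀]
  field_simp
  linear_combination p.2

theorem ww_pt (q : Af σ) (h0 : q.1.2 ≠ 0) : ww σ • pt q = pt ⟨(q.1.1 / q.1.2, q.1.2⁻¹), rel_inv q⟩ :=
  smul_eq_iff.2 ⟨q.1.2, by
    ext i; fin_cases i <;> simp [ww, mk, pv_pt, h0]
    field_simp⟩

theorem diag {d : UJ σ} (hd : d ∈ D (oo σ) (ww σ)) : ∃ l m n : E,
    d.1.1 = !![l, 0, 0; 0, m, 0; 0, 0, n] ∧ l * σ n = 1 ∧ m * σ m = 1 ∧ n * σ l = 1 := by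
  obtain ⟨l, hl⟩ := smul_eq_iff.1 hd.1
  have h0 := (mem_D.1 hd).2
  rw [ww_oo] at h0
  obtain ⟨n, hn⟩ := smul_eq_iff.1 h0
  have h1 := congrFun hl
  have h2 := congrFun hn
  simp [pv_oo, pv_pt, o, mulVec, dotProduct, Fin.sum_univ_three, Fin.forall_fin_succ] at h1 h2
  have h3 := BJ_mul d ![1, 0, 0] ![0, 0, 1]
  have h4 := BJ_mul d ![0, 1, 0] ![0, 1, 0]
  have h5 := BJ_mul d ![0, 0, 1] ![1, 0, 0]
  have h6 := BJ_mul d ![0, 1, 0] ![1, 0, 0]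
  have h7 := BJ_mul d ![0, 1, 0] ![0, 0, 1]
  simp [BJ, mulVec, dotProduct, Fin.sum_univ_three, h1, h2] at h3 h4 h5 h6 h7
  have h8 := h6.resolve_right (by rintro rfl; simp at h5)
  have h9 := h7.resolve_right (by rintro rfl; simp at h3)
  refine ⟨l, d.1.1 1 1, n, ?_, h3, by simpa [h8, h9] using h4, h5⟩
  ext i j; fin_cases i <;> fin_cases j <;> simp [h1, h2, h8, h9]

variable (hσ : ∀ x, σ (σ x) = x)
include hσ

/-- The unipotent elements. -/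
def uu (p : Af σ) : UJ σ :=
  mk !![1, σ p.1.1, p.1.2; 0, 1, p.1.1; 0, 0, 1] (by simp [det_fin_three]) fun u v => by
    simp [BJ, mulVec, dotProduct, Fin.sum_univ_three, hσ]
    linear_combination (norm := (ring_nf; reduce_mod_char!)) u 2 * σ (v 2) * p.2

theorem uu_oo (p : Af σ) : uu hσ p • oo σ = oo σ := smul_eq_iff.2 ⟨1, by
  ext i; fin_cases i <;> simp [uu, mk, pv_oo]⟩

/-- The group law. -/
def add (p q : Af σ) : Af σ := ⟨(p.1.1 + q.1.1, p.1.2 + q.1.2 + σ p.1.1 * q.1.1), by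
  simp only [map_add, map_mul, hσ]
  linear_combination p.2 + q.2⟩

theorem uu_pt (p q : Af σ) : uu hσ p • pt q = pt (add hσ p q) := smul_eq_iff.2 ⟨1, by
  ext i; fin_cases i <;> simp [uu, mk, pv_pt, add] <;> ring⟩

theorem uu_o (p : Af σ) : uu hσ p • ww σ • oo σ = pt p := by
  rw [ww_oo, uu_pt]; simp [add, o]

theorem uu_mul (p q : Af σ) : uu hσ p * uu hσ q = uu hσ (add hσ p q) :=
  Subtype.ext (Subtype.ext (by
    rw [mat_mul]
    ext i j; fin_cases i <;> fin_cases j <;> simp [uu, mk, add] <;> ring))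

theorem uu_zero : uu hσ o = 1 := Subtype.ext (Subtype.ext (by
  ext i j; fin_cases i <;> fin_cases j <;> simp [uu, mk, o]))

/-- The unipotent subgroup. -/
def QQ : Subgroup (UJ σ) where
  carrier := Set.range (uu hσ)
  one_mem' := ⟨_, uu_zero hσ⟩
  mul_mem' := by rintro _ _ ⟨p, rfl⟩ ⟨q, rfl⟩; exact ⟨_, (uu_mul hσ p q).symm⟩
  inv_mem' := by
    rintro _ ⟨p, rfl⟩
    refine ⟨⟨(p.1.1, σ p.1.2), by rw [hσ, add_comm, p.2]⟩, eq_inv_of_mul_eq_one_right ?_⟩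
    rw [uu_mul, ← uu_zero hσ]
    congr 1
    exact Subtype.ext (Prod.ext (CharTwo.add_self_eq_zero _)
      (show p.1.2 + σ p.1.2 + σ p.1.1 * p.1.1 = 0 by rw [p.2, mul_comm]; exact CharTwo.add_self_eq_zero _))

theorem setup : IsRankOneSetup (UJ σ) (Pt σ) (oo σ) (ww σ) (QQ hσ) := by
  refine setup_mk (Subtype.ext (Subtype.ext ?_)) (by rw [ww_oo]; exact pt_ne _) ?_ (fun d hd => ?_) ?_
    ?_ ?_ (odd_card_iff.2 fun d hd h => ?_)
  · rw [mat_mul]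
    ext i j; fin_cases i <;> fin_cases j <;> simp [ww, mk]
  · rintro _ ⟨p, rfl⟩
    exact uu_oo hσ p
  · rintro _ ⟨p, rfl⟩
    obtain ⟨l, m, n, e, h1, h2, h3⟩ := diag hd
    refine ⟨⟨(m * σ l * p.1.1, l * σ l * p.1.2), by
      simp only [map_mul, hσ]
      linear_combination l * σ l * p.2 - l * σ l * p.1.1 * σ p.1.1 * h2⟩,
      eq_mul_inv_of_mul_eq (Subtype.ext (Subtype.ext ?_))⟩
    rw [mat_mul, mat_mul, e]
    ext i j; fin_cases i <;> fin_cases j <;> simp [uu, mk, hσ]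
    · linear_combination l * σ p.1.1 * h2
    · linear_combination l * p.1.2 * h3
    · linear_combination m * p.1.1 * h3
  · rintro _ ⟨p, rfl⟩ e
    rw [uu_o, ww_oo] at e
    rw [pt_inj e, uu_zero]
  · rintro (_ | p) hp
    · exact absurd rfl hp
    · exact ⟨_, ⟨p, rfl⟩, uu_o hσ p⟩
  · refine even_iff_two_dvd.2 (orderOf_eq_two (x := uu hσ ⟨(0, 1), by simp [CharTwo.add_self_eq_zero]⟩) ?_
      (fun e => ?_) ▸ Solv.orderOf_dvd_card_of_mem ⟨_, rfl⟩)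
    · rw [uu_mul, ← uu_zero hσ]
      simp [add, o, CharTwo.add_self_eq_zero]
    · simpa [uu, mk] using congrArg (·.1.1 0 2) e
  · obtain ⟨l, m, n, e, -⟩ := diag hd
    have h1 := congrArg (·.1.1) (show d * d = 1 by rw [← sq, ← h, pow_orderOf_eq_one])
    simp only [mat_mul, e] at h1
    have h2 := congrFun₂ h1 0 0
    have h3 := congrFun₂ h1 1 1
    have h4 := congrFun₂ h1 2 2
    simp [mul_self_eq_one_iff, CharTwo.neg_eq] at h2 h3 h4
    rw [show d = 1 from Subtype.ext (Subtype.ext (by rw [e, h2, h3, h4]; exact one_fin_three.symm))] at h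
    simp at h

theorem iso {q : ℕ} (hq : ∀ x, σ x = x ^ q) (h0 : ∃ x, σ x ≠ x) : Nonempty (UJ σ ≃* SU 3 E q) := by
  obtain ⟨x, hx⟩ := h0
  have h1 := eps_ne hx
  have h2 : x / (x + σ x) + σ (x / (x + σ x)) = 1 := by
    rw [map_div₀, map_add, hσ, add_comm (σ x), ← add_div, div_self h1]
  generalize x / (x + σ x) = l at h2
  let P : SpecialLinearGroup (Fin 3) E := ⟨!![1, 0, l; 1, 0, σ l; 0, 1, 0], by
    simp [det_fin_three]
    linear_combination (norm := (ring_nf; reduce_mod_char!)) h2⟩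
  have h3 : ∀ u v, hermForm 3 E q (P.1 *ᵥ u) (P.1 *ᵥ v) = BJ σ u v := fun u v => by
    simp [P, hermForm, ← hq, BJ, mulVec, dotProduct, Fin.sum_univ_three, hσ]
    linear_combination (norm := (ring_nf; reduce_mod_char!)) (u 0 * σ (v 2) + u 2 * σ (v 0)) * h2
  have h4 : ∀ u, P.1 *ᵥ (P⁻¹.1 *ᵥ u) = u := fun u => by
    rw [mulVec_mulVec, show P.1 * P⁻¹.1 = (P * P⁻¹).1 from rfl, mul_inv_cancel]; simp
  have h5 : ∀ u, P⁻¹.1 *ᵥ (P.1 *ᵥ u) = u := fun u => by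
    rw [mulVec_mulVec, show P⁻¹.1 * P.1 = (P⁻¹ * P).1 from rfl, inv_mul_cancel]; simp
  have h6 : ∀ g : SpecialLinearGroup (Fin 3) E, ∀ u, (P * g * P⁻¹).1 *ᵥ u = P.1 *ᵥ (g.1 *ᵥ (P⁻¹.1 *ᵥ u)) :=
    fun g u => by rw [mulVec_mulVec, mulVec_mulVec]; rfl
  refine ⟨((MulAut.conj P).subgroupMap _).trans (MulEquiv.subgroupCongr (le_antisymm ?_ fun g hg => ?_))⟩
  · rintro _ ⟨g, hg, rfl⟩ u v
    change hermForm 3 E q ((P * g * P⁻¹).1 *ᵥ u) ((P * g * P⁻¹).1 *ᵥ v) = _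
    rw [h6, h6, h3, BJ_mul ⟨g, hg⟩, ← h3, h4, h4]
  · refine ⟨P⁻¹ * g * P, fun u v => ?_, by simp [mul_assoc]⟩
    change BJ σ ((P⁻¹ * g * P).1 *ᵥ u) ((P⁻¹ * g * P).1 *ᵥ v) = _
    have h7 : ∀ u, P.1 *ᵥ ((P⁻¹ * g * P).1 *ᵥ u) = g.1 *ᵥ (P.1 *ᵥ u) := fun u => by
      rw [mulVec_mulVec, mulVec_mulVec, show P.1 * (P⁻¹ * g * P).1 = (P * (P⁻¹ * g * P)).1 from rfl,
        mul_assoc, mul_inv_cancel_left]; rfl
    rw [← h3, h7, h7, ← h3]
    exact hg _ _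

end U3

/-- The doubly transitive action of `PSU₃(q)`, `q` even. -/
theorem exists_model_U {E : Type*} [Field E] [Fintype E] [CharP E 2] {n : ℕ} (hn : 2 ≤ n)
    (hE : Fintype.card E = (2 ^ n) ^ 2) {σ : E ≃+* E} (hq : ∀ x, σ x = x ^ 2 ^ n) :
    ∃ (_ : MulAction (PSU 3 E (2 ^ n)) (U3.Pt σ)) (_ : FaithfulSMul (PSU 3 E (2 ^ n)) (U3.Pt σ))
      (t : PSU 3 E (2 ^ n)) (Q : Subgroup (PSU 3 E (2 ^ n))) (π ξ : PSU 3 E (2 ^ n) → E),
      IsRankOneSetup _ _ (U3.oo σ) t Q ∧ CoF (U3.oo σ) t Q σ π ξ := by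
  have hσ : ∀ x, σ (σ x) = x := fun x => by rw [hq, hq, ← pow_mul, ← sq, ← hE, FiniteField.pow_card]
  have h4 : 2 ^ 2 ≤ 2 ^ n := Nat.pow_le_pow_right two_pos hn
  obtain ⟨e⟩ := U3.iso hσ hq (by
    obtain ⟨x, hx⟩ := not_forall.1 fun h => Classical.frobq_ne_id hE (RingHom.ext h)
    exact ⟨x, by rwa [hq]⟩)
  have hS := U3.setup hσ
  have := S0283.result hE 3 le_rfl (by omega)
  let ρ : PSU 3 E (2 ^ n) →* Equiv.Perm (U3.Pt σ) := QuotientGroup.lift _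
    ((toPermHom (U3.UJ σ) (U3.Pt σ)).comp e.symm.toMonoidHom) fun z hz => Equiv.ext
      (center_smul hS (mem_center_iff.2 fun g => e.injective (by simpa using mem_center_iff.1 hz (e g))))
  let _ := MulAction.compHom (U3.Pt σ) ρ
  let φ : U3.UJ σ →* PSU 3 E (2 ^ n) := (QuotientGroup.mk' _).comp e.toMonoidHom
  have h1 : ∀ g (c : U3.Pt σ), φ g • c = g • c := fun g c =>
    show e.symm (e g) • c = g • c by rw [e.symm_apply_apply]
  have hS' := setup_map hS φ ((QuotientGroup.mk'_surjective _).comp e.surjective) h1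
  have h2 : ρ.ker = ⊥ := (MonoidHom.normal_ker ρ).eq_bot_or_eq_top.resolve_right fun h =>
    ta_ne hS' (congrArg (fun g : Equiv.Perm _ => g (U3.oo σ)) (h.ge (mem_top (φ (U3.ww σ)))))
  let f : PSU 3 E (2 ^ n) → E × E := fun g => Option.elim (g • φ (U3.ww σ) • U3.oo σ) 0 (·.1)
  have h3 : ∀ p, f (φ (U3.uu hσ p)) = p.1 := fun p => by simp only [f, h1, U3.uu_o]; rfl
  refine ⟨inferInstance, ⟨fun {g h} e => (ρ.ker_eq_bot_iff.1 h2) (Equiv.ext e)⟩, _, _, fun g => (f g).1,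
    fun g => (f g).2, hS', ?_, ?_, ?_, fun u v h => ⟨_, ⟨_, ⟨⟨(u, v), h⟩, rfl⟩, rfl⟩, by simp [h3]⟩, ?_⟩
  · rintro _ ⟨_, ⟨p, rfl⟩, rfl⟩ _ ⟨_, ⟨q, rfl⟩, rfl⟩
    simp only [← map_mul, U3.uu_mul, h3, U3.add, and_self]
  · rintro _ ⟨_, ⟨p, rfl⟩, rfl⟩
    simpa only [h3] using p.2
  · rintro _ ⟨_, ⟨p, rfl⟩, rfl⟩ _ ⟨_, ⟨q, rfl⟩, rfl⟩ e1 e2
    simp only [h3] at e1 e2
    rw [Subtype.ext (Prod.ext e1 e2 : p.1 = q.1)]
  · rintro _ hx h5
    obtain ⟨_, ⟨p, rfl⟩, rfl⟩ := id hx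
    have h6 : p.1.2 ≠ 0 := fun h6 => h5 (by
      rw [show p = U3.o from Subtype.ext (Prod.ext (by simpa [h6, U3.o] using p.2) h6), U3.uu_zero, map_one])
    rw [TT_eq hS' hx h5 ⟨_, ⟨⟨(p.1.1 / p.1.2, p.1.2⁻¹), U3.rel_inv p⟩, rfl⟩, rfl⟩ (by
      simp only [h1, U3.uu_o, U3.ww_pt p h6])]
    simp only [h3, and_self]

/-- Identification of the unitary groups. -/
theorem isoPSU {G Ω : Type*} [Group G] [Finite G] [MulAction G Ω] [FaithfulSMul G Ω] {a : Ω} {t s : G}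
    {Q : Subgroup G} (hS : IsRankOneSetup G Ω a t Q) (h2 : R2 G) (hQ : IsPGroup 2 Q)
    (hn : ∃ x ∈ Q, ∃ y ∈ Q, x * y ≠ y * x) (hs : s ∈ I G a) (e : t * s * t = s * t * s) (hW : W a t ≠ ⊥) :
    ∃ (F : Type) (_ : Field F) (_ : Fintype F) (n : ℕ), 2 ≤ n ∧ Fintype.card F = (2 ^ n) ^ 2 ∧
      Nonempty (LL t Q ≃* PSU 3 F (2 ^ n)) := by
  obtain ⟨E, _, _, _, n, σ, π, ξ, h3, h4, h5, h⟩ := exists_coords_U hS h2 hQ hn hs e hW
  obtain ⟨_, _, t', Q', π', ξ', hS', h'⟩ := exists_model_U h3 h4 h5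
  obtain ⟨f⟩ := h.iso h' hS hS'
  have h6 : 2 ^ 2 ≤ 2 ^ n := Nat.pow_le_pow_right two_pos h3
  have := S0283.result h4 3 le_rfl (by omega)
  exact ⟨E, inferInstance, inferInstance, n, h3, h4,
    ⟨f.trans ((MulEquiv.subgroupCongr (LL_eq_top hS')).trans topEquiv)⟩⟩

end Cfsg.Agent.RankOne
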