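import Cfsg.Agent.Lib.Char.U3
import Cfsg.Agent.S1132

/-!
The Sylow `2`-subgroups of `PSU₃(q)`, `q` even.
-/

set_option autoImplicit false
set_option linter.unusedSectionVars false
set_option linter.style.haveILetI false

namespace Cfsg.Agent.RankOne

open MulAction Subgroup Cfsg.Agent.Perm Cfsg.Agent.Transfer

theorem suz_congr {P P' : Type*} [Group P] [Group P'] (e : P ≃* P') (h : IsSuzukiTwoGroup P) :
    IsSuzukiTwoGroup P' := by
  obtain ⟨_, h1, ⟨x, y, h2⟩, ⟨u, v, h3, h4, h5, h6, h7⟩, K, h8, h9⟩ := h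
  refine ⟨Finite.of_equiv _ e.toEquiv, h1.of_equiv e, ⟨e x, e y, by simpa [← map_mul] using h2⟩,
    ⟨e u, e v, by simpa, by simpa, by simp [← map_mul, h5], by simpa, by simp [← map_mul, h7]⟩,
    K.map (MulAut.congr e).toMonoidHom, isCyclic_of_surjective _ (MonoidHom.subgroupMap_surjective _ K),
    fun x y h1 h2 h3 h4 => ?_⟩
  obtain ⟨k, hk, hu⟩ := h9 (e.symm x) (e.symm y) (by simpa) (by simp [← map_mul, h2]) (by simpa)
    (by simp [← map_mul, h4])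
  refine ⟨⟨_, k, k.2, rfl⟩, by simpa [MulEquiv.eq_symm_apply] using hk, ?_⟩
  rintro ⟨_, l, hl, rfl⟩ h
  obtain rfl := hu ⟨l, hl⟩ (by simpa [MulEquiv.eq_symm_apply] using h)
  rfl

variable {G Ω : Type*} [Group G] [Finite G] [MulAction G Ω] {a : Ω} {t s : G} {Q : Subgroup G}

theorem tst_of_TT (hS : IsRankOneSetup G Ω a t Q) (hs : s ∈ I G a) (h : TT a t Q s = s) :
    t * s * t = s * t * s := by
  have h1 := TT_smul hS (I_Q hS hs) hs.2.1
  have h2 : ∀ c : Ω, s • s • c = c := fun c => by rw [← mul_smul, hs.2.2, one_smul]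
  have h3 : s • a = a := hs.1
  rw [h] at h1
  have h4 : (s * t) ^ 3 ∈ K a t := ⟨mem_D.2 ⟨by simp [pow_succ, mul_smul, ← h1, h2, tt_smul hS, h3],
    by simp [pow_succ, mul_smul, ← h1, h2, tt_smul hS, h3]⟩,
    conj_pow_of_inverts (inverts_mul_right hs.2.2 hS.mul_self) 3⟩
  have h5 : (s * t) ^ 3 = 1 := by_contra fun h5 => (K_fix hS h4 h5 (c := s • t • a) (by
    rw [← mul_smul s, ← mul_smul, ← pow_succ, pow_succ', mul_smul, h4.1.1])).elim
    (smul_ne hS h3 (ta_ne hS)) fun e => hs.2.1 (eq_one_of_fix hS (I_Q hS hs) (ta_ne hS) e)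
  calc t * s * t = (s * t * s)⁻¹ * (s * t) ^ 3 := by
        simp [pow_succ, mul_assoc, inv_t hS, inv_eq_of_mul_eq_one_right hs.2.2, ← mul_assoc s s,
          ← mul_assoc t t, hs.2.2, hS.mul_self]
    _ = _ := by simp [h5, inv_t hS, inv_eq_of_mul_eq_one_right hs.2.2, mul_assoc]

theorem sylow_iso (hS : IsRankOneSetup G Ω a t Q) (hQ : IsPGroup 2 Q) (S : Sylow 2 G) :
    Nonempty (S ≃* Q) := by
  obtain ⟨P, hP⟩ := exists_sylow_le hS
  exact ⟨(S.equiv P).trans (MulEquiv.subgroupCongr (P.3 hQ hP).symm)⟩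

theorem CoF.props [FaithfulSMul G Ω] {E : Type*} [Field E] [Fintype E] [CharP E 2] {σ : E ≃+* E}
    {π ξ : G → E} (h : CoF a t Q σ π ξ) (hS : IsRankOneSetup G Ω a t Q) {n : ℕ} (hn : 2 ≤ n)
    (hE : Fintype.card E = (2 ^ n) ^ 2) (hq : ∀ x, σ x = x ^ 2 ^ n) :
    R2 G ∧ IsPGroup 2 Q ∧ (∃ x ∈ Q, ∃ y ∈ Q, x * y ≠ y * x) ∧ Nat.card (Q0 G a) = 2 ^ n ∧
      Nat.card Q = (2 ^ n) ^ 3 ∧ ∃ s ∈ I G a, t * s * t = s * t * s := by
  have hσ : ∀ x, σ (σ x) = x := fun x => by rw [hq, hq, ← pow_mul, ← sq, ← hE, FiniteField.pow_card]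
  have h4 : 2 ^ 2 ≤ 2 ^ n := Nat.pow_le_pow_right two_pos hn
  obtain ⟨c, hc⟩ := not_forall.1 fun h => Classical.frobq_ne_id hE (RingHom.ext h)
  replace hc : σ c ≠ c := by rwa [hq]
  have h1 : π 1 = 0 := by simpa using (h.mul 1 (one_mem _) 1 (one_mem _)).1
  have h2 : ξ 1 = 0 := by simpa [h1] using (h.mul 1 (one_mem _) 1 (one_mem _)).2
  have h3 : ∀ x ∈ Q, x * x = 1 ↔ π x = 0 := fun x hx => by
    obtain ⟨h3, h5⟩ := h.mul x hx x hx
    rw [CharTwo.add_self_eq_zero] at h3 h5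
    exact ⟨fun e => by simpa [e, h2] using h5, fun e => h.inj _ (mul_mem hx hx) _ (one_mem _)
      (h3.trans h1.symm) (by simpa [e, h2] using h5)⟩
  have h5 : ∀ u, ∃ x ∈ Q, π x = u := fun u => by
    obtain ⟨x, hx, e, -⟩ := h.surj u (u * σ u * (c / (c + σ c))) (by
      have := eps_ne hc
      rw [map_mul, map_mul, hσ, map_div₀, map_add, hσ, add_comm (σ c)]
      field_simp)
    exact ⟨x, hx, e⟩
  obtain ⟨s, hs, h6, h7⟩ := h.surj 0 1 (by simp [CharTwo.add_self_eq_zero])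
  have h8 : s ≠ 1 := fun e => by simp [e, h2] at h7
  have hs' : s ∈ I G a := ⟨hS.le hs, h8, (h3 s hs).2 h6⟩
  have hR : R2 G := by
    obtain ⟨g, hg⟩ := IsCyclic.exists_ofOrder_eq_natCard (α := Eˣ)
    rw [Nat.card_units, Nat.card_eq_fintype_card, hE] at hg
    obtain ⟨y, hy, h9, h10⟩ := h.surj 0 (g * σ g) (by simp [hσ, mul_comm, CharTwo.add_self_eq_zero])
    refine ⟨s, y, h8, fun e => by simp [e, h2] at h10, fun e => ?_, hs'.2.2, (h3 y hy).2 h9,
      h.inj _ (mul_mem hs hy) _ (mul_mem hy hs) ?_ ?_⟩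
    · rw [← e, h7, hq, ← pow_succ'] at h10
      have := orderOf_le_of_pow_eq_one (x := g) (Nat.succ_pos _) (Units.ext (by simpa using h10.symm))
      rw [hg] at this
      have : (2 ^ n) ^ 2 ≤ 2 ^ n + 2 := by omega
      nlinarith
    · rw [(h.mul _ hs _ hy).1, (h.mul _ hy _ hs).1, add_comm]
    · rw [(h.mul _ hs _ hy).2, (h.mul _ hy _ hs).2, h6, h9, add_comm (ξ s)]
  have hQ : IsPGroup 2 Q := fun x => ⟨2, Subtype.ext (by
    change (x : G) ^ (2 * 2) = 1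
    rw [pow_mul, sq, sq, h3 _ (mul_mem x.2 x.2), (h.mul _ x.2 _ x.2).1, CharTwo.add_self_eq_zero])⟩
  have hn' : ∃ x ∈ Q, ∃ y ∈ Q, x * y ≠ y * x := by
    obtain ⟨x, hx, h9⟩ := h5 1
    obtain ⟨y, hy, h10⟩ := h5 c
    refine ⟨x, hx, y, hy, fun e => hc ?_⟩
    have := congrArg ξ e
    rw [(h.mul _ hx _ hy).2, (h.mul _ hy _ hx).2, h9, h10, add_comm (ξ x)] at this
    simpa using this.symm
  have h9 := tst_of_TT hS hs' (h.inj _ (TT_mem hS hs h8) _ hs (by simp [(h.tt s hs h8).1, h6])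
    (by simp [(h.tt s hs h8).2, h7]))
  have h10 := card_Q_three hS hR hQ hn' hs' h9
  let f : Q →* Multiplicative E := MonoidHom.mk' (fun x => .ofAdd (π x)) fun x y =>
    congrArg Multiplicative.ofAdd (h.mul _ x.2 _ y.2).1
  have h11 := card_eq_card_quotient_mul_card_subgroup f.ker
  rw [Nat.card_congr (QuotientGroup.quotientKerEquivOfSurjective f fun u =>
      (h5 u.toAdd).elim fun x hx => ⟨⟨x, hx.1⟩, congrArg Multiplicative.ofAdd hx.2⟩).toEquiv,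
    show f.ker = (Q0 G a).subgroupOf Q from Subgroup.ext fun x => ⟨fun e => mem_Q0_of_sq hS hR (hS.le x.2)
      ((h3 _ x.2).2 e), fun e => (h3 _ x.2).1 (Q0_sq hS hR e)⟩, Solv.card_subgroupOf_of_le (Q0_le hS),
    h10, pow_succ, Nat.card_congr Multiplicative.toAdd, Nat.card_eq_fintype_card (α := E), hE] at h11
  have h12 := Nat.pow_left_injective two_ne_zero (Nat.eq_of_mul_eq_mul_right Nat.card_pos h11)
  exact ⟨hR, hQ, hn', h12, by rw [h10, h12], s, hs', h9⟩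

theorem sylow_U {E : Type*} [Field E] [Fintype E] {n : ℕ} (hn : 2 ≤ n)
    (hE : Fintype.card E = (2 ^ n) ^ 2) (S : Sylow 2 (PSU 3 E (2 ^ n))) :
    Nat.card S = (2 ^ n) ^ 3 ∧ Nat.card (center S) = 2 ^ n ∧ IsSuzukiTwoGroup S := by
  have : CharP E 2 := CharTwo.of_one_ne_zero_of_two_eq_zero one_ne_zero (by
    have := FiniteField.cast_card_eq_zero E
    rw [hE] at this
    exact pow_eq_zero_iff (n := n) (by omega) |>.1 (by simpa using this))
  obtain ⟨_, _, t, Q, π, ξ, hS, h⟩ := exists_model_U hn hE (σ := iterateFrobeniusEquiv E 2 n) fun _ => rfl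
  obtain ⟨h2, hQ, h3, h4, h5, -⟩ := h.props hS hn hE fun _ => rfl
  obtain ⟨e⟩ := sylow_iso hS hQ S
  let _ := actK hS h2
  refine ⟨by rw [Nat.card_congr e.toEquiv, h5], by
    rw [Nat.card_congr (centerCongr e).toEquiv, (hs_Q hS h2 hQ).center_eq (na_Q h3), card_Z_eq hS h2 hQ, h4],
    suz_congr e.symm ?_⟩
  let P : Sylow 2 Q := ⟨⊤, hQ.to_subgroup ⊤, fun _ h => top_le_iff.1 h⟩
  refine suz_congr topEquiv ((S1132.result hS h2 P).resolve_left fun hc => ?_)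
  obtain ⟨x, y, h6⟩ := na_Q h3
  exact h6 (congrArg Subtype.val (hc.1.1 ⟨x, trivial⟩ ⟨y, trivial⟩))

end Cfsg.Agent.RankOne
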