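import Cfsg.Agent.Lib.Char.Misc
import Cfsg.Prelude.Def_OddOrderChar

/-!
Virtual characters: the real inner product, signed irreducible characters, small norms,
linear extension of isometries, the isometry lemma.
-/

set_option autoImplicit false

namespace Cfsg.Agent.Char

open scoped ComplexConjugate

variable {G : Type*} [Group G] {L : Type*} [Group L]

section rip

variable [Fintype G]

/-- Real part of the inner product. -/
noncomputable def rip (φ ψ : G → ℂ) : ℝ := (classInner φ ψ).re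

theorem rip_comm (φ ψ : G → ℂ) : rip φ ψ = rip ψ φ := by
  rw [rip, rip, ← conj_classInner, Complex.conj_re]

@[simp] theorem rip_add_left (φ ψ χ : G → ℂ) : rip (φ + ψ) χ = rip φ χ + rip ψ χ := by
  simp [rip, classInner_add_left]

@[simp] theorem rip_add_right (φ ψ χ : G → ℂ) : rip φ (ψ + χ) = rip φ ψ + rip φ χ := by
  simp [rip, classInner_add_right]

@[simp] theorem rip_sub_left (φ ψ χ : G → ℂ) : rip (φ - ψ) χ = rip φ χ - rip ψ χ := by
  simp [rip, classInner_sub_left]

@[simp] theorem rip_sub_right (φ ψ χ : G → ℂ) : rip φ (ψ - χ) = rip φ ψ - rip φ χ := by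
  simp [rip, classInner_sub_right]

@[simp] theorem rip_neg_left (φ ψ : G → ℂ) : rip (-φ) ψ = -rip φ ψ := by
  simp [rip, classInner_neg_left]

@[simp] theorem rip_neg_right (φ ψ : G → ℂ) : rip φ (-ψ) = -rip φ ψ := by
  simp [rip, classInner_neg_right]

@[simp] theorem rip_zero_left (ψ : G → ℂ) : rip 0 ψ = 0 := by simp [rip]

@[simp] theorem rip_zero_right (ψ : G → ℂ) : rip ψ 0 = 0 := by simp [rip]

@[simp] theorem rip_zsmul_left (c : ℤ) (φ ψ : G → ℂ) : rip (c • φ) ψ = c * rip φ ψ := by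
  simp [rip, classInner_zsmul_left, -zsmul_eq_mul]

@[simp] theorem rip_zsmul_right (c : ℤ) (φ ψ : G → ℂ) : rip φ (c • ψ) = c * rip φ ψ := by
  simp [rip, classInner_zsmul_right, -zsmul_eq_mul]

@[simp] theorem rip_nsmul_left (c : ℕ) (φ ψ : G → ℂ) : rip (c • φ) ψ = c * rip φ ψ := by
  simp [rip, classInner_nsmul_left, -nsmul_eq_mul]

@[simp] theorem rip_nsmul_right (c : ℕ) (φ ψ : G → ℂ) : rip φ (c • ψ) = c * rip φ ψ := by
  simp [rip, classInner_nsmul_right, -nsmul_eq_mul]

@[simp] theorem rip_real_smul_left (c : ℝ) (φ ψ : G → ℂ) :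
    rip ((c : ℂ) • φ) ψ = c * rip φ ψ := by
  simp [rip, classInner_smul_left, -Complex.coe_smul]

@[simp] theorem rip_real_smul_right (c : ℝ) (φ ψ : G → ℂ) :
    rip φ ((c : ℂ) • ψ) = c * rip φ ψ := by
  simp [rip, classInner_smul_right, -Complex.coe_smul]

@[simp] theorem rip_rsmul_left (c : ℝ) (φ ψ : G → ℂ) : rip (c • φ) ψ = c * rip φ ψ := by
  rw [← Complex.coe_smul, rip_real_smul_left]

@[simp] theorem rip_rsmul_right (c : ℝ) (φ ψ : G → ℂ) : rip φ (c • ψ) = c * rip φ ψ := by
  rw [← Complex.coe_smul, rip_real_smul_right]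

@[simp] theorem rip_intCast_smul_left (c : ℤ) (φ ψ : G → ℂ) :
    rip ((c : ℂ) • φ) ψ = c * rip φ ψ := by
  simp [rip, classInner_smul_left]

@[simp] theorem rip_intCast_smul_right (c : ℤ) (φ ψ : G → ℂ) :
    rip φ ((c : ℂ) • ψ) = c * rip φ ψ := by
  simp [rip, classInner_smul_right]

@[simp] theorem rip_natCast_smul_left (c : ℕ) (φ ψ : G → ℂ) :
    rip ((c : ℂ) • φ) ψ = c * rip φ ψ := by
  simp [rip, classInner_smul_left]

@[simp] theorem rip_natCast_smul_right (c : ℕ) (φ ψ : G → ℂ) :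
    rip φ ((c : ℂ) • ψ) = c * rip φ ψ := by
  simp [rip, classInner_smul_right]

theorem rip_sum_left {ι : Type*} (s : Finset ι) (f : ι → G → ℂ) (ψ : G → ℂ) :
    rip (∑ i ∈ s, f i) ψ = ∑ i ∈ s, rip (f i) ψ := by
  simp [rip, classInner_sum_left]

theorem rip_sum_right {ι : Type*} (s : Finset ι) (f : ι → G → ℂ) (ψ : G → ℂ) :
    rip ψ (∑ i ∈ s, f i) = ∑ i ∈ s, rip ψ (f i) := by
  simp [rip, classInner_sum_right]

theorem rip_self_nonneg (φ : G → ℂ) : 0 ≤ rip φ φ := classInner_self_re_nonneg φ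

theorem classInner_self_eq_rip (φ : G → ℂ) : classInner φ φ = rip φ φ :=
  Complex.ext rfl (by simp [classInner_self_im])

theorem rip_self_eq_zero {φ : G → ℂ} : rip φ φ = 0 ↔ φ = 0 := by
  rw [← classInner_self_eq_zero, classInner_self_eq_rip, Complex.ofReal_eq_zero]

theorem eq_zero_of_rip_self_nonpos {φ : G → ℂ} (h : rip φ φ ≤ 0) : φ = 0 :=
  rip_self_eq_zero.1 (le_antisymm h (rip_self_nonneg φ))

theorem rip_self_pos {φ : G → ℂ} (h : φ ≠ 0) : 0 < rip φ φ :=
  lt_of_le_of_ne (rip_self_nonneg φ) fun h1 => h (rip_self_eq_zero.1 h1.symm)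

theorem rip_eq_of_classInner {φ ψ : G → ℂ} {r : ℝ} (h : classInner φ ψ = r) : rip φ ψ = r := by
  rw [rip, h, Complex.ofReal_re]

theorem rip_eq_zero {φ ψ : G → ℂ} (h : classInner φ ψ = 0) : rip φ ψ = 0 := by
  rw [rip, h, Complex.zero_re]

theorem rip_eq_one {φ ψ : G → ℂ} (h : classInner φ ψ = 1) : rip φ ψ = 1 := by
  rw [rip, h, Complex.one_re]

theorem rip_smul_smul (c : ℂ) (φ : G → ℂ) : rip (c • φ) (c • φ) = ‖c‖ ^ 2 * rip φ φ := by
  rw [rip, classInner_smul_left, classInner_smul_right, ← mul_assoc, Complex.mul_conj,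
    classInner_self_eq_rip, ← Complex.ofReal_mul, Complex.ofReal_re, Complex.normSq_eq_norm_sq]

theorem rip_sq_le (φ ψ : G → ℂ) : rip φ ψ ^ 2 ≤ rip φ φ * rip ψ ψ := by
  by_cases h : ψ = 0
  · simp [h]
  have h1 := rip_self_pos h
  have h2 := rip_self_nonneg (((rip ψ ψ : ℝ) : ℂ) • φ - ((rip φ ψ : ℝ) : ℂ) • ψ)
  simp only [rip_sub_left, rip_sub_right, rip_real_smul_left, rip_real_smul_right,
    rip_comm ψ φ] at h2
  nlinarith

theorem rip_conj_conj (φ ψ : G → ℂ) :
    rip (fun g => conj (φ g)) (fun g => conj (ψ g)) = rip φ ψ := by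
  rw [rip, classInner_conj_conj, ← rip, rip_comm]

theorem _root_.Cfsg.IsGeneralizedCharacter.classInner_eq_rip {φ ψ : G → ℂ}
    (h : IsGeneralizedCharacter G φ) (h' : IsGeneralizedCharacter G ψ) :
    classInner φ ψ = rip φ ψ := by
  obtain ⟨n, hn⟩ := h.classInner_eq_int h'
  rw [rip, hn]; simp

theorem _root_.Cfsg.IsGeneralizedCharacter.rip_eq_int {φ ψ : G → ℂ}
    (h : IsGeneralizedCharacter G φ) (h' : IsGeneralizedCharacter G ψ) :
    ∃ n : ℤ, rip φ ψ = n := by
  obtain ⟨n, hn⟩ := h.classInner_eq_int h'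
  exact ⟨n, by rw [rip, hn]; simp⟩

theorem _root_.Cfsg.IsGeneralizedCharacter.classInner_eq_zero {φ ψ : G → ℂ}
    (h : IsGeneralizedCharacter G φ) (h' : IsGeneralizedCharacter G ψ) (h0 : rip φ ψ = 0) :
    classInner φ ψ = 0 := by
  rw [h.classInner_eq_rip h', h0, Complex.ofReal_zero]

theorem _root_.Cfsg.IsGeneralizedCharacter.one_le_rip {φ : G → ℂ}
    (h : IsGeneralizedCharacter G φ) (h0 : φ ≠ 0) : 1 ≤ rip φ φ := by
  obtain ⟨n, hn⟩ := h.rip_eq_int h
  have := rip_self_pos h0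
  rw [hn] at this ⊢
  exact_mod_cast this

theorem _root_.Cfsg.IsGeneralizedCharacter.eq_zero_of_rip_lt {φ : G → ℂ}
    (h : IsGeneralizedCharacter G φ) (h0 : rip φ φ < 1) : φ = 0 := by
  by_contra h1
  exact absurd (h.one_le_rip h1) (not_le.2 h0)

theorem _root_.Cfsg.IsIrrCharacter.rip_self {χ : G → ℂ} (h : IsIrrCharacter G χ) :
    rip χ χ = 1 := rip_eq_one h.classInner_self

theorem _root_.Cfsg.IsIrrCharacter.rip_of_ne {χ ψ : G → ℂ} (h : IsIrrCharacter G χ)
    (h' : IsIrrCharacter G ψ) (hne : χ ≠ ψ) : rip χ ψ = 0 :=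
  rip_eq_zero (h.classInner_of_ne h' hne)

theorem _root_.Cfsg.IsCharacter.rip_nonneg {χ ψ : G → ℂ} (h : IsCharacter G χ)
    (h' : IsCharacter G ψ) : 0 ≤ rip χ ψ := h.classInner_re_nonneg h'

open Classical in
/-- Bessel's identity for an orthonormal family. -/
theorem rip_sub_sum_orthonormal {ι : Type*} (s : Finset ι) (f : ι → G → ℂ)
    (hf : ∀ i ∈ s, ∀ j ∈ s, classInner (f i) (f j) = if i = j then 1 else 0) (φ : G → ℂ) :
    rip (φ - ∑ i ∈ s, classInner φ (f i) • f i) (φ - ∑ i ∈ s, classInner φ (f i) • f i) =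
      rip φ φ - ∑ i ∈ s, ‖classInner φ (f i)‖ ^ 2 := by
  have h1 : ∀ j ∈ s, classInner (∑ i ∈ s, classInner φ (f i) • f i) (f j) = classInner φ (f j) := by
    intro j hj
    rw [classInner_sum_left, Finset.sum_eq_single j]
    · rw [classInner_smul_left, hf j hj j hj, if_pos rfl, mul_one]
    · intro i hi hij
      rw [classInner_smul_left, hf i hi j hj, if_neg hij, mul_zero]
    · exact fun h => absurd hj h
  have h2 : classInner (φ - ∑ i ∈ s, classInner φ (f i) • f i)
      (∑ i ∈ s, classInner φ (f i) • f i) = 0 := by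
    rw [classInner_sum_right]
    refine Finset.sum_eq_zero fun j hj => ?_
    rw [classInner_smul_right, classInner_sub_left, h1 j hj, sub_self, mul_zero]
  rw [rip_sub_right, rip_eq_zero h2, sub_zero, rip_sub_left, rip_sum_left]
  congr 1
  refine Finset.sum_congr rfl fun i _ => ?_
  rw [rip, classInner_smul_left, ← conj_classInner φ (f i), Complex.mul_conj,
    Complex.ofReal_re, Complex.normSq_eq_norm_sq]

open Classical in
theorem bessel {ι : Type*} (s : Finset ι) (f : ι → G → ℂ)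
    (hf : ∀ i ∈ s, ∀ j ∈ s, classInner (f i) (f j) = if i = j then 1 else 0) (φ : G → ℂ) :
    ∑ i ∈ s, ‖classInner φ (f i)‖ ^ 2 ≤ rip φ φ := by
  have := rip_self_nonneg (φ - ∑ i ∈ s, classInner φ (f i) • f i)
  rw [rip_sub_sum_orthonormal s f hf] at this
  linarith

open Classical in
theorem eq_sum_of_bessel {ι : Type*} (s : Finset ι) (f : ι → G → ℂ)
    (hf : ∀ i ∈ s, ∀ j ∈ s, classInner (f i) (f j) = if i = j then 1 else 0) (φ : G → ℂ)
    (h : rip φ φ ≤ ∑ i ∈ s, ‖classInner φ (f i)‖ ^ 2) :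
    φ = ∑ i ∈ s, classInner φ (f i) • f i := by
  rw [← sub_eq_zero]
  refine eq_zero_of_rip_self_nonpos ?_
  rw [rip_sub_sum_orthonormal s f hf]
  linarith

open Classical in
theorem classInner_sum_orthonormal {ι : Type*} (s : Finset ι) (f : ι → G → ℂ)
    (hf : ∀ i ∈ s, ∀ j ∈ s, classInner (f i) (f j) = if i = j then 1 else 0) (c : ι → ℂ)
    {j : ι} (hj : j ∈ s) : classInner (∑ i ∈ s, c i • f i) (f j) = c j := by
  rw [classInner_sum_left, Finset.sum_eq_single j]
  · rw [classInner_smul_left, hf j hj j hj, if_pos rfl, mul_one]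
  · intro i hi hij
    rw [classInner_smul_left, hf i hi j hj, if_neg hij, mul_zero]
  · exact fun h => absurd hj h

open Classical in
theorem rip_sum_orthonormal {ι : Type*} (s : Finset ι) (f : ι → G → ℂ)
    (hf : ∀ i ∈ s, ∀ j ∈ s, classInner (f i) (f j) = if i = j then 1 else 0) :
    rip (∑ i ∈ s, f i) (∑ i ∈ s, f i) = s.card := by
  rw [rip_sum_right, Finset.sum_congr rfl (g := fun _ => (1 : ℝ))]
  · simp
  · intro j hj
    have := classInner_sum_orthonormal s f hf (fun _ => 1) hj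
    simp only [one_smul] at this
    exact rip_eq_one this

end rip

theorem int_sq_le_three {n : ℤ} (h : (n : ℝ) ^ 2 ≤ 3) : n = -1 ∨ n = 0 ∨ n = 1 := by
  have : n ^ 2 ≤ 3 := by exact_mod_cast h
  have h1 : n ≤ 1 := by nlinarith
  have h2 : -1 ≤ n := by nlinarith
  omega

theorem int_le_sq (n : ℤ) : (n : ℝ) ≤ (n : ℝ) ^ 2 := by
  exact_mod_cast Int.le_self_sq n

/-- An irreducible character up to sign. -/
def IsDirr (G : Type*) [Group G] (χ : G → ℂ) : Prop :=
  IsIrrCharacter G χ ∨ IsIrrCharacter G (-χ)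

theorem _root_.Cfsg.IsIrrCharacter.isDirr {χ : G → ℂ} (h : IsIrrCharacter G χ) : IsDirr G χ :=
  Or.inl h

namespace IsDirr

variable {p q : G → ℂ}

theorem neg (h : IsDirr G p) : IsDirr G (-p) := by
  rcases h with h | h
  · exact Or.inr (by rwa [neg_neg])
  · exact Or.inl h

theorem isGen (h : IsDirr G p) : IsGeneralizedCharacter G p := by
  rcases h with h | h
  · exact h.isGen
  · simpa using h.isGen.neg

theorem isClassFunction (h : IsDirr G p) : IsClassFunction G p := h.isGen.isClassFunction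

theorem apply_one_ne_zero (h : IsDirr G p) : p 1 ≠ 0 := by
  rcases h with h | h
  · exact h.apply_one_ne_zero
  · simpa using h.apply_one_ne_zero

theorem ne_zero (h : IsDirr G p) : p ≠ 0 := fun h0 => h.apply_one_ne_zero (by simp [h0])

theorem ne_neg (h : IsDirr G p) : p ≠ -p := fun h0 => h.apply_one_ne_zero (by
  have := congrFun h0 1
  rw [Pi.neg_apply] at this
  linear_combination this / 2)

theorem exists_sign (h : IsDirr G p) : ∃ ε : ℂ, (ε = 1 ∨ ε = -1) ∧ IsIrrCharacter G (ε • p) := by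
  rcases h with h | h
  · exact ⟨1, Or.inl rfl, by simpa⟩
  · exact ⟨-1, Or.inr rfl, by simpa⟩

theorem exists_eq_sign (h : IsDirr G p) :
    ∃ ε : ℂ, (ε = 1 ∨ ε = -1) ∧ ∃ χ, IsIrrCharacter G χ ∧ p = ε • χ := by
  rcases h with h | h
  · exact ⟨1, Or.inl rfl, p, h, by simp⟩
  · exact ⟨-1, Or.inr rfl, -p, h, by simp⟩

theorem sign_smul (h : IsDirr G p) {ε : ℂ} (hε : ε = 1 ∨ ε = -1) : IsDirr G (ε • p) := by
  rcases hε with rfl | rfl
  · simpa
  · simpa using h.neg

theorem isIrr_of_pos (h : IsDirr G p) (h1 : 0 ≤ (p 1).re) : IsIrrCharacter G p := by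
  rcases h with h | h
  · exact h
  · obtain ⟨n, hn, h2⟩ := h.exists_degree
    rw [Pi.neg_apply, neg_eq_iff_eq_neg] at h2
    rw [h2] at h1
    simp only [Complex.neg_re, Complex.natCast_re, Left.nonneg_neg_iff] at h1
    have : (0 : ℝ) < n := by exact_mod_cast hn
    linarith

theorem isIrr_of_apply_one (h : IsDirr G p) {X : Type*} [Group X] {χ : X → ℂ}
    (hχ : IsCharacter X χ) (h1 : p 1 = χ 1) : IsIrrCharacter G p :=
  h.isIrr_of_pos (h1 ▸ hχ.degree_re_nonneg)

theorem map_ringHom [Finite G] (h : IsDirr G p) (σ : ℂ →+* ℂ) :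
    IsDirr G (fun g => σ (p g)) := by
  rcases h with h | h
  · exact Or.inl (h.map_ringHom σ)
  · refine Or.inr ?_
    convert h.map_ringHom σ using 1
    ext g; simp

theorem conj_fun [Finite G] (h : IsDirr G p) : IsDirr G (fun g => conj (p g)) :=
  h.map_ringHom _

variable [Fintype G]

theorem classInner_self (h : IsDirr G p) : classInner p p = 1 := by
  rcases h with h | h
  · exact h.classInner_self
  · simpa [classInner_neg_left, classInner_neg_right] using h.classInner_self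

theorem rip_self (h : IsDirr G p) : rip p p = 1 := rip_eq_one h.classInner_self

theorem eq_of_rip (h : IsDirr G p) (h' : IsDirr G q) (h1 : rip p q = 1) : p = q := by
  rw [← sub_eq_zero, ← rip_self_eq_zero]
  simp [h.rip_self, h'.rip_self, h1, rip_comm q p]

theorem eq_neg_of_rip (h : IsDirr G p) (h' : IsDirr G q) (h1 : rip p q = -1) : p = -q :=
  h.eq_of_rip h'.neg (by simp [h1])

theorem rip_mem (h : IsDirr G p) {φ : G → ℂ} (hφ : IsGeneralizedCharacter G φ)
    (h3 : rip φ φ ≤ 3) : rip φ p = -1 ∨ rip φ p = 0 ∨ rip φ p = 1 := by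
  obtain ⟨n, hn⟩ := hφ.rip_eq_int h.isGen
  have := rip_sq_le φ p
  rw [h.rip_self, hn] at this
  rcases int_sq_le_three (n := n) (by linarith) with rfl | rfl | rfl <;> simp [hn]

theorem trichotomy (h : IsDirr G p) (h' : IsDirr G q) : p = q ∨ p = -q ∨ classInner p q = 0 := by
  rcases h'.rip_mem h.isGen (by rw [h.rip_self]; norm_num) with h1 | h1 | h1
  · exact Or.inr (Or.inl (h.eq_neg_of_rip h' h1))
  · exact Or.inr (Or.inr (h.isGen.classInner_eq_zero h'.isGen h1))
  · exact Or.inl (h.eq_of_rip h' h1)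

theorem eq_or_eq_neg (h : IsDirr G p) (h' : IsDirr G q) (h1 : classInner p q ≠ 0) :
    p = q ∨ p = -q := by
  rcases h.trichotomy h' with h2 | h2 | h2
  · exact Or.inl h2
  · exact Or.inr h2
  · exact absurd h2 h1

theorem classInner_eq_zero (h : IsDirr G p) (h' : IsDirr G q) (h1 : p ≠ q) (h2 : p ≠ -q) :
    classInner p q = 0 := by
  by_contra h3
  exact (h.eq_or_eq_neg h' h3).elim h1 h2

theorem rip_eq_zero (h : IsDirr G p) (h' : IsDirr G q) (h1 : p ≠ q) (h2 : p ≠ -q) :
    rip p q = 0 := Char.rip_eq_zero (h.classInner_eq_zero h' h1 h2)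

end IsDirr

section small

variable [Fintype G]

theorem _root_.Cfsg.IsGeneralizedCharacter.isDirr {φ : G → ℂ} (h : IsGeneralizedCharacter G φ)
    (h1 : rip φ φ = 1) : IsDirr G φ :=
  h.irr_or_neg (by rw [classInner_self_eq_rip, h1, Complex.ofReal_one])

/-- A common signed constituent. -/
theorem _root_.Cfsg.IsGeneralizedCharacter.exists_dirr_of_rip_pos {φ ψ : G → ℂ}
    (h : IsGeneralizedCharacter G φ) (h' : IsGeneralizedCharacter G ψ) (h1 : 0 < rip φ ψ) :
    ∃ p, IsDirr G p ∧ 1 ≤ rip φ p ∧ 1 ≤ rip ψ p := by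
  obtain ⟨c, hc, -⟩ := h.exists_coeff
  obtain ⟨d, hd, -⟩ := h'.exists_coeff
  have h2 : rip φ ψ = ((∑ χ, c χ * d χ : ℤ) : ℝ) := by
    apply rip_eq_of_classInner
    rw [h.isClassFunction.classInner_eq_sum]
    simp [hc, hd]
  rw [h2] at h1
  obtain ⟨χ, -, hχ⟩ := Finset.exists_lt_of_sum_lt (s := Finset.univ) (f := fun _ => (0 : ℤ))
    (g := fun χ => c χ * d χ) (by rw [Finset.sum_const_zero]; exact_mod_cast h1)
  have h3 : rip φ χ = c χ := rip_eq_of_classInner (by simp [hc])
  have h4 : rip ψ χ = d χ := rip_eq_of_classInner (by simp [hd])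
  rcases pos_and_pos_or_neg_and_neg_of_mul_pos hχ with ⟨h5, h6⟩ | ⟨h5, h6⟩
  · exact ⟨χ, χ.2.isDirr, by rw [h3]; exact_mod_cast h5, by rw [h4]; exact_mod_cast h6⟩
  · refine ⟨-χ, χ.2.isDirr.neg, ?_, ?_⟩
    · rw [rip_neg_right, h3]; exact_mod_cast (by omega : 1 ≤ -c χ)
    · rw [rip_neg_right, h4]; exact_mod_cast (by omega : 1 ≤ -d χ)

theorem _root_.Cfsg.IsGeneralizedCharacter.exists_dirr {φ : G → ℂ}
    (h : IsGeneralizedCharacter G φ) (h0 : φ ≠ 0) (h3 : rip φ φ ≤ 3) :
    ∃ p, IsDirr G p ∧ rip φ p = 1 := by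
  obtain ⟨p, hp, h1, -⟩ := h.exists_dirr_of_rip_pos h (rip_self_pos h0)
  refine ⟨p, hp, ?_⟩
  rcases hp.rip_mem h h3 with h2 | h2 | h2 <;> linarith

theorem _root_.Cfsg.IsGeneralizedCharacter.exists_of_norm_two {φ : G → ℂ}
    (h : IsGeneralizedCharacter G φ) (h2 : rip φ φ = 2) :
    ∃ p q, IsDirr G p ∧ IsDirr G q ∧ classInner p q = 0 ∧ φ = p + q := by
  obtain ⟨p, hp, h1⟩ := h.exists_dirr (by rintro rfl; simp at h2) (by linarith)
  have hq : IsDirr G (φ - p) := (h.sub hp.isGen).isDirr (by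
    simp [h1, h2, hp.rip_self, rip_comm p φ]; norm_num)
  exact ⟨p, φ - p, hp, hq, hp.isGen.classInner_eq_zero hq.isGen
    (by simp [h1, hp.rip_self, rip_comm p φ]), by ring⟩

theorem _root_.Cfsg.IsGeneralizedCharacter.exists_sub_of_norm_two {φ : G → ℂ}
    (h : IsGeneralizedCharacter G φ) (h2 : rip φ φ = 2) (h1 : φ 1 = 0) :
    ∃ χ ψ, IsIrrCharacter G χ ∧ IsIrrCharacter G ψ ∧ χ ≠ ψ ∧ φ = χ - ψ := by
  obtain ⟨p, q, hp, hq, h3, rfl⟩ := h.exists_of_norm_two h2
  rw [Pi.add_apply] at h1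
  rcases hp with hp | hp
  · have : IsIrrCharacter G (-q) := hq.neg.isIrr_of_apply_one hp.isCharacter (by
      rw [Pi.neg_apply]; linear_combination -h1)
    refine ⟨p, -q, hp, this, ?_, by ring⟩
    rintro rfl
    simp at h2
  · have : IsIrrCharacter G q := hq.isIrr_of_apply_one hp.isCharacter (by
      rw [Pi.neg_apply]; linear_combination h1)
    refine ⟨q, -p, this, hp, ?_, by ring⟩
    rintro rfl
    simp at h2

/-- Signed irreducible characters with the same value at `1` have the same sign. -/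
theorem exists_common_sign {ι : Type*} {ν : ι → G → ℂ} (h : ∀ i, IsDirr G (ν i)) {d : ι → ℝ}
    (hd : ∀ i, 0 < d i) {c : ℂ} (h1 : ∀ i, ν i 1 = d i * c) :
    ∃ ε : ℂ, (ε = 1 ∨ ε = -1) ∧ ∀ i, IsIrrCharacter G (ε • ν i) := by
  rcases le_total 0 c.re with hc | hc
  · refine ⟨1, Or.inl rfl, fun i => ?_⟩
    rw [one_smul]
    refine (h i).isIrr_of_pos ?_
    rw [h1, Complex.re_ofReal_mul]
    exact mul_nonneg (hd i).le hc
  · refine ⟨-1, Or.inr rfl, fun i => ?_⟩
    rw [neg_smul, one_smul]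
    refine (h i).neg.isIrr_of_pos ?_
    rw [Pi.neg_apply, h1, Complex.neg_re, Complex.re_ofReal_mul]
    nlinarith [hd i]

/-- A family of norm two virtual characters vanishing at `1` with pairwise inner products `1`
has a common signed constituent. -/
theorem exists_common_dirr {ι : Type*} {τ : ι → G → ℂ} (hgen : ∀ i, IsGeneralizedCharacter G (τ i))
    (hone : ∀ i, τ i 1 = 0) (h2 : ∀ i, rip (τ i) (τ i) = 2)
    (h1 : ∀ i j, i ≠ j → rip (τ i) (τ j) = 1) : ∃ p, IsDirr G p ∧ ∀ i, rip (τ i) p = 1 := by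
  rcases isEmpty_or_nonempty ι with hι | ⟨⟨i₁⟩⟩
  · exact ⟨_, isIrrCharacter_one.isDirr, fun i => isEmptyElim i⟩
  obtain ⟨a, b, ha, hb, hab, hτ⟩ := (hgen i₁).exists_of_norm_two (h2 i₁)
  replace hab := rip_eq_zero hab
  by_contra hcon
  push Not at hcon
  obtain ⟨i, hi⟩ := hcon a ha
  obtain ⟨j, hj⟩ := hcon b hb
  have hi1 : i ≠ i₁ := by
    rintro rfl
    exact hi (by simp [hτ, ha.rip_self, rip_comm b a, hab])
  have hj1 : j ≠ i₁ := by
    rintro rfl
    exact hj (by simp [hτ, hb.rip_self, hab])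
  have h3 := h1 i i₁ hi1
  have h4 := h1 j i₁ hj1
  rw [hτ, rip_add_right] at h3 h4
  have h5 := ha.rip_mem (hgen i) (by rw [h2]; norm_num)
  have h6 := hb.rip_mem (hgen i) (by rw [h2]; norm_num)
  have h7 := ha.rip_mem (hgen j) (by rw [h2]; norm_num)
  have h8 := hb.rip_mem (hgen j) (by rw [h2]; norm_num)
  have hia : rip (τ i) a = 0 := by rcases h5 with h | h | h <;> rcases h6 with h' | h' | h' <;>
    first | exact h | exact absurd h hi | linarith
  have hjb : rip (τ j) b = 0 := by rcases h7 with h | h | h <;> rcases h8 with h' | h' | h' <;>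
    first | exact h' | exact absurd h' hj | linarith
  have hib : rip (τ i) b = 1 := by linarith
  have hja : rip (τ j) a = 1 := by linarith
  have hij : i ≠ j := by rintro rfl; linarith
  have h9 : τ i - b - (τ j - a) = 0 := by
    rw [← rip_self_eq_zero]
    simp only [rip_sub_left, rip_sub_right, h2, h1 i j hij, h1 j i hij.symm, ha.rip_self,
      hb.rip_self, hab, rip_comm b a, rip_comm a (τ _), rip_comm b (τ _), hia, hib, hja, hjb]
    norm_num
  have h10 := congrFun h9 1
  have h11 := hone i₁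
  simp only [Pi.sub_apply, hone, Pi.zero_apply] at h10
  rw [hτ, Pi.add_apply] at h11
  exact ha.apply_one_ne_zero (by linear_combination (h10 + h11) / 2)

open Classical in
/-- The isometry lemma (Peterfalvi 1.4). -/
theorem isometry_lemma {ι : Type*} (i₀ : ι) {τ : ι → G → ℂ} (h0 : τ i₀ = 0)
    (hgen : ∀ i, IsGeneralizedCharacter G (τ i)) (hone : ∀ i, τ i 1 = 0)
    (hgram : ∀ i j, i ≠ i₀ → j ≠ i₀ → classInner (τ i) (τ j) = if i = j then 2 else 1) :
    ∃ ε : ℂ, (ε = 1 ∨ ε = -1) ∧ ∃ μ : ι → G → ℂ, (∀ i, IsIrrCharacter G (μ i)) ∧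
      Function.Injective μ ∧ ∀ i, τ i = ε • (μ i - μ i₀) := by
  have h2 : ∀ i, i ≠ i₀ → rip (τ i) (τ i) = 2 := fun i hi =>
    rip_eq_of_classInner (by rw [hgram i i hi hi, if_pos rfl]; norm_num)
  have h1 : ∀ i j, i ≠ i₀ → j ≠ i₀ → i ≠ j → rip (τ i) (τ j) = 1 := fun i j hi hj hij =>
    rip_eq_one (by rw [hgram i j hi hj, if_neg hij])
  obtain ⟨p, hp, hp1⟩ := exists_common_dirr (ι := {i // i ≠ i₀}) (τ := fun i => τ i)
    (fun i => hgen i) (fun i => hone i) (fun i => h2 i i.2)
    (fun i j hij => h1 i j i.2 j.2 (Subtype.coe_ne_coe.2 hij))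
  replace hp1 : ∀ i, i ≠ i₀ → rip (τ i) p = 1 := fun i hi => hp1 ⟨i, hi⟩
  have hν : ∀ i, IsDirr G (τ i - p) := by
    intro i
    by_cases hi : i = i₀
    · simpa [hi, h0] using hp.neg
    · refine ((hgen i).sub hp.isGen).isDirr ?_
      simp [h2 i hi, hp1 i hi, rip_comm p, hp.rip_self]; norm_num
  obtain ⟨ε, hε, h3⟩ := exists_common_sign hν (d := fun _ => 1) (fun _ => one_pos) (c := -p 1)
    (fun i => by simp [hone])
  have hε2 : ε * ε = 1 := by rcases hε with rfl | rfl <;> norm_num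
  refine ⟨ε, hε, _, h3, fun i j hij => ?_, fun i => ?_⟩
  · have h4 : τ i = τ j := by
      have := congrArg (ε • ·) hij
      simpa [smul_smul, hε2] using this
    by_contra hne
    by_cases hi : i = i₀
    · have := h2 j fun h => hne (hi.trans h.symm)
      rw [← h4, hi, h0] at this
      simp at this
    by_cases hj : j = i₀
    · have := h2 i hi
      rw [h4, hj, h0] at this
      simp at this
    have := h1 i j hi hj hne
    rw [← h4, h2 i hi] at this
    norm_num at this
  · simp [← smul_sub, smul_smul, hε2, h0]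

/-- Peterfalvi 4.1. -/
theorem orth_of_mixed {α β γ δ : G → ℂ} (hα : IsDirr G α) (hβ : IsDirr G β) (hγ : IsDirr G γ)
    (hδ : IsDirr G δ) {u v : ℂ} (hu : u ≠ 0) (hv : v ≠ 0) (hab : classInner α β = 0)
    (hcd : classInner γ δ = 0) (hmix : classInner (α - β) (u • γ - v • δ) = 0)
    (h1 : α 1 = β 1) (h2 : u * γ 1 = v * δ 1) :
    classInner α γ = 0 ∧ classInner α δ = 0 ∧ classInner β γ = 0 ∧ classInner β δ = 0 := by
  have key : ∀ {α β γ δ : G → ℂ}, IsDirr G α → IsDirr G β → IsDirr G γ → IsDirr G δ →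
      ∀ {u v : ℂ}, u ≠ 0 → v ≠ 0 → classInner α β = 0 → classInner γ δ = 0 →
      classInner (α - β) (u • γ - v • δ) = 0 → α 1 = β 1 → u * γ 1 = v * δ 1 →
      α ≠ γ := by
    rintro α β _ δ hα hβ - hδ u v hu hv hab hcd hmix h1 h2 rfl
    rw [classInner_sub_left, classInner_sub_right, classInner_sub_right, classInner_smul_right,
      classInner_smul_right, classInner_smul_right, classInner_smul_right, hα.classInner_self,
      hcd, classInner_eq_zero_comm.1 hab] at hmix
    have hu' : conj u ≠ 0 := by simpa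
    rcases hβ.trichotomy hδ with h | h | h
    · subst h
      rw [hβ.classInner_self] at hmix
      have h3 : u = -v := by
        apply (starRingEnd ℂ).injective
        rw [map_neg]; linear_combination hmix
      rw [h3, h1] at h2
      have : v * β 1 = 0 := by linear_combination -h2 / 2
      exact mul_ne_zero hv hβ.apply_one_ne_zero this
    · subst h
      rw [classInner_neg_left, hδ.classInner_self] at hmix
      have h3 : u = v := by
        apply (starRingEnd ℂ).injective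
        linear_combination hmix
      rw [h3, h1, Pi.neg_apply] at h2
      have : v * δ 1 = 0 := by linear_combination -h2 / 2
      exact mul_ne_zero hv hδ.apply_one_ne_zero this
    · rw [h] at hmix
      exact hu' (by linear_combination hmix)
  have key2 : ∀ {α β γ δ : G → ℂ}, IsDirr G α → IsDirr G β → IsDirr G γ → IsDirr G δ →
      ∀ {u v : ℂ}, u ≠ 0 → v ≠ 0 → classInner α β = 0 → classInner γ δ = 0 →
      classInner (α - β) (u • γ - v • δ) = 0 → α 1 = β 1 → u * γ 1 = v * δ 1 →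
      classInner α γ = 0 := by
    intro α β γ δ hα hβ hγ hδ u v hu hv hab hcd hmix h1 h2
    refine hα.classInner_eq_zero hγ (key hα hβ hγ hδ hu hv hab hcd hmix h1 h2) ?_
    refine key hα hβ hγ.neg hδ (neg_ne_zero.2 hu) hv hab (by rw [classInner_neg_left, hcd, neg_zero])
      (by simpa using hmix) h1 (by simpa using h2)
  have hba := classInner_eq_zero_comm.1 hab
  have hdc := classInner_eq_zero_comm.1 hcd
  refine ⟨key2 hα hβ hγ hδ hu hv hab hcd hmix h1 h2,
    key2 hα hβ hδ hγ hv hu hab hdc ?_ h1 h2.symm,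
    key2 hβ hα hγ hδ hu hv hba hcd ?_ h1.symm h2,
    key2 hβ hα hδ hγ hv hu hba hdc ?_ h1.symm h2.symm⟩
  · rw [← neg_sub (u • γ), classInner_neg_right, hmix, neg_zero]
  · rw [← neg_sub α, classInner_neg_left, hmix, neg_zero]
  · rw [← neg_sub α, ← neg_sub (u • γ), classInner_neg_left, classInner_neg_right, hmix, neg_zero,
      neg_zero]

end small

section extend

variable [Fintype G] [Fintype L]

/-- A family with the same Gram matrix as another is its image under a linear map. -/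
theorem exists_linear_of_gram {ι : Type*} (f : ι → L → ℂ) (g : ι → G → ℂ)
    (h : ∀ i j, classInner (g i) (g j) = classInner (f i) (f j)) :
    ∃ T : (L → ℂ) →ₗ[ℂ] (G → ℂ), ∀ i, T (f i) = g i := by
  let Γ : Submodule ℂ ((L → ℂ) × (G → ℂ)) := Submodule.span ℂ (Set.range fun i => (f i, g i))
  have h1 : ∀ x ∈ Γ, ∀ y ∈ Γ, classInner x.2 y.2 = classInner x.1 y.1 := by
    intro x hx y hy
    induction hx using Submodule.span_induction with
    | mem x hx =>
      obtain ⟨i, rfl⟩ := hx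
      induction hy using Submodule.span_induction with
      | mem y hy => obtain ⟨j, rfl⟩ := hy; exact h i j
      | zero => simp
      | add y z _ _ h1 h2 => simp only [Prod.snd_add, Prod.fst_add, classInner_add_right, h1, h2]
      | smul c y _ h1 => simp only [Prod.smul_snd, Prod.smul_fst, classInner_smul_right, h1]
    | zero => simp
    | add x z _ _ h1 h2 => simp only [Prod.snd_add, Prod.fst_add, classInner_add_left, h1, h2]
    | smul c x _ h1 => simp only [Prod.smul_snd, Prod.smul_fst, classInner_smul_left, h1]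
  obtain ⟨s, hs⟩ := LinearMap.exists_leftInverse_of_injective
    ((LinearMap.fst ℂ _ _).comp Γ.subtype) (by
      rw [LinearMap.ker_eq_bot']
      rintro ⟨x, hx⟩ h2
      have h3 : x.1 = 0 := h2
      have h4 := h1 x hx x hx
      rw [h3, classInner_zero_left, classInner_self_eq_zero] at h4
      exact Subtype.ext (Prod.ext h3 h4))
  refine ⟨(LinearMap.snd ℂ _ _).comp (Γ.subtype.comp s), fun i => ?_⟩
  have := LinearMap.congr_fun hs ⟨(f i, g i), Submodule.subset_span ⟨i, rfl⟩⟩
  simp only [LinearMap.comp_apply, Submodule.subtype_apply, LinearMap.fst_apply,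
    LinearMap.id_apply] at this
  simp [this]

theorem exists_linear_of_isometry (E : Set (L → ℂ)) (τ : (L → ℂ) → G → ℂ)
    (h : ∀ α ∈ E, ∀ β ∈ E, classInner (τ α) (τ β) = classInner α β) :
    ∃ T : (L → ℂ) →ₗ[ℂ] (G → ℂ), ∀ α ∈ E, T α = τ α := by
  obtain ⟨T, hT⟩ := exists_linear_of_gram (ι := E) (fun α => α.1) (fun α => τ α)
    fun α β => h α α.2 β β.2
  exact ⟨T, fun α hα => hT ⟨α, hα⟩⟩

theorem isometry_span {S S' : Set (L → ℂ)} {ν ν' : (L → ℂ) →ₗ[ℂ] (G → ℂ)}
    (h : ∀ χ ∈ S, ∀ ψ ∈ S', classInner (ν χ) (ν' ψ) = classInner χ ψ) {α β : L → ℂ}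
    (hα : α ∈ Submodule.span ℂ S) (hβ : β ∈ Submodule.span ℂ S') :
    classInner (ν α) (ν' β) = classInner α β := by
  induction hα using Submodule.span_induction with
  | mem x hx =>
    induction hβ using Submodule.span_induction with
    | mem y hy => exact h x hx y hy
    | zero => simp
    | add y z _ _ h1 h2 => simp only [map_add, classInner_add_right, h1, h2]
    | smul c y _ h1 => simp only [map_smul, classInner_smul_right, h1]
  | zero => simp
  | add x z _ _ h1 h2 => simp only [map_add, classInner_add_left, h1, h2]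
  | smul c x _ h1 => simp only [map_smul, classInner_smul_left, h1]

omit [Fintype G] [Fintype L] [Group L] in
theorem isGen_span {S : Set (L → ℂ)} {ν : (L → ℂ) →ₗ[ℂ] (G → ℂ)}
    (h : ∀ χ ∈ S, IsGeneralizedCharacter G (ν χ)) {α : L → ℂ} (hα : α ∈ Submodule.span ℤ S) :
    IsGeneralizedCharacter G (ν α) := by
  induction hα using Submodule.span_induction with
  | mem x hx => exact h x hx
  | zero => simpa using IsCharacter.zero.isGen
  | add x z _ _ h1 h2 => rw [map_add]; exact h1.add h2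
  | smul c x _ h1 => rw [map_zsmul]; exact h1.zsmul c

omit [Fintype L] in
theorem isGen_of_mem_span {S : Set (L → ℂ)} (h : ∀ χ ∈ S, IsGeneralizedCharacter L χ) {α : L → ℂ}
    (hα : α ∈ Submodule.span ℤ S) : IsGeneralizedCharacter L α :=
  isGen_span (ν := LinearMap.id) h hα

omit [Fintype L] in
theorem isClassFunction_of_mem_span {S : Set (L → ℂ)} (h : ∀ χ ∈ S, IsClassFunction L χ)
    {α : L → ℂ} (hα : α ∈ Submodule.span ℂ S) : IsClassFunction L α := by
  induction hα using Submodule.span_induction with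
  | mem x hx => exact h x hx
  | zero => exact IsClassFunction.zero
  | add x z _ _ h1 h2 => exact h1.add h2
  | smul c x _ h1 => exact h1.smul c

theorem mem_span_complex {X : Type*} {S : Set (X → ℂ)} {α : X → ℂ} (hα : α ∈ Submodule.span ℤ S) :
    α ∈ Submodule.span ℂ S := Submodule.span_subset_span ℤ ℂ S hα

theorem orth_span_left {S : Set (L → ℂ)} {β : L → ℂ} (h : ∀ χ ∈ S, classInner χ β = 0) {α : L → ℂ}
    (hα : α ∈ Submodule.span ℂ S) : classInner α β = 0 := by
  induction hα using Submodule.span_induction with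
  | mem x hx => exact h x hx
  | zero => simp
  | add x z _ _ h1 h2 => simp only [classInner_add_left, h1, h2, add_zero]
  | smul c x _ h1 => simp only [classInner_smul_left, h1, mul_zero]

theorem orth_map_span_left {X : Type*} {S : Set (X → ℂ)} {ν : (X → ℂ) →ₗ[ℂ] (G → ℂ)} {β : G → ℂ}
    (h : ∀ χ ∈ S, classInner (ν χ) β = 0) {α : X → ℂ}
    (hα : α ∈ Submodule.span ℂ S) : classInner (ν α) β = 0 := by
  induction hα using Submodule.span_induction with
  | mem x hx => exact h x hx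
  | zero => simp
  | add x z _ _ h1 h2 => simp only [map_add, classInner_add_left, h1, h2, add_zero]
  | smul c x _ h1 => simp only [map_smul, classInner_smul_left, h1, mul_zero]

end extend

theorem mem_zspanOn_one {S : Set (L → ℂ)} {α : L → ℂ} :
    α ∈ zspanOn S {1}ᶜ ↔ α ∈ Submodule.span ℤ S ∧ α 1 = 0 := by
  simp [zspanOn, zspan]

theorem mem_zspan {X : Type*} {S : Set (X → ℂ)} {α : X → ℂ} :
    α ∈ zspan S ↔ α ∈ Submodule.span ℤ S := Iff.rfl

theorem conjFun_apply {X : Type*} (χ : X → ℂ) (x : X) : conjFun χ x = conj (χ x) := rfl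

@[simp] theorem conjFun_conjFun {X : Type*} (χ : X → ℂ) : conjFun (conjFun χ) = χ := by
  ext x; simp [conjFun]

theorem conjFun_eq {X : Type*} (χ : X → ℂ) : conjFun χ = fun x => conj (χ x) := rfl

end Cfsg.Agent.Char
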