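import Cfsg.Agent.Lib.Char.TIFrob
import Cfsg.Agent.Lib.Perm.Count
import Cfsg.Agent.Lib.Solv.Frob2
import Cfsg.Agent.Lib.Transfer.Count
import Cfsg.Prelude.Def_LieExceptional

/-!
Zassenhaus groups: the group-theoretic part.
-/

set_option autoImplicit false
set_option linter.unusedSectionVars false

namespace Cfsg.Agent.Zass

open MulAction Subgroup Cfsg.Agent.Perm Cfsg.Agent.Char

variable {G Ω : Type*} [Group G] [MulAction G Ω]

/-- The stabiliser of two points. -/
abbrev E (G : Type*) {Ω : Type*} [Group G] [MulAction G Ω] (a b : Ω) : Subgroup G :=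
  stabilizer G a ⊓ stabilizer G b

theorem mem_E {a b : Ω} {g : G} : g ∈ E G a b ↔ g • a = a ∧ g • b = b := Iff.rfl

theorem conj_smul_iff {g x : G} {c : Ω} : (g * x * g⁻¹) • c = c ↔ x • g⁻¹ • c = g⁻¹ • c := by
  rw [mul_smul, mul_smul, ← eq_inv_smul_iff]

theorem conj_smul_smul (g x : G) (c : Ω) : (g * x * g⁻¹) • g • c = g • x • c := by
  rw [mul_smul, mul_smul, inv_smul_smul]

section basic

variable (hZ : IsZassenhausGroup G Ω) {a b c d : Ω}
include hZ

theorem two (hab : a ≠ b) (hcd : c ≠ d) : ∃ g : G, g • a = c ∧ g • b = d :=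
  two_trans_iff.1 hZ.2.1 a b c d hab hcd

theorem fix_cases {g : G} (h1 : g ≠ 1) (hab : a ≠ b) (ha : g • a = a) (hb : g • b = b)
    (hc : g • c = c) : c = a ∨ c = b := by
  by_contra! h
  exact h1 (hZ.2.2.1 g a b c hab h.2.symm h.1.symm ha hb hc)

theorem exists_mem_E (hab : a ≠ b) : ∃ x ∈ E G a b, x ≠ 1 := by
  obtain ⟨g, h1, c, d, hcd, hc, hd⟩ := hZ.2.2.2.1
  obtain ⟨k, rfl, rfl⟩ := two hZ hcd hab
  exact ⟨k * g * k⁻¹, mem_E.2 ⟨by rw [conj_smul_smul, hc], by rw [conj_smul_smul, hd]⟩,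
    by simpa using h1⟩

theorem exists_ne' (a : Ω) : ∃ b, a ≠ b := by
  obtain ⟨-, -, c, d, hcd, -⟩ := hZ.2.2.2.1
  by_cases h : a = c
  · exact ⟨d, h ▸ hcd⟩
  · exact ⟨c, h⟩

theorem pretrans : IsPretransitive G Ω := ⟨fun a c => by
  obtain ⟨b, hb⟩ := exists_ne' hZ a
  obtain ⟨d, hd⟩ := exists_ne' hZ c
  exact (two hZ hb hd).imp fun _ h => h.1⟩

theorem exists_third (hab : a ≠ b) : ∃ c, c ≠ a ∧ c ≠ b := by
  obtain ⟨x, hx, h1⟩ := exists_mem_E hZ hab
  have := hZ.1
  by_contra! h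
  refine h1 (eq_one_of_smul_eq (α := Ω) fun c => ?_)
  by_cases e : c = a
  · exact e ▸ hx.1
  · exact h c e ▸ hx.2

theorem pair_of_conj {x g : G} (hab : a ≠ b) (hx : x ∈ E G a b) (h1 : x ≠ 1)
    (h : g * x * g⁻¹ ∈ E G a b) : (g • a = a ∧ g • b = b) ∨ (g • a = b ∧ g • b = a) := by
  have h2 : g * x * g⁻¹ ≠ 1 := by simpa using h1
  have ha := fix_cases hZ h2 hab h.1 h.2 (c := g • a) (by rw [conj_smul_smul, hx.1])
  have hb := fix_cases hZ h2 hab h.1 h.2 (c := g • b) (by rw [conj_smul_smul, hx.2])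
  have : g • a ≠ g • b := (MulAction.injective g).ne hab
  rcases ha with ha | ha <;> rcases hb with hb | hb
  · exact (this (ha.trans hb.symm)).elim
  · exact Or.inl ⟨ha, hb⟩
  · exact Or.inr ⟨ha, hb⟩
  · exact (this (ha.trans hb.symm)).elim

theorem mem_normalizer_E (hab : a ≠ b) {g : G} : g ∈ normalizer (E G a b : Set G) ↔
    (g • a = a ∧ g • b = b) ∨ (g • a = b ∧ g • b = a) := by
  constructor
  · intro h
    obtain ⟨x, hx, h1⟩ := exists_mem_E hZ hab
    exact pair_of_conj hZ hab hx h1 ((mem_normalizer_iff.1 h x).1 hx)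
  · rintro (h | ⟨h1, h2⟩)
    · exact le_normalizer (mem_E.2 h)
    · refine mem_normalizer_iff.2 fun x => ?_
      rw [mem_E, mem_E, conj_smul_iff, conj_smul_iff, inv_smul_eq_iff.2 h1.symm,
        inv_smul_eq_iff.2 h2.symm, and_comm]

theorem centralizer_le_normalizer_E (hab : a ≠ b) {x : G} (hx : x ∈ E G a b) (h1 : x ≠ 1) :
    centralizer {x} ≤ normalizer (E G a b : Set G) := fun g hg =>
  (mem_normalizer_E hZ hab).2 (pair_of_conj hZ hab hx h1 (by
    rwa [mem_centralizer_singleton_iff.1 hg, mul_inv_cancel_right]))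

theorem relIndex_normalizer_E (hab : a ≠ b) :
    ((E G a b).subgroupOf (normalizer (E G a b : Set G))).index = 2 := by
  obtain ⟨s, h1, h2⟩ := two hZ hab hab.symm
  refine index_eq_two_iff.2 ⟨⟨s, (mem_normalizer_E hZ hab).2 (Or.inr ⟨h1, h2⟩)⟩, fun g => ?_⟩
  simp only [mem_subgroupOf, coe_mul, mem_E, mul_smul, h1, h2]
  rcases (mem_normalizer_E hZ hab).1 g.2 with ⟨h3, h4⟩ | ⟨h3, h4⟩
  · exact Or.inr ⟨⟨h3, h4⟩, fun h => hab (h.1.symm.trans h4)⟩
  · exact Or.inl ⟨⟨h4, h3⟩, fun h => hab (h.1.symm.trans h3)⟩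

theorem card_normalizer_E (hab : a ≠ b) :
    Nat.card (normalizer (E G a b : Set G)) = 2 * Nat.card (E G a b) := by
  rw [← relIndex_normalizer_E hZ hab, ← Nat.card_congr (subgroupOfEquivOfLe
    (le_normalizer (H := E G a b))).toEquiv, index_mul_card]

theorem card_swap (hab : a ≠ b) (hcd : c ≠ d) :
    Nat.card {g : G // g • a = c ∧ g • b = d} = Nat.card (E G a b) := by
  obtain ⟨s, h1, h2⟩ := two hZ hab hcd
  refine Nat.card_congr ⟨fun g => ⟨s⁻¹ * g, mem_E.2 ⟨?_, ?_⟩⟩, fun x => ⟨s * x, ?_, ?_⟩,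
    fun g => by simp, fun x => by simp⟩
  · rw [mul_smul, g.2.1, inv_smul_eq_iff, h1]
  · rw [mul_smul, g.2.2, inv_smul_eq_iff, h2]
  · rw [mul_smul, x.2.1, h1]
  · rw [mul_smul, x.2.2, h2]

theorem card_E_eq (hab : a ≠ b) (hcd : c ≠ d) : Nat.card (E G c d) = Nat.card (E G a b) := by
  obtain ⟨s, rfl, rfl⟩ := two hZ hab hcd
  refine Nat.card_congr ⟨fun g => ⟨s⁻¹ * g * s, mem_E.2 ⟨mem_stab_smul.1 g.2.1, mem_stab_smul.1 g.2.2⟩⟩,
    fun x => ⟨s * x * s⁻¹, mem_E.2 ⟨by rw [conj_smul_smul, x.2.1], by rw [conj_smul_smul, x.2.2]⟩⟩,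
    fun g => by simp [mul_assoc], fun x => by simp [mul_assoc]⟩

variable [Finite Ω]

theorem finite : Finite G :=
  haveI := hZ.1
  Finite.of_injective _ (MulAction.toPerm_injective (α := G) (β := Ω))

theorem one_lt_card_E (hab : a ≠ b) : 1 < Nat.card (E G a b) := by
  have := finite hZ
  obtain ⟨x, hx, h1⟩ := exists_mem_E hZ hab
  exact one_lt_card_iff_ne_bot _ |>.2 fun e => h1 (mem_bot.1 (e ▸ hx))

theorem card_stab (hab : a ≠ b) :
    Nat.card (stabilizer G a) = (Nat.card Ω - 1) * Nat.card (E G a b) := by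
  have h1 : orbit (stabilizer G a) b = {a}ᶜ := by
    ext c
    constructor
    · rintro ⟨g, rfl⟩ h
      exact hab (MulAction.injective (g : G) (g.2.trans h.symm))
    · intro h
      obtain ⟨g, h1, h2⟩ := two hZ hab (Ne.symm h)
      exact ⟨⟨g, h1⟩, h2⟩
  rw [← card_orbit_mul_stab (G := stabilizer G a) b, h1, Nat.card_coe_set_eq, Set.ncard_compl,
    Set.ncard_singleton]
  congr 1
  exact Nat.card_congr ⟨fun g => ⟨g.1, g.1.2, g.2⟩, fun g => ⟨⟨g, g.2.1⟩, g.2.2⟩, fun _ => rfl,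
    fun _ => rfl⟩

theorem card_G (hab : a ≠ b) :
    Nat.card G = Nat.card Ω * ((Nat.card Ω - 1) * Nat.card (E G a b)) := by
  have := pretrans hZ
  rw [card_eq_mul_stab a, card_stab hZ hab]

theorem index_stab (a : Ω) : (stabilizer G a).index = Nat.card Ω := by
  have := pretrans hZ
  rw [← card_orbit_eq_index, orbit_eq_univ, Nat.card_coe_set_eq, Set.ncard_univ]

theorem card_E_dvd (hab : a ≠ b) : Nat.card (E G a b) ∣ Nat.card Ω - 2 := by
  have := card_dvd_ncard_of_semiregular (G := E G a b) (S := ({a, b} : Set Ω)ᶜ) (Set.toFinite _)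
    (fun g x hx h => hx (by
      rcases h with h | h
      · exact Or.inl (MulAction.injective (g : G) (h.trans g.2.1.symm))
      · exact Or.inr (MulAction.injective (g : G) (h.trans g.2.2.symm))))
    (fun x hx g h => by
      by_contra h1
      exact hx (fix_cases hZ (fun e => h1 (Subtype.ext e)) hab g.2.1 g.2.2 h))
  rwa [Set.ncard_compl, Set.ncard_pair hab] at this

theorem three_le_card : 3 ≤ Nat.card Ω := by
  obtain ⟨-, -, a, b, hab, -⟩ := hZ.2.2.2.1
  obtain ⟨c, h1, h2⟩ := exists_third hZ hab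
  simpa using Nat.card_le_card_of_injective _ (inj3 hab h1.symm h2.symm)

theorem card_E_le (hab : a ≠ b) : Nat.card (E G a b) + 2 ≤ Nat.card Ω := by
  have := three_le_card hZ
  have := Nat.le_of_dvd (by omega) (card_E_dvd hZ hab)
  omega

theorem even_card : Even (Nat.card G) := by
  obtain ⟨-, -, a, b, hab, -⟩ := hZ.2.2.2.1
  rw [card_G hZ hab, ← mul_assoc]
  exact (Nat.even_mul_pred_self _).mul_right _

theorem ncard_fixedBy_le {g : G} (h1 : g ≠ 1) : Nat.card (fixedBy Ω g) ≤ 2 := by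
  by_contra h
  rw [not_le, Nat.card_coe_set_eq, Set.two_lt_ncard_iff] at h
  obtain ⟨a, b, c, ha, hb, hc, hab, hac, hbc⟩ := h
  exact h1 (hZ.2.2.1 g a b c hab hbc hac ha hb hc)

omit [Finite Ω] in
theorem exists_conj_swap (hab : a ≠ b) {t : G} (ht : orderOf t = 2) :
    ∃ g : G, (g * t * g⁻¹) • a = b ∧ (g * t * g⁻¹) • b = a := by
  have := hZ.1
  have ht1 : t ≠ 1 := by rintro rfl; simp at ht
  obtain ⟨x, hx⟩ : ∃ x : Ω, t • x ≠ x := by
    by_contra! h
    exact ht1 (eq_one_of_smul_eq h)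
  have ht2 : t • t • x = x := by rw [← mul_smul, ← sq, ← ht, pow_orderOf_eq_one, one_smul]
  obtain ⟨g, rfl, rfl⟩ := two hZ hx.symm hab
  exact ⟨g, conj_smul_smul _ _ _, by rw [conj_smul_smul, ht2]⟩

theorem exists_swap (hab : a ≠ b) : ∃ s : G, orderOf s = 2 ∧ s • a = b ∧ s • b = a := by
  have := finite hZ
  obtain ⟨t, ht⟩ := exists_prime_orderOf_dvd_card' 2 (even_card hZ).two_dvd
  obtain ⟨g, hg⟩ := exists_conj_swap hZ hab ht
  exact ⟨_, ((MulAut.conj g).orderOf_eq t).trans ht, hg⟩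

open Classical in
theorem card_moving [Fintype G] (hab : a ≠ b) (c : Ω) :
    (Finset.univ.filter fun g : G => g • c ≠ c ∧ g • g • c = c).card =
      (Nat.card Ω - 1) * Nat.card (E G a b) := by
  have := Fintype.ofFinite Ω
  rw [Finset.card_eq_sum_card_fiberwise (f := fun g : G => g • c) (t := Finset.univ.erase c)
    (fun g hg => by simpa using (Finset.mem_filter.1 hg).2.1)]
  refine (Finset.sum_congr rfl (g := fun _ => Nat.card (E G a b)) fun d hd => ?_).trans (by
    rw [Finset.sum_const, Finset.card_erase_of_mem (Finset.mem_univ _), Finset.card_univ,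
      ← Nat.card_eq_fintype_card, smul_eq_mul])
  have h1 := (Finset.mem_erase.1 hd).1
  rw [← card_E_eq hZ hab h1.symm, ← card_swap hZ h1.symm h1, Nat.card_eq_fintype_card,
    Fintype.card_subtype, Finset.filter_filter]
  exact congrArg _ (Finset.filter_congr fun g _ =>
    ⟨fun h => ⟨h.2, h.2 ▸ h.1.2⟩, fun h => ⟨⟨h.1 ▸ h1, h.1 ▸ h.2⟩, h.1⟩⟩)

theorem le_two_mul_of_even (hab : a ≠ b) (he : Even (Nat.card (E G a b))) :
    Nat.card Ω - 2 ≤ 2 * Nat.card (E G a b) := by
  classical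
  have := finite hZ
  have := Fintype.ofFinite G
  have := Fintype.ofFinite Ω
  obtain ⟨⟨t, ht⟩, h2⟩ := exists_prime_orderOf_dvd_card' 2 he.two_dvd
  rw [← orderOf_coe] at h2
  have ht1 : t ≠ 1 := by rintro rfl; simp at h2
  let X := Finset.univ.filter fun x : G => IsConj t x
  have h3 : Nat.card G ≤ X.card * (2 * Nat.card (E G a b)) := by
    rw [← card_normalizer_E hZ hab, ← (centralizer {t}).index_mul_card, ← card_isConj_eq_index,
      Nat.card_eq_fintype_card, Fintype.card_subtype]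
    exact Nat.mul_le_mul_left _ (card_le_of_le (centralizer_le_normalizer_E hZ hab ht ht1))
  have h4 : ∑ x ∈ X, (Finset.univ.filter fun c : Ω => x • c ≠ c).card =
      ∑ c : Ω, (X.filter fun x => x • c ≠ c).card := by
    simp only [Finset.card_filter]
    exact Finset.sum_comm
  have h5 : ∀ x ∈ X, orderOf x = 2 := fun x hx => by
    obtain ⟨g, rfl⟩ := isConj_iff.1 (Finset.mem_filter.1 hx).2
    exact ((MulAut.conj g).orderOf_eq t).trans h2
  have h6 := Finset.card_nsmul_le_sum X (fun x => (Finset.univ.filter fun c : Ω => x • c ≠ c).card)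
    (Nat.card Ω - 2) fun x hx => by
      have h6 := ncard_fixedBy_le hZ (g := x) (by rintro rfl; simpa using h5 _ hx)
      have h7 := Finset.card_filter_add_card_filter_not (s := Finset.univ) fun c : Ω => x • c = c
      rw [Nat.card_eq_fintype_card, Fintype.card_subtype] at h6
      rw [Finset.card_univ, ← Nat.card_eq_fintype_card] at h7
      change (Finset.univ.filter fun c : Ω => x • c = c).card ≤ 2 at h6
      simp only [ne_eq]
      omega
  have h7 := Finset.sum_le_card_nsmul Finset.univ (fun c : Ω => (X.filter fun x => x • c ≠ c).card)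
    ((Nat.card Ω - 1) * Nat.card (E G a b)) fun c _ => by
      rw [← card_moving hZ hab c]
      refine Finset.card_le_card fun x hx => ?_
      rw [Finset.mem_filter] at hx ⊢
      exact ⟨Finset.mem_univ _, hx.2, by
        rw [← mul_smul, ← sq, ← h5 x hx.1, pow_orderOf_eq_one, one_smul]⟩
  rw [Finset.card_univ, ← Nat.card_eq_fintype_card, smul_eq_mul, ← card_G hZ hab, ← h4] at h7
  rw [smul_eq_mul] at h6
  have h8 : 0 < X.card := Finset.card_pos.2 ⟨t, Finset.mem_filter.2 ⟨Finset.mem_univ _, IsConj.refl t⟩⟩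
  exact Nat.le_of_mul_le_mul_left ((h6.trans h7).trans h3) h8

end basic

/-- `H` is the Frobenius kernel of the stabiliser of `a`. -/
structure ZK (G : Type*) {Ω : Type*} [Group G] [MulAction G Ω] (a : Ω) (H : Subgroup G) : Prop where
  hZ : IsZassenhausGroup G Ω
  le : H ≤ stabilizer G a
  card : Nat.card H + 1 = Nat.card Ω
  fix : ∀ u ∈ H, u ≠ 1 → ∀ c : Ω, u • c = c → c = a

theorem exists_ZK [Finite Ω] (hZ : IsZassenhausGroup G Ω) (a : Ω) : ∃ H, ZK G a H := by
  have := finite hZ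
  obtain ⟨b, hab⟩ := exists_ne' hZ a
  obtain ⟨M, -, h1, h2⟩ := frobenius_normal_complement
    (H := (E G a b).subgroupOf (stabilizer G a)) fun g hg x hx h => by
      by_contra h1
      rcases pair_of_conj hZ hab hx (fun e => h1 (Subtype.ext e)) h with h2 | h2
      · exact hg h2
      · exact hab (g.2.symm.trans h2.1)
  refine ⟨M.map (stabilizer G a).subtype, hZ, map_subtype_le _, ?_, ?_⟩
  · have h3 := h2.card_mul
    rw [card_stab hZ hab, Nat.card_congr (subgroupOfEquivOfLe inf_le_left).toEquiv,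
      Nat.mul_left_inj Nat.card_pos.ne'] at h3
    have := three_le_card hZ
    rw [card_map_of_injective (subtype_injective _)]
    omega
  · rintro _ ⟨u, hu, rfl⟩ hu1 c hc
    by_contra h
    obtain ⟨g, h3, h4⟩ := two hZ (Ne.symm h) hab
    refine ((h1 u).1 hu).elim (fun e => hu1 (by simp [e])) fun h5 => h5 ⟨g, h3⟩ ⟨?_, ?_⟩
    · exact (⟨g, h3⟩ * u * ⟨g, h3⟩⁻¹ : stabilizer G a).2
    · exact h4 ▸ (conj_smul_smul g u c).trans (congrArg (g • ·) hc)

namespace ZK

variable [Finite Ω] {a b : Ω} {H : Subgroup G} (h : ZK G a H)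
include h

theorem exists_fix {g : G} (hg : g ∈ stabilizer G a) (hgH : g ∉ H) : ∃ c, c ≠ a ∧ g • c = c := by
  have := finite h.hZ
  have h0 : ∀ c (hc : c ≠ a), Function.Bijective fun u : H =>
      (⟨(u : G) • c, fun e => hc (MulAction.injective (u : G) (e.trans (h.le u.2).symm))⟩ :
        {d // d ≠ a}) := fun c hc => by
    refine (Nat.bijective_iff_injective_and_card _).2 ⟨fun u v e => ?_, ?_⟩
    · by_contra h1
      exact hc (h.fix _ (v⁻¹ * u).2 (fun e => h1 (inv_mul_eq_one.1 (Subtype.ext e)).symm) c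
        (by rw [coe_mul, coe_inv, mul_smul, inv_smul_eq_iff]; exact congrArg Subtype.val e))
    · have := h.card
      rw [show Nat.card {d // d ≠ a} = Nat.card ({a}ᶜ : Set Ω) from rfl, Nat.card_coe_set_eq,
        Set.ncard_compl, Set.ncard_singleton]
      omega
  have h1 : ∀ c : {d // d ≠ a}, ∃ u : H, (u : G) • (c : Ω) = g • (c : Ω) := fun c => by
    obtain ⟨u, hu⟩ := (h0 c c.2).2 ⟨g • c, fun e => c.2 (MulAction.injective g (e.trans hg.symm))⟩
    exact ⟨u, congrArg Subtype.val hu⟩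
  choose u hu using h1
  obtain ⟨b, hb⟩ := exists_ne' h.hZ a
  have h2 : Function.Bijective u := by
    refine (Nat.bijective_iff_injective_and_card _).2
      ⟨fun c d e => ?_, (Nat.card_eq_of_bijective _ (h0 b hb.symm)).symm⟩
    by_contra h2
    have h3 : ∀ c, (g⁻¹ * u c) • (c : Ω) = c := fun c => by rw [mul_smul, hu, inv_smul_smul]
    refine hgH ((inv_mul_eq_one.1 (h.hZ.2.2.1 (g⁻¹ * u c) a c d c.2.symm
      (fun e => h2 (Subtype.ext e)) d.2.symm ?_ (h3 c) (e ▸ h3 d))) ▸ (u c).2)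
    exact (stabilizer G a).mul_mem ((stabilizer G a).inv_mem hg) (h.le (u c).2)
  obtain ⟨c, hc⟩ := h2.2 1
  exact ⟨c, c.2, by rw [← hu c, hc]; simp⟩

theorem conj_mem {g u : G} (hg : g ∈ stabilizer G a) (hu : u ∈ H) : g * u * g⁻¹ ∈ H := by
  by_contra h1
  obtain ⟨c, h2, h3⟩ := h.exists_fix ((stabilizer G a).mul_mem
    ((stabilizer G a).mul_mem hg (h.le hu)) ((stabilizer G a).inv_mem hg)) h1
  have := h.fix u hu (by rintro rfl; simp at h1) _ (conj_smul_iff.1 h3)
  exact h2 (by rw [inv_smul_eq_iff.1 this, hg])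

theorem mem_stab_of_conj {g u : G} (hu : u ∈ H) (h1 : u ≠ 1) (h2 : g * u * g⁻¹ ∈ stabilizer G a) :
    g ∈ stabilizer G a :=
  (inv_smul_eq_iff.1 (h.fix u hu h1 _ (conj_smul_iff.1 h2))).symm

theorem ne_bot : H ≠ ⊥ := fun e => by
  have := h.card
  have := three_le_card h.hZ
  rw [e, card_bot] at *
  omega

theorem normalizer_eq : normalizer (H : Set G) = stabilizer G a := by
  have := finite h.hZ
  refine le_antisymm (fun g hg => ?_) fun g hg => mem_normalizer_fintype fun u => h.conj_mem hg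
  obtain ⟨⟨u, hu⟩, h1⟩ := ne_bot_iff_exists_ne_one.1 h.ne_bot
  exact h.mem_stab_of_conj hu (fun e => h1 (Subtype.ext e)) (h.le ((mem_normalizer_iff.1 hg u).1 hu))

theorem normal : (H.subgroupOf (stabilizer G a)).Normal := ⟨fun _ hu g => h.conj_mem g.2 hu⟩

theorem centralizer_le (u : G) (hu : u ∈ H) (h1 : u ≠ 1) : centralizer {u} ≤ H := fun g hg => by
  have h2 := mem_centralizer_singleton_iff.1 hg
  have h3 := h.mem_stab_of_conj hu h1 (g := g) (by rw [h2, mul_inv_cancel_right]; exact h.le hu)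
  by_contra h4
  obtain ⟨c, h5, h6⟩ := h.exists_fix h3 h4
  rcases fix_cases h.hZ (by rintro rfl; exact h4 H.one_mem) h5.symm h3 h6 (c := u • c)
    (by rw [← mul_smul, h2, mul_smul, h6]) with e | e
  · exact h5 (MulAction.injective u (e.trans (h.le hu).symm))
  · exact h5 (h.fix u hu h1 c e)

theorem frob : FrobMod (H.subgroupOf (stabilizer G a)) (H.subgroupOf (stabilizer G a)) ⊥ :=
  frobMod_subgroupOf _ h.centralizer_le

theorem card_sub : Nat.card (H.subgroupOf (stabilizer G a)) = Nat.card H :=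
  Nat.card_congr (subgroupOfEquivOfLe h.le).toEquiv

theorem index (hab : a ≠ b) : (H.subgroupOf (stabilizer G a)).index = Nat.card (E G a b) := by
  have := finite h.hZ
  have h1 := (H.subgroupOf (stabilizer G a)).card_mul_index
  rwa [h.card_sub, card_stab h.hZ hab, ← h.card, Nat.add_sub_cancel,
    Nat.mul_right_inj Nat.card_pos.ne'] at h1

theorem ne_top : H.subgroupOf (stabilizer G a) ≠ ⊤ := fun e => by
  obtain ⟨b, hab⟩ := exists_ne' h.hZ a
  have := h.index hab
  rw [e, index_top] at this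
  exact (one_lt_card_E h.hZ hab).ne this

theorem lt : H < stabilizer G a := lt_of_le_not_ge h.le fun e => h.ne_top (subgroupOf_eq_top.2 e)

theorem nilpotent : Group.IsNilpotent H := by
  have := finite h.hZ
  have := Fintype.ofFinite (stabilizer G a)
  have := h.normal
  have := h.frob.isNilpotent h.ne_top
  exact Group.nilpotent_of_mulEquiv (subgroupOfEquivOfLe h.le)

theorem fpf (hab : a ≠ b) (x : G) (hx : x ∈ E G a b) (h1 : x ≠ 1) : H ⊓ centralizer {x} = ⊥ := by
  refine eq_bot_iff.2 fun u hu => ?_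
  by_contra h2
  exact hab (h.fix x (h.centralizer_le u hu.1 h2 (mem_centralizer_singleton_iff.2
    (mem_centralizer_singleton_iff.1 hu.2).symm)) h1 b hx.2).symm

theorem elementary (hab : a ≠ b) (hle : Nat.card Ω - 2 ≤ 2 * Nat.card (E G a b)) :
    ∃ p : ℕ, p.Prime ∧ IsElementaryAbelian p H := by
  have := finite h.hZ
  have := h.normal
  have hnil := h.nilpotent
  have hnil' : Group.IsNilpotent (H.subgroupOf (stabilizer G a)) :=
    Group.nilpotent_of_mulEquiv (subgroupOfEquivOfLe h.le).symm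
  have h0 : H.subgroupOf (stabilizer G a) ≠ ⊥ := fun e => h.ne_bot (by
    rw [← card_eq_one, ← h.card_sub, e, card_bot])
  obtain ⟨h2, p, hp, h3⟩ := Solv.minimal_normal_elementary (H.subgroupOf (stabilizer G a))
    inferInstance h0 fun M hM hMK => by
      by_contra! h4
      have h5 := h.frob.succ_le (bot_lt_iff_ne_bot.2 h4.1) hMK
      have h6 := h.frob.succ_le (lt_of_le_of_ne hMK h4.2) le_rfl
      have h7 := relIndex_mul_relIndex ⊥ M _ bot_le hMK
      rw [relIndex_bot_left (H.subgroupOf _), h.card_sub] at h7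
      rw [h.index hab] at h5 h6
      have := h.card
      have := one_lt_card_E h.hZ hab
      have : Nat.card H ≤ 2 * Nat.card (E G a b) + 1 := by omega
      nlinarith [Nat.mul_le_mul h5 h6]
  exact ⟨p, hp, isElementaryAbelian_of_subgroupOf h.le ⟨h2, h3⟩⟩

end ZK

end Cfsg.Agent.Zass
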