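import Cfsg.Agent.Lib.Char.Zass

/-!
Zassenhaus groups: normal subgroups, two-point stabilisers of odd order, involutions.
-/

set_option autoImplicit false
set_option linter.unusedSectionVars false

namespace Cfsg.Agent.Zass

open MulAction Subgroup Cfsg.Agent.Perm Cfsg.Agent.Char
open scoped commutatorElement

variable {G Ω : Type*} [Group G] [MulAction G Ω] [Finite Ω] {a b : Ω}

theorem ZK.trans {H : Subgroup G} (h : ZK G a H) {c d : Ω} (hc : c ≠ a) (hd : d ≠ a) :
    ∃ u ∈ H, u • c = d := by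
  obtain ⟨g, h1, h2⟩ := two h.hZ hc.symm hd.symm
  obtain ⟨x, hx, hx1⟩ := exists_mem_E h.hZ hc.symm
  have := finite h.hZ
  have h3 : x ∉ H := fun e => hc (h.fix x e hx1 c hx.2)
  by_contra! h4
  have h5 : Function.Injective fun u : H =>
      (⟨(u : G) • c, by
        rintro (e | e)
        · exact hc (MulAction.injective (u : G) (e.trans (h.le u.2).symm))
        · exact h4 u u.2 e⟩ : ({a, d}ᶜ : Set Ω)) := fun u v e => by
    by_contra h1
    exact hc (h.fix _ (v⁻¹ * u).2 (fun e => h1 (inv_mul_eq_one.1 (Subtype.ext e)).symm) c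
      (by rw [coe_mul, coe_inv, mul_smul, inv_smul_eq_iff]; exact congrArg Subtype.val e))
  have h6 := Nat.card_le_card_of_injective _ h5
  rw [Nat.card_coe_set_eq, Set.ncard_compl, Set.ncard_pair hd.symm, ← h.card] at h6
  have := Nat.card_pos (α := H)
  omega

theorem ZK.le_of_normal {H : Subgroup G} (h : ZK G a H) {N : Subgroup G} [hN : N.Normal] {x : G}
    (hx : x ∈ N) (ha : x ∈ stabilizer G a) (hxH : x ∉ H) : H ≤ N := fun u hu => by
  have := finite h.hZ
  obtain ⟨c, h1, h2⟩ := h.exists_fix ha hxH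
  obtain ⟨y, -, e⟩ := Solv.exists_conj_eq_mul_of_fpf (h.normalizer_eq ▸ ha)
    (h.fpf h1.symm x ⟨ha, h2⟩ (by rintro rfl; exact hxH H.one_mem)) hu
  exact (N.mul_mem_cancel_right hx).1 (e ▸ hN.conj_mem x hx y)

section

variable (hZ : IsZassenhausGroup G Ω)
include hZ

theorem normal_trans (N : Subgroup G) [N.Normal] (h0 : N ≠ ⊥) : IsPretransitive N Ω :=
  haveI := hZ.1
  haveI := isPreprimitive_of_is_two_pretransitive hZ.2.1
  normal_trans_of_prim N h0

theorem exists_not_mem_of_normal {H : Subgroup G} (h : ZK G a H) (N : Subgroup G) [hN : N.Normal]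
    (h0 : N ≠ ⊥) : ∃ x ∈ N, x ∈ stabilizer G a ∧ x ∉ H := by
  have := finite hZ
  have htr := normal_trans hZ N h0
  by_contra! h1
  obtain ⟨M, -, h2, h3⟩ := frobenius_normal_complement (H := stabilizer N a) fun g hg x hx e => by
    by_contra h2
    exact hg (h.mem_stab_of_conj (h1 x x.2 hx) (fun e => h2 (Subtype.ext e)) e)
  have h4 : ∀ x, x ∈ M.map N.subtype ↔ x ∈ N ∧ (x = 1 ∨ ∀ c : Ω, x • c ≠ c) := fun x => by
    constructor
    · rintro ⟨y, hy, rfl⟩
      refine ⟨y.2, ((h2 y).1 hy).imp (fun e => by simp [e]) fun e c hc => ?_⟩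
      obtain ⟨g, rfl⟩ := htr.1 c a
      exact e g ((conj_smul_smul (g : G) y c).trans (congrArg ((g : G) • ·) hc))
    · rintro ⟨hx, e⟩
      exact ⟨⟨x, hx⟩, (h2 _).2 (e.imp (fun e => Subtype.ext e) fun e g hg =>
        e _ (conj_smul_iff (G := G).1 hg)), rfl⟩
  obtain ⟨c, hc⟩ := hZ.2.2.2.2 (M.map N.subtype) ⟨fun x hx g => (h4 _).2 ⟨hN.conj_mem x ((h4 x).1 hx).1 g,
    ((h4 x).1 hx).2.imp (fun e => by simp [e]) fun e c hc => e _ (conj_smul_iff.1 hc)⟩⟩ (by
      refine IsPretransitive.of_orbit (x₀ := a) fun c => ?_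
      obtain ⟨g, rfl⟩ := htr.1 a c
      obtain ⟨⟨m, k⟩, rfl⟩ := h3.2 g
      exact ⟨⟨m, m, m.2, rfl⟩, by
        change ((m : N) : G) • a = (((m : N) : G) * (k : N)) • a
        rw [mul_smul]; exact congrArg _ k.2.symm⟩)
  exact hc (eq_bot_iff.2 fun x hx => Subtype.ext (((h4 x).1 x.2).2.resolve_right fun e => e c hx))

theorem normal_zass (N : Subgroup G) [hN : N.Normal] (h0 : N ≠ ⊥) : IsZassenhausGroup N Ω := by
  have := finite hZ
  have := hZ.1
  have htr := normal_trans hZ N h0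
  obtain ⟨-, -, a, -, -⟩ := hZ.2.2.2.1
  obtain ⟨H, h⟩ := exists_ZK hZ a
  obtain ⟨x, hx, ha, hxH⟩ := exists_not_mem_of_normal hZ h N h0
  have hH := h.le_of_normal hx ha hxH
  have h2 : IsMultiplyPretransitive N Ω 2 := two_trans_of_stab a fun c d hc hd => by
    obtain ⟨u, hu, e⟩ := h.trans hc hd
    exact ⟨⟨u, hH hu⟩, h.le hu, e⟩
  refine ⟨inferInstance, h2, fun g a b c h1 h2 h3 h4 h5 h6 =>
    Subtype.ext (hZ.2.2.1 g a b c h1 h2 h3 h4 h5 h6), ?_, fun R hR hRt => ?_⟩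
  · obtain ⟨c, h3, h4⟩ := h.exists_fix ha hxH
    exact ⟨⟨x, hx⟩, fun e => hxH ((show x = 1 from congrArg Subtype.val e) ▸ H.one_mem), a, c, h3.symm, ha, h4⟩
  by_contra! hreg
  have := isPreprimitive_of_is_two_pretransitive h2
  obtain ⟨b, hab⟩ := exists_ne' hZ a
  obtain ⟨r₀, hr₀⟩ := hRt.1 a b
  have hr1 : r₀ ≠ 1 := by rintro rfl; exact hab (by simpa using hr₀)
  have : Nontrivial R := ⟨r₀, 1, hr1⟩
  obtain ⟨p, -, -, hc⟩ := elemAb_of_aut_trans (N := R) fun u v hu hv => by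
    have h3 : ∀ u : R, u ≠ 1 → a ≠ u • a := fun u hu e =>
      hu (mem_bot.1 (hreg a ▸ (e.symm : u ∈ stabilizer R a)))
    obtain ⟨g, h4, h5⟩ := two_trans_iff.1 h2 _ _ _ _ (h3 u hu) (h3 v hv)
    refine ⟨MulAut.conjNormal g, eq_of_smul_eq_of_stab_bot (hreg a) ?_⟩
    change (g * u * g⁻¹) • a = _
    rw [← h5]
    conv_lhs => rw [← h4]
    exact conj_smul_smul g _ a
  have hle : ∀ R₁ : Subgroup N, R₁.Normal → R₁ ≠ ⊥ → R ≤ R₁ := fun R₁ h3 h4 => by
    by_cases h5 : R ⊓ R₁ = ⊥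
    · obtain ⟨⟨y, hy⟩, hy1⟩ := ne_bot_iff_exists_ne_one.1 h4
      obtain ⟨r, hr⟩ := hRt.1 a (y • a)
      have h6 : (r : N)⁻¹ * y = 1 := eq_one_of_smul_eq (α := Ω) fun c => by
        obtain ⟨t, rfl⟩ := hRt.1 a c
        have e1 := commute_of_normal_of_disjoint R R₁ hR h3 (disjoint_iff.2 h5) t y t.2 hy
        have e2 : (r : N)⁻¹ * t = t * (r : N)⁻¹ := congrArg Subtype.val (hc r⁻¹ t)
        change ((r : N)⁻¹ * y) • (t : N) • a = (t : N) • a
        rw [← mul_smul, mul_assoc, ← e1.eq, ← mul_assoc, e2, mul_smul, mul_smul, ← hr]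
        exact congrArg _ (inv_smul_smul r a)
      have h7 : y ∈ R ⊓ R₁ := ⟨inv_mul_eq_one.1 h6 ▸ r.2, hy⟩
      exact (hy1 (Subtype.ext (mem_bot.1 (h5 ▸ h7)))).elim
    · intro r hr
      obtain ⟨t, ht⟩ := (normal_trans_of_prim (α := Ω) (R ⊓ R₁) h5).1 a (r • a)
      have := eq_of_smul_eq_of_stab_bot (hreg a) (g := ⟨t, t.2.1⟩) (k := ⟨r, hr⟩) ht
      exact (show (t : N) = r from congrArg Subtype.val this) ▸ t.2.2
  obtain ⟨c, hc⟩ := hZ.2.2.2.2 (R.map N.subtype) ⟨by
    rintro _ ⟨r, hr, rfl⟩ g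
    refine ⟨MulAut.conjNormal g r, mem_comap.1 (hle (R.comap (MulAut.conjNormal (H := N) g).toMonoidHom)
      inferInstance (fun e => ?_) hr), rfl⟩
    have : (MulAut.conjNormal (H := N) g).symm (r₀ : N) ∈
        R.comap (MulAut.conjNormal (H := N) g).toMonoidHom := by
      simp
    rw [e, mem_bot, MulEquiv.map_eq_one_iff] at this
    exact hr1 (Subtype.ext this)⟩ ⟨fun c d => by
      obtain ⟨r, hr⟩ := hRt.1 c d
      exact ⟨⟨r, r, r.2, rfl⟩, hr⟩⟩
  refine hc (eq_bot_iff.2 ?_)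
  rintro ⟨_, r, hr, rfl⟩ e
  have : (⟨r, hr⟩ : R) ∈ stabilizer R c := e
  rw [hreg, mem_bot] at this
  simp [mem_bot, show r = 1 from congrArg Subtype.val this]

theorem le_normal {H : Subgroup G} (h : ZK G a H) (N : Subgroup G) [hN : N.Normal]
    (h0 : N ≠ ⊥) : H ≤ N := by
  obtain ⟨x, hx, ha, hxH⟩ := exists_not_mem_of_normal hZ h N h0
  exact h.le_of_normal hx ha hxH

theorem nontrivial : Nontrivial G := by
  obtain ⟨g, h, -⟩ := hZ.2.2.2.1
  exact ⟨g, 1, h⟩

theorem simple_of_odd (hodd : Odd (Nat.card Ω)) : IsSimpleGroup G := by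
  have := finite hZ
  have := nontrivial hZ
  refine ⟨fun N hN => or_iff_not_imp_left.2 fun h0 => ?_⟩
  obtain ⟨-, -, a, b, hab, -⟩ := hZ.2.2.2.1
  obtain ⟨H, h⟩ := exists_ZK hZ a
  obtain ⟨s, hs, h1, h2⟩ := exists_swap (normal_zass hZ N h0) hab
  change (s : G) • a = b at h1
  change (s : G) • b = a at h2
  obtain ⟨c, hc⟩ : (fixedBy Ω s).Nonempty := by
    have := card_modEq_fixedBy (α := Ω) Nat.prime_two (g := s) (k := 1)
      (by rw [pow_one, ← hs, pow_orderOf_eq_one])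
    by_contra e
    rw [Set.not_nonempty_iff_eq_empty.1 e, Nat.ModEq, Nat.odd_iff.1 hodd] at this
    simp at this
  change (s : G) • c = c at hc
  have hE : E G a b ≤ N := fun x hx => by
    obtain ⟨y, -, e⟩ := Solv.exists_conj_eq_mul_of_fpf ((mem_normalizer_E hZ hab).2 (Or.inr ⟨h1, h2⟩))
      (eq_bot_iff.2 fun y hy => by
        by_contra h3
        have h4 := mem_centralizer_singleton_iff.1 hy.2
        have h5 : (s : G) ≠ 1 := fun e => hab (by simpa [e] using h1)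
        have h6 : y • c = c := by
          by_contra h6
          have h7 : (s : G) • y • c = y • c := by rw [← mul_smul, ← h4, mul_smul, hc]
          have h8 := card_modEq_fixedBy (α := Ω) Nat.prime_two (g := (s : G)) (k := 1)
            (by rw [pow_one, ← hs, ← orderOf_coe, pow_orderOf_eq_one])
          have h9 : fixedBy Ω (s : G) = {c, y • c} := by
            ext d
            exact ⟨fun hd => fix_cases hZ h5 (Ne.symm h6) hc h7 hd, fun hd => by
              rcases hd with rfl | rfl; exacts [hc, h7]⟩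
          rw [h9, Nat.card_coe_set_eq, Set.ncard_pair (Ne.symm h6), Nat.ModEq,
            Nat.odd_iff.1 hodd] at h8
          simp at h8
        rcases fix_cases hZ h3 hab hy.1.1 hy.1.2 h6 with rfl | rfl
        · exact hab (hc.symm.trans h1)
        · exact hab (h2.symm.trans hc)) hx
    exact (N.mul_mem_cancel_right s.2).1 (e ▸ hN.conj_mem _ s.2 y)
  have hH := le_normal hZ h N h0
  refine eq_top_iff.2 fun g _ => ?_
  obtain ⟨n, hn⟩ := (normal_trans hZ N h0).1 (g • a) a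
  change (n : G) • g • a = a at hn
  obtain ⟨u, hu, e⟩ := h.trans (c := (n : G) • g • b) (d := b)
    (hn ▸ (MulAction.injective _).ne ((MulAction.injective _).ne hab.symm)) hab.symm
  have : u * n * g ∈ E G a b := mem_E.2 ⟨by rw [mul_smul, mul_smul, hn, h.le hu],
    by rw [mul_smul, mul_smul, e]⟩
  exact (N.mul_mem_cancel_left (N.mul_mem (hH hu) n.2)).1 (hE this)

theorem inverts (hab : a ≠ b) (hodd : Odd (Nat.card (E G a b)))
    (hn : ∀ q : ℕ, q.Prime → q ∣ Nat.card (E G a b) →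
      ¬ ∃ N : Subgroup G, N.Normal ∧ N.index = q ^ (Nat.card G).factorization q) :
    IsCyclic (E G a b) ∧ ∀ s : G, s • a = b → s • b = a → ∀ x ∈ E G a b, s * x * s⁻¹ = x⁻¹ := by
  have := finite hZ
  obtain ⟨H, h⟩ := exists_ZK hZ a
  let M := normalizer (E G a b : Set G)
  have hi := relIndex_normalizer_E hZ hab
  have hM : Nat.card M = _ := card_normalizer_E hZ hab
  have hle : ∀ (p : ℕ) [Fact p.Prime], p ≠ 2 → ∀ P : Sylow p M,
      (P : Subgroup M).map M.subtype ≤ E G a b := fun p hp h2 P => by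
    rw [map_le_iff_le_comap]
    refine Solv.le_of_coprime_index (N := (E G a b).subgroupOf M) ?_
    obtain ⟨n, hn⟩ := IsPGroup.iff_card.1 P.2
    rw [hi, hn]
    exact ((Nat.coprime_primes hp.out Nat.prime_two).2 h2).pow_left n
  have : IsZGroup M := ⟨fun p hp P => by
    have := Fact.mk hp
    by_cases h2 : p = 2
    · subst h2
      obtain ⟨n, hn⟩ := IsPGroup.iff_card.1 P.2
      refine isCyclic_of_card_dvd_prime (p := 2) (Nat.Coprime.dvd_of_dvd_mul_right ?_
        (hM ▸ card_subgroup_dvd_card (P : Subgroup M)))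
      rw [hn]
      exact hodd.coprime_two_left.pow_left n
    · have := (Solv.isCyclic_or_quaternion_of_fpf ((hle p h2 P).trans (h.normalizer_eq ▸ inf_le_left))
        (fun x hx => h.fpf hab x (hle p h2 P hx)) h.ne_bot (P.2.map _)).resolve_right fun e => h2 e.1
      exact isCyclic_of_surjective _ (equivMapOfInjective _ _ M.subtype_injective).symm.surjective⟩
  have hEc : (E G a b).subgroupOf M ≤ commutator M := by
    refine Solv.le_of_coprime_index (Nat.coprime_of_dvd fun q hq h1 h2 => ?_)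
    rw [Nat.card_congr (subgroupOfEquivOfLe le_normalizer).toEquiv] at h1
    have := Fact.mk hq
    have hq2 : q ≠ 2 := by rintro rfl; exact hodd.not_two_dvd_nat h1
    obtain ⟨Q⟩ : Nonempty (Sylow q M) := inferInstance
    have := IsZGroup.isZGroup q hq Q
    rcases Q.normalizer_le_centralizer_or_le_commutator with h3 | h3
    swap
    · exact Q.not_dvd_index (h2.trans (index_dvd_of_le h3))
    have h4 : ¬ q ∣ ((Q : Subgroup M).map M.subtype).index := by
      rw [index_map_subtype, hq.dvd_mul]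
      refine fun h4 => h4.elim Q.not_dvd_index fun h4 => ?_
      have h5 := M.index_mul_card
      rw [hM, card_G hZ hab, ← mul_assoc, ← mul_assoc, Nat.mul_left_inj Nat.card_pos.ne'] at h5
      have h6 := h1.trans (card_E_dvd hZ hab)
      have h7 := three_le_card hZ
      obtain ⟨m, hm⟩ := Nat.exists_eq_add_of_le' (show 2 ≤ Nat.card Ω by omega)
      rw [hm, Nat.add_sub_cancel] at h6
      rcases hq.dvd_mul.1 (h5 ▸ h4.mul_right 2) with h8 | h8
      · rw [hm, Nat.dvd_add_right h6] at h8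
        exact hq2 ((Nat.prime_dvd_prime_iff_eq hq Nat.prime_two).1 h8)
      · rw [hm, show m + 2 - 1 = m + 1 from rfl, Nat.dvd_add_right h6] at h8
        exact hq.one_lt.ne' (Nat.dvd_one.1 h8)
    let P : Sylow q G := (Q.2.map M.subtype).toSylow h4
    have h5 : normalizer ((P : Subgroup G) : Set G) ≤ centralizer ((P : Subgroup G) : Set G) := by
      intro g hg
      obtain ⟨⟨x, hx⟩, hx1⟩ := ne_bot_iff_exists_ne_one.1 (Q.ne_bot_of_dvd_card (hM ▸ h1.mul_left 2))
      have h5 : g ∈ M := (mem_normalizer_E hZ hab).2 (pair_of_conj hZ hab (hle q hq2 Q ⟨x, hx, rfl⟩)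
        (fun e => hx1 (Subtype.ext (Subtype.ext e)))
        (hle q hq2 Q ((mem_normalizer_iff.1 hg _).1 ⟨x, hx, rfl⟩)))
      have h6 := h3 (x := ⟨g, h5⟩) (mem_normalizer_fintype fun y hy => by
        obtain ⟨z, hz, e⟩ := (mem_normalizer_iff.1 hg _).1 ⟨y, hy, rfl⟩
        exact (Subtype.ext e : z = ⟨g, h5⟩ * y * ⟨g, h5⟩⁻¹) ▸ hz)
      rintro _ ⟨y, hy, rfl⟩
      exact congrArg Subtype.val (h6 y hy)
    exact hn q hq h1 ⟨_, inferInstance,
      (MonoidHom.ker_transferSylow_isComplement' P h5).symm.index_eq_card.trans P.card_eq_multiplicity⟩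
  have hcyc : IsCyclic (E G a b) := by
    have := IsZGroup.isCyclic_commutator (G := M)
    have := Subgroup.isCyclic_of_le hEc
    exact isCyclic_of_surjective _ (subgroupOfEquivOfLe le_normalizer).surjective
  refine ⟨hcyc, fun s h1 h2 => ?_⟩
  have hc : ∀ x ∈ E G a b, ∀ y ∈ E G a b, x * y = y * x := fun x hx y hy =>
    congrArg Subtype.val (comm_of_isCyclic hcyc ⟨x, hx⟩ ⟨y, hy⟩)
  have hs : ∀ x ∈ E G a b, s * x * s⁻¹ ∈ E G a b := fun x =>
    (mem_normalizer_iff.1 ((mem_normalizer_E hZ hab).2 (Or.inr ⟨h1, h2⟩)) x).1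
  let D : Subgroup G :=
    { carrier := {x | x ∈ E G a b ∧ s * x * s⁻¹ = x⁻¹}
      one_mem' := ⟨one_mem _, by simp⟩
      mul_mem' := fun {x y} hx hy => ⟨mul_mem hx.1 hy.1, by
        rw [hc x hx.1 y hy.1, mul_inv_rev, ← hx.2, ← hy.2, hc y hy.1 x hx.1]; group⟩
      inv_mem' := fun {x} hx => ⟨inv_mem hx.1, by rw [inv_inv, ← conj_inv, hx.2, inv_inv]⟩ }
  have hD : ∀ y ∈ E G a b, y * (s * y⁻¹ * s⁻¹) ∈ D := fun y hy =>
    ⟨mul_mem hy (hs _ (inv_mem hy)), by
      have := hc (s * s) (mem_E.2 ⟨by rw [mul_smul, h1, h2], by rw [mul_smul, h2, h1]⟩) _ (inv_mem hy)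
      calc s * (y * (s * y⁻¹ * s⁻¹)) * s⁻¹ = s * y * s⁻¹ * (s * s * y⁻¹) * (s * s)⁻¹ := by group
        _ = _ := by rw [this]; group⟩
  have hcases : ∀ g ∈ M, ∃ x ∈ E G a b, g = x ∨ g = x * s := fun g hg => by
    rcases (mem_normalizer_E hZ hab).1 hg with h3 | ⟨h3, h4⟩
    · exact ⟨g, h3, Or.inl rfl⟩
    · exact ⟨g * s⁻¹, mem_E.2 ⟨by rw [mul_smul, inv_smul_eq_iff.2 h2.symm, h4],
        by rw [mul_smul, inv_smul_eq_iff.2 h1.symm, h3]⟩, Or.inr (by simp)⟩
  have hxs : ∀ x ∈ E G a b, ∀ y ∈ E G a b, ⁅x, y * s⁆ ∈ D := fun x hx y hy => by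
    convert hD x hx using 1
    calc ⁅x, y * s⁆ = x * (y * (s * x⁻¹ * s⁻¹)) * y⁻¹ := by rw [commutatorElement_def]; group
      _ = _ := by rw [hc y hy _ (hs _ (inv_mem hx))]; group
  have hMD : ⁅M, M⁆ ≤ D := commutator_le.2 fun g hg k hk => by
    obtain ⟨x, hx, rfl | rfl⟩ := hcases g hg <;> obtain ⟨y, hy, rfl | rfl⟩ := hcases k hk
    · rw [commutatorElement_eq_one_iff_mul_comm.2 (hc _ hx _ hy)]; exact D.one_mem
    · exact hxs _ hx _ hy
    · rw [← commutatorElement_inv]; exact D.inv_mem (hxs _ hy _ hx)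
    · convert hD _ (mul_mem hx (inv_mem hy)) using 1
      calc ⁅x * s, y * s⁆ = x * ((s * (x * y⁻¹)⁻¹ * s⁻¹) * y⁻¹) := by
            rw [commutatorElement_def]; group
        _ = _ := by rw [← hc _ (inv_mem hy) _ (hs _ (inv_mem (mul_mem hx (inv_mem hy))))]; group
  intro x hx
  rw [← map_subtype_commutator] at hMD
  exact (hMD ⟨⟨x, le_normalizer hx⟩, hEc hx, rfl⟩).2

theorem inverts_simple [IsSimpleGroup G] (hab : a ≠ b) (hodd : Odd (Nat.card (E G a b))) :
    IsCyclic (E G a b) ∧ ∀ s : G, s • a = b → s • b = a → ∀ x ∈ E G a b, s * x * s⁻¹ = x⁻¹ := by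
  have := finite hZ
  refine inverts hZ hab hodd ?_
  rintro q hq h1 ⟨N, hN, h2⟩
  rcases hN.eq_bot_or_eq_top with rfl | rfl
  · rw [index_bot] at h2
    have h3 := Nat.prime_two.dvd_of_dvd_pow (h2 ▸ (even_card hZ).two_dvd)
    exact hodd.not_two_dvd_nat (h3.trans h1)
  · rw [index_top, eq_comm, pow_eq_one_iff, Nat.factorization_eq_zero_iff] at h2
    rcases h2 with h2 | h2 | h2 | h2
    · exact hq.one_lt.ne' h2
    · exact h2 hq
    · exact h2 (h1.trans (card_subgroup_dvd_card _))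
    · exact Nat.card_pos.ne' h2

end

end Cfsg.Agent.Zass
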