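import Cfsg.Agent.Lib.Char.Zass2

/-!
Simple Zassenhaus groups with two-point stabilisers of odd order: counting arguments.
-/

set_option autoImplicit false
set_option linter.unusedSectionVars false

namespace Cfsg.Agent.Zass

open MulAction Subgroup Cfsg.Agent.Perm Cfsg.Agent.Char Cfsg.Agent.Transfer

variable {G Ω : Type*} [Group G] [MulAction G Ω] [Finite Ω] {a b c d : Ω}

theorem card_pairs_class_le [Finite G] (C : ConjClasses G) :
    Nat.card {p : G × G // (orderOf p.1 = 2 ∧ orderOf p.2 = 2) ∧ ConjClasses.mk (p.1 * p.2) = C} ≤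
      Nat.card G := by
  obtain ⟨x, rfl⟩ := ConjClasses.mk_surjective C
  rw [← (centralizer {x}).index_mul_card, ← Char.card_isConj_eq_index]
  refine cnt_le_mul (fun p y => p.1 * p.2 = y) (fun p hp => ⟨_, (ConjClasses.mk_eq_mk_iff_isConj.1
    hp.2).symm, rfl⟩) fun y hy => ?_
  have h1 : Nat.card (centralizer {y}) = Nat.card (centralizer {x}) := by
    have h1 := (centralizer {y}).index_mul_card.trans (centralizer {x}).index_mul_card.symm
    rwa [← Char.card_isConj_eq_index, ← Char.card_isConj_eq_index, cnt_congr (q := fun z => IsConj x z)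
      fun z => ⟨hy.trans, hy.symm.trans⟩, Nat.mul_right_inj (cnt_pos (IsConj.refl x)).ne'] at h1
  rw [← h1]
  by_cases h0 : ∃ p : G × G, orderOf p.1 = 2 ∧ orderOf p.2 = 2 ∧ p.1 * p.2 = y
  swap
  · rw [cnt_eq_zero fun p hp => h0 ⟨p, hp.1.1.1, hp.1.1.2, hp.2⟩]; exact Nat.zero_le _
  obtain ⟨q, h2, h3, h4⟩ := h0
  have h5 : ∀ {u v : G}, orderOf u = 2 → orderOf v = 2 → u * (u * v) = (u * v)⁻¹ * u := by
    intro u v hu hv
    have e1 : u * u = 1 := by rw [← sq, ← hu, pow_orderOf_eq_one]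
    have e2 : v * v = 1 := by rw [← sq, ← hv, pow_orderOf_eq_one]
    rw [mul_inv_rev, inv_mul_cancel_right, ← mul_assoc, e1, one_mul, inv_eq_of_mul_eq_one_right e2]
  refine cnt_le_of_injOn (q := fun g => g ∈ centralizer {y}) (fun p => q.1⁻¹ * p.1)
    (fun p hp => mem_centralizer_singleton_iff.2 ?_) fun p p' hp hp' e => ?_
  · have e1 := h5 hp.1.1.1 hp.1.1.2
    have e2 := h5 h2 h3
    rw [hp.2] at e1
    rw [h4] at e2
    rw [mul_assoc, e1, ← mul_assoc, ← mul_assoc, ← mul_inv_rev, mul_left_inj, eq_comm,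
      mul_inv_eq_iff_eq_mul, mul_inv_rev, mul_assoc, ← e2, inv_mul_cancel_left]
  · have e1 := mul_left_cancel e
    exact Prod.ext e1 (mul_left_cancel (a := p.1) (by rw [hp.2, e1, hp'.2]))

theorem two_mul_card_fpf (hZ : IsZassenhausGroup G Ω) :
    2 * Nat.card {g : G // ∀ c : Ω, g • c ≠ c} + (Nat.card Ω - 1) * (Nat.card Ω - 2) = Nat.card G := by
  classical
  have := finite hZ
  have := Fintype.ofFinite G
  have := Fintype.ofFinite Ω
  have := pretrans hZ
  obtain ⟨-, -, a, b, hab, -⟩ := hZ.2.2.2.1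
  have : Nonempty Ω := ⟨a⟩
  have h1 := sum_card_fixedBy_trans (G := G) (α := Ω)
  have h2 : ∑ g : G, Nat.card (fixedBy Ω g) ^ 2 = 2 * Nat.card G := by
    have h2 := cnt_double fun (g : G) (p : Ω × Ω) => g • p.1 = p.1 ∧ g • p.2 = p.2
    refine (Finset.sum_congr rfl fun g _ => ?_).trans (h2.trans ?_)
    · rw [cnt_prod (fun c : Ω => g • c = c) (fun c : Ω => g • c = c), sq]; rfl
    rw [Fintype.sum_prod_type, Finset.sum_congr rfl
      (g := fun _ => 2 * ((Nat.card Ω - 1) * Nat.card (E G a b))) fun c _ => ?_, Finset.sum_const,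
      Finset.card_univ, ← Nat.card_eq_fintype_card, smul_eq_mul, card_G hZ hab, mul_left_comm]
    change ∑ d, Nat.card (E G c d) = _
    rw [← Finset.add_sum_erase _ _ (Finset.mem_univ c), Finset.sum_congr rfl
      (g := fun _ => Nat.card (E G a b)) fun d hd => card_E_eq hZ hab (Finset.ne_of_mem_erase hd).symm,
      Finset.sum_const, Finset.card_erase_of_mem (Finset.mem_univ c), Finset.card_univ,
      ← Nat.card_eq_fintype_card, smul_eq_mul, two_mul, E, inf_idem,
      ← card_stab hZ hab, card_stab_eq a c]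
  have h3 := three_le_card hZ
  have h4 : ∀ g : G, Nat.card (fixedBy Ω g) ^ 2 + 2 = 3 * Nat.card (fixedBy Ω g) +
      (2 * (if ∀ c : Ω, g • c ≠ c then 1 else 0) +
        if g = 1 then (Nat.card Ω - 1) * (Nat.card Ω - 2) else 0) := fun g => by
    by_cases hg : g = 1
    · subst hg
      obtain ⟨m, hm⟩ := Nat.exists_eq_add_of_le' h3
      rw [if_neg (fun h => h a (one_smul _ _)), if_pos rfl, fixedBy_one_eq_univ, Nat.card_coe_set_eq,
        Set.ncard_univ, hm, show m + 3 - 1 = m + 2 from rfl, show m + 3 - 2 = m + 1 from rfl]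
      ring
    rw [if_neg hg]
    split_ifs with hf
    · simp [Set.eq_empty_of_forall_notMem (s := fixedBy Ω g) hf]
    · push Not at hf
      have h5 := ncard_fixedBy_le hZ hg
      have : Nonempty (fixedBy Ω g) := hf.elim fun c hc => ⟨⟨c, hc⟩⟩
      have h6 := Nat.card_pos (α := fixedBy Ω g)
      interval_cases Nat.card (fixedBy Ω g) <;> rfl
  have h5 := Finset.sum_congr (rfl : (Finset.univ : Finset G) = _) fun g _ => h4 g
  rw [Finset.sum_add_distrib, Finset.sum_add_distrib, Finset.sum_add_distrib, ← Finset.mul_sum,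
    ← Finset.mul_sum, h1, h2, ← cnt_eq_sum, Finset.sum_ite_eq', if_pos (Finset.mem_univ _),
    Finset.sum_const, Finset.card_univ, ← Nat.card_eq_fintype_card, smul_eq_mul] at h5
  omega

/-- A simple Zassenhaus group whose two-point stabilisers have odd order. -/
structure ZO (G : Type*) {Ω : Type*} [Group G] [MulAction G Ω] (a b : Ω) : Prop where
  hZ : IsZassenhausGroup G Ω
  simple : IsSimpleGroup G
  ne : a ≠ b
  odd : Odd (Nat.card (E G a b))

namespace ZO

variable (h : ZO G a b)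
include h

theorem of_ne (hcd : c ≠ d) : ZO G c d := ⟨h.hZ, h.simple, hcd, card_E_eq h.hZ h.ne hcd ▸ h.odd⟩

theorem inv (hcd : c ≠ d) {s : G} (h1 : s • c = d) (h2 : s • d = c) {x : G} (hx : x ∈ E G c d) :
    s * x * s⁻¹ = x⁻¹ :=
  haveI := h.simple
  (inverts_simple h.hZ hcd (h.of_ne hcd).odd).2 s h1 h2 x hx

theorem eq_one (hcd : c ≠ d) {x : G} (hx : x ∈ E G c d) (h2 : x * x = 1) : x = 1 :=
  orderOf_eq_one_iff.1 (Nat.eq_one_of_dvd_coprimes (h.of_ne hcd).odd.coprime_two_left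
    (orderOf_dvd_of_pow_eq_one (by rwa [sq])) ((E G c d).orderOf_dvd_natCard hx))

theorem orderOf_swap {s : G} (h1 : s • c ≠ c) (h2 : s • s • c = c) : orderOf s = 2 := by
  have h3 : s * s ∈ E G c (s • c) := mem_E.2 ⟨by rw [mul_smul, h2], by rw [mul_smul, h2]⟩
  have h4 := h.inv h1.symm rfl h2 h3
  refine orderOf_eq_prime (by
    rw [sq]
    refine h.eq_one h1.symm h3 ?_
    rw [← eq_inv_iff_mul_eq_one, ← h4]; group) (by rintro rfl; simp at h1)

theorem isConj {x y : G} (hx : orderOf x = 2) (hy : orderOf y = 2) : IsConj x y := by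
  obtain ⟨g, h1, h2⟩ := exists_conj_swap h.hZ h.ne hx
  obtain ⟨k, h3, h4⟩ := exists_conj_swap h.hZ h.ne hy
  refine (isConj_conj g x).trans (IsConj.trans ?_ (isConj_conj k y).symm)
  set s := g * x * g⁻¹
  set t := k * y * k⁻¹
  have h5 : t * s⁻¹ ∈ E G a b := mem_E.2 ⟨by rw [mul_smul, inv_smul_eq_iff.2 h2.symm, h4],
    by rw [mul_smul, inv_smul_eq_iff.2 h1.symm, h3]⟩
  obtain ⟨m, hm⟩ := h.odd
  have h6 : (t * s⁻¹) ^ (2 * m + 1) = 1 := by
    rw [← hm]; exact orderOf_dvd_iff_pow_eq_one.1 ((E G a b).orderOf_dvd_natCard h5)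
  refine isConj_iff.2 ⟨(t * s⁻¹) ^ (m + 1), ?_⟩
  have h7 := h.inv h.ne h1 h2 (inv_mem (pow_mem h5 (m + 1)))
  calc (t * s⁻¹) ^ (m + 1) * s * ((t * s⁻¹) ^ (m + 1))⁻¹
      = (t * s⁻¹) ^ (m + 1) * (s * ((t * s⁻¹) ^ (m + 1))⁻¹ * s⁻¹) * s := by group
    _ = (t * s⁻¹) ^ (2 * m + 1) * (t * s⁻¹) * s := by rw [h7, inv_inv, ← pow_add, ← pow_succ]; congr 2; ring
    _ = t := by rw [h6]; group

theorem card_invol_moving (c : Ω) : Nat.card {x : G // orderOf x = 2 ∧ x • c ≠ c} =
    (Nat.card Ω - 1) * Nat.card (E G a b) := by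
  classical
  have := finite h.hZ
  have := Fintype.ofFinite G
  rw [← card_moving h.hZ h.ne c, Nat.card_eq_fintype_card, Fintype.card_subtype]
  convert rfl using 2
  ext x
  simp only [Finset.mem_filter, Finset.mem_univ, true_and]
  exact ⟨fun e => ⟨h.orderOf_swap e.1 e.2, e.1⟩, fun e => ⟨e.2, by
    rw [← mul_smul, ← sq, ← e.1, pow_orderOf_eq_one, one_smul]⟩⟩

theorem fix_unique {x : G} (hx : orderOf x = 2) (hc : x • c = c) (hd : x • d = d) : c = d := by
  by_contra e
  have := h.eq_one e ⟨hc, hd⟩ (by rw [← sq, ← hx, pow_orderOf_eq_one])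
  simp [this] at hx

theorem not_fix (hn : Even (Nat.card Ω)) {x : G} (hx : orderOf x = 2) (c : Ω) : x • c ≠ c := fun e => by
  obtain ⟨d, hd⟩ := exists_ne' h.hZ c
  have h1 := (stabilizer G c).orderOf_dvd_natCard e
  rw [hx, card_stab h.hZ hd] at h1
  have := three_le_card h.hZ
  exact ((Nat.Even.sub_odd (by omega) hn odd_one).mul (h.of_ne hd).odd).not_two_dvd_nat h1

theorem exists_fix (hn : Odd (Nat.card Ω)) {x : G} (hx : orderOf x = 2) : ∃ c : Ω, x • c = c := by
  have := card_modEq_fixedBy (α := Ω) Nat.prime_two (g := x) (k := 1)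
    (by rw [pow_one, ← hx, pow_orderOf_eq_one])
  by_contra! e
  rw [Set.eq_empty_of_forall_notMem (s := fixedBy Ω x) e, Nat.ModEq, Nat.odd_iff.1 hn] at this
  simp at this

theorem card_invol_of_even (hn : Even (Nat.card Ω)) :
    Nat.card {x : G // orderOf x = 2} = (Nat.card Ω - 1) * Nat.card (E G a b) := by
  rw [← h.card_invol_moving a]
  exact cnt_congr fun x => ⟨fun e => ⟨e, h.not_fix hn e a⟩, fun e => e.1⟩

theorem card_invol_of_odd (hn : Odd (Nat.card Ω)) :
    Nat.card {x : G // orderOf x = 2} = Nat.card Ω * Nat.card (E G a b) := by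
  have := finite h.hZ
  have h1 := cnt_mul_eq (p := fun x : G => orderOf x = 2) (q := fun _ : Ω => True)
    (fun x c => x • c ≠ c) (m := Nat.card Ω - 1) (fun x hx => by
      obtain ⟨c, hc⟩ := h.exists_fix hn hx
      rw [← cnt_true (α := Ω), ← cnt_erase (p := fun _ => True) (a := c) trivial, Nat.add_sub_cancel]
      exact cnt_congr fun d => and_congr_right fun _ =>
        ⟨fun e e' => e (e' ▸ hc), fun e e' => e (h.fix_unique hx e' hc)⟩)
    fun c _ => h.card_invol_moving c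
  have := three_le_card h.hZ
  rw [cnt_true, mul_left_comm, mul_comm, Nat.mul_right_inj (by omega)] at h1
  exact h1

theorem card_invol_fix (hn : Odd (Nat.card Ω)) (c : Ω) :
    Nat.card {x : G // orderOf x = 2 ∧ x • c = c} = Nat.card (E G a b) := by
  have := finite h.hZ
  have h1 := cnt_split (fun x : G => orderOf x = 2) fun x => x • c = c
  rw [h.card_invol_of_odd hn, h.card_invol_moving c] at h1
  obtain ⟨m, hm⟩ := Nat.exists_eq_add_of_le' (show 1 ≤ Nat.card Ω from (by decide : 1 ≤ 3).trans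
    (three_le_card h.hZ))
  rw [hm, Nat.add_sub_cancel, add_mul, one_mul] at h1
  omega

theorem exists_two_fpf : ∃ x y : G, (∀ c : Ω, x • c ≠ c) ∧ (∀ c : Ω, y • c ≠ c) ∧ ¬ IsConj x y := by
  have := finite h.hZ
  have h1 := two_mul_card_fpf h.hZ
  have h2 := card_G h.hZ h.ne
  obtain ⟨k, hk⟩ := card_E_dvd h.hZ h.ne
  have h3 := three_le_card h.hZ
  have h4 := one_lt_card_E h.hZ h.ne
  have h5 := h.odd
  set e := Nat.card (E G a b)
  obtain ⟨n, hn⟩ := Nat.exists_eq_add_of_le' (show 2 ≤ Nat.card Ω by omega)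
  rw [hn, Nat.add_sub_cancel] at hk
  rw [hn, show n + 2 - 1 = n + 1 from rfl] at h1 h2
  rw [Nat.add_sub_cancel] at h1
  by_contra! h6
  by_cases h7 : ∃ x : G, ∀ c : Ω, x • c ≠ c
  swap
  · rw [cnt_eq_zero (not_exists.1 h7), h2] at h1
    nlinarith
  obtain ⟨x, hx⟩ := h7
  obtain ⟨m, hm⟩ : Nat.card (centralizer ({x} : Set G)) ∣ Nat.card Ω := by
    have := card_dvd_ncard_of_semiregular (G := centralizer ({x} : Set G)) (S := (Set.univ : Set Ω))
      (Set.toFinite _) (fun _ _ _ => trivial) fun c _ y hy => by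
        by_contra h7
        have h8 := mem_centralizer_singleton_iff.1 y.2
        change (y : G) • c = c at hy
        have h9 : (y : G) • x • c = x • c := by rw [← mul_smul, h8, mul_smul, hy]
        have h10 : (y : G) • x • x • c = x • x • c := by rw [← mul_smul, h8, mul_smul, h9]
        have h11 : (y : G) ≠ 1 := fun e => h7 (Subtype.ext e)
        rcases fix_cases h.hZ h11 (hx c).symm hy h9 h10 with e | e
        · have := h.inv (hx c).symm rfl e ⟨hy, h9⟩
          rw [← h8, mul_inv_cancel_right, eq_inv_iff_mul_eq_one] at this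
          exact h11 (h.eq_one (hx c).symm ⟨hy, h9⟩ this)
        · exact hx _ e
    rwa [Set.ncard_univ] at this
  have h8 := (centralizer ({x} : Set G)).index_mul_card
  rw [← Char.card_isConj_eq_index, cnt_congr (q := fun g : G => ∀ c : Ω, g • c ≠ c) fun g =>
    ⟨fun e c => by
      obtain ⟨k, rfl⟩ := isConj_iff.1 e
      exact fun e => hx _ (conj_smul_iff.1 e), h6 x g hx⟩] at h8
  have h9 := Nat.card_pos (α := centralizer ({x} : Set G))
  set z := Nat.card (centralizer ({x} : Set G))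
  set F := Nat.card {g : G // ∀ c : Ω, g • c ≠ c}
  rw [hn] at hm
  have h10 : F = m * ((n + 1) * e) := Nat.eq_of_mul_eq_mul_right h9 (by rw [h8, h2, hm]; ring)
  have h11 : 2 * m + k = n + 2 := Nat.eq_of_mul_eq_mul_right (show 0 < (n + 1) * e by positivity) (by
    rw [← h2, ← h1, h10]
    conv_rhs => rw [hk, ← hk]
    rw [show (n + 1) * n = (n + 1) * (e * k) by rw [← hk]]
    ring)
  have h12 : m ∣ k := (Nat.dvd_add_right (dvd_mul_left m 2)).1 (h11 ▸ hm ▸ dvd_mul_left m z)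
  have h13 : m ∣ 2 := (Nat.dvd_add_right (hk ▸ h12.mul_left e : m ∣ n)).1 (hm ▸ dvd_mul_left m z)
  have hk0 : 0 < k := Nat.pos_of_ne_zero (by rintro rfl; omega)
  obtain ⟨r, hr⟩ := h5
  rcases (Nat.dvd_prime Nat.prime_two).1 h13 with rfl | rfl
  · nlinarith
  · obtain ⟨j, rfl⟩ := h12
    have : 0 < r := by omega
    have : 0 < j := by omega
    nlinarith

variable {H : Subgroup G} (hK : ZK G a H)
include hK

omit h in
theorem fix_of_mul {x y : G} (hx : orderOf x = 2) (hy : orderOf y = 2) (hu : x * y ∈ H)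
    (h1 : x * y ≠ 1) : x • a = a ∧ y • a = a := by
  have e1 : x * x = 1 := by rw [← sq, ← hx, pow_orderOf_eq_one]
  have e2 : y * y = 1 := by rw [← sq, ← hy, pow_orderOf_eq_one]
  have h2 : x ∈ stabilizer G a := hK.mem_stab_of_conj hu h1 (by
    convert hK.le (H.inv_mem hu) using 1
    rw [← mul_assoc, e1, one_mul, mul_inv_rev, inv_eq_of_mul_eq_one_right e2])
  exact ⟨h2, ((stabilizer G a).mul_mem_cancel_left h2).1 (hK.le hu)⟩

theorem invol_mem {x : G} (hx : orderOf x = 2) (ha : x • a = a) : x ∈ H := by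
  by_contra e
  obtain ⟨c, h1, h2⟩ := hK.exists_fix ha e
  exact h1 (h.fix_unique hx h2 ha)

theorem invol_central {x : G} (hx : orderOf x = 2) (ha : x • a = a) {u : G} (hu : u ∈ H) :
    x * u = u * x := by
  have := finite h.hZ
  obtain ⟨z, h1, h2⟩ := exists_center_orderOf_of_nilpotent hK.nilpotent Nat.prime_two
    (hx ▸ H.orderOf_dvd_natCard (h.invol_mem hK hx ha))
  rw [← orderOf_coe] at h2
  obtain ⟨g, rfl⟩ := isConj_iff.1 (h.isConj h2 hx)
  have h3 := hK.mem_stab_of_conj z.2 (by intro e; simp [e] at h2) ha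
  have h4 := congrArg Subtype.val (mem_center_iff.1 h1 ⟨_, hK.conj_mem (inv_mem h3) hu⟩)
  simp only [coe_mul, inv_inv] at h4
  calc g * z * g⁻¹ * u = g * (z * (g⁻¹ * u * g)) * g⁻¹ := by group
    _ = _ := by rw [← h4]; group

theorem orderOf_mul {x y : G} (hx : orderOf x = 2) (hy : orderOf y = 2) (hu : x * y ∈ H)
    (h1 : x * y ≠ 1) : orderOf (x * y) = 2 := by
  obtain ⟨h2, h3⟩ := fix_of_mul hK hx hy hu h1
  refine orderOf_eq_prime ?_ h1
  rw [(show Commute x y from h.invol_central hK hx h2 (h.invol_mem hK hy h3)).mul_pow]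
  nth_rw 1 [← hx]
  rw [← hy, pow_orderOf_eq_one, pow_orderOf_eq_one, one_mul]

theorem le_card_classes :
    Nat.card (E G a b) ≤ Nat.card {C : ConjClasses G // ∀ g : G, ConjClasses.mk g = C → g ∉ H} := by
  have := finite h.hZ
  have h1 := cnt_split (fun p : G × G => orderOf p.1 = 2 ∧ orderOf p.2 = 2)
    fun p => ∃ g : G, g * (p.1 * p.2) * g⁻¹ ∈ H
  have h2 := cnt_le_mul (p := fun p : G × G => (orderOf p.1 = 2 ∧ orderOf p.2 = 2) ∧
      ¬ ∃ g : G, g * (p.1 * p.2) * g⁻¹ ∈ H)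
    (q := fun C : ConjClasses G => ∀ g : G, ConjClasses.mk g = C → g ∉ H)
    (fun p C => ConjClasses.mk (p.1 * p.2) = C) (n := Nat.card G) (fun p hp => ⟨_, fun g e hg => by
      obtain ⟨k, rfl⟩ := isConj_iff.1 (ConjClasses.mk_eq_mk_iff_isConj.1 e.symm)
      exact hp.2 ⟨k, hg⟩, rfl⟩)
    fun C _ => (cnt_mono fun p hp => ⟨hp.1.1, hp.2⟩).trans (card_pairs_class_le C)
  have h3 : ∀ {x y g : G}, orderOf x = 2 → orderOf y = 2 → g * (x * y) * g⁻¹ ∈ H →
      y = x ∨ ∃ c : Ω, x • c = c ∧ y • c = c := fun {x y g} hx hy hg => by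
    refine or_iff_not_imp_left.2 fun e => ⟨g⁻¹ • a, ?_⟩
    rw [← conj_smul_iff, ← conj_smul_iff]
    refine fix_of_mul hK ((isConj_conj g x).orderOf_eq'.trans hx)
      ((isConj_conj g y).orderOf_eq'.trans hy) (by simpa [mul_assoc] using hg) fun e' => e ?_
    have e1 : x * x = 1 := by rw [← sq, ← hx, pow_orderOf_eq_one]
    have : x * y = 1 := by simpa using e'
    exact mul_left_cancel (this.trans e1.symm)
  have h4 : ∀ n, (∀ x : G, orderOf x = 2 →
      Nat.card {y : G // orderOf y = 2 ∧ (y = x ∨ ∃ c : Ω, x • c = c ∧ y • c = c)} ≤ n) →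
      Nat.card {p : G × G // (orderOf p.1 = 2 ∧ orderOf p.2 = 2) ∧
        ∃ g : G, g * (p.1 * p.2) * g⁻¹ ∈ H} ≤ Nat.card {x : G // orderOf x = 2} * n := fun n hn =>
    cnt_le_mul (fun p x => p.1 = x) (fun p hp => ⟨_, hp.1.1, rfl⟩) fun x hx =>
      (cnt_le_of_injOn Prod.snd (fun p hp => ⟨hp.1.1.2, hp.1.2.elim fun g hg =>
        hp.2 ▸ h3 hp.1.1.1 hp.1.1.2 hg⟩) fun p q hp hq e => Prod.ext (hp.2.trans hq.2.symm) e).trans
        (hn x hx)
  rw [cnt_prod (fun x : G => orderOf x = 2) (fun x : G => orderOf x = 2)] at h1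
  rw [card_G h.hZ h.ne] at h2
  have h5 := card_E_le h.hZ h.ne
  have h6 := one_lt_card_E h.hZ h.ne
  obtain ⟨n, hn⟩ := Nat.exists_eq_add_of_le' (show 1 ≤ Nat.card Ω by omega)
  set r := Nat.card {C : ConjClasses G // ∀ g : G, ConjClasses.mk g = C → g ∉ H}
  by_contra! h7
  rcases Nat.even_or_odd (Nat.card Ω) with h8 | h8
  · have h9 := h4 1 fun x hx => (cnt_mono (q := (· = x)) fun y hy =>
      hy.2.resolve_right fun ⟨c, e, _⟩ => h.not_fix h8 hx c e).trans (cnt_eq_one x).le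
    rw [h.card_invol_of_even h8] at h1 h9
    have h12 := h1.le.trans (add_le_add h9 h2)
    rw [hn] at h5 h12
    rw [Nat.add_sub_cancel] at h12
    set e := Nat.card (E G a b)
    have h10 : n * e * (n * e) ≤ n * e * (1 + r * (n + 1)) := by linarith
    have h11 := Nat.le_of_mul_le_mul_left h10 (Nat.mul_pos (by omega) (by omega))
    nlinarith [Nat.mul_le_mul_right (n + 1) (Nat.succ_le_of_lt h7)]
  · have h9 := h4 (Nat.card (E G a b)) fun x hx => by
      obtain ⟨c, hc⟩ := h.exists_fix h8 hx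
      rw [← h.card_invol_fix h8 c]
      refine cnt_mono fun y hy => ⟨hy.1, ?_⟩
      rcases hy.2 with rfl | ⟨d, h9, h10⟩
      · exact hc
      · exact h.fix_unique hx h9 hc ▸ h10
    rw [h.card_invol_of_odd h8] at h1 h9
    have h12 := h1.le.trans (add_le_add h9 h2)
    rw [hn] at h5 h12
    rw [Nat.add_sub_cancel] at h12
    set e := Nat.card (E G a b)
    have h10 : (n + 1) * e * ((n + 1) * e) ≤ (n + 1) * e * (e + r * n) := by linarith
    have h11 := Nat.le_of_mul_le_mul_left h10 (Nat.mul_pos (by omega) (by omega))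
    nlinarith [Nat.mul_le_mul_right n (Nat.succ_le_of_lt h7)]

end ZO

end Cfsg.Agent.Zass
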