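import Cfsg.Agent.Lib.Char.Zass3

/-!
Feit's theorem on Zassenhaus groups.
-/

set_option autoImplicit false
set_option linter.unusedSectionVars false

namespace Cfsg.Agent.Zass

open MulAction Subgroup Cfsg.Agent.Perm Cfsg.Agent.Char Cfsg.Agent.Transfer
open scoped ComplexConjugate

variable {G : Type*} [Group G] [Fintype G]

section TI

variable {L : Subgroup G} [Fintype L] {K : Subgroup L} [K.Normal] {ν : (L → ℂ) →ₗ[ℂ] (G → ℂ)}

theorem inner_ext (hν : IsExt (indLin L) ν) {ψ : G → ℂ} (hψ : IsClassFunction G ψ) {α : L → ℂ}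
    (h0 : α 1 = 0) : classInner ψ (ν α) = classInner (fun x : L => ψ x) α := by
  rw [hν α h0]
  exact frobenius_right _ _ hψ

theorem inner_eq_of_const (hν : IsExt (indLin L) ν) {ψ : G → ℂ} (hψ : IsClassFunction G ψ)
    (hc : ∀ a ∈ K, ∀ b ∈ K, a ≠ 1 → b ≠ 1 → ψ a = ψ b) {χ ξ : L → ℂ} (hχ : χ ∈ indD K K ⊥)
    (hξ : ξ ∈ indD K K ⊥) : ξ 1 * classInner ψ (ν χ) = χ 1 * classInner ψ (ν ξ) := by
  have h1 := inner_ext hν hψ (α := ξ 1 • χ - χ 1 • ξ) (by simp [mul_comm])
  rw [classInner_eq_zero_comm.1 (classInner_eq_zero_of_const (smul_sub_smul_mem_span hχ hξ _ _)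
    (by simp [mul_comm]) hc), map_sub, map_smul, map_smul, classInner_sub_right,
    classInner_smul_right, classInner_smul_right, (isCharacter_of_mem_indD hχ).conj_apply_one,
    (isCharacter_of_mem_indD hξ).conj_apply_one] at h1
  exact sub_eq_zero.1 h1

theorem not_const (frob : FrobMod K K ⊥) (hν : CohWith (indD K K ⊥) (indLin L) ν)
    (hS : (indD K K ⊥).Nontrivial) {χ : L → ℂ} (hχ : χ ∈ indD K K ⊥) {c : ℂ} (hc : c ≠ 0) :
    ¬ ∀ a ∈ K, ∀ b ∈ K, a ≠ 1 → b ≠ 1 → (c • ν χ) a = (c • ν χ) b := fun h => by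
  obtain ⟨ξ, hξ, hne⟩ := hS.exists_ne χ
  have := inner_eq_of_const hν.ext ((hν.gen χ hχ).isClassFunction.smul c) h hχ hξ
  simp [classInner_smul_left, hν.iso χ hχ χ hχ, hν.iso χ hχ ξ hξ, (frob.irr hχ).classInner_self,
    (frob.irr hχ).classInner_of_ne (frob.irr hξ) hne.symm, (frob.irr hξ).apply_one_ne_zero, hc] at this

theorem apply_of_orth (frob : FrobMod K K ⊥) (hν : IsExt (indLin L) ν) {ψ : G → ℂ}
    (hψ : IsClassFunction G ψ) (h : ∀ χ ∈ indD K K ⊥, classInner ψ (ν χ) = 0) {ζ : L → ℂ}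
    (hζ : ζ ∈ indD K K ⊥) (h1 : ζ 1 = K.index) {k : L} (hk : k ∈ K) (hk1 : k ≠ 1) :
    ψ k = ψ 1 - classInner (fun x : L => ψ x) ζ * Nat.card K := by
  have he : (K.index : ℂ) ≠ 0 := by exact_mod_cast index_ne_zero_of_finite
  have := frob.apply_eq (hψ.res L) (c := classInner (fun x : L => ψ x) ζ / K.index) (fun χ hχ => by
    have h5 := inner_ext hν hψ (α := ζ 1 • χ - χ 1 • ζ) (by simp [mul_comm])
    rw [map_sub, map_smul, map_smul, classInner_sub_right, classInner_smul_right,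
      classInner_smul_right, h χ hχ, h ζ hζ, classInner_sub_right, classInner_smul_right,
      classInner_smul_right, (isCharacter_of_mem_indD hχ).conj_apply_one,
      (isCharacter_of_mem_indD hζ).conj_apply_one, h1] at h5
    rw [div_mul_eq_mul_div, eq_div_iff he]
    linear_combination -h5) hk hk1
  rwa [div_mul_cancel₀ _ he] at this

theorem card_classes_le {H : Subgroup G} (hH : ∀ x : L, x ∈ K → (x : G) ∈ H) (h0 : H ≠ ⊥)
    (hν : IsExt (indLin L) ν) {ζ : L → ℂ} (hζ : ζ ∈ indD K K ⊥) (ε : ℂ) :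
    Nat.card {C : ConjClasses G // ∀ g : G, ConjClasses.mk g = C → g ∉ H} + 1 ≤
      Nat.card {ψ : IrrCharacter G // ¬ ∃ χ ∈ indD K K ⊥, ε • ν χ = ψ} := by
  classical
  let R := {C : ConjClasses G // ∀ g : G, ConjClasses.mk g = C → g ∉ H}
  let ty : ConjClasses G → R ⊕ Bool := fun C =>
    if h : ∀ g : G, ConjClasses.mk g = C → g ∉ H then Sum.inl ⟨C, h⟩ else Sum.inr (C = 1)
  have h1 : ∀ u ∈ H, ty (ConjClasses.mk u) = Sum.inr (decide (u = 1)) := fun u hu => by
    refine (dif_neg fun h => h u rfl hu).trans ?_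
    simp [ConjClasses.one_eq_mk_one, ConjClasses.mk_eq_mk_iff_isConj]
  have h2 : Function.Surjective fun g => ty (ConjClasses.mk g) := by
    rintro (⟨C, hC⟩ | _ | _)
    · obtain ⟨g, rfl⟩ := ConjClasses.mk_surjective C
      exact ⟨g, dif_pos hC⟩
    · obtain ⟨⟨u, hu⟩, h3⟩ := ne_bot_iff_exists_ne_one.1 h0
      exact ⟨u, (h1 u hu).trans (by simpa using h3)⟩
    · exact ⟨1, (h1 1 H.one_mem).trans (by simp)⟩
  let Φ : (R ⊕ Bool → ℂ) →ₗ[ℂ]
      (Option {ψ : IrrCharacter G // ¬ ∃ χ ∈ indD K K ⊥, ε • ν χ = ψ} → ℂ) :=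
    { toFun := fun c o => classInner (fun g => c (ty (ConjClasses.mk g)))
        (o.elim (ν ζ) fun ψ => ψ.1.1)
      map_add' := fun c d => funext fun o => classInner_add_left _ _ _
      map_smul' := fun r c => funext fun o => classInner_smul_left r _ _ }
  have h3 : Function.Injective Φ := (injective_iff_map_eq_zero Φ).2 fun c hc => by
    have h3 : IsClassFunction G fun g => c (ty (ConjClasses.mk g)) := fun g x =>
      congrArg (fun C => c (ty C)) (ConjClasses.mk_eq_mk_iff_isConj.2 (isConj_conj x g)).symm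
    have h4 : (fun g => c (ty (ConjClasses.mk g))) = 0 := by
      by_contra h4
      obtain ⟨ψ, h5, h6⟩ := h3.exists_irr_classInner_ne_zero h4
      by_cases h7 : ∃ χ ∈ indD K K ⊥, ε • ν χ = ψ
      · obtain ⟨χ, hχ, rfl⟩ := h7
        have h8 := inner_eq_of_const hν h3 (fun a ha b hb ha1 hb1 => by
          rw [h1 _ (hH a ha), h1 _ (hH b hb)]; simp [ha1, hb1]) hχ hζ
        rw [show classInner _ (ν ζ) = 0 from congrFun hc none, mul_zero, mul_eq_zero] at h8
        refine h8.elim (fun e => ne_zero_of_mem_indD hζ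
          ((isCharacter_of_mem_indD hζ).eq_zero_of_apply_one e)) fun e => h6 ?_
        rw [classInner_smul_right, e, mul_zero]
      · exact h6 (congrFun hc (some ⟨⟨ψ, h5⟩, h7⟩))
    funext i
    obtain ⟨g, rfl⟩ := h2 i
    exact congrFun h4 g
  have := Fintype.ofFinite (ConjClasses G)
  have h4 := LinearMap.finrank_le_finrank_of_injective h3
  rw [Module.finrank_fintype_fun_eq_card, Module.finrank_fintype_fun_eq_card, Fintype.card_sum,
    Fintype.card_option, Fintype.card_bool, ← Nat.card_eq_fintype_card,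
    ← Nat.card_eq_fintype_card] at h4
  exact Nat.le_of_succ_le_succ h4

end TI

variable {Ω : Type*} [MulAction G Ω] [Finite Ω] {a b : Ω} {H : Subgroup G}

theorem ZK.ind_apply (hK : ZK G a H) {μ : stabilizer G a → ℂ} (hμ : IsClassFunction _ μ) {u : G}
    (hu : u ∈ H) (h1 : u ≠ 1) : indFun (stabilizer G a) μ u = μ ⟨u, hK.le hu⟩ :=
  indFun_apply_of_TI _ hμ ⟨u, hK.le hu⟩ fun _ hx h => (hx (hK.mem_stab_of_conj hu h1 h)).elim

theorem ZK.ti (hK : ZK G a H) : ∀ x ∈ H.subgroupOf (stabilizer G a), x ≠ 1 →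
    ∀ y ∈ H.subgroupOf (stabilizer G a), ∀ g : G, g * x * g⁻¹ = y → g ∈ stabilizer G a :=
  fun _ hx h1 y _ _ e => hK.mem_stab_of_conj hx (fun e => h1 (Subtype.ext e)) (e ▸ y.2)

namespace ZO

variable (h : ZO G a b) (hK : ZK G a H) [Fintype (stabilizer G a)]
include h hK

theorem ind_apply {μ : stabilizer G a → ℂ} (hμ : IsCharacter _ μ) (g : stabilizer G a)
    (hg : (g : G) ∉ H) : indFun (stabilizer G a) μ g = μ g + conj (μ g) := by
  obtain ⟨c, h1, h2⟩ := hK.exists_fix g.2 hg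
  obtain ⟨s, h3, h4⟩ := two h.hZ h1.symm h1
  have h5 := h.inv h1.symm h3 h4 ⟨g.2, h2⟩
  have h6 : ∀ x : G, extendByZero (stabilizer G a) μ (x * g * x⁻¹) =
      extendByZero (stabilizer G a) (fun _ => μ g) x +
        extendByZero (stabilizer G a) (fun _ => conj (μ g)) (x * s⁻¹) := fun x => by
    by_cases e : x ∈ stabilizer G a
    · rw [extendByZero_of_mem _ _ e, extendByZero_of_not_mem _ _ (g := x * s⁻¹) fun e' => h1
        (((stabilizer G a).inv_mem_iff.1 (((stabilizer G a).mul_mem_cancel_left e).1 e') :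
          s • a = a) ▸ h3).symm, add_zero]
      exact (extendByZero_coe _ μ (⟨x, e⟩ * g * ⟨x, e⟩⁻¹)).trans (hμ.apply_conj _ _)
    rw [extendByZero_of_not_mem _ _ e, zero_add]
    by_cases e' : x * s⁻¹ ∈ stabilizer G a
    · rw [extendByZero_of_mem _ _ e', ← hμ.apply_inv, ← hμ.apply_conj g⁻¹ ⟨_, e'⟩,
        ← extendByZero_coe _ μ]
      congr 1
      simp only [coe_mul, coe_inv, ← h5]
      group
    · rw [extendByZero_of_not_mem _ _ e', extendByZero_of_not_mem]
      intro h7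
      rcases fix_cases h.hZ (by intro e; exact hg (e ▸ H.one_mem)) h1.symm g.2 h2
        (conj_smul_iff.1 h7) with h8 | h8
      · exact e (inv_smul_eq_iff.1 h8).symm
      · exact e' (by
          rw [mem_stabilizer_iff, mul_smul, inv_smul_eq_iff.2 h4.symm]
          exact (inv_smul_eq_iff.1 h8).symm)
  rw [indFun_apply', Finset.sum_congr rfl fun x _ => h6 x, Finset.sum_add_distrib,
    show ∑ x, extendByZero _ _ (x * s⁻¹) = _ from
      Equiv.sum_comp (Equiv.mulRight s⁻¹) (extendByZero (stabilizer G a) fun _ => conj (μ g)),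
    sum_extendByZero, sum_extendByZero, ← Finset.sum_add_distrib, Finset.sum_const,
    Finset.card_univ, ← Nat.card_eq_fintype_card, nsmul_eq_mul,
    inv_mul_cancel_left₀ (card_ne_zero' _)]

theorem inner_ind {μ ν : stabilizer G a → ℂ} (hμ : IsCharacter _ μ) (hν : IsClassFunction _ ν)
    (h1 : ∀ u : stabilizer G a, (u : G) ∈ H → μ u = 1)
    (h2 : ∀ u : stabilizer G a, (u : G) ∈ H → ν u = 1) :
    classInner (indFun _ μ) (indFun _ ν) = classInner μ ν + classInner (conjFun μ) ν := by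
  classical
  have h3 : ∀ x : stabilizer G a, indFun _ μ x * conj (ν x) =
      μ x * conj (ν x) + conjFun μ x * conj (ν x) + ((if x = 1 then (Nat.card H : ℂ) else 0) -
        extendByZero (H.subgroupOf (stabilizer G a)) (fun _ => 1) x) := fun x => by
    by_cases e : (x : G) ∈ H
    · rw [extendByZero_of_mem _ _ (show x ∈ H.subgroupOf _ from e), conjFun_apply, h1 x e, h2 x e]
      split_ifs with e'
      · rw [e', OneMemClass.coe_one, indFun_one, index_stab h.hZ, ← hK.card, h1 1 H.one_mem]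
        simp; ring
      · rw [hK.ind_apply hμ.isClassFunction e fun e => e' (Subtype.ext e), h1 _ e]
        simp
    · rw [h.ind_apply hK hμ x e, extendByZero_of_not_mem _ _ (show x ∉ H.subgroupOf _ from e),
        if_neg (by rintro rfl; exact e H.one_mem), conjFun_apply]
      ring
  rw [frobenius_right _ _ (hμ.ind.isClassFunction), classInner, classInner, classInner, ← mul_add,
    Finset.sum_congr rfl fun x _ => h3 x, Finset.sum_add_distrib, Finset.sum_add_distrib,
    Finset.sum_sub_distrib, sum_extendByZero, Finset.sum_ite_eq', if_pos (Finset.mem_univ _),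
    Finset.sum_const, Finset.card_univ, ← Nat.card_eq_fintype_card, hK.card_sub]
  simp

theorem conj_ne {μ : stabilizer G a → ℂ} (hμ : IsCharacter _ μ)
    (h1 : ∀ u : stabilizer G a, (u : G) ∈ H → μ u = 1) (h2 : μ ≠ fun _ => 1) : conjFun μ ≠ μ := by
  obtain ⟨ω, rfl⟩ := hμ.exists_units_of_apply_one (h1 1 H.one_mem)
  have := hK.normal
  intro e
  refine h2 (funext fun g => ?_)
  obtain ⟨m, hm⟩ := h.odd
  have h3 := h1 _ (mem_subgroupOf.1 ((H.subgroupOf (stabilizer G a)).pow_index_mem g))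
  have h4 : ω g * ω g = 1 := by
    have := congrFun e g
    rw [conjFun_apply, conj_units_hom, Units.val_inj] at this
    exact mul_eq_one_iff_eq_inv.2 this.symm
  beta_reduce at h3
  rwa [hK.index h.ne, hm, map_pow, pow_succ, pow_mul, sq, h4, one_pow, one_mul] at h3

theorem irr_ind {μ : stabilizer G a → ℂ} (hμ : IsCharacter _ μ)
    (h1 : ∀ u : stabilizer G a, (u : G) ∈ H → μ u = 1) (h2 : μ ≠ fun _ => 1) :
    IsIrrCharacter G (indFun _ μ) := by
  have h3 := hμ.isIrr_of_apply_one (h1 1 H.one_mem)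
  refine hμ.ind.isIrr_of_classInner_self ?_
  rw [h.inner_ind hK hμ hμ.isClassFunction h1 h1, h3.classInner_self,
    h3.conjFun.classInner_of_ne h3 (h.conj_ne hK hμ h1 h2), add_zero]

theorem irr_st : IsIrrCharacter G (indFun (stabilizer G a) (fun _ => 1) - fun _ => 1) := by
  have h1 := h.inner_ind hK isCharacter_one (IsClassFunction.const 1) (fun _ _ => rfl) fun _ _ => rfl
  have h2 : classInner (indFun (stabilizer G a) fun _ => 1) (fun _ => 1) = 1 := by
    rw [frobenius_left _ _ (IsClassFunction.const 1)]; exact isIrrCharacter_one.classInner_self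
  refine (isCharacter_one.ind.isGen.sub isCharacter_one.isGen).isIrr_of_re_nonneg ?_
    (isCharacter_one.ind.sub_irr isIrrCharacter_one (h2.trans_ne one_ne_zero)).degree_re_nonneg
  have h3 : conjFun (fun _ : stabilizer G a => (1 : ℂ)) = fun _ => 1 := by ext; simp [conjFun]
  rw [h3, isIrrCharacter_one.classInner_self] at h1
  rw [classInner_sub_left, classInner_sub_right, classInner_sub_right, h1, h2,
    isCharacter_one.classInner_comm isCharacter_one.ind, h2, isIrrCharacter_one.classInner_self]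
  ring

theorem exists_T : ∃ T : Finset (IrrCharacter G), Nat.card (E G a b) ≤ 2 * T.card + 1 ∧
    ∀ ψ ∈ T, ∃ μ : stabilizer G a → ℂ, IsCharacter _ μ ∧
      (∀ u : stabilizer G a, (u : G) ∈ H → μ u = 1) ∧ ψ.1 = indFun _ μ := by
  classical
  have := hK.normal
  have := h.simple
  have hc : ∀ x y : stabilizer G a ⧸ H.subgroupOf (stabilizer G a), x * y = y * x := by
    have h1 : Function.Surjective ((QuotientGroup.mk' (H.subgroupOf (stabilizer G a))).comp
        (inclusion (inf_le_left : E G a b ≤ _))) := fun x => by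
      obtain ⟨g, rfl⟩ := QuotientGroup.mk'_surjective _ x
      obtain ⟨u, hu, e⟩ := hK.trans (c := (g : G)⁻¹ • b) (d := b)
        (fun e => h.ne ((inv_smul_eq_iff.1 e).trans g.2).symm) h.ne.symm
      refine ⟨⟨g * u⁻¹, mem_E.2 ⟨(stabilizer G a).mul_mem g.2 ((stabilizer G a).inv_mem (hK.le hu)),
        ?_⟩⟩, QuotientGroup.eq.2 ?_⟩
      · rw [mul_smul, inv_smul_eq_iff.2 e.symm, smul_inv_smul]
      · simpa [mem_subgroupOf] using hu
    exact comm_of_isCyclic (haveI := (inverts_simple h.hZ h.ne h.odd).1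
      isCyclic_of_surjective _ h1)
  let μ : (stabilizer G a ⧸ H.subgroupOf (stabilizer G a) →* ℂˣ) → stabilizer G a → ℂ :=
    fun ω => lc (ω.comp (QuotientGroup.mk' _))
  have h1 : ∀ ω (u : stabilizer G a), (u : G) ∈ H → μ ω u = 1 := fun ω u hu => by
    simp [μ, (QuotientGroup.eq_one_iff u).2 (show u ∈ H.subgroupOf _ from hu)]
  have h2 : Function.Injective μ := fun ω ω' e =>
    (MonoidHom.cancel_right (QuotientGroup.mk'_surjective _)).1 (lc_injective e)
  have h3 : ∀ ω, IsIrrCharacter _ (μ ω) := fun ω => isIrr_lc _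
  let f : {ω : stabilizer G a ⧸ H.subgroupOf (stabilizer G a) →* ℂˣ // ω ≠ 1} → IrrCharacter G :=
    fun ω => ⟨_, h.irr_ind hK (h3 ω).isCharacter (h1 ω) fun e => ω.2 (h2 e)⟩
  refine ⟨Finset.univ.image f, ?_, fun ψ hψ => ?_⟩
  · have h4 := Finset.card_le_mul_card_image (f := f) Finset.univ 2 fun ψ hψ => by
      obtain ⟨ω, -, rfl⟩ := Finset.mem_image.1 hψ
      refine (Finset.card_le_card (t := {ω, ⟨ω.1⁻¹, fun e => ω.2 (MonoidHom.ext fun x => inv_eq_one.1 (DFunLike.congr_fun e x))⟩}) fun ω' hω' => ?_).trans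
        Finset.card_le_two
      have h5 := h.inner_ind hK (h3 ω).isCharacter (h3 ω').isClassFunction (h1 ω) (h1 ω')
      rw [show indFun _ (μ ω') = _ from congrArg Subtype.val (Finset.mem_filter.1 hω').2,
        show classInner (indFun _ (μ ω)) _ = 1 from (f ω).2.classInner_self] at h5
      by_contra h6
      simp only [Finset.mem_insert, Finset.mem_singleton, not_or] at h6
      rw [(h3 ω).classInner_of_ne (h3 ω') (h2.ne fun e => h6.1 (Subtype.ext e.symm)),
        show conjFun (μ ω) = μ ω.1⁻¹ from conjFun_lc _,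
        (h3 _).classInner_of_ne (h3 ω') (h2.ne fun e => h6.2 (Subtype.ext e.symm))] at h5
      simp at h5
    rw [Finset.card_univ, Fintype.card_subtype_compl, Fintype.card_subtype_eq,
      ← Nat.card_eq_fintype_card, card_lc hc, ← index_eq_card, hK.index h.ne] at h4
    omega
  · obtain ⟨ω, -, rfl⟩ := Finset.mem_image.1 hψ
    exact ⟨_, (h3 ω).isCharacter, h1 ω, rfl⟩

theorem not_coh (hlt : 2 * Nat.card (E G a b) + 2 < Nat.card Ω) :
    ¬ Coh (indD (H.subgroupOf (stabilizer G a)) (H.subgroupOf (stabilizer G a)) ⊥)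
      (indLin (stabilizer G a)) := by
  classical
  rintro ⟨ν, hν⟩
  have := hK.normal
  have := h.simple
  have frob := hK.frob
  have hi := hK.index h.ne
  have hc := hK.card_sub
  have hn := hK.card
  have he := one_lt_card_E h.hZ h.ne
  have h0 : H.subgroupOf (stabilizer G a) ≠ ⊥ := fun e => hK.ne_bot (by
    rw [← card_eq_one, ← hc, e, card_bot])
  have hS := frob.nontrivial h0 hK.ne_top (by omega)
  have hnil := frob.isNilpotent hK.ne_top
  have iso := isoOn_ind_of_ti hK.ti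
  obtain ⟨ε, hε, hirr⟩ := iso.exists_sign subset_rfl hν fun _ => frob.irr
  have hε0 : ε ≠ 0 := by rcases hε with rfl | rfl <;> simp
  obtain ⟨ζ, hζ, hζ1⟩ := exists_mem_indD_index (M := ⊥) le_rfl bot_le
    (not_le_commutator_sup inferInstance (bot_lt_iff_ne_bot.2 h0))
  obtain ⟨T, hT, hT'⟩ := h.exists_T hK
  obtain ⟨z, hz0, hz⟩ := (hirr ζ hζ).exists_degree
  set S := indD (H.subgroupOf (stabilizer G a)) (H.subgroupOf (stabilizer G a)) ⊥ with hSd
  let A := Finset.univ.filter fun ψ : IrrCharacter G => ¬ ∃ χ ∈ S, ε • ν χ = ψ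
  have hA : Nat.card (E G a b) + 1 ≤ A.card := by
    have := card_classes_le (H := H) (fun _ h => h) hK.ne_bot hν.ext hζ ε
    rw [Nat.card_eq_fintype_card (α := {ψ : IrrCharacter G // _}), Fintype.card_subtype] at this
    exact (Nat.add_le_add_right (h.le_card_classes hK) 1).trans this
  have hmem : ∀ ψ : IrrCharacter G, (∃ c, ∀ u ∈ H, u ≠ 1 → ψ.1 u = c) → ψ ∈ A := by
    rintro ψ ⟨c, hc⟩
    refine Finset.mem_filter.2 ⟨Finset.mem_univ _, ?_⟩
    rintro ⟨χ, hχ, e⟩
    exact not_const frob hν hS hχ hε0 fun x hx y hy hx1 hy1 => by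
      rw [e, hc x hx fun e => hx1 (Subtype.ext e), hc y hy fun e => hy1 (Subtype.ext e)]
  set e := Nat.card (E G a b)
  set n := Nat.card H
  have hdeg : ∀ ψ ∈ A, ψ.1 ≠ (fun _ => 1) → ((n : ℝ) - 1) ^ 2 ≤ deg ψ.1 ^ 2 := fun ψ hψ h1 => by
    have h2 := fun k => apply_of_orth (k := k) frob hν.ext ψ.2.isClassFunction (fun χ hχ => by
      have := ψ.2.classInner_of_ne (hirr χ hχ) fun e => (Finset.mem_filter.1 hψ).2 ⟨χ, hχ, e.symm⟩
      rwa [classInner_smul_right, mul_eq_zero, map_eq_zero, or_iff_right hε0] at this) hζ hζ1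
    obtain ⟨k, hk⟩ := (ψ.2.isCharacter.res _).classInner_eq_nat (frob.irr hζ).isCharacter
    obtain ⟨d, -, hd⟩ := ψ.2.exists_degree
    rw [hk, hd, hc] at h2
    have hk0 : k ≠ 0 := by
      rintro rfl
      refine hK.ne_bot (eq_bot_iff.2 (((ψ.2.isCharacter.normal_charKer.eq_bot_or_eq_top).resolve_right
        (ψ.2.charKer_ne_top h1)) ▸ fun u hu => ψ.2.isCharacter.mem_charKer.2 ?_))
      by_cases e : u = 1
      · rw [e]
      · simpa [hd] using h2 ⟨u, hK.le hu⟩ hu fun e' => e (congrArg Subtype.val e')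
    have := Fintype.ofFinite H
    obtain ⟨m, hm⟩ := (ψ.2.isCharacter.res H).classInner_eq_nat isCharacter_one
    rw [classInner_one_right, ← Finset.add_sum_erase _ _ (Finset.mem_univ 1), Finset.sum_congr rfl
      (g := fun _ => (d : ℂ) - k * n) fun (u : H) hu => h2 ⟨u, hK.le u.2⟩ u.2 fun e =>
        Finset.ne_of_mem_erase hu (Subtype.ext (Subtype.ext_iff.1 e :)), Finset.sum_const,
      Finset.card_erase_of_mem (Finset.mem_univ _), Finset.card_univ, ← Nat.card_eq_fintype_card,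
      OneMemClass.coe_one, hd, nsmul_eq_mul, Nat.cast_sub (by omega),
      inv_mul_eq_iff_eq_mul₀ (card_ne_zero' H)] at hm
    have h3 : (d : ℂ) = m + k * (n - 1) :=
      mul_left_cancel₀ (card_ne_zero' H) (by push_cast at hm; linear_combination hm)
    have h4 : (d : ℝ) = m + k * (n - 1) := by exact_mod_cast h3
    have h5 : (1 : ℝ) ≤ n := by exact_mod_cast (by omega : 1 ≤ n)
    have h6 : (1 : ℝ) ≤ k := by exact_mod_cast Nat.pos_of_ne_zero hk0
    rw [deg_eq_nat hd]
    have : (0 : ℝ) ≤ m := Nat.cast_nonneg m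
    exact pow_le_pow_left₀ (by linarith) (by nlinarith) 2
  let St : IrrCharacter G := ⟨_, h.irr_st hK⟩
  let o : IrrCharacter G := ⟨_, isIrrCharacter_one⟩
  have hind : ∀ μ : stabilizer G a → ℂ, μ 1 = 1 → indFun _ μ 1 = (n + 1 : ℕ) := fun μ h1 => by
    rw [indFun_one, index_stab h.hZ, h1, ← hn, mul_one]
  have d1 : deg o.1 = 1 := by simp [o, deg]
  have d2 : deg St.1 = n := deg_eq_nat (by simp [St, hind])
  have d3 : ∀ ψ ∈ T, deg ψ.1 = n + 1 := fun ψ hψ => by
    obtain ⟨μ, -, h1, h2⟩ := hT' ψ hψ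
    rw [deg_eq_nat (r := n + 1) (h2 ▸ hind μ (h1 1 H.one_mem))]; simp
  have hn1 : (1 : ℝ) < n := by exact_mod_cast (by omega : 1 < n)
  have m1 : St ∉ T := fun e => by linarith [d3 _ e]
  have m2 : o ∉ insert St T := fun e => by
    rcases Finset.mem_insert.1 e with e | e
    · rw [e] at d1; linarith
    · linarith [d3 _ e]
  have hsub : insert o (insert St T) ⊆ A := fun ψ hψ => hmem ψ (by
    simp only [Finset.mem_insert] at hψ
    rcases hψ with rfl | rfl | hψ
    · exact ⟨1, fun _ _ _ => rfl⟩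
    · exact ⟨0, fun u hu h1 => by simp [St, hK.ind_apply (IsClassFunction.const 1) hu h1]⟩
    · obtain ⟨μ, h1, h2, h3⟩ := hT' ψ hψ
      exact ⟨1, fun u hu h4 => by rw [h3, hK.ind_apply h1.isClassFunction hu h4, h2 _ hu]⟩)
  have s1 : ∑ ψ : IrrCharacter G, deg ψ.1 ^ 2 = (n + 1) * (n * e) := by
    have := sum_degree_sq (G := G)
    rw [Finset.sum_congr rfl fun ψ _ => by rw [← ψ.2.isCharacter.coe_deg], card_G h.hZ h.ne, ← hn,
      Nat.add_sub_cancel] at this
    exact_mod_cast this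
  have s2 : (e : ℝ) * (n ^ 2 + 1) ≤ ∑ ψ ∈ A, deg ψ.1 ^ 2 := by
    rw [← Finset.sum_sdiff hsub, Finset.sum_insert m2, Finset.sum_insert m1, d1, d2,
      Finset.sum_congr (s₁ := T) rfl fun ψ hψ => by rw [d3 ψ hψ], Finset.sum_const, nsmul_eq_mul]
    have h1 := Finset.card_nsmul_le_sum (A \ insert o (insert St T)) (fun ψ => deg ψ.1 ^ 2) _
      fun ψ hψ => hdeg ψ (Finset.mem_sdiff.1 hψ).1 fun e => (Finset.mem_sdiff.1 hψ).2
        (Finset.mem_insert.2 (Or.inl (Subtype.ext e)))
    have h2 := Finset.card_sdiff_add_card_eq_card hsub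
    rw [Finset.card_insert_of_notMem m2, Finset.card_insert_of_notMem m1] at h2
    rw [nsmul_eq_mul] at h1
    have h3 : (e : ℝ) ≤ (A \ insert o (insert St T)).card + T.card + 1 := by
      exact_mod_cast (by omega : e ≤ (A \ insert o (insert St T)).card + T.card + 1)
    have h4 : (e : ℝ) ≤ 2 * T.card + 1 := by exact_mod_cast hT
    nlinarith [mul_le_mul_of_nonneg_right h3 (sq_nonneg ((n : ℝ) - 1)),
      mul_le_mul_of_nonneg_right h4 (by linarith : (0 : ℝ) ≤ n)]
  have he0 : (0 : ℝ) < e := by exact_mod_cast (by omega : 0 < e)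
  have s3 : ∑ ψ ∈ Finset.univ.filter fun ψ : IrrCharacter G => ∃ χ ∈ S, ε • ν χ = ψ, deg ψ.1 ^ 2 =
      (z / e) ^ 2 * (e * (n - 1)) := by
    rw [← hi, ← hc, ← frob.sum_sq, Finset.mul_sum, hi]
    symm
    refine Finset.sum_bij (fun χ hχ => ⟨_, hirr χ (mem_indF.1 hχ)⟩)
      (fun χ hχ => Finset.mem_filter.2 ⟨Finset.mem_univ _, χ, mem_indF.1 hχ, rfl⟩)
      (fun χ hχ ξ hξ e => ?_) (fun ψ hψ => ?_) fun χ hχ => ?_
    · refine (frob.irr (mem_indF.1 hχ)).eq_of_classInner_ne_zero (frob.irr (mem_indF.1 hξ)) ?_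
      rw [← hν.iso χ (mem_indF.1 hχ) ξ (mem_indF.1 hξ),
        smul_right_injective _ hε0 (congrArg Subtype.val e), hν.iso ξ (mem_indF.1 hξ) ξ
        (mem_indF.1 hξ), (frob.irr (mem_indF.1 hξ)).classInner_self]
      exact one_ne_zero
    · obtain ⟨χ, hχ, e⟩ := (Finset.mem_filter.1 hψ).2
      exact ⟨χ, mem_indF.2 hχ, Subtype.ext e⟩
    · have h1 := iso.ext_one hν.ext (Submodule.subset_span (mem_indF.1 hχ)) (Submodule.subset_span hζ)
      rw [← mul_pow, deg_eq_of (χ := ε • ν χ) (r := z / e * deg χ)]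
      have h2 : (e : ℂ) ≠ 0 := by exact_mod_cast he0.ne'
      rw [hζ1, hi] at h1
      push_cast
      rw [(frob.irr (mem_indF.1 hχ)).isCharacter.coe_deg, ← hz, div_mul_eq_mul_div, eq_div_iff h2]
      simp only [Pi.smul_apply, smul_eq_mul]
      linear_combination ε * h1
  have hze : z ≤ e := by
    rw [← Finset.sum_filter_add_sum_filter_not _ fun ψ : IrrCharacter G => ∃ χ ∈ S, ε • ν χ = ψ,
      s3] at s1
    have h1 : ((z : ℝ) / e) ^ 2 ≤ 1 := le_of_mul_le_mul_right (a := (e : ℝ) * (n - 1))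
      (by linarith) (mul_pos he0 (by linarith))
    have h2 := abs_le_one_iff_mul_self_le_one.2 (sq (z / e : ℝ) ▸ h1)
    rw [abs_of_nonneg (by positivity), div_le_one he0] at h2
    exact_mod_cast h2
  obtain ⟨χ, hχ, h1⟩ : ∃ χ ∈ S, classInner (fun x : stabilizer G a => (ε • ν ζ) x) χ ≠ 0 := by
    by_contra! h1
    have h2 := fun k => frob.apply_eq (k := k) ((hirr ζ hζ).isClassFunction.res _) (c := 0)
      fun χ hχ => by rw [h1 χ hχ, zero_mul]
    exact not_const frob hν hS hζ hε0 fun x hx y hy hx1 hy1 => (h2 x hx hx1).trans (h2 y hy hy1).symm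
  have hres := (hirr ζ hζ).isCharacter.res (stabilizer G a)
  obtain ⟨d, hd0, hd⟩ := exists_degree_of_mem_indD hχ
  obtain ⟨m, hm⟩ := hres.classInner_eq_nat (frob.irr hχ).isCharacter
  have h2 := hres.mul_degree_le (frob.irr hχ) hm (d := e * d) (by rw [hd, hi]; simp) hz
  have hm0 : 0 < m := Nat.pos_of_ne_zero (by rintro rfl; exact h1 (by simpa using hm))
  have h3 : e * d ≤ z := (Nat.le_mul_of_pos_left _ hm0).trans h2
  have h4 : z = e * d := le_antisymm (hze.trans (Nat.le_mul_of_pos_right _ hd0)) h3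
  have h5 := hres.eq_of_constituent_of_apply_one (frob.irr hχ) h1 (by
    rw [hd, hi, ← Nat.cast_mul, ← h4]; exact hz)
  have h6 := (hirr ζ hζ).isCharacter.mul (hirr ζ hζ).isCharacter.conj
  obtain ⟨c, h7, h8⟩ := h6.exists_coeff
  have h9 : ∀ ψ ∈ insert o T, c ψ = 1 := fun ψ hψ => by
    refine Nat.cast_injective (R := ℂ) ((h7 ψ).symm.trans ?_)
    rcases Finset.mem_insert.1 hψ with rfl | hψ
    · rw [← classInner_mul_right, Nat.cast_one, ← (hirr ζ hζ).classInner_self]
      congr 1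
      exact mul_one _
    obtain ⟨μ, -, h9, h10⟩ := hT' ψ hψ
    rw [h10, frobenius_right _ _ h6.isClassFunction, Nat.cast_one, ← (frob.irr hχ).classInner_self]
    unfold classInner
    congr 1
    refine Finset.sum_congr rfl fun x _ => ?_
    have := congrFun h5 x
    simp only [Pi.mul_apply] at this ⊢
    rw [this]
    by_cases e : (x : G) ∈ H
    · simp [h9 x e]
    · simp [eq_zero_of_mem_indD hχ e]
  have h10 : ((z : ℝ) ^ 2) = ∑ ψ : IrrCharacter G, c ψ * deg ψ.1 := by
    have := congrFun h8 1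
    rw [Finset.sum_apply, Finset.sum_congr rfl fun ψ _ => by
      rw [Pi.smul_apply, smul_eq_mul, ← ψ.2.isCharacter.coe_deg], Pi.mul_apply, hz, map_natCast,
      ← sq] at this
    exact_mod_cast this
  have h11 := Finset.sum_le_sum_of_subset_of_nonneg (Finset.subset_univ (insert o T))
    (f := fun ψ => c ψ * deg ψ.1) fun ψ _ _ => mul_nonneg (Nat.cast_nonneg _) ψ.2.deg_pos.le
  rw [← h10, Finset.sum_congr rfl fun ψ hψ => by rw [h9 ψ hψ, Nat.cast_one, one_mul],
    Finset.sum_insert (mt Finset.mem_insert_of_mem m2), d1,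
    Finset.sum_congr rfl d3, Finset.sum_const, nsmul_eq_mul] at h11
  have h12 : 1 + T.card * (n + 1) ≤ z ^ 2 := by exact_mod_cast h11
  have h13 := Nat.pow_le_pow_left hze 2
  nlinarith [Nat.mul_le_mul_right (n + 1) hT]

end ZO

theorem feit_zass_simple (h : ZO G a b) (hK : ZK G a H) :
    Nat.card Ω ≤ 2 * Nat.card (E G a b) + 2 ∨
      (IsPGroup 2 H ∧ ⁅H, H⁆ ≠ ⊥ ∧ ⁅H, H⁆.relIndex H < 4 * Nat.card (E G a b) ^ 2) := by
  refine or_iff_not_imp_left.2 fun hlt => ?_
  have := Fintype.ofFinite (normalizer (H : Set G))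
  have h1 := feit_sibley (K := H) (fun g hg k hk e => by
    by_contra h1
    exact hg (hK.normalizer_eq ▸ hK.mem_stab_of_conj hk h1 (hK.le e)))
    (hK.normalizer_eq ▸ hK.lt) hK.centralizer_le
  revert this
  rw [hK.normalizer_eq, hK.index h.ne]
  exact fun _ h1 => h1.resolve_left (h.not_coh hK (not_le.1 hlt))

end Cfsg.Agent.Zass
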