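import Cfsg.Agent.Lib.Char.Zass4

/-!
Feit's theorem on Zassenhaus groups: the general form.
-/

set_option autoImplicit false
set_option linter.unusedSectionVars false

namespace Cfsg.Agent.Zass

open MulAction Subgroup Cfsg.Agent.Perm Cfsg.Agent.Char

universe u

theorem index_commutator_congr {A B : Type*} [Group A] [Group B] (f : A ≃* B) :
    (commutator B).index = (commutator A).index := by
  rw [← index_map_equiv _ f, commutator_def, commutator_def, map_commutator,
    map_top_of_surjective _ f.surjective]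

theorem feit_zass {Ω : Type*} [Finite Ω] {a b : Ω} (hab : a ≠ b) (n : ℕ) :
    ∀ (G : Type u) [Group G] [MulAction G Ω] (H : Subgroup G), Nat.card G = n → ZK G a H →
      Odd (Nat.card (E G a b)) → Nat.card Ω ≤ 2 * Nat.card (E G a b) + 2 ∨
        (IsPGroup 2 H ∧ (∃ u v : H, u * v ≠ v * u) ∧
          (commutator H).index < 4 * Nat.card (E G a b) ^ 2) := by
  induction n using Nat.strong_induction_on with | _ n ih
  intro G _ _ H hn hK hodd
  have := finite hK.hZ
  by_cases hs : IsSimpleGroup G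
  · have := Fintype.ofFinite G
    refine (feit_zass_simple ⟨hK.hZ, hs, hab, hodd⟩ hK).imp_right fun h => ⟨h.1, ?_, ?_⟩
    · by_contra! h1
      exact h.2.1 (commutator_eq_bot_iff_le_centralizer.2 fun x hx y hy =>
        congrArg Subtype.val (h1 ⟨y, hy⟩ ⟨x, hx⟩))
    · rw [← commutator_subgroupOf]
      exact h.2.2
  have := nontrivial hK.hZ
  obtain ⟨N, hN, h0, h1⟩ : ∃ N : Subgroup G, N.Normal ∧ N ≠ ⊥ ∧ N ≠ ⊤ := by
    by_contra! h
    exact hs ⟨fun N hN => or_iff_not_imp_left.2 (h N hN)⟩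
  have h2 := le_normal hK.hZ hK N h0
  let f := subgroupOfEquivOfLe h2
  have h3 : Nat.card (E N a b) ∣ Nat.card (E G a b) :=
    card_dvd_of_injective ((N.subtype.comp (E N a b).subtype).codRestrict (E G a b) fun x => x.2)
      fun x y e => Subtype.ext (Subtype.ext (Subtype.ext_iff.1 e :))
  have h4 := Nat.le_of_dvd Nat.card_pos h3
  refine (ih _ (hn ▸ Solv.card_lt_of_ne_top h1) N (H.subgroupOf N) rfl
    ⟨normal_zass hK.hZ N h0, fun x hx => hK.le hx, by rw [Nat.card_congr f.toEquiv, hK.card],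
      fun u hu h1 => hK.fix u hu fun e => h1 (Subtype.ext e)⟩ (hodd.of_dvd_nat h3)).imp
    (fun h => by omega) fun ⟨h5, ⟨u, v, h6⟩, h7⟩ => ⟨h5.of_equiv f, ⟨f u, f v, fun e => h6
      (f.injective (by simpa using e))⟩, ?_⟩
  rw [index_commutator_congr f]
  exact h7.trans_le (by gcongr)

variable {G Ω : Type*} [Group G] [MulAction G Ω] [Finite Ω] {a b : Ω} {H : Subgroup G}

theorem ZK.exists_isPGroup (hK : ZK G a H) : ∃ p : ℕ, p.Prime ∧ IsPGroup p H := by
  obtain ⟨b, hab⟩ := exists_ne' hK.hZ a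
  have h1 : Nat.card Ω - 2 ≤ 2 * Nat.card (E G a b) → ∃ p : ℕ, p.Prime ∧ IsPGroup p H := fun h =>
    (hK.elementary hab h).imp fun p h => ⟨h.1, Solv.isPGroup_of_pow_eq_one h.2.2⟩
  rcases Nat.even_or_odd (Nat.card (E G a b)) with h | h
  · exact h1 (le_two_mul_of_even hK.hZ hab h)
  · exact (feit_zass hab _ G H rfl hK h).elim (fun h => h1 (by omega))
      fun h => ⟨2, Nat.prime_two, h.1⟩

theorem isPrimePow_card (hZ : IsZassenhausGroup G Ω) : IsPrimePow (Nat.card Ω - 1) := by
  obtain ⟨-, -, a, -, -⟩ := hZ.2.2.2.1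
  obtain ⟨H, hK⟩ := exists_ZK hZ a
  obtain ⟨p, hp, h⟩ := hK.exists_isPGroup
  have := Fact.mk hp
  have := finite hZ
  obtain ⟨k, hk⟩ := IsPGroup.iff_card.1 h
  rw [← hK.card, Nat.add_sub_cancel, hk]
  exact hp.prime.isPrimePow.pow (by rintro rfl; exact hK.ne_bot (card_eq_one.1 hk))

theorem zk_of_regular (hZ : IsZassenhausGroup G Ω) (hle : H ≤ stabilizer G a)
    (hreg : ∀ y z : Ω, y ≠ a → z ≠ a → ∃! u : H, (u : G) • y = z) : ZK G a H := by
  refine ⟨hZ, hle, ?_, fun u hu h1 c hc => ?_⟩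
  · obtain ⟨b, hab⟩ := exists_ne' hZ a
    have : Nat.card H = Nat.card ({a}ᶜ : Set Ω) := Nat.card_eq_of_bijective
      (fun u => ⟨(u : G) • b, fun e => hab (MulAction.injective (u : G) ((hle u.2).trans e.symm))⟩)
      ⟨fun u v e => (hreg b _ hab.symm fun e' => hab (MulAction.injective (v : G)
        ((hle v.2).trans e'.symm))).unique (Subtype.ext_iff.1 e :) rfl,
        fun c => (hreg b c hab.symm c.2).exists.imp fun _ h => Subtype.ext h⟩
    have := three_le_card hZ
    rw [‹Nat.card H = _›, Nat.card_coe_set_eq, Set.ncard_compl, Set.ncard_singleton]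
    omega
  · by_contra h
    exact h1 (Subtype.ext_iff.1 ((hreg c c h h).unique (y₁ := ⟨u, hu⟩) (y₂ := 1) hc (one_smul _ _)) :)

end Cfsg.Agent.Zass
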