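import Cfsg.Agent.Lib.Char.Zass5
import Cfsg.Agent.Lib.Char.IrrField
import Cfsg.Agent.Lib.Perm.Dick2

/-!
Zassenhaus groups with abelian kernel: coordinates on the projective line.
-/

set_option autoImplicit false
set_option linter.unusedSectionVars false

namespace Cfsg.Agent.Zass

open MulAction Subgroup Cfsg.Agent.Perm Cfsg.Agent.Char OnePoint Cfsg.Agent.Perm.GL2

theorem card_eq_pow_orderOf {F : Type*} [Field F] [Finite F] (σ : F ≃+* F) :
    Nat.card F = Nat.card {x // σ x = x} ^ orderOf σ := by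
  have : Finite (F ≃+* F) := Finite.of_injective (fun f : F ≃+* F => (f : F → F))
    DFunLike.coe_injective
  have := Fintype.ofFinite (zpowers σ)
  have h1 := FixedPoints.finrank_eq_card (zpowers σ) F
  rw [← Nat.card_eq_fintype_card, Nat.card_zpowers] at h1
  rw [← h1, Module.natCard_eq_pow_finrank (K := FixedPoints.subfield (zpowers σ) F)]
  congr 1
  refine Nat.card_congr (Equiv.subtypeEquivRight fun x => ⟨fun h => h ⟨σ, mem_zpowers σ⟩, fun h g =>
    zpowers_le.2 (show σ ∈ stabilizer (F ≃+* F) x from h) g.2⟩)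

variable {G Ω : Type*} [Group G] [MulAction G Ω] [Finite Ω] {a b c : Ω} {H N : Subgroup G}

theorem swap_conj (hZ : IsZassenhausGroup G Ω) (hab : a ≠ b)
    (hle : 2 * Nat.card (E G a b) ≤ Nat.card Ω - 2) {t : G} (ht : t ∈ E G a b) (h2 : orderOf t = 2)
    {g : G} (h1 : g • a = b) (h0 : g • b = a) : IsConj t g := by
  classical
  have := finite hZ
  have := Fintype.ofFinite G
  have := Fintype.ofFinite Ω
  have ht1 : t ≠ 1 := by rintro rfl; simp at h2
  let X := Finset.univ.filter fun x : G => IsConj t x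
  have h3 : Nat.card G ≤ X.card * (2 * Nat.card (E G a b)) := by
    rw [← card_normalizer_E hZ hab, ← (centralizer {t}).index_mul_card, ← Char.card_isConj_eq_index,
      Nat.card_eq_fintype_card, Fintype.card_subtype]
    exact Nat.mul_le_mul_left _ (card_le_of_le (centralizer_le_normalizer_E hZ hab ht ht1))
  have h4 : ∑ x ∈ X, (Finset.univ.filter fun c : Ω => x • c ≠ c).card =
      ∑ c : Ω, (X.filter fun x => x • c ≠ c).card := by
    simp only [Finset.card_filter]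
    exact Finset.sum_comm
  have h5 : ∀ x ∈ X, orderOf x = 2 := fun x hx => by
    obtain ⟨g, rfl⟩ := isConj_iff.1 (Finset.mem_filter.1 hx).2
    exact ((MulAut.conj g).orderOf_eq t).trans h2
  have h6 := Finset.card_nsmul_le_sum X (fun x => (Finset.univ.filter fun c : Ω => x • c ≠ c).card)
    (Nat.card Ω - 2) fun x hx => by
      have h6 := ncard_fixedBy_le hZ (g := x) (by rintro rfl; simpa using h5 _ hx)
      have h7 := Finset.card_filter_add_card_filter_not (s := Finset.univ) fun c : Ω => x • c = c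
      rw [Nat.card_eq_fintype_card, Fintype.card_subtype] at h6
      rw [Finset.card_univ, ← Nat.card_eq_fintype_card] at h7
      change (Finset.univ.filter fun c : Ω => x • c = c).card ≤ 2 at h6
      simp only [ne_eq]
      omega
  have h7 : ∀ c : Ω, X.filter (fun x => x • c ≠ c) ⊆
      Finset.univ.filter fun g : G => g • c ≠ c ∧ g • g • c = c := fun c x hx => by
    rw [Finset.mem_filter] at hx ⊢
    exact ⟨Finset.mem_univ _, hx.2, by
      rw [← mul_smul, ← sq, ← h5 x hx.1, pow_orderOf_eq_one, one_smul]⟩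
  have h8 := Finset.sum_le_sum (s := Finset.univ) fun c _ => Finset.card_le_card (h7 c)
  have h9 := (Finset.sum_eq_sum_iff_of_le fun c _ => Finset.card_le_card (h7 c)).1
    (le_antisymm h8 (by
      rw [Finset.sum_congr rfl fun c _ => card_moving hZ hab c, Finset.sum_const, Finset.card_univ,
        ← Nat.card_eq_fintype_card, smul_eq_mul, ← card_G hZ hab, ← h4]
      exact (h3.trans (Nat.mul_le_mul_left _ hle)).trans h6)) a (Finset.mem_univ _)
  have h10 := (Finset.eq_of_subset_of_card_le (h7 a) h9.ge).ge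
    (Finset.mem_filter.2 ⟨Finset.mem_univ g, h1 ▸ hab.symm, by rw [h1, h0]⟩)
  exact (Finset.mem_filter.1 (Finset.mem_filter.1 h10).1).2

/-- Coordinates in which `H` acts by translations and `N` by multiplications. -/
structure Coord (a b : Ω) (H N : Subgroup G) {F : Type} [Field F] (ψ : OnePoint F ≃ Ω)
    (δ : G → F) : Prop where
  inf : ψ ∞ = a
  zero : ψ (0 : F) = b
  tr : ∀ u ∈ H, ∃ y : F, ∀ x : F, u • ψ x = ψ (x + y : F)
  tr' : ∀ y : F, ∃ u ∈ H, ∀ x : F, u • ψ x = ψ (x + y : F)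
  mul : ∀ g ∈ E G a b, (∀ d ∈ N, g * d = d * g) → ∀ x : F, g • ψ x = ψ (δ g * x : F)
  gen : Subring.closure (δ '' N) = ⊤

theorem ZK.dvd_card (hK : ZK G a H) (hab : a ≠ b) (hN : N ≤ E G a b) {U : Subgroup G} (hU : U ≤ H)
    (h : ∀ d ∈ N, ∀ x ∈ U, d * x * d⁻¹ ∈ U) : Nat.card N ∣ Nat.card U - 1 := by
  have := finite hK.hZ
  exact Solv.card_dvd_sub_one_of_fpf (Solv.le_normalizer_of_conj_mem h)
    fun d hd h1 => eq_bot_iff.2 ((inf_le_inf_right _ hU).trans (hK.fpf hab d (hN hd) h1).le)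

theorem ZK.irr' (hK : ZK G a H) (hab : a ≠ b) (hN : N ≤ E G a b)
    (hle : (Nat.card H).Prime ∨ Nat.card H < (Nat.card N + 1) ^ 2) {U : Subgroup G} (hU : U ≤ H)
    (h : ∀ d ∈ N, ∀ x ∈ U, d * x * d⁻¹ ∈ U) : U = ⊥ ∨ U = H := by
  have := finite hK.hZ
  by_contra! h1
  obtain ⟨k, hk⟩ := card_dvd_of_le hU
  have h2 := Transfer.card_lt_of_lt (lt_of_le_of_ne hU h1.2)
  have h3 := (U.one_lt_card_iff_ne_bot).2 h1.1
  rcases hle with hle | hle
  · rcases (Nat.dvd_prime hle).1 ⟨k, hk⟩ with e | e <;> omega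
  have h4 := hK.dvd_card hab hN hU h
  have h5 := hK.dvd_card hab hN le_rfl fun d hd x => hK.conj_mem (hN hd).1
  have h6 : 2 ≤ k := by
    rcases k with _ | _ | k <;> omega
  obtain ⟨u, hu⟩ := Nat.exists_eq_add_of_lt h3
  obtain ⟨k, rfl⟩ := Nat.exists_eq_add_of_le' (show 1 ≤ k by omega)
  rw [hk, hu, show (1 + u + 1) * (k + 1) - 1 = (1 + u + 1 - 1) * (k + 1) + k by
    simp only [Nat.add_sub_cancel]; ring_nf; omega] at h5
  rw [hu] at h4
  have h7 := Nat.le_of_dvd (by omega) ((Nat.dvd_add_right (h4.mul_right _)).1 h5)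
  have h8 := Nat.le_of_dvd (by omega) h4
  have := Nat.mul_le_mul (show Nat.card N + 1 ≤ 1 + u + 1 by omega) (Nat.add_le_add_right h7 1)
  rw [← hu, ← hk, ← sq] at this
  omega

theorem ZK.irr (hK : ZK G a H) (hab : a ≠ b) (hN : N ≤ E G a b)
    (hle : Nat.card Ω - 2 ≤ 2 * Nat.card N) {U : Subgroup G} (hU : U ≤ H)
    (h : ∀ d ∈ N, ∀ x ∈ U, d * x * d⁻¹ ∈ U) : U = ⊥ ∨ U = H := by
  have := finite hK.hZ
  have h1 := hK.card
  have h2 : 0 < Nat.card N := Nat.card_pos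
  have h3 : Nat.card H ≤ 2 * Nat.card N + 1 := by omega
  exact hK.irr' hab hN (Or.inr (by nlinarith)) hU h

theorem ZK.exists_coord' (hK : ZK G a H) (hab : a ≠ b) (hN : N ≤ E G a b) (hH : IsMulCommutative H)
    (hirr : ∀ U ≤ H, (∀ d ∈ N, ∀ x ∈ U, d * x * d⁻¹ ∈ U) → U = ⊥ ∨ U = H) (hc : ∀ x ∈ N, ∀ y ∈ N, x * y = y * x) (hca : c ≠ a)
    (hcb : c ≠ b) : ∃ (F : Type) (_ : Field F) (_ : Fintype F) (ψ : OnePoint F ≃ Ω) (δ : G → F),
      Coord a b H N ψ δ ∧ ψ (1 : F) = c := by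
  have := finite hK.hZ
  obtain ⟨t, ht, e⟩ := hK.trans hab.symm hca
  obtain ⟨F, _, _, φ, δ, h1, h2, h3, h4, h5, h6⟩ := exists_field_of_irr_conj (T := H) (D := N)
    (fun x hx y hy => congrArg Subtype.val (hH.1.1 ⟨x, hx⟩ ⟨y, hy⟩)) hc
    (hK.normalizer_eq ▸ hN.trans inf_le_left) hirr ht
    (by rintro rfl; exact hcb (by rw [← e, one_smul]))
  have hm : ∀ x, φ x ∈ H := fun x => (h2 _).2 ⟨x, rfl⟩
  have h0 : φ 0 = 1 := by simpa using h3 0 0
  have hne : ∀ x, φ x • b ≠ a := fun x e =>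
    hab (MulAction.injective (φ x) ((hK.le (hm x)).trans e.symm))
  let ψ : OnePoint F → Ω := fun x => x.elim a fun y => φ y • b
  have hψ : Function.Bijective ψ := by
    constructor
    · intro x y e
      cases x <;> cases y
      · rfl
      · exact (hne _ e.symm).elim
      · exact (hne _ e).elim
      · rename_i x y
        by_contra h7
        refine hab (hK.fix ((φ y)⁻¹ * φ x) (mul_mem (inv_mem (hm y)) (hm x))
          (fun e => h7 (congrArg _ (h1 (inv_mul_eq_one.1 e)).symm)) b ?_).symm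
        rw [mul_smul, inv_smul_eq_iff]; exact e
    · intro d
      by_cases h7 : d = a
      · exact ⟨∞, h7.symm⟩
      · obtain ⟨u, hu, e⟩ := hK.trans hab.symm h7
        obtain ⟨x, rfl⟩ := (h2 u).1 hu
        exact ⟨x, e⟩
  have htr : ∀ x y, φ y • φ x • b = φ (x + y) • b := fun x y => by rw [add_comm, h3, mul_smul]
  refine ⟨F, inferInstance, inferInstance, Equiv.ofBijective ψ hψ, δ, ⟨rfl, ?_, fun u hu => ?_,
    fun y => ⟨φ y, hm y, fun x => htr x y⟩, fun g hg hg' x => ?_, h6⟩, ?_⟩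
  · show φ 0 • b = b
    rw [h0, one_smul]
  · obtain ⟨y, rfl⟩ := (h2 u).1 hu
    exact ⟨y, fun x => htr x y⟩
  · show g • φ x • b = φ _ • b
    rw [← h5 g (hK.normalizer_eq ▸ hg.1) hg', mul_smul, mul_smul, inv_smul_eq_iff.2 hg.2.symm]
  · show φ 1 • b = c
    rw [h4, e]

theorem ZK.exists_coord (hK : ZK G a H) (hab : a ≠ b) (hN : N ≤ E G a b)
    (hle : Nat.card Ω - 2 ≤ 2 * Nat.card N) (hc : ∀ x ∈ N, ∀ y ∈ N, x * y = y * x) (hca : c ≠ a)
    (hcb : c ≠ b) : ∃ (F : Type) (_ : Field F) (_ : Fintype F) (ψ : OnePoint F ≃ Ω) (δ : G → F),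
      Coord a b H N ψ δ ∧ ψ (1 : F) = c := by
  have := finite hK.hZ
  obtain ⟨p, -, hH, -⟩ := hK.elementary hab (hle.trans (Nat.mul_le_mul_left _ (card_le_of_le hN)))
  exact hK.exists_coord' hab hN hH (fun U hU => hK.irr hab hN hle hU) hc hca hcb

/-- The elements acting as projective transformations. -/
def LL (G : Type*) [Group G] [MulAction G Ω] {F : Type} [Field F] (ψ : OnePoint F ≃ Ω) :
    Subgroup G where
  carrier := {g | ∃ m : PGL2 F, ∀ x, g • ψ x = ψ (m • x)}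
  one_mem' := ⟨1, fun x => by simp⟩
  mul_mem' := by
    rintro g h ⟨m, hm⟩ ⟨n, hn⟩
    exact ⟨m * n, fun x => by rw [mul_smul, hn, hm, mul_smul]⟩
  inv_mem' := by
    rintro g ⟨m, hm⟩
    exact ⟨m⁻¹, fun x => by rw [inv_smul_eq_iff, hm, smul_inv_smul]⟩

variable {F : Type} [Field F] {ψ : OnePoint F ≃ Ω} {δ : G → F}

theorem exists_hom [FaithfulSMul G Ω] (h : LL G ψ = ⊤) :
    ∃ τ : G →* PGL2 F, Function.Injective τ ∧ ∀ g x, g • ψ x = ψ (τ g • x) := by
  choose τ hτ using fun g : G => h.ge (mem_top g)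
  have h1 : ∀ m n : PGL2 F, (∀ x, ψ (m • x) = ψ (n • x)) → m = n := fun m n h =>
    eq_of_three (ψ.injective (h _)) (ψ.injective (h _)) (ψ.injective (h _))
  refine ⟨MonoidHom.mk' τ fun g k => h1 _ _ fun x => ?_, fun g k e =>
    eq_of_smul_eq_smul fun x : Ω => ?_, hτ⟩
  · rw [← hτ, mul_smul, mul_smul, ← hτ, ← hτ]
  · obtain ⟨x, rfl⟩ := ψ.surjective x
    rw [hτ, hτ, show τ g = τ k from e]

theorem mem_LL_aff {g : G} {y z : F} (hy : y ≠ 0) (h1 : g • ψ ∞ = ψ ∞)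
    (h : ∀ x : F, g • ψ x = ψ (y * x + z : F)) : g ∈ LL G ψ :=
  ⟨mkP (up (Units.mk0 y hy) 1 z), fun x => by
    cases x with
    | infty => rw [h1, smul_inf.2 (by simp)]
    | coe x => rw [h, (smul_eq_iff _ _ (y * x + z : F)).2 (by simp)]⟩

theorem mem_LL_inv {g : G} {y : F} (hy : y ≠ 0) (h1 : g • ψ ∞ = ψ (0 : F))
    (h2 : g • ψ (0 : F) = ψ ∞) (h : ∀ x : F, x ≠ 0 → g • ψ x = ψ (y / x : F)) : g ∈ LL G ψ :=
  ⟨mkP (Matrix.GeneralLinearGroup.mkOfDetNeZero !![0, y; 1, 0] (by simp [Matrix.det_fin_two, hy])),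
    fun x => by
    cases x with
    | infty => rw [h1, (smul_eq_iff _ _ (0 : F)).2 (by simp)]
    | coe x =>
      by_cases hx : x = 0
      · rw [hx, h2, (smul_eq_iff _ _ ∞).2 (by simp)]
      · rw [h x hx, (smul_eq_iff _ _ (y / x : F)).2 (by simp; field_simp)]⟩

namespace Coord

variable (hK : ZK G a H) (h : Coord a b H N ψ δ)
include hK h

omit hK in
theorem ne : a ≠ b := fun e => by simpa using ψ.injective (h.inf.trans (e.trans h.zero.symm))

omit hK in
theorem ne_zero {g : G} (hg : g ∈ E G a b) (hc : ∀ d ∈ N, g * d = d * g) : δ g ≠ 0 := fun e => by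
  have := h.mul g hg hc 1
  rw [e, zero_mul, h.zero, ← hg.2, smul_left_cancel_iff, ← h.zero] at this
  simpa using ψ.injective this

theorem H_le : H ≤ LL G ψ := fun u hu => by
  obtain ⟨y, hy⟩ := h.tr u hu
  exact mem_LL_aff one_ne_zero (h.inf ▸ hK.le hu) (z := y) (by simpa using hy)

omit hK in
theorem mem_of_comm {g : G} (hg : g ∈ E G a b) (hc : ∀ d ∈ N, g * d = d * g) : g ∈ LL G ψ :=
  mem_LL_aff (h.ne_zero hg hc) (h.inf ▸ hg.1) (z := 0) (by simpa using h.mul g hg hc)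

theorem card [Fintype F] : Fintype.card F = Nat.card H := by
  have := Nat.card_congr ψ
  rw [card_onePoint, ← hK.card] at this
  omega

omit hK in
theorem exists_coe {x : Ω} (hx : x ≠ a) : ∃ y : F, ψ y = x := by
  obtain ⟨y, rfl⟩ := ψ.surjective x
  cases y with
  | infty => exact (hx h.inf).elim
  | coe y => exact ⟨y, rfl⟩

omit hK in
theorem coe_ne (y : F) : ψ y ≠ a := fun e => by simpa using ψ.injective (e.trans h.inf.symm)

omit hK h in
theorem coe_inj {x y : F} (e : ψ x = ψ y) : x = y := by simpa using ψ.injective e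

theorem exists_mul {L : Subgroup G} (hH : H ≤ L) {s : G} (hs : s ∈ L) (h1 : s • b = a) (g : G) :
    ∃ l ∈ L, l * g ∈ E G a b := by
  have key : ∀ g : G, g • a = a → ∃ l ∈ L, l * g ∈ E G a b := fun g hg => by
    obtain ⟨u, hu, e⟩ := hK.trans (c := g • b) (d := b)
      (fun e => h.ne (MulAction.injective g (hg.trans e.symm))) h.ne.symm
    exact ⟨u, hH hu, mem_E.2 ⟨by rw [mul_smul, hg, hK.le hu], by rw [mul_smul, e]⟩⟩
  by_cases hg : g • a = a
  · exact key g hg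
  · obtain ⟨u, hu, e⟩ := hK.trans hg h.ne.symm
    obtain ⟨l, hl, h2⟩ := key (s * u * g) (by rw [mul_smul, mul_smul, e, h1])
    exact ⟨l * s * u, mul_mem (mul_mem hl hs) (hH hu), by simpa [mul_assoc] using h2⟩

section swap

variable (hN : N ≤ E G a b) {s : G} (h1 : s • a = b) (h2 : s • b = a)
  (hinv : ∀ x ∈ N, s * x * s⁻¹ = x⁻¹)
include hN h1 h2 hinv

omit hK h hN h1 h2 in
theorem comm (x : G) (hx : x ∈ N) (y : G) (hy : y ∈ N) : x * y = y * x := by
  have := hinv _ (mul_mem hx hy)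
  rw [← conj_mul, hinv x hx, hinv y hy, ← mul_inv_rev, inv_inj] at this
  exact this.symm

omit hK in
theorem exists_σ : ∃ σ : F → F, (∀ x, x ≠ 0 → σ x ≠ 0 ∧ s • ψ x = ψ (σ x)) ∧
    ∀ d ∈ N, ∀ x, x ≠ 0 → σ (δ d * x) = σ x / δ d := by
  have key : ∀ x : F, x ≠ 0 → ∃ y : F, y ≠ 0 ∧ s • ψ x = ψ y := fun x hx => by
    obtain ⟨y, hy⟩ := h.exists_coe (x := s • ψ x) fun e =>
      hx (coe_inj ((MulAction.injective s (e.trans h2.symm)).trans h.zero.symm))
    refine ⟨y, fun e => h.coe_ne x (MulAction.injective s ?_), hy.symm⟩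
    show s • _ = s • _
    rw [← hy, e, h.zero, h1]
  choose! σ hσ using key
  refine ⟨σ, hσ, fun d hd x hx => ?_⟩
  have h3 := h.mul d (hN hd) (comm hinv d hd)
  have h4 := h.ne_zero (hN hd) (comm hinv d hd)
  rw [eq_div_iff h4, mul_comm]
  refine coe_inj (ψ := ψ) ?_
  rw [← h3, ← (hσ _ (mul_ne_zero h4 hx)).2, ← h3, ← (hσ x hx).2, ← mul_smul, ← mul_smul,
    show d * s * d = d * (s * d * s⁻¹) * s by group, hinv d hd]
  simp

theorem exists_Δ : ∃ Δ : Subgroup Fˣ, Nat.card Δ = Nat.card N ∧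
    ∀ x : Fˣ, x ∈ Δ ↔ ∃ d ∈ N, δ d = x := by
  have h3 := fun d (hd : d ∈ N) => h.mul d (hN hd) (comm hinv d hd)
  have h4 := fun d (hd : d ∈ N) => h.ne_zero (hN hd) (comm hinv d hd)
  let f : N →* Fˣ := MonoidHom.mk' (fun d => Units.mk0 (δ d) (h4 d d.2)) fun d e =>
    Units.ext (coe_inj (ψ := ψ) (by
      have := h3 _ (d * e).2 1
      rw [coe_mul, mul_smul, h3 e e.2, h3 d d.2, mul_one, mul_one] at this
      exact this.symm))
  refine ⟨f.range, (Nat.card_congr (MonoidHom.ofInjective ?_).toEquiv).symm, fun x =>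
    ⟨fun ⟨d, e⟩ => ⟨d, d.2, congrArg Units.val e⟩, fun ⟨d, hd, e⟩ => ⟨⟨d, hd⟩, Units.ext e⟩⟩⟩
  refine (injective_iff_map_eq_one f).2 fun d e => Subtype.ext ?_
  refine hK.hZ.2.2.1 d a b (ψ (1 : F)) h.ne (fun e => ?_) (h.coe_ne 1).symm (hN d.2).1 (hN d.2).2 ?_
  · exact zero_ne_one (coe_inj (h.zero.trans e))
  · rw [h3 d d.2, show δ d = 1 from congrArg Units.val e, one_mul]

omit hK in
theorem mem_of_const {σ : F → F} (hσ : ∀ x, x ≠ 0 → σ x ≠ 0 ∧ s • ψ x = ψ (σ x))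
    (h3 : ∀ x, x ≠ 0 → σ x * x = σ 1) : s ∈ LL G ψ :=
  mem_LL_inv (hσ 1 one_ne_zero).1 (by rw [h.inf, h.zero, h1]) (by rw [h.inf, h.zero, h2])
    fun x hx => by rw [(hσ x hx).2, ← h3 x hx, mul_div_cancel_right₀ _ hx]

theorem swap_mem_of_card [Fintype F] (hc : Nat.card N + 2 = Nat.card Ω) : s ∈ LL G ψ := by
  obtain ⟨σ, hσ, h3⟩ := h.exists_σ hN h1 h2 hinv
  obtain ⟨Δ, h4, h5⟩ := h.exists_Δ hK hN h1 h2 hinv
  have h6 : Δ = ⊤ := eq_top_of_card_eq _ (by
    have := hK.card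
    rw [h4, Nat.card_units, Nat.card_eq_fintype_card (α := F), h.card hK]; omega)
  refine h.mem_of_const hN h1 h2 hinv hσ fun x hx => ?_
  obtain ⟨d, hd, e⟩ := (h5 (Units.mk0 x hx)).1 (h6 ▸ mem_top _)
  have := h3 d hd 1 one_ne_zero
  rw [e, mul_one] at this
  exact (eq_div_iff hx).1 this

theorem exists_γ [Fintype F] (hc : 2 * Nat.card N + 2 = Nat.card Ω) :
    ∃ (σ : F → F) (Δ : Subgroup Fˣ) (k : F), (∀ x, x ≠ 0 → σ x ≠ 0 ∧ s • ψ x = ψ (σ x)) ∧
      Nat.card Δ = Nat.card N ∧ Δ.index = 2 ∧ (∀ x ∈ Δ, σ x * x = σ 1) ∧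
      ∀ x ∉ Δ, σ x * x = k := by
  obtain ⟨σ, hσ, h3⟩ := h.exists_σ hN h1 h2 hinv
  obtain ⟨Δ, h4, h5⟩ := h.exists_Δ hK hN h1 h2 hinv
  have h6 : Δ.index = 2 := by
    have := hK.card
    have h6 := Δ.index_mul_card
    rw [h4, Nat.card_units, Nat.card_eq_fintype_card (α := F), h.card hK] at h6
    exact Nat.eq_of_mul_eq_mul_right (Nat.card_pos (α := Δ)) (by rw [h4]; omega)
  have h7 : ∀ x ∈ Δ, ∀ y : Fˣ, σ (x * y : Fˣ) * (x * y : Fˣ) = σ y * y := fun x hx y => by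
    obtain ⟨d, hd, e⟩ := (h5 x).1 hx
    have := h3 d hd y y.ne_zero
    rw [e] at this
    rw [Units.val_mul, this]; field_simp
  obtain ⟨w, hw⟩ : ∃ w, w ∉ Δ := by
    by_contra! h8
    rw [(eq_top_iff' Δ).2 h8, index_top] at h6
    omega
  refine ⟨σ, Δ, σ w * w, hσ, h4, h6, fun x hx => by simpa using h7 x hx 1, fun x hx => ?_⟩
  simpa using h7 (x * w⁻¹) ((mul_mem_iff_of_index_two h6).2 (by simp [hx, hw])) w

theorem swap_mem_of_odd [Fintype F] (hc : 2 * Nat.card N + 2 = Nat.card Ω) (hs : s * s = 1)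
    (ho : Odd (Nat.card N)) (hfix : ∀ c d : Ω, s • c = c → s • d = d → c = d) : s ∈ LL G ψ := by
  obtain ⟨σ, Δ, k, hσ, h3, h4, h5, h6⟩ := h.exists_γ hK hN h1 h2 hinv hc
  refine h.mem_of_const hN h1 h2 hinv hσ fun x hx => ?_
  by_cases hk : k = σ 1
  · by_cases h7 : Units.mk0 x hx ∈ Δ
    · exact h5 _ h7
    · exact hk ▸ h6 _ h7
  exfalso
  have h7 : ∀ x, x ≠ 0 → σ (σ x) = x := fun x hx => coe_inj (ψ := ψ) (by
    rw [← (hσ _ (hσ x hx).1).2, ← (hσ x hx).2, ← mul_smul, hs, one_smul])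
  have h8 : Units.mk0 _ (hσ 1 one_ne_zero).1 ∈ Δ := by
    by_contra h8
    exact hk (by simpa [h7] using (h6 _ h8).symm)
  obtain ⟨w, hw⟩ : ∃ w, w ∉ Δ := by
    by_contra! h8
    rw [(eq_top_iff' Δ).2 h8, index_top] at h4
    omega
  have h9 : Units.mk0 _ (hσ w w.ne_zero).1 ∉ Δ := fun h9 => hk (by
    rw [← h6 w hw, ← h5 _ h9]; simp [h7, mul_comm])
  have h10 := (mul_mem_iff_of_index_two h4).2 (iff_of_false h9 hw)
  rw [← h3] at ho
  obtain ⟨n, hn⟩ := Transfer.exists_sq_eq_of_odd (Transfer.odd_orderOf_of_mem ho h8)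
  obtain ⟨m, hm⟩ := Transfer.exists_sq_eq_of_odd (Transfer.odd_orderOf_of_mem ho h10)
  have hy := pow_mem h8 n
  have hz := pow_mem h10 m
  generalize Units.mk0 _ (hσ 1 one_ne_zero).1 ^ n = y at hn hy
  generalize (Units.mk0 _ (hσ w w.ne_zero).1 * w) ^ m = z at hm hz
  have h11 : (-1 : Fˣ) ∉ Δ := fun e => by
    have := Transfer.eq_one_of_odd_of_mul_self (Transfer.odd_orderOf_of_mem ho e) (by simp)
    have h12 := FiniteField.even_card_of_char_two (F := F) (by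
      refine (CharP.ringChar_of_prime_eq_zero Nat.prime_two ?_)
      have := congrArg Units.val this
      simp only [Units.val_neg, Units.val_one] at this
      push_cast
      linear_combination -this)
    rw [h.card hK] at h12
    have := hK.card
    omega
  have h12 : -z ∉ Δ := fun e => h11 (by simpa using mul_mem e (inv_mem hz))
  have h13 := hfix (ψ (y : F)) (ψ (-z : Fˣ)) (by
    rw [(hσ _ y.ne_zero).2, mul_right_cancel₀ y.ne_zero ((h5 y hy).trans
      (congrArg Units.val hn).symm)]) (by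
    have e : (z : F) * z = (-z : Fˣ) * (-z : Fˣ) := by simp
    rw [(hσ _ (-z).ne_zero).2, mul_right_cancel₀ (-z).ne_zero ((h6 _ h12).trans
      ((h6 w hw).symm.trans ((congrArg Units.val hm).symm.trans e)))])
  exact h12 (Units.ext (coe_inj h13) ▸ hy)

theorem swap_mem_of_fix [Fintype F] (hc : 2 * Nat.card N + 2 = Nat.card Ω) (hs : s * s = 1)
    (hfix : s • ψ (1 : F) = ψ (1 : F)) {z : G} (hz : z ∈ E G a b) (hz2 : orderOf z = 2)
    (hzs : z * s = s * z) (hzc : ∀ d ∈ N, z * d = d * z) : s ∈ LL G ψ := by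
  obtain ⟨σ, Δ, k, hσ, h3, h4, h5, h6⟩ := h.exists_γ hK hN h1 h2 hinv hc
  have h7 : σ 1 = 1 := coe_inj ((hσ 1 one_ne_zero).2.symm.trans hfix)
  refine h.mem_of_const hN h1 h2 hinv hσ fun x hx => ?_
  by_cases h8 : Units.mk0 x hx ∈ Δ
  · exact h5 _ h8
  rw [h7] at h5 ⊢
  by_contra hk
  have hz1 := h.mul z hz hzc
  have hz3 : δ z ≠ 1 := fun e => Transfer.ne_one_of_orderOf hz2
    (hK.hZ.2.2.1 z a b (ψ (1 : F)) h.ne (fun e => zero_ne_one (coe_inj (h.zero.trans e)))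
      (h.coe_ne 1).symm hz.1 hz.2 (by rw [hz1, e, one_mul]))
  have hz4 : δ z = -1 := (mul_self_eq_one_iff.1 (coe_inj (ψ := ψ) (by
    rw [← mul_one (δ z * δ z), mul_assoc, ← hz1, ← hz1, ← mul_smul,
      Transfer.mul_self_of_orderOf hz2, one_smul]))).resolve_left hz3
  rw [hz4] at hz1 hz3
  obtain ⟨u, hu, hu1⟩ := h.tr' 1
  have hw : ∀ y : F, (u * z) • ψ y = ψ (1 - y : F) := fun y => by
    rw [mul_smul, hz1, hu1]; congr 2; ring
  have hwa : (u * z) • a = a := by rw [mul_smul, hz.1, hK.le hu]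
  have hw0 : (u * z) • b = ψ (1 : F) := by rw [← h.zero, hw, sub_zero]
  have hw1 : (u * z) • ψ (1 : F) = b := by rw [← h.zero, hw, sub_self]
  have hrel : (s * (u * z) * s)⁻¹ * ((u * z) * s * (u * z)) = 1 :=
    hK.hZ.2.2.1 _ a b (ψ (1 : F)) h.ne (fun e => zero_ne_one (coe_inj (h.zero.trans e)))
      (h.coe_ne 1).symm
      (by rw [mul_smul, inv_smul_eq_iff]; simp only [mul_smul _ s, mul_smul _ (u * z), h1, hwa, hw0, hfix])
      (by rw [mul_smul, inv_smul_eq_iff]; simp only [mul_smul _ s, mul_smul _ (u * z), h1, h2, hwa, hw0, hw1, hfix])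
      (by rw [mul_smul, inv_smul_eq_iff]; simp only [mul_smul _ s, mul_smul _ (u * z), h2, hwa, hw1, hfix])
  rw [inv_mul_eq_one] at hrel
  have hγ : ∀ y : F, y ≠ 0 → σ y * y = 1 ∨ σ y * y = k := fun y hy =>
    (em (Units.mk0 y hy ∈ Δ)).imp (h5 _) (h6 _)
  have hk1 : k ≠ 1 := fun e => hk ((h6 _ h8).trans e)
  have key : ∀ y : Fˣ, y ∉ Δ → (y : F) ^ 2 - y + k = 0 := fun y hy => by
    have e1 := h6 y hy
    have e2 : (1 : F) - y ≠ 0 := fun e => hy ((Units.ext (sub_eq_zero.1 e) : 1 = y) ▸ one_mem Δ)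
    have e3 : 1 - σ y ≠ 0 := fun e => e2 (by
      have := (hσ y y.ne_zero).2
      rw [← sub_eq_zero.1 e, ← hfix, smul_left_cancel_iff] at this
      rw [coe_inj this, sub_self])
    have e4 : σ (1 - σ y) = 1 - σ (1 - y) := coe_inj (ψ := ψ) (by
      rw [← (hσ _ e3).2, ← hw, ← (hσ _ y.ne_zero).2, ← mul_smul, ← mul_smul, hrel, mul_smul,
        mul_smul, hw, (hσ _ e2).2, hw])
    have e5 := y.ne_zero
    have hk0 : k ≠ 0 := e1 ▸ mul_ne_zero (hσ y e5).1 e5
    have hk2 := sub_ne_zero.2 hk1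
    have P : ∀ β γ : F, σ (1 - y) * (1 - y) = β → σ (1 - σ y) * (1 - σ y) = γ →
        (1 - y - β) * (y - k) = γ * y * (1 - y) := fun β γ e6 e7 => by
      rw [e4] at e7
      linear_combination y * (1 - y) * e7 + (1 - y - β) * e1 + (y - σ y * y) * e6
    rcases hγ _ e2 with e6 | e6 <;> rcases hγ _ e3 with e7 | e7 <;> have e8 := P _ _ e6 e7
    · exact absurd (mul_left_cancel₀ hk2 (show (k - 1) * y = (k - 1) * 0 by
        linear_combination e8)) e5
    · exact absurd (mul_left_cancel₀ hk2 (show (k - 1) * (y * y) = (k - 1) * 0 by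
        linear_combination e8)) (mul_ne_zero e5 e5)
    · exact absurd (mul_left_cancel₀ hk2 (show (k - 1) * k = (k - 1) * 0 by
        linear_combination e8)) hk0
    · exact mul_left_cancel₀ hk2 (by linear_combination e8)
  by_cases h9 : (-1 : Fˣ) ∈ Δ
  · have e1 := key _ h8
    have e2 := key (-Units.mk0 x hx) fun e => h8 (by simpa using mul_mem h9 e)
    simp only [Units.val_neg, Units.val_mk0] at e1 e2
    exact hz3 (mul_right_cancel₀ hx (by linear_combination e1 - e2))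
  · have e1 := h6 _ h9
    have e2 : σ (-1) = -1 := coe_inj (ψ := ψ) (by
      rw [← (hσ _ (neg_ne_zero.2 one_ne_zero)).2, ← mul_one (-1 : F), ← hz1, ← mul_smul, ← hzs,
        mul_smul, hfix])
    simp only [Units.val_neg, Units.val_one, e2] at e1
    exact hk1 (by linear_combination -e1)

end swap

end Coord

end Cfsg.Agent.Zass
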