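import Cfsg.Agent.Lib.Char.Zass6
import Cfsg.Agent.Lib.Perm.Dick5
import Cfsg.Agent.Lib.Transfer.FC7

/-!
Zassenhaus groups with abelian kernel: identification with the two-dimensional linear groups.
-/

set_option autoImplicit false
set_option linter.unusedSectionVars false

namespace Cfsg.Agent.Zass

open MulAction Subgroup Cfsg.Agent.Perm Cfsg.Agent.Char OnePoint Cfsg.Agent.Perm.GL2

variable {G Ω : Type*} [Group G] [MulAction G Ω] [Finite Ω] {a b c : Ω} {H N : Subgroup G}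
  {F : Type} [Field F] {ψ : OnePoint F ≃ Ω} {δ : G → F}

namespace Coord

variable (hK : ZK G a H) (h : Coord a b H N ψ δ)
include hK h

theorem LL_top {s : G} (hs : s ∈ LL G ψ) (h2 : s • b = a) (hE : E G a b ≤ LL G ψ) : LL G ψ = ⊤ :=
  eq_top_iff.2 fun g _ => by
    obtain ⟨l, hl, e⟩ := h.exists_mul hK (h.H_le hK) hs h2 g
    exact (mul_mem_cancel_left hl).1 (hE e)

variable [Fintype F]

theorem card' : Fintype.card F + 1 = Nat.card Ω := by rw [h.card hK, hK.card]

theorem iso_PGL (hL : LL G ψ = ⊤) (hc : Nat.card (E G a b) + 2 = Nat.card Ω) :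
    Nonempty (G ≃* PGL2 F) := by
  have := hK.hZ.1
  obtain ⟨τ, h1, -⟩ := exists_hom hL
  refine ⟨MulEquiv.ofBijective τ ((Nat.bijective_iff_injective_and_card τ).2 ⟨h1, ?_⟩)⟩
  have h2 := h.card' hK
  rw [card_G hK.hZ h.ne, card_PGL2, show Nat.card (E G a b) = Fintype.card F - 1 by omega, ← h2,
    Nat.add_sub_cancel]
  ring

theorem iso_PSL (hL : LL G ψ = ⊤) (hc : 2 * Nat.card (E G a b) + 2 = Nat.card Ω) :
    Nonempty (G ≃* PSL2 F) := by
  have := hK.hZ.1
  have := finite hK.hZ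
  obtain ⟨τ, h1, h3⟩ := exists_hom hL
  have h2 := h.card' hK
  have h4 : Nat.card τ.range * 2 = Fintype.card F * (Fintype.card F + 1) * (Fintype.card F - 1) := by
    rw [← Nat.card_congr (MonoidHom.ofInjective h1).toEquiv, card_G hK.hZ h.ne,
      show Fintype.card F - 1 = 2 * Nat.card (E G a b) by omega, ← h2, Nat.add_sub_cancel]
    ring
  have h5 : τ.range.index = 2 := Nat.eq_of_mul_eq_mul_left (Nat.card_pos (α := τ.range))
    (by rw [card_mul_index, card_PGL2, h4])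
  have := normal_of_index_eq_two h5
  have h6 := PS_le_of_normal τ.range fun y => by
    obtain ⟨u, hu, e⟩ := h.tr' y
    refine ⟨u, eq_of_three (ψ.injective ?_) (ψ.injective ?_) (ψ.injective ?_)⟩
    · rw [← h3, tr_inf, h.inf, hK.le hu]
    · rw [← h3, tr_coe, e]
    · rw [← h3, tr_coe, e]
  have h7 := card_PS_mul (F := F)
  rw [gcd_odd ⟨Nat.card (E G a b), by omega⟩, ← h4] at h7
  exact ⟨(MonoidHom.ofInjective h1).trans ((MulEquiv.subgroupCongr
    (eq_of_le_of_card_ge h6 (by omega)).symm).trans psEquiv.symm)⟩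

end Coord

theorem ZK.subgroupOf (hK : ZK G a H) (N : Subgroup G) [N.Normal] (h0 : N ≠ ⊥) :
    ZK N a (H.subgroupOf N) :=
  ⟨normal_zass hK.hZ N h0, fun _ hx => hK.le hx, by
    rw [Nat.card_congr (subgroupOfEquivOfLe (le_normal hK.hZ hK N h0)).toEquiv, hK.card],
    fun u hu h1 => hK.fix u hu fun e => h1 (Subtype.ext e)⟩

theorem card_E_dvd_of_le (N : Subgroup G) : Nat.card (E N a b) ∣ Nat.card (E G a b) :=
  card_dvd_of_injective ((N.subtype.comp (E N a b).subtype).codRestrict (E G a b) fun x => x.2)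
    fun _ _ e => Subtype.ext (Subtype.ext (Subtype.ext_iff.1 e :))

section half

variable (hZ : IsZassenhausGroup G Ω) (hab : a ≠ b)
  (hc : 2 * Nat.card (E G a b) + 2 = Nat.card Ω)
include hZ hab hc

theorem simple_of_half (ho : Odd (Nat.card (E G a b))) : IsSimpleGroup G := by
  have := finite hZ
  have := nontrivial hZ
  refine ⟨fun N hN => or_iff_not_imp_left.2 fun h0 => ?_⟩
  obtain ⟨H, hK⟩ := exists_ZK hZ a
  obtain ⟨p, -, hH, -⟩ := hK.elementary hab (by omega)
  have h1 := card_E_dvd_of_le (a := a) (b := b) N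
  have h2 := (feit_zass hab _ N _ rfl (hK.subgroupOf N h0) (ho.of_dvd_nat h1)).resolve_right
    fun ⟨_, ⟨u, v, h⟩, _⟩ => h (Subtype.ext (Subtype.ext
      (congrArg Subtype.val (hH.1.1 ⟨u, u.2⟩ ⟨v, v.2⟩) :)))
  refine eq_top_of_le_card _ ?_
  rw [card_G hZ hab, card_G (normal_zass hZ N h0) hab]
  gcongr
  omega

theorem inverts_of_half {s : G} (h1 : s • a = b) (h2 : s • b = a) :
    ∀ x ∈ E G a b, s * x * s⁻¹ = x⁻¹ := by
  have := finite hZ
  rcases Nat.even_or_odd (Nat.card (E G a b)) with he | ho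
  · obtain ⟨t, ht⟩ := exists_prime_orderOf_dvd_card' (G := E G a b) 2 he.two_dvd
    rw [← orderOf_coe] at ht
    have key : ∀ g : G, g • a = b → g • b = a → g * g = 1 := fun g h1 h2 => by
      obtain ⟨k, rfl⟩ := isConj_iff.1 (swap_conj hZ hab (by omega) t.2 ht h1 h2)
      rw [conj_mul, Transfer.mul_self_of_orderOf ht]; simp
    intro x hx
    rw [inv_eq_of_mul_eq_one_right (key s h1 h2), eq_inv_iff_mul_eq_one, mul_assoc]
    exact key _ (by rw [mul_smul, hx.1, h1]) (by rw [mul_smul, hx.2, h2])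
  · have := simple_of_half hZ hab hc ho
    exact (inverts_simple hZ hab ho).2 s h1 h2

theorem psl_of_half : ∃ (F : Type) (_ : Field F) (_ : Fintype F),
    Fintype.card F + 1 = Nat.card Ω ∧ Nonempty (G ≃* PSL2 F) := by
  have := finite hZ
  obtain ⟨H, hK⟩ := exists_ZK hZ a
  have key : ∀ s : G, s • a = b → s • b = a → ∀ c, c ≠ a → c ≠ b →
      (∀ (F : Type) [Field F] [Fintype F] (ψ : OnePoint F ≃ Ω) (δ : G → F),
        Coord a b H (E G a b) ψ δ → ψ (1 : F) = c → s ∈ LL G ψ) →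
      ∃ (F : Type) (_ : Field F) (_ : Fintype F),
        Fintype.card F + 1 = Nat.card Ω ∧ Nonempty (G ≃* PSL2 F) := fun s h1 h2 c hca hcb hs => by
    have h3 := Coord.comm (inverts_of_half hZ hab hc h1 h2)
    obtain ⟨F, _, _, ψ, δ, h, e⟩ := hK.exists_coord hab le_rfl (by omega) h3 hca hcb
    exact ⟨F, _, _, h.card' hK, h.iso_PSL hK (h.LL_top hK (hs F ψ δ h e) h2
      fun g hg => h.mem_of_comm hg (h3 g hg)) hc⟩
  rcases Nat.even_or_odd (Nat.card (E G a b)) with he | ho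
  · obtain ⟨t, ht⟩ := exists_prime_orderOf_dvd_card' (G := E G a b) 2 he.two_dvd
    rw [← orderOf_coe] at ht
    obtain ⟨g, h1, h2⟩ := exists_conj_swap hZ hab ht
    have h3 : (g * t * g⁻¹) • g • a = g • a := by rw [conj_smul_smul, t.2.1]
    have h4 := inverts_of_half hZ hab hc h1 h2
    refine key _ h1 h2 (g • a) (fun e => hab ((e ▸ h3 :).symm.trans h1))
      (fun e => hab (h2.symm.trans (e ▸ h3 :))) fun F _ _ ψ δ h e => ?_
    refine h.swap_mem_of_fix hK le_rfl h1 h2 h4 hc ?_ (e ▸ h3) t.2 ht ?_ (Coord.comm h4 _ t.2)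
    · rw [conj_mul, Transfer.mul_self_of_orderOf ht]; simp
    · rw [eq_comm, ← mul_inv_eq_iff_eq_mul, h4 _ t.2,
        inv_eq_of_mul_eq_one_right (Transfer.mul_self_of_orderOf ht)]
  · obtain ⟨s, hs, h1, h2⟩ := exists_swap hZ hab
    obtain ⟨c, hca, hcb⟩ := exists_third hZ hab
    exact key s h1 h2 c hca hcb fun F _ _ ψ δ h _ => h.swap_mem_of_odd hK le_rfl h1 h2
      (inverts_of_half hZ hab hc h1 h2) hc (Transfer.mul_self_of_orderOf hs) ho fun _ _ =>
        ZO.fix_unique ⟨hZ, simple_of_half hZ hab hc ho, hab, ho⟩ hs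

end half

theorem cases_of_le (hZ : IsZassenhausGroup G Ω) (hab : a ≠ b)
    (h : Nat.card Ω - 2 ≤ 2 * Nat.card (E G a b)) :
    Nat.card (E G a b) + 2 = Nat.card Ω ∨ 2 * Nat.card (E G a b) + 2 = Nat.card Ω := by
  obtain ⟨k, hk⟩ := card_E_dvd hZ hab
  have h1 := three_le_card hZ
  have h2 := one_lt_card_E hZ hab
  rcases k with _ | _ | _ | k
  · omega
  · omega
  · omega
  · rw [hk] at h; nlinarith

theorem ZK.le_of_comm (hK : ZK G a H) (hab : a ≠ b) (hH : IsMulCommutative H) :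
    Nat.card Ω - 2 ≤ 2 * Nat.card (E G a b) := by
  rcases Nat.even_or_odd (Nat.card (E G a b)) with he | ho
  · exact le_two_mul_of_even hK.hZ hab he
  · have := (feit_zass hab _ G H rfl hK ho).resolve_right fun ⟨_, ⟨u, v, h⟩, _⟩ => h (hH.1.1 u v)
    omega

section full

variable (hZ : IsZassenhausGroup G Ω) (hab : a ≠ b) (hc : Nat.card (E G a b) + 2 = Nat.card Ω)
include hZ hab hc

theorem E_trans {c d : Ω} (hca : c ≠ a) (hcb : c ≠ b) (hda : d ≠ a) (hdb : d ≠ b) :
    ∃ g ∈ E G a b, g • c = d := by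
  have h1 : Function.Bijective fun g : E G a b => (⟨(g : G) • c, by
      rintro (e | e)
      · exact hca (MulAction.injective (g : G) (e.trans g.2.1.symm))
      · exact hcb (MulAction.injective (g : G) (e.trans g.2.2.symm))⟩ : (({a, b} : Set Ω)ᶜ : Set Ω)) := by
    refine (Nat.bijective_iff_injective_and_card _).2 ⟨fun g k e => ?_, ?_⟩
    · rw [← inv_mul_eq_one]
      refine Subtype.ext (hZ.2.2.1 _ a b c hab hcb.symm hca.symm (g⁻¹ * k).2.1 (g⁻¹ * k).2.2 ?_)
      rw [coe_mul, mul_smul, coe_inv, inv_smul_eq_iff]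
      exact (Subtype.ext_iff.1 e :).symm
    · rw [Nat.card_coe_set_eq, Set.ncard_compl, Set.ncard_pair hab]; omega
  obtain ⟨g, hg⟩ := h1.2 ⟨d, by simp [hda, hdb]⟩
  exact ⟨g, g.2, Subtype.ext_iff.1 hg⟩

theorem three_trans : IsMultiplyPretransitive G Ω 3 := three_trans_iff.2 fun x y z u v w h1 h2 h3 h4 h5 h6 => by
  obtain ⟨g, g1, g2⟩ := two hZ h1 h4
  obtain ⟨k, hk, e⟩ := E_trans hZ h4 (card_E_eq hZ hab h4 ▸ hc) (c := g • z) (d := w)
    (g1 ▸ (MulAction.injective g).ne h2.symm) (g2 ▸ (MulAction.injective g).ne h3.symm) h5.symm h6.symm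
  exact ⟨k * g, by rw [mul_smul, g1, hk.1], by rw [mul_smul, g2, hk.2], by rw [mul_smul, e]⟩

omit hab hc in
theorem sharp (x : Fin 3 ↪ Ω) : stabilizer G x = ⊥ :=
  sharp3_iff.2 (fun a b c h1 h2 h3 g => hZ.2.2.1 g a b c h1 h3 h2) x

theorem pgl_of_inv {s : G} (h1 : s • a = b) (h2 : s • b = a)
    (h3 : ∀ x ∈ E G a b, s * x * s⁻¹ = x⁻¹) : ∃ (F : Type) (_ : Field F) (_ : Fintype F),
    Fintype.card F + 1 = Nat.card Ω ∧ Nonempty (G ≃* PGL2 F) := by
  obtain ⟨H, hK⟩ := exists_ZK hZ a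
  obtain ⟨c, hca, hcb⟩ := exists_third hZ hab
  obtain ⟨F, _, _, ψ, δ, h, -⟩ := hK.exists_coord hab le_rfl (by omega) (Coord.comm h3) hca hcb
  exact ⟨F, _, _, h.card' hK, h.iso_PGL hK (h.LL_top hK (h.swap_mem_of_card hK le_rfl h1 h2 h3 hc) h2
    fun g hg => h.mem_of_comm hg (Coord.comm h3 g hg)) hc⟩

end full

section abstract

open Transfer.FC

variable {X : Type*} [Group X] [Finite X]

theorem index_two_of_cyclic [IsCyclic X] (he : Even (Nat.card X)) : ∃ M : Subgroup X, M.index = 2 := by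
  let _ := IsCyclic.commGroup (α := X)
  exact ⟨(powMonoidHom 2 : X →* X).range, by
    rw [IsCyclic.index_powMonoidHom_range, Nat.gcd_eq_right he.two_dvd]⟩

omit [Finite X] in
theorem no_index_two (σ : MulAut X) (hσ : ∀ x, σ (σ x) = x)
    (hJ : ∀ M : Subgroup X, (∀ y, y⁻¹ * σ y ∈ M) → M = ⊤) (M : Subgroup X) : M.index ≠ 2 := fun h => by
  have h1 := fun {x y : X} => mul_mem_iff_of_index_two h (a := x) (b := y)
  let T : Subgroup X :=
    { carrier := {x | x ∈ M ↔ σ x ∈ M}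
      one_mem' := by simp
      mul_mem' := fun {x y} hx hy => by
        simp only [Set.mem_setOf_eq, map_mul, h1] at hx hy ⊢
        rw [hx, hy]
      inv_mem' := fun {x} hx => by simpa using hx }
  have h2 := hJ T fun y => by
    change _ ↔ _
    simp only [map_mul, map_inv, hσ, h1, inv_mem_iff]
    exact Iff.comm
  rw [hJ M fun y => h1.2 (inv_mem_iff.trans (h2.ge (mem_top y))), index_top] at h
  omega

theorem exists_central (hX : FR X) (σ : MulAut X) (hσ : ∀ x, σ (σ x) = x)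
    (hJ : ∀ M : Subgroup X, (∀ y, y⁻¹ * σ y ∈ M) → M = ⊤) (h2 : ∀ M : Subgroup X, M.index ≠ 2)
    (h3 : ∀ A B : Subgroup X, Nat.card A = 3 → Nat.card B = 3 → A = B) (he : Even (Nat.card X)) :
    ∃ N ≤ center X, N.index = 12 ∧ 6 ∣ Nat.card N := by
  have cyc : ∀ A : Subgroup X, A.Normal → IsCyclic A → (∀ x ∈ A, σ x ∈ A) → A ≤ center X :=
    fun A hA hc h => by
    obtain ⟨g, rfl⟩ := A.isCyclic_iff_exists_zpowers_eq_top.1 hc
    refine centralizer_eq_top_iff_subset.1 (hJ _ fun y x hx => ?_)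
    obtain ⟨i, hi⟩ := hA.conj_mem g (mem_zpowers g) y
    obtain ⟨k, hk⟩ := h x hx
    obtain ⟨j, hj⟩ := hx
    simp only at hi hj hk
    have e1 : y * x * y⁻¹ = x ^ i := by rw [← hj, ← conj_zpow, ← hi, ← zpow_mul, ← zpow_mul, mul_comm]
    have e2 : σ (y * σ x * y⁻¹) = x ^ i := by
      rw [← hk, ← conj_zpow, ← hi, ← zpow_mul, mul_comm, zpow_mul, hk, map_zpow, hσ]
    rw [map_mul, map_mul, hσ, map_inv, ← e1] at e2
    calc x * (y⁻¹ * σ y) = y⁻¹ * (y * x * y⁻¹) * σ y := by group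
      _ = _ := by rw [← e2]; group
  have zc : ∀ N : Subgroup X, N.Normal → IsZGroup N → (∀ x ∈ N, σ x ∈ N) →
      IsCyclic N ∧ N ≤ center X := fun N hN hZ h => by
    have h4 := cyc ⁅N, N⁆ inferInstance (MS.zgroup_der_cyc hZ) fun x hx => by
      have : ⁅N, N⁆.map σ.toMonoidHom ≤ ⁅N, N⁆ := by
        rw [map_commutator]
        exact commutator_mono (map_le_iff_le_comap.2 h) (map_le_iff_le_comap.2 h)
      exact this ⟨x, hx, rfl⟩
    have h5 := (Abelianization.of (G := N)).isMulCommutative_of_isCyclic_of_ker_le_center (by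
      rw [Abelianization.ker_of, ← commutator_subgroupOf]
      exact fun x hx => mem_center_iff.2 fun y => Subtype.ext (mem_center_iff.1 (h4 hx) y))
    have := Solv.isNilpotent_of_isMulCommutative h5
    exact ⟨inferInstance, cyc N hN inferInstance h⟩
  have c3 : ∀ g : X, orderOf g = 3 → g ∈ center X := fun g hg => by
    have key : ∀ f : MulAut X, ∀ x ∈ zpowers g, f x ∈ zpowers g := fun f x hx =>
      (h3 ((zpowers g).map f.toMonoidHom) _ (by
        rw [card_map_of_injective f.injective, Nat.card_zpowers, hg])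
        (by rw [Nat.card_zpowers, hg])).le ⟨x, hx, rfl⟩
    exact cyc _ ⟨fun x hx y => key (MulAut.conj y) x hx⟩ inferInstance (key σ) (mem_zpowers g)
  by_cases hs : Group.IsSolvable X
  swap
  · obtain ⟨S, φ, h⟩ := hX.ns hs
    obtain ⟨g, -, hg⟩ := h.exists_ord (Or.inl rfl)
    exact (h.not_ord (Or.inl rfl) (center_le_centralizer _ (c3 g hg)) hg.symm.dvd).elim
  obtain ⟨N, hN, h | ⟨f, h, -⟩ | h | ⟨f, h, -⟩⟩ := hX.core
  · subst h
    have := (zc ⊤ inferInstance hN fun _ _ => trivial).1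
    have := isCyclic_of_surjective _ (topEquiv (G := X)).surjective
    obtain ⟨M, hM⟩ := index_two_of_cyclic he
    exact (h2 M hM).elim
  · refine (h2 ((zpowers (DihedralGroup.r 1)).comap f) ?_).elim
    have := (zpowers (DihedralGroup.r 1 : DihedralGroup 2)).card_mul_index
    rw [Nat.card_zpowers, DihedralGroup.orderOf_r_one, DihedralGroup.nat_card] at this
    rw [index_comap_of_surjective _ h]
    omega
  · have h4 := h.three (Or.inl rfl)
    have h5 := fun (M : Subgroup X) [M.Normal] => h.le (M := M) (Or.inl rfl)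
    obtain ⟨f, h6, rfl⟩ := h
    have h7 : ∀ p : ℕ, p.Prime → (∀ g : X, orderOf g = p → g ∈ center X) → p ∣ Nat.card X →
        p ∣ Nat.card f.ker := fun p hp h7 h8 => by
      have := Fact.mk hp
      obtain ⟨g, hg⟩ := exists_prime_orderOf_dvd_card' p h8
      have : (zpowers g).Normal := normal_of_le_center (zpowers_le.2 (h7 g hg))
      exact hg ▸ f.ker.orderOf_dvd_natCard (h5 (zpowers g) inferInstance (mem_zpowers g))
    refine ⟨_, (zc _ inferInstance hN fun x hx => ?_).2, ?_, (Nat.coprime_primes Nat.prime_two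
      Nat.prime_three).2 (by norm_num) |>.mul_dvd_of_dvd_of_dvd (h7 2 Nat.prime_two (fun g hg =>
        hX.central (Transfer.mul_self_of_orderOf hg)) he.two_dvd)
      (h7 3 Nat.prime_three c3 (h4.trans (index_dvd_card _)))⟩
    · have : (f.ker.map σ.toMonoidHom).Normal := Normal.map inferInstance _ σ.surjective
      exact h5 _ (IsZGroup.of_surjective (σ.toMonoidHom.subgroupMap_surjective _)) ⟨x, hx, rfl⟩
    · have h8 := h2 ((alternatingGroup (Fin 4)).comap f)
      have h9 := relIndex_dvd_index_of_normal (alternatingGroup (Fin 4)) f.range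
      rw [index_comap] at h8
      rw [alternatingGroup.index_eq_two, Nat.dvd_prime Nat.prime_two, relIndex_eq_one] at h9
      rw [index_ker, le_antisymm (h9.resolve_right h8) h6, alternatingGroup.card_of_card_eq_four (by simp)]
  · have : Group.IsSolvable f.range := solvable_of_surjective f.rangeRestrict_surjective
    have := solvable_of_solvable_injective (inclusion_injective h)
    exact absurd (IsSimpleGroup.comm_iff_isSolvable.2 this ⟨c[0, 1, 2], Equiv.Perm.mem_alternatingGroup.2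
      (by decide)⟩ ⟨c[0, 1, 3], Equiv.Perm.mem_alternatingGroup.2 (by decide)⟩)
      fun e => absurd (congrArg Subtype.val e) (by decide)

end abstract

section fullEven

variable (hZ : IsZassenhausGroup G Ω) (hab : a ≠ b) {s : G} (h1 : s • a = b) (h2 : s • b = a)
  (h3 : s • c = c)
include hZ hab h1 h2 h3

omit hZ h2 in
theorem ne_left : c ≠ a := fun e => hab ((e ▸ h3 :).symm.trans h1)

omit hZ h1 in
theorem ne_right : c ≠ b := fun e => hab (h2.symm.trans (e ▸ h3 :))

theorem eq_one_of_fix {g : G} (hg : g ∈ E G a b) (h : g • c = c) : g = 1 :=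
  hZ.2.2.1 g a b c hab (ne_right hab h2 h3).symm (ne_left hab h1 h3).symm hg.1 hg.2 h

theorem swap_sq : s * s = 1 := eq_one_of_fix hZ hab h1 h2 h3
  ⟨show _ • _ = _ by rw [mul_smul, h1, h2], show _ • _ = _ by rw [mul_smul, h2, h1]⟩
  (by rw [mul_smul, h3, h3])

theorem le_two_mul (M : Set G) (hM : ∀ y ∈ E G a b, y⁻¹ * (s * y * s⁻¹) ∈ M) :
    Nat.card (E G a b) ≤ 2 * Nat.card M := by
  classical
  have := finite hZ
  have := Fintype.ofFinite G
  have := Fintype.ofFinite Ω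
  rw [Nat.card_eq_fintype_card, Nat.card_eq_fintype_card, Fintype.card_subtype, Fintype.card_subtype]
  refine Finset.card_le_mul_card_image_of_maps_to (f := fun y => y⁻¹ * (s * y * s⁻¹))
    (fun y hy => by simpa using hM y (by simpa using hy)) 2 fun t _ => ?_
  by_cases h4 : t * s = 1
  · refine (Finset.card_eq_zero.2 (Finset.eq_empty_of_forall_notMem fun y hy => hab ?_)).trans_le
      (by omega)
    simp only [Finset.mem_filter] at hy
    rw [← hy.2, show y⁻¹ * (s * y * s⁻¹) * s = y⁻¹ * s * y by group, mul_eq_one_comm, mul_inv_cancel_left] at h4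
    rw [← h1, h4, one_smul]
  have h5 := ncard_fixedBy_le hZ h4
  rw [Nat.card_eq_fintype_card, Fintype.card_subtype] at h5
  refine (Finset.card_le_card_of_injOn (fun y => y⁻¹ • c) (fun y hy => ?_) fun y hy z hz e => ?_).trans h5
  · simp only [Finset.coe_filter, Finset.mem_filter, Set.mem_setOf_eq] at hy ⊢
    refine ⟨Finset.mem_univ _, ?_⟩
    rw [← hy.2, mem_fixedBy, show y⁻¹ * (s * y * s⁻¹) * s = y⁻¹ * s * y by group, mul_smul,
      smul_inv_smul, mul_smul, h3]
  · simp only [Finset.coe_filter, Finset.mem_filter, Set.mem_setOf_eq] at hy hz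
    exact mul_inv_eq_one.1 (eq_one_of_fix hZ hab h1 h2 h3 (mul_mem hy.1.2 (inv_mem hz.1.2))
      (by rw [mul_smul, ← show y⁻¹ • c = z⁻¹ • c from e, smul_inv_smul]))

variable (hc : Nat.card (E G a b) + 2 = Nat.card Ω)
include hc

theorem conj_three {u v : G} (hu : u ∈ E G a b) (hv : v ∈ E G a b) (u3 : orderOf u = 3)
    (v3 : orderOf v = 3) : u = v ∨ s * u * s⁻¹ = v := by
  have cyc : ∀ u ∈ E G a b, orderOf u = 3 →
      c ≠ u • c ∧ c ≠ u • u • c ∧ u • c ≠ u • u • c ∧ u • u • u • c = c ∧ u ≠ 1 := fun u hu u3 => by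
    have h4 : u ≠ 1 := by rintro rfl; simp at u3
    have h5 : u • c ≠ c := fun e => h4 (eq_one_of_fix hZ hab h1 h2 h3 hu e)
    have h6 : u • u • u • c = c := by
      rw [← mul_smul, ← mul_smul, ← pow_three', ← u3, pow_orderOf_eq_one, one_smul]
    exact ⟨h5.symm, fun e => h5 (by rwa [← e] at h6), fun e => h5 (smul_left_cancel u e).symm, h6, h4⟩
  obtain ⟨u1, u2, u3, u4, u5⟩ := cyc u hu u3
  obtain ⟨v1, v2, v3, v4, v5⟩ := cyc v hv v3
  obtain ⟨g, g1, g2, g3⟩ := three_trans_iff.1 (three_trans hZ hab hc) _ _ _ _ _ _ u1 u2 u3 v1 v2 v3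
  have e : g * u * g⁻¹ = v := (inv_mul_eq_one.1 (hZ.2.2.1 (v⁻¹ * (g * u * g⁻¹)) _ _ _ v1 v3 v2
    (by rw [mul_smul, inv_smul_eq_iff, mul_smul, mul_smul, inv_smul_eq_iff.2 g1.symm, g2])
    (by rw [mul_smul, inv_smul_eq_iff, mul_smul, mul_smul, inv_smul_eq_iff.2 g2.symm, g3])
    (by rw [mul_smul, inv_smul_eq_iff, mul_smul, mul_smul, inv_smul_eq_iff.2 g3.symm, u4, g1, v4]))).symm
  refine (pair_of_conj hZ hab hu u5 (e ▸ hv)).imp (fun h => ?_) fun h => ?_
  · simpa [eq_one_of_fix hZ hab h1 h2 h3 h g1] using e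
  · rw [← e, inv_mul_eq_one.1 (eq_one_of_fix hZ hab h1 h2 h3 (g := s⁻¹ * g)
      ⟨show _ • _ = _ by rw [mul_smul, h.1, inv_smul_eq_iff, h1],
        show _ • _ = _ by rw [mul_smul, h.2, inv_smul_eq_iff, h2]⟩
      (by rw [mul_smul, g1, inv_smul_eq_iff, h3]))]

theorem unique_three (A B : Subgroup (E G a b)) (hA : Nat.card A = 3) (hB : Nat.card B = 3) :
    A = B := by
  have := finite hZ
  obtain ⟨u, hu⟩ := exists_prime_orderOf_dvd_card' (G := A) 3 hA.symm.dvd
  obtain ⟨v, hv⟩ := exists_prime_orderOf_dvd_card' (G := B) 3 hB.symm.dvd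
  rw [← orderOf_coe] at hu hv
  have h4 := conj_three hZ hab h1 h2 h3 hc u.1.2 v.1.2 (by simpa using hu) (by simpa using hv)
  have h5 := (conj_three hZ hab h1 h2 h3 hc u.1.2 u⁻¹.1.2 (by simpa using hu)
    (by simpa using hu)).resolve_left fun e => by
      have := orderOf_dvd_of_pow_eq_one (x := u.1) (n := 2)
        (Subtype.ext (by rw [sq]; exact mul_eq_one_iff_eq_inv.2 e))
      rw [hu] at this
      omega
  have h6 : v.1 ∈ A := h4.elim (fun e => (Subtype.ext e : u.1 = v.1) ▸ u.2)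
    fun e => (Subtype.ext (h5.symm.trans e) : u⁻¹.1 = v.1) ▸ u⁻¹.2
  have h7 : zpowers v.1 = B := eq_of_le_of_card_ge (zpowers_le.2 v.2) (by rw [Nat.card_zpowers, hv, hB])
  exact (eq_of_le_of_card_ge (h7 ▸ zpowers_le.2 h6) (by rw [hA, hB])).symm

theorem exists_half (he : Even (Nat.card (E G a b))) : ∃ N ≤ E G a b,
    2 * Nat.card N = Nat.card (E G a b) ∧ ∀ x ∈ N, s * x * s⁻¹ = x⁻¹ := by
  have := finite hZ
  have hs := swap_sq hZ hab h1 h2 h3
  let σ := (E G a b).normalizerMonoidHom ⟨s, (mem_normalizer_E hZ hab).2 (Or.inr ⟨h1, h2⟩)⟩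
  have hσ : ∀ x, (σ x : G) = s * x * s⁻¹ := fun _ => rfl
  have hσ2 : ∀ x, σ (σ x) = x := fun x => Subtype.ext (by
    rw [hσ, hσ, show s * (s * x * s⁻¹) * s⁻¹ = s * s * x * (s * s)⁻¹ by group, hs]; simp)
  by_cases hJ : ∀ M : Subgroup (E G a b), (∀ y, y⁻¹ * σ y ∈ M) → M = ⊤
  · exfalso
    obtain ⟨H, hK⟩ := exists_ZK hZ a
    have hX : Transfer.FC.FR (E G a b) := .of_fpf (hK.normalizer_eq ▸ inf_le_left) hK.ne_bot
      ((E G a b).one_lt_card_iff_ne_bot.1 (one_lt_card_E hZ hab)) (hK.fpf hab)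
    have h4 := no_index_two σ hσ2 hJ
    obtain ⟨N, h5, h6, k, h7⟩ := exists_central hX σ hσ2 hJ h4 (unique_three hZ hab h1 h2 h3 hc) he
    obtain ⟨p, -, hH, -⟩ := hK.elementary hab (by omega)
    have h8 : ∀ g ∈ E G a b, ∀ d ∈ N.map (E G a b).subtype, g * d = d * g := by
      rintro g hg _ ⟨d, hd, rfl⟩
      exact congrArg Subtype.val (mem_center_iff.1 (h5 hd) ⟨g, hg⟩)
    have h9 := N.card_mul_index
    have h10 := hK.card
    obtain ⟨F, _, _, ψ, δ, h, e⟩ := hK.exists_coord' hab (map_subtype_le N) hH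
      (fun U hU => hK.irr' hab (map_subtype_le N) (by
        rw [card_subtype, show Nat.card H = 72 * k + 1 by rw [h6] at h9; omega, h7]
        rcases k with _ | _ | k
        · have : 0 < Nat.card N := Nat.card_pos
          omega
        · exact Or.inl (by norm_num)
        · exact Or.inr (by nlinarith)) hU) (fun x hx => h8 x (map_subtype_le N hx))
      (ne_left hab h1 h3) (ne_right hab h2 h3)
    have h11 := fun x : E G a b => h.mul x x.2 (h8 x x.2)
    have := hX.cyc_top ⟨⟨fun x y => Subtype.ext (inv_mul_eq_one.1 (eq_one_of_fix hZ hab h1 h2 h3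
      ((x * y)⁻¹ * (y * x)).2 (by
        rw [mul_smul, inv_smul_eq_iff, ← e, coe_mul, coe_mul, mul_smul, mul_smul, h11, h11, h11, h11,
          mul_left_comm])))⟩⟩
    obtain ⟨M, hM⟩ := index_two_of_cyclic he
    exact h4 M hM
  push Not at hJ
  obtain ⟨M, h4, h5⟩ := hJ
  have h6 := le_two_mul hZ hab h1 h2 h3 {x | x ∈ M.map (E G a b).subtype ∧ s * x * s⁻¹ = x⁻¹}
    fun y hy => ⟨⟨_, h4 ⟨y, hy⟩, rfl⟩, by
      rw [show s * (y⁻¹ * (s * y * s⁻¹)) * s⁻¹ = s * y⁻¹ * s⁻¹ * (s * s) * y * (s * s)⁻¹ by group, hs]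
      group⟩
  have h7 := Nat.mul_le_mul_left (Nat.card M) (Nat.succ_le_of_lt (one_lt_index_of_ne_top h5))
  rw [card_mul_index, ← card_subtype] at h7
  have h8 := Set.eq_of_subset_of_ncard_le (s := {x | x ∈ M.map (E G a b).subtype ∧ s * x * s⁻¹ = x⁻¹})
    (t := M.map (E G a b).subtype) (fun _ h => h.1) (by
      rw [← Nat.card_coe_set_eq, ← Nat.card_coe_set_eq, SetLike.coe_sort_coe]; omega)
  rw [h8, SetLike.coe_sort_coe] at h6
  exact ⟨_, map_subtype_le M, by omega, fun x hx => (h8.ge hx).2⟩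

end fullEven

end Cfsg.Agent.Zass
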