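import Cfsg.Agent.Lib.Char.LinChar
import Cfsg.Agent.Lib.Char.Gallagher
import Cfsg.Agent.Lib.Char.Misc
import Cfsg.Agent.Lib.Solv.PGrp

/-!
Zeros of characters; characters vanishing on all but two classes.
-/

set_option autoImplicit false

namespace Cfsg.Agent.Char

open scoped ComplexConjugate
open Subgroup Cfsg.Agent.Solv

variable {G : Type*} [Group G]

theorem card_le_sum_norm_pow {ι : Type*} [Fintype ι] (f : ι → ℂ) (hf : ∀ i, IsIntegral ℤ (f i))
    (h0 : ∀ i, f i ≠ 0) (hσ : ∀ σ : ℂ ≃+* ℂ, ∃ e : ι ≃ ι, ∀ i, σ (f i) = f (e i)) (n : ℕ) :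
    (Fintype.card ι : ℝ) ≤ ∑ i, ‖f i‖ ^ n := by
  have h1 := one_le_prod_norm f hf h0 hσ
  have h2 : 0 ≤ ∑ i, Real.log ‖f i‖ := by
    rw [← Real.log_prod fun i _ => norm_ne_zero_iff.2 (h0 i)]
    exact Real.log_nonneg h1
  have h3 : ∀ i, 1 + n * Real.log ‖f i‖ ≤ ‖f i‖ ^ n := by
    intro i
    have := Real.log_le_sub_one_of_pos (pow_pos (norm_pos_iff.2 (h0 i)) n)
    rw [Real.log_pow] at this
    linarith
  have h5 := Finset.sum_le_sum fun i (_ : i ∈ Finset.univ) => h3 i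
  rw [Finset.sum_add_distrib, ← Finset.mul_sum] at h5
  simp only [Finset.sum_const, Finset.card_univ, nsmul_eq_mul, mul_one] at h5
  nlinarith [Nat.cast_nonneg (α := ℝ) n]

open Classical in
theorem card_ne_zero_le_sum [Finite G] {χ : G → ℂ} (hχ : IsGeneralizedCharacter G χ) (S : Finset G)
    (hS : ∀ k : ℕ, k.Coprime (Nat.card G) → ∀ g, g ^ k ∈ S ↔ g ∈ S) (n : ℕ) :
    ((S.filter fun g => χ g ≠ 0).card : ℝ) ≤ ∑ g ∈ S, ‖χ g‖ ^ n := by
  have h2 := card_le_sum_norm_pow (fun g : S.filter fun g => χ g ≠ 0 => χ g)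
    (fun g => hχ.isIntegral g) (fun g => (Finset.mem_filter.1 g.2).2) (fun σ => by
      obtain ⟨k, hk, hσ⟩ := exists_pow_of_ringHom_char G σ.toRingHom
      refine ⟨(powCoprime hk.symm).subtypeEquiv fun g => ?_, fun g => hσ χ hχ g⟩
      simp only [Finset.mem_filter, powCoprime_apply, hS k hk, ← hσ χ hχ]
      simp) n
  rw [Fintype.card_coe, Finset.sum_coe_sort (S.filter fun g => χ g ≠ 0) fun g => ‖χ g‖ ^ n] at h2
  exact h2.trans (Finset.sum_le_sum_of_subset_of_nonneg (Finset.filter_subset _ _)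
    fun _ _ _ => by positivity)

theorem pow_mem_iff_of_coprime_card [Finite G] (H : Subgroup G) {k : ℕ}
    (hk : k.Coprime (Nat.card G)) (g : G) : g ^ k ∈ H ↔ g ∈ H := by
  refine ⟨fun h => ?_, fun h => H.pow_mem h k⟩
  obtain ⟨m, hm⟩ := exists_pow_eq_self_of_coprime (hk.coprime_dvd_right (orderOf_dvd_natCard g))
  rw [← hm]
  exact H.pow_mem h m

theorem _root_.Cfsg.IsIrrCharacter.sum_norm_sq [Fintype G] {χ : G → ℂ} (h : IsIrrCharacter G χ) :
    ∑ g, ‖χ g‖ ^ 2 = Nat.card G := by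
  have h3 := classInner_self_re χ
  rwa [h.classInner_self, Complex.one_re, eq_inv_mul_iff_mul_eq₀
    (by exact_mod_cast Nat.card_pos.ne'), mul_one, eq_comm] at h3

theorem card_centralizer_eq_of_vanish [Finite G] {N : Subgroup G} [N.Normal] {x : G}
    (h : ∀ ψ, IsIrrCharacter G ψ → ¬ N ≤ charKer ψ → ψ x = 0) :
    Nat.card (centralizer ({x} : Set G)) = Nat.card (centralizer ({(x : G ⧸ N)} : Set (G ⧸ N))) := by
  classical
  have h1 := sum_norm_sq_column x
  rw [← Finset.sum_filter_add_sum_filter_not _ (fun ψ : IrrCharacter G => N ≤ charKer ψ.1),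
    Finset.sum_eq_zero (s := Finset.filter (fun ψ : IrrCharacter G => ¬ N ≤ charKer ψ.1) _)
      fun ψ hψ => by simp [h ψ.1 ψ.2 (Finset.mem_filter.1 hψ).2], add_zero] at h1
  have h2 := sum_norm_sq_column (x : G ⧸ N)
  rw [← Nat.cast_inj (R := ℝ), ← h1, ← h2]
  symm
  refine Finset.sum_bij (fun ψ _ => ⟨_, ψ.2.inflate⟩) (fun ψ _ => ?_) (fun ψ _ ψ' _ h => ?_)
    (fun ψ hψ => ?_) fun _ _ => rfl
  · simp only [Finset.mem_filter, Finset.mem_univ, true_and]
    intro n hn y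
    simp [(QuotientGroup.eq_one_iff n).2 hn]
  · ext y
    obtain ⟨y, rfl⟩ := QuotientGroup.mk_surjective y
    exact congrFun (congrArg Subtype.val h) y
  · obtain ⟨φ, h3, h4⟩ := ψ.2.exists_quotient N (Finset.mem_filter.1 hψ).2
    exact ⟨⟨φ, h3⟩, Finset.mem_univ _, Subtype.ext (funext h4)⟩

theorem mem_of_forall_charKer [Finite G] {K : Subgroup G} [K.Normal] {x : G}
    (h : ∀ ψ, IsIrrCharacter G ψ → K ≤ charKer ψ → ψ x = ψ 1) : x ∈ K := by
  by_contra hx
  obtain ⟨ψ, h1, h2⟩ := exists_irr_apply_ne (G := G ⧸ K) (mt (QuotientGroup.eq_one_iff x).1 hx)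
  exact h2 (h _ h1.inflate fun n hn y => by simp [(QuotientGroup.eq_one_iff n).2 hn])

/-- A character vanishing off the identity and the class of `x`. -/
structure Gag (χ : G → ℂ) (x : G) : Prop where
  irr : IsIrrCharacter G χ
  ne : x ≠ 1
  card : 2 < Nat.card G
  iff : ∀ g, χ g ≠ 0 ↔ g = 1 ∨ IsConj x g

theorem exists_gag (hG : 2 < Nat.card G) {χ : G → ℂ} (hχ : IsIrrCharacter G χ)
    (h : Nat.card {C : ConjClasses G // ∃ g ∈ C.carrier, χ g ≠ 0} = 2) : ∃ x, Gag χ x := by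
  obtain ⟨⟨C, x, hx, h1⟩, h2, h3⟩ := (Nat.card_eq_two_iff' (⟨ConjClasses.mk 1, 1,
    ConjClasses.mem_carrier_mk, hχ.apply_one_ne_zero⟩ : {C : ConjClasses G //
      ∃ g ∈ C.carrier, χ g ≠ 0})).1 h
  obtain rfl := ConjClasses.mem_carrier_iff_mk_eq.1 hx
  refine ⟨x, hχ, fun h => h2 (by subst h; rfl), hG, fun g => ⟨fun hg => ?_, ?_⟩⟩
  · by_contra! h4
    have := h3 ⟨ConjClasses.mk g, g, ConjClasses.mem_carrier_mk, hg⟩ fun h => h4.1
      (isConj_one_left.1 (ConjClasses.mk_eq_mk_iff_isConj.1 (congrArg Subtype.val h)))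
    exact h4.2 (ConjClasses.mk_eq_mk_iff_isConj.1 (congrArg Subtype.val this)).symm
  · rintro (rfl | h)
    · exact hχ.apply_one_ne_zero
    · obtain ⟨c, rfl⟩ := isConj_iff.1 h
      rwa [hχ.isClassFunction]

namespace Gag

variable [Finite G] {χ : G → ℂ} {x : G} (h : Gag χ x)
include h

theorem ne_one : χ ≠ fun _ => 1 := fun h1 => by
  have h2 := card_isConj_mul_card_centralizer x
  have h3 : Nat.card {y : G // IsConj x y} = Nat.card G - 1 := by
    classical
    have := Fintype.ofFinite G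
    rw [Nat.card_congr (Equiv.subtypeEquivRight (q := fun y => ¬ y = 1) fun y => ⟨fun hy h4 =>
      h.ne (isConj_one_left.1 (h4 ▸ hy)), ((h.iff y).1 (by simp [h1])).resolve_left⟩)]
    simp
  have h4 := h.card
  have h5 : Nat.card G - 1 ∣ Nat.card G := ⟨_, h3 ▸ h2.symm⟩
  obtain ⟨n, hn⟩ : ∃ n, Nat.card G = n + 1 := ⟨Nat.card G - 1, by omega⟩
  rw [hn, Nat.add_sub_cancel, Nat.dvd_add_right dvd_rfl, Nat.dvd_one] at h5
  omega

theorem orth {ψ : G → ℂ} (hψ : IsIrrCharacter G ψ) (hne : ψ ≠ χ) :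
    χ 1 * ψ 1 + (centralizer ({x} : Set G)).index * (χ x * conj (ψ x)) = 0 := by
  classical
  have := Fintype.ofFinite G
  have h1 := h.irr.classInner_of_ne hψ hne.symm
  rw [classInner, mul_eq_zero, or_iff_right (inv_ne_zero (card_ne_zero' G))] at h1
  rw [← sum_classInd_mul x (φ := fun g => χ g * conj (ψ g)) fun a b => by
    simp only [h.irr.isClassFunction a b, hψ.isClassFunction a b], ← h1,
    ← Finset.add_sum_erase _ (fun g => χ g * conj (ψ g)) (Finset.mem_univ 1),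
    ← Finset.add_sum_erase _ _ (Finset.mem_univ 1)]
  obtain ⟨d, -, hd⟩ := hψ.exists_degree
  simp only [classInd, isConj_one_left, h.ne, hd, if_false, zero_mul, zero_add, map_natCast]
  congr 1
  refine Finset.sum_congr rfl fun g hg => ?_
  split_ifs with h2
  · rw [one_mul]
  · rw [not_not.1 (mt (h.iff g).1 (not_or.2 ⟨Finset.ne_of_mem_erase hg, h2⟩))]; simp

theorem apply_one : χ 1 = -((centralizer ({x} : Set G)).index * χ x) := by
  simpa [eq_neg_iff_add_eq_zero] using h.orth isIrrCharacter_one h.ne_one.symm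

theorem apply_eq {ψ : G → ℂ} (hψ : IsIrrCharacter G ψ) (hne : ψ ≠ χ) : ψ x = ψ 1 := by
  have h1 := h.orth hψ hne
  obtain ⟨d, -, hd⟩ := hψ.exists_degree
  rw [h.apply_one, hd] at h1
  have h2 : conj (ψ x) = d := by
    have h3 := mul_ne_zero (Nat.cast_ne_zero (R := ℂ).2
      (index_ne_zero_of_finite (H := centralizer ({x} : Set G)))) ((h.iff x).2 (.inr (.refl x)))
    exact mul_left_cancel₀ h3 (by linear_combination h1)
  rw [hd, ← Complex.conj_conj (ψ x), h2, map_natCast]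

theorem faithful {g : G} (hg : χ g = χ 1) : g = 1 := by
  refine ((h.iff g).1 (hg ▸ h.irr.apply_one_ne_zero)).resolve_right fun h1 => ?_
  obtain ⟨c, rfl⟩ := isConj_iff.1 h1
  have h2 := h.apply_one
  rw [h.irr.isClassFunction] at hg
  rw [hg] at h2
  have : ((centralizer ({x} : Set G)).index + 1 : ℂ) = 0 :=
    mul_right_cancel₀ h.irr.apply_one_ne_zero (by linear_combination h2)
  exact Nat.cast_add_one_ne_zero _ this

theorem mem_iff {K : Subgroup G} [K.Normal] (hK : K ≠ ⊥) : x ∈ K :=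
  mem_of_forall_charKer fun ψ hψ h1 => h.apply_eq hψ fun h2 => hK (eq_bot_iff.2 fun g hg =>
    h.faithful (h2 ▸ hψ.isCharacter.mem_charKer.1 (h1 hg)))

theorem exists_normal : ∃ N : Subgroup G, N.Normal ∧ ∀ g, g ∈ N ↔ χ g ≠ 0 := by
  classical
  refine ⟨normalClosure {x}, inferInstance, fun g => ⟨fun hg h0 => ?_, fun hg => ?_⟩⟩
  · have h1 : ∀ ψ : IrrCharacter G, ψ.1 ≠ χ → ψ.1 g = ψ.1 1 := fun ψ h2 => by
      have := ψ.2.isCharacter.normal_charKer
      exact ψ.2.isCharacter.mem_charKer.1 (normalClosure_le_normal (Set.singleton_subset_iff.2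
        (ψ.2.isCharacter.mem_charKer.2 (h.apply_eq ψ.2 h2))) hg)
    have h2 := sum_degree_mul g
    have h3 := sum_degree_sq (G := G)
    rw [regChar_of_ne fun h => by simp_all [IsIrrCharacter.apply_one_ne_zero ‹Gag χ x›.irr],
      ← Finset.add_sum_erase _ _ (Finset.mem_univ ⟨χ, h.irr⟩), Finset.sum_congr rfl fun ψ hψ => by
        rw [h1 ψ fun h => Finset.ne_of_mem_erase hψ (Subtype.ext h), ← ψ.2.isCharacter.cast_charDegree]]
      at h2
    simp only [h0, mul_zero, zero_add, ← Nat.cast_mul, ← Nat.cast_sum, Nat.cast_eq_zero,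
      Finset.sum_eq_zero_iff] at h2
    have := h2 (irrOne G) (Finset.mem_erase.2 ⟨fun h1 => h.ne_one (congrArg Subtype.val h1).symm,
      Finset.mem_univ _⟩)
    simp [charDegree] at this
  · rcases (h.iff g).1 hg with rfl | h1
    · exact one_mem _
    · obtain ⟨c, rfl⟩ := isConj_iff.1 h1
      exact Normal.conj_mem inferInstance _ (subset_normalClosure (Set.mem_singleton x)) c

variable {N : Subgroup G} [hN : N.Normal] (hN' : ∀ g, g ∈ N ↔ χ g ≠ 0)
include hN'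

omit [Finite G] hN in
theorem mem : x ∈ N := (hN' x).2 ((h.iff x).2 (.inr (.refl x)))

omit [Finite G] hN in
theorem isConj {y : G} (hy : y ∈ N) (h1 : y ≠ 1) : IsConj x y :=
  ((h.iff y).1 ((hN' y).1 hy)).resolve_left h1

omit hN in
theorem le {K : Subgroup G} [hK : K.Normal] (h0 : K ≠ ⊥) : N ≤ K := fun y hy => by
  by_cases h1 : y = 1
  · exact h1 ▸ K.one_mem
  obtain ⟨c, rfl⟩ := isConj_iff.1 (h.isConj hN' hy h1)
  exact hK.conj_mem _ (h.mem_iff h0) c

theorem eq_of_not_le {ψ : G → ℂ} (hψ : IsIrrCharacter G ψ) (h1 : ¬ N ≤ charKer ψ) : ψ = χ := by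
  by_contra h2
  have := hψ.isCharacter.normal_charKer
  exact h1 (h.le hN' fun h3 => h.ne (by
    rw [← mem_bot, ← h3]; exact hψ.isCharacter.mem_charKer.2 (h.apply_eq hψ h2)))

theorem elem : ∃ p : ℕ, p.Prime ∧ IsElementaryAbelian p N := by
  obtain ⟨p, hp, h1⟩ := Nat.exists_prime_and_dvd (mt orderOf_eq_one_iff.1 h.ne)
  have := Fact.mk hp
  obtain ⟨y, hy⟩ := exists_prime_orderOf_dvd_card' p (h1.trans (N.orderOf_dvd_natCard (h.mem hN')))
  have h2 : ∀ a ∈ N, a ^ p = 1 := fun a ha => by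
    by_cases h0 : a = 1
    · simp [h0]
    obtain ⟨c, rfl⟩ := isConj_iff.1 ((h.isConj hN' y.2 fun h3 => hp.ne_one (by
      rw [← hy, ← orderOf_coe, h3, orderOf_one])).symm.trans (h.isConj hN' ha h0))
    rw [conj_pow, ← hy, ← orderOf_coe, pow_orderOf_eq_one, mul_one, mul_inv_cancel]
  have h3 : IsPGroup p N := fun a => ⟨1, Subtype.ext (by simpa using h2 a a.2)⟩
  have : Nontrivial N := ⟨⟨⟨x, h.mem hN'⟩, 1, fun h4 => h.ne (congrArg Subtype.val h4)⟩⟩
  have h4 := h.le hN' (K := (center N).map N.subtype) fun h5 =>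
    (nontrivial_iff_ne_bot _).1 h3.center_nontrivial ((map_eq_bot_iff_of_injective _
      N.subtype_injective).1 h5)
  refine ⟨p, hp, ⟨⟨fun a b => ?_⟩⟩, h2⟩
  obtain ⟨c, hc, h5⟩ := h4 b.2
  obtain rfl : c = b := Subtype.ext h5
  exact mem_center_iff.1 hc a

theorem card_centralizer {y : G} (hy : y ∉ N) :
    Nat.card (centralizer ({y} : Set G)) = Nat.card (centralizer ({(y : G ⧸ N)} : Set (G ⧸ N))) :=
  card_centralizer_eq_of_vanish fun _ hψ h1 => h.eq_of_not_le hN' hψ h1 ▸ not_not.1 (mt (hN' y).2 hy)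

theorem isConj_mul {y n : G} (hy : y ∉ N) (hn : n ∈ N) : IsConj y (n * y) :=
  (isConj_iff_forall_irr _ _).2 fun ψ => by
    by_cases h1 : N ≤ charKer ψ.1
    · exact (h1 hn y).symm
    · rw [h.eq_of_not_le hN' ψ.2 h1, not_not.1 (mt (hN' y).2 hy),
        not_not.1 (mt (hN' _).2 (mt (N.mul_mem_cancel_left hn).1 hy))]

omit hN in
theorem index_centralizer {y : G} (hy : y ∈ N) (h1 : y ≠ 1) [N.Normal] :
    (centralizer ({y} : Set G)).index + 1 = Nat.card N := by
  classical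
  have := Fintype.ofFinite N
  rw [← card_isConj_eq_index, Nat.card_congr (show {z : G // IsConj y z} ≃ {z : N // ¬ z = 1} from
    ⟨fun z => ⟨⟨z, by
      obtain ⟨c, hc⟩ := isConj_iff.1 z.2
      exact hc ▸ Normal.conj_mem inferInstance _ hy c⟩, fun h2 =>
        h1 (isConj_one_left.1 (by
          have h3 : z.1 = 1 := congrArg Subtype.val h2
          exact h3 ▸ z.2))⟩,
    fun z => ⟨z.1, (h.isConj hN' hy h1).symm.trans (h.isConj hN' z.1.2 fun h => z.2 (Subtype.ext h))⟩,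
    fun _ => rfl, fun _ => rfl⟩)]
  simp [Nat.sub_add_cancel Fintype.card_pos]

theorem isPGroup_centralizer {p : ℕ} [hp : Fact p.Prime] (hNp : IsPGroup p N) {y : G} (hy : y ∈ N)
    (h1 : y ≠ 1) : IsPGroup p (centralizer ({y} : Set G)) := by
  refine .of_card (Nat.eq_prime_pow_of_unique_prime_dvd Nat.card_pos.ne' fun {q} hq h2 => ?_)
  have := Fact.mk hq
  obtain ⟨⟨u, hu⟩, h3⟩ := exists_prime_orderOf_dvd_card' q h2
  rw [orderOf_mk] at h3
  have e : ∀ z ∈ N, z ≠ 1 → z ^ q = 1 → q = p := fun z hz h4 h5 => by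
    obtain ⟨k, hk⟩ := hNp ⟨z, hz⟩
    exact (Nat.prime_dvd_prime_iff_eq hq hp.out).1 (hq.dvd_of_dvd_pow (orderOf_eq_prime h5 h4 ▸
      orderOf_dvd_of_pow_eq_one (congrArg Subtype.val hk)))
  by_cases h4 : u ∈ N
  · exact e u h4 (fun h => hq.ne_one (by rw [← h3, h, orderOf_one])) (h3 ▸ pow_orderOf_eq_one u)
  obtain ⟨c, hc⟩ := isConj_iff.1 (h.isConj_mul hN' h4 hy)
  refine e y hy h1 ?_
  have h5 : (y * u) ^ q = 1 := by rw [← hc, conj_pow, ← h3, pow_orderOf_eq_one]; simp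
  rwa [Commute.mul_pow (mem_centralizer_singleton_iff.1 hu).symm, ← h3, pow_orderOf_eq_one,
    mul_one, h3] at h5

theorem index_inertia {μ : N → ℂ} (hμ : IsIrrCharacter N μ) (h1 : μ ≠ fun _ => 1) :
    (inertia N μ).index + 1 = Nat.card N := by
  classical
  have := Fintype.ofFinite G
  have := Fintype.ofFinite N
  obtain ⟨p, -, hc, -⟩ := h.elem hN'
  have e : ∀ ν, IsIrrCharacter N ν → ν ≠ (fun _ => 1) → classInner (fun n : N => χ n) ν ≠ 0 := by
    intro ν hν h2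
    obtain ⟨ψ, h3, h4⟩ := hν.exists_irr_over
    refine h.eq_of_not_le hN' h3 (fun h5 => h2 ?_) ▸ h4
    rw [show (fun n : N => ψ n) = ψ 1 • fun _ => 1 from funext fun n => by
      simpa using h3.isCharacter.mem_charKer.1 (h5 n.2)] at h4
    exact eq_of_constituent_of_smul isIrrCharacter_one hν h4
  rw [← card_cjOrbit, ← card_lc hc.1.1, Nat.card_congr (lcEquiv hc.1.1), Nat.card_eq_fintype_card,
    ← Finset.card_univ, ← Finset.card_erase_add_one (Finset.mem_univ (irrOne N)),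
    ← Finset.card_image_of_injective _ Subtype.val_injective]
  congr 2
  ext ν
  simp only [Finset.mem_image, Finset.mem_erase, Finset.mem_univ, and_true]
  refine ⟨fun h2 => ⟨⟨ν, hμ.of_mem_cjOrbit h2⟩, fun h3 => h1 ?_, rfl⟩, ?_⟩
  · obtain ⟨g, rfl⟩ := mem_cjOrbit.1 h2
    rw [← cj_inv_cj g μ, show cj N g μ = fun _ => 1 from congrArg Subtype.val h3]
    rfl
  · rintro ⟨ν, h2, rfl⟩
    exact h.irr.mem_cjOrbit_of_under hμ ν.2 (e μ hμ h1) (e _ ν.2 fun h3 => h2 (Subtype.ext h3))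

end Gag

end Cfsg.Agent.Char
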